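import Mathlib.GroupTheory.Sylow
import Mathlib.Tactic

/-!
# Upper bounds for the rank of elementary abelian 2-groups of automorphisms

* `card_mul_le`: `A`, `T` 2-subgroups of `X`, every elementary abelian subgroup of `T` has order at most `m`, `A`
  elementary abelian: `|A| |T|` is at most `m` times the order of a Sylow 2-subgroup of `X`;
* `RK K a`: the statement `m_2(X) ≤ a` for all finite groups `X` with a normal subgroup `N ≅ K`, `C_X(N) = 1`;
* `rk_of_subgroup`, `rk_of_elt`: `RK K a` from the order of `Aut K` and a 2-subgroup (resp. an element) of `K`.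
-/

set_option autoImplicit false

namespace Cfsg.Agent.Omega.TwoF.Rk

open Subgroup

universe u

/-- `A` is an elementary abelian 2-group -/
def El {X : Type*} [Group X] (A : Subgroup X) : Prop := ∀ a ∈ A, a * a = 1

theorem El.isPGroup {X : Type*} [Group X] {A : Subgroup X} (h : El A) : IsPGroup 2 A := fun a =>
  ⟨1, Subtype.ext (by rw [pow_one, pow_two]; exact h a a.2)⟩

theorem El.mono {X : Type*} [Group X] {A B : Subgroup X} (h : El B) (hAB : A ≤ B) : El A := fun a ha => h a (hAB ha)

theorem El.map {X Y : Type*} [Group X] [Group Y] {A : Subgroup X} (h : El A) (f : X →* Y) : El (A.map f) := by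
  rintro _ ⟨a, ha, rfl⟩
  rw [← map_mul, h a ha, map_one]

theorem card_mul_le {X : Type*} [Group X] [Finite X] {A T : Subgroup X} (hA : El A) (hT : IsPGroup 2 T) {m : ℕ}
    (hm : ∀ B : Subgroup X, B ≤ T → El B → Nat.card B ≤ m) :
    Nat.card A * Nat.card T ≤ 2 ^ (Nat.card X).factorization 2 * m := by
  have : Fact (Nat.Prime 2) := ⟨Nat.prime_two⟩
  obtain ⟨S, hS⟩ := hA.isPGroup.exists_le_sylow
  obtain ⟨R, hR⟩ := hT.exists_le_sylow
  obtain ⟨g, hg⟩ := MulAction.exists_smul_eq X S R
  -- conjugate `A` into `R`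
  set A' : Subgroup X := A.map (MulAut.conj g).toMonoidHom with hA'
  have h1 : A' ≤ (R : Subgroup X) := by
    rw [← hg]
    rintro _ ⟨a, ha, rfl⟩
    exact ⟨a, hS ha, rfl⟩
  have h2 : Nat.card A' = Nat.card A :=
    Nat.card_congr (A.equivMapOfInjective (MulAut.conj g).toMonoidHom (MulAut.conj g).injective).toEquiv.symm
  have h3 : El A' := hA.map _
  have h4 : Nat.card (A' ⊓ T : Subgroup X) ≤ m := hm _ inf_le_right (h3.mono inf_le_left)
  have h5 : Nat.card A' * Nat.card T ≤ Nat.card (R : Subgroup X) * Nat.card (A' ⊓ T : Subgroup X) := by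
    have h7 : (A' ⊓ T).relIndex T ≤ A'.relIndex (R : Subgroup X) := by
      rw [inf_relIndex_right]
      exact relIndex_le_of_le_right hR (Subgroup.FiniteIndex.index_ne_zero (H := A'.subgroupOf R))
    have h8 := relIndex_mul_relIndex ⊥ (A' ⊓ T) T bot_le inf_le_right
    have h9 := relIndex_mul_relIndex ⊥ A' (R : Subgroup X) bot_le h1
    rw [relIndex_bot_left, relIndex_bot_left, mul_comm] at h8 h9
    calc Nat.card A' * Nat.card T = Nat.card A' * ((A' ⊓ T).relIndex T * Nat.card (A' ⊓ T : Subgroup X)) := by rw [h8]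
      _ ≤ Nat.card A' * (A'.relIndex (R : Subgroup X) * Nat.card (A' ⊓ T : Subgroup X)) :=
          Nat.mul_le_mul_left _ (Nat.mul_le_mul_right _ h7)
      _ = (A'.relIndex (R : Subgroup X) * Nat.card A') * Nat.card (A' ⊓ T : Subgroup X) := by ring
      _ = _ := by rw [h9]
  rw [← h2]
  refine h5.trans ?_
  rw [show Nat.card (R : Subgroup X) = 2 ^ (Nat.card X).factorization 2 from R.card_eq_multiplicity]
  exact Nat.mul_le_mul_left _ h4

/-- **the 2-rank of the automorphism group** (in the form used by the even half) -/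
def RK (K : Type*) [Group K] (a : ℕ) : Prop :=
  ∀ (X : Type u) [Group X] [Finite X] (N : Subgroup X) [N.Normal], Nonempty (N ≃* K) →
    centralizer (N : Set X) = ⊥ → ∀ A : Subgroup X, (∀ a ∈ A, a * a = 1) → Nat.card A ≤ 2 ^ a

theorem RK.mono {K : Type*} [Group K] {a b : ℕ} (h : RK.{u} K a) (hab : a ≤ b) : RK.{u} K b :=
  fun X _ _ N _ hN hc A hA => (h X N hN hc A hA).trans (Nat.pow_le_pow_right (by norm_num) hab)

theorem RK.of_equiv {K L : Type*} [Group K] [Group L] {a : ℕ} (h : RK.{u} K a) (e : K ≃* L) : RK.{u} L a :=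
  fun X _ _ N _ hN hc A hA => h X N (hN.map fun f => f.trans e.symm) hc A hA

/-- `X` embeds into the automorphism group of `N` -/
theorem card_dvd {X : Type*} [Group X] [Finite X] (N : Subgroup X) [N.Normal] {K : Type*} [Group K] (f : N ≃* K)
    (hc : centralizer (N : Set X) = ⊥) : Nat.card X ∣ Nat.card (MulAut K) := by
  have hinj : Function.Injective (MulAut.conjNormal : X →* MulAut N) := by
    rw [← MonoidHom.ker_eq_bot_iff, eq_bot_iff, ← hc]
    intro g hg
    rw [mem_centralizer_iff]
    intro n hn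
    have h1 := congrArg (fun φ : MulAut N => (φ ⟨n, hn⟩ : X)) (MonoidHom.mem_ker.1 hg)
    simp only [MulAut.conjNormal_apply, MulAut.one_apply] at h1
    exact (mul_inv_eq_iff_eq_mul.1 h1).symm
  have h1 := Subgroup.card_dvd_of_injective (MulAut.conjNormal : X →* MulAut N) hinj
  have h2 : Nat.card (MulAut N) = Nat.card (MulAut K) := Nat.card_congr (MulAut.congr f).toEquiv
  rwa [h2] at h1

/-- **`RK` from a 2-subgroup `T` of `K`** of order `2 ^ t` whose elementary abelian subgroups have order at most `2 ^ m`: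
`m_2 ≤ e + m - t` where `2 ^ e` is the 2-part of `|Aut K|`. -/
theorem rk_of_subgroup {K : Type*} [Group K] [Finite (MulAut K)] {e t m a : ℕ}
    (he : (Nat.card (MulAut K)).factorization 2 ≤ e) (T : Subgroup K) (hT : Nat.card T = 2 ^ t)
    (hm : ∀ B : Subgroup K, B ≤ T → El B → Nat.card B ≤ 2 ^ m) (ha : e + m ≤ a + t) : RK.{u} K a := by
  intro X _ _ N _ ⟨f⟩ hc A hA
  have : Fact (Nat.Prime 2) := ⟨Nat.prime_two⟩
  let i : K →* X := N.subtype.comp f.symm.toMonoidHom
  have hi : Function.Injective i := N.subtype_injective.comp f.symm.injective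
  have hcT : Nat.card (T.map i) = 2 ^ t := by
    rw [← hT]
    exact Nat.card_congr (T.equivMapOfInjective i hi).toEquiv.symm
  have h1 := card_mul_le (X := X) (A := A) (T := T.map i) hA (IsPGroup.of_card hcT) (m := 2 ^ m) (by
    intro B hB hBe
    have h2 : (B.comap i).map i = B := Subgroup.map_comap_eq_self (hB.trans (by
      rintro _ ⟨x, _, rfl⟩
      exact ⟨x, rfl⟩))
    have h3 : Nat.card B = Nat.card (B.comap i) := by
      conv_lhs => rw [← h2]
      exact Nat.card_congr ((B.comap i).equivMapOfInjective i hi).toEquiv.symm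
    rw [h3]
    apply hm
    · intro x hx
      obtain ⟨y, hy, hyx⟩ := hB hx
      rw [← hi hyx]
      exact hy
    · intro x hx
      apply hi
      rw [map_mul, map_one]
      exact hBe _ hx)
  rw [hcT] at h1
  have h4 : (Nat.card X).factorization 2 ≤ e :=
    ((Nat.factorization_le_iff_dvd Nat.card_pos.ne' Nat.card_pos.ne').2 (card_dvd N f hc) 2).trans he
  have h5 : 2 ^ (Nat.card X).factorization 2 * 2 ^ m ≤ 2 ^ a * 2 ^ t := by
    rw [← pow_add, ← pow_add]
    exact Nat.pow_le_pow_right (by norm_num) (by omega)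
  exact Nat.le_of_mul_le_mul_right (h1.trans h5) (by positivity)

/-- **`RK` from an element of order `2 ^ k`**: `m_2 ≤ e + 1 - k` -/
theorem rk_of_elt {K : Type*} [Group K] [Finite (MulAut K)] {e k a : ℕ}
    (he : (Nat.card (MulAut K)).factorization 2 ≤ e) (g : K) (hg : orderOf g = 2 ^ k) (ha : e + 1 ≤ a + k) :
    RK.{u} K a := by
  refine rk_of_subgroup he (zpowers g) (by rw [Nat.card_zpowers, hg]) (m := 1) ?_ ha
  intro B hB hBe
  have hfin : Finite (zpowers g) := Nat.finite_of_card_ne_zero (by rw [Nat.card_zpowers, hg]; positivity)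
  have := Fintype.ofFinite (zpowers g)
  classical
  have h1 := IsCyclic.card_pow_eq_one_le (α := zpowers g) (n := 2) (by norm_num)
  have h2 : Nat.card B ≤ Fintype.card {a : zpowers g // a ^ 2 = 1} := by
    rw [← Nat.card_eq_fintype_card]
    refine Nat.card_le_card_of_injective
      (fun b : B => (⟨⟨b, hB b.2⟩, Subtype.ext (by
        show (b : K) ^ 2 = 1
        rw [pow_two]; exact hBe b b.2)⟩ : {a : zpowers g // a ^ 2 = 1})) ?_
    intro a b hab
    exact Subtype.ext (congrArg (fun x : {a : zpowers g // a ^ 2 = 1} => ((x : zpowers g) : K)) hab)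
  rw [Fintype.card_subtype] at h2
  rw [pow_one]
  exact h2.trans h1

/-- the order of the automorphism group -/
theorem card_mulAut {K : Type*} [Group K] [Finite K] (hc : center K = ⊥) {n : ℕ}
    (h : (MulAut.conj : K →* MulAut K).range.index = n) : Nat.card (MulAut K) = n * Nat.card K := by
  have h1 : Function.Injective (MulAut.conj : K →* MulAut K) := by
    rw [← MonoidHom.ker_eq_bot_iff, eq_bot_iff, ← hc]
    intro g hg
    rw [mem_center_iff]
    intro x
    have h2 := congrArg (fun φ : MulAut K => φ x) (MonoidHom.mem_ker.1 hg)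
    simp only [MulAut.conj_apply, MulAut.one_apply] at h2
    exact (mul_inv_eq_iff_eq_mul.1 h2).symm
  rw [← h, ← Subgroup.index_mul_card (MulAut.conj : K →* MulAut K).range,
    Nat.card_congr (MonoidHom.ofInjective h1).toEquiv]

theorem card_mulAut_le {K : Type*} [Group K] [Finite K] (hc : center K = ⊥) {n : ℕ}
    (h : (MulAut.conj : K →* MulAut K).range.index ∣ n) : Nat.card (MulAut K) ∣ n * Nat.card K := by
  rw [card_mulAut hc rfl]
  exact Nat.mul_dvd_mul_right h _

end Cfsg.Agent.Omega.TwoF.Rk
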