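import Cfsg.Prelude.Def_Classification2
import Cfsg.Prelude.Def_LieTypeChar

/-!
# K-facts of project OMEGA: the columns of TABLE 2F

Owner: helper333.  The rows are in `Cfsg.Agent.Omega.KFacts`.

* `OddCover π` : `π : L → K` onto, `L` perfect, central kernel of odd order;
* `LB K n` : every nontrivial action of an odd cover of `K` on an elementary abelian 2-group `V` has `|V| ≥ 2^n`;
* `LBs K n` : the same for `V` with an invariant nondegenerate alternating form;
* `RK K a` : elementary abelian 2-groups of automorphisms of `K` have order at most `2^a`;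
* `Dead2 K` : `LBs K n`, `RK K a` and `2a + 2 < n` or `a ≤ 4` for some `n`, `a`;
* `Conf2 φ b L X a` : the numerical part of the configuration of EH3 (`q = 2`; the width is at least 6 because the
  trilinear form on `X` is alternating and nondegenerate) and `Kill2 K`: it does not occur for odd covers `L` of `K`;
  `Dead2.kill : Dead2 K → Kill2 K`;
* `ZS K`, `OutOdd K` : the facts consumed for `q ≥ 4`.
-/

set_option autoImplicit false

namespace Cfsg.Agent.Omega.TwoF

open Subgroup Cfsg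

universe u v w

/-! ### Columns -/

/-- `π : L → K` is an odd cover of `K`: `L` is perfect, `π` is onto with central kernel of odd order. -/
structure OddCover {L : Type*} {K : Type*} [Group L] [Group K] (π : L →* K) : Prop where
  perf : commutator L = ⊤
  surj : Function.Surjective π
  cent : π.ker ≤ center L
  odd : Odd (Nat.card π.ker)

/-- A nondegenerate alternating form on the elementary abelian 2-group `V` (written multiplicatively). -/
structure IsForm {V : Type*} [CommGroup V] (b : V → V → ZMod 2) : Prop where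
  add_left : ∀ x y z, b (x * y) z = b x z + b y z
  add_right : ∀ x y z, b x (y * z) = b x y + b x z
  alt : ∀ x, b x x = 0
  nondeg : ∀ x, (∀ y, b x y = 0) → x = 1

/-- `(LB K n)`: every nontrivial action of a finite odd cover of `K` on a finite elementary abelian 2-group `V` has
`|V| ≥ 2^n`. -/
def LB (K : Type v) [Group K] (n : ℕ) : Prop :=
  ∀ (L : Type u) [Group L] [Finite L] (π : L →* K), OddCover π →
    ∀ (V : Type u) [CommGroup V] [Finite V] (φ : L →* MulAut V),
      (∀ x : V, x ^ 2 = 1) → φ ≠ 1 → 2 ^ n ≤ Nat.card V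

/-- `(LBs K n)`: the same, for `V` with an invariant nondegenerate alternating form. -/
def LBs (K : Type v) [Group K] (n : ℕ) : Prop :=
  ∀ (L : Type u) [Group L] [Finite L] (π : L →* K), OddCover π →
    ∀ (V : Type u) [CommGroup V] [Finite V] (φ : L →* MulAut V) (b : V → V → ZMod 2), IsForm b →
      (∀ g x y, b (φ g x) (φ g y) = b x y) →
      (∀ x : V, x ^ 2 = 1) → φ ≠ 1 → 2 ^ n ≤ Nat.card V

/-- `(RK K a)`: an elementary abelian 2-group of automorphisms of `K` has order at most `2^a`. -/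
def RK (K : Type v) [Group K] (a : ℕ) : Prop :=
  ∀ A : Subgroup (MulAut K), (∀ x ∈ A, x ^ 2 = 1) → Nat.card A ≤ 2 ^ a

/-- `K` is excluded for `q = 2` by the numerical criterion (`|V| = 4|A|²`, `|V| ≥ 2^12`). -/
def Dead2 (K : Type v) [Group K] : Prop :=
  ∃ n a : ℕ, LBs.{u} K n ∧ RK K a ∧ (2 * a + 2 < n ∨ a ≤ 4)

/-! ### Transfer -/

theorem OddCover.comp {L : Type*} {K K' : Type*} [Group L] [Group K] [Group K'] {π : L →* K} (h : OddCover π)
    (e : K ≃* K') : OddCover (e.toMonoidHom.comp π) := by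
  have hk : (e.toMonoidHom.comp π).ker = π.ker := by
    ext x
    simp [MonoidHom.mem_ker]
  exact ⟨h.perf, e.surjective.comp h.surj, hk ▸ h.cent, hk ▸ h.odd⟩

theorem LB.mono {K : Type v} [Group K] {m n : ℕ} (h : LB.{u} K n) (hmn : m ≤ n) : LB.{u} K m :=
  fun L _ _ π hπ V _ _ φ h2 h1 => (Nat.pow_le_pow_right two_pos hmn).trans (h L π hπ V φ h2 h1)

theorem LBs.mono {K : Type v} [Group K] {m n : ℕ} (h : LBs.{u} K n) (hmn : m ≤ n) : LBs.{u} K m :=
  fun L _ _ π hπ V _ _ φ b hb hi h2 h1 =>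
    (Nat.pow_le_pow_right two_pos hmn).trans (h L π hπ V φ b hb hi h2 h1)

theorem LB.lbs {K : Type v} [Group K] {n : ℕ} (h : LB.{u} K n) : LBs.{u} K n :=
  fun L _ _ π hπ V _ _ φ _ _ _ h2 h1 => h L π hπ V φ h2 h1

theorem LB.equiv {K : Type v} {K' : Type w} [Group K] [Group K'] (e : K ≃* K') {n : ℕ} (h : LB.{u} K' n) :
    LB.{u} K n :=
  fun L _ _ _ hπ V _ _ φ h2 h1 => h L _ (hπ.comp e) V φ h2 h1

theorem LBs.equiv {K : Type v} {K' : Type w} [Group K] [Group K'] (e : K ≃* K') {n : ℕ} (h : LBs.{u} K' n) :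
    LBs.{u} K n :=
  fun L _ _ _ hπ V _ _ φ b hb hi h2 h1 => h L _ (hπ.comp e) V φ b hb hi h2 h1

theorem RK.mono {K : Type v} [Group K] {a b : ℕ} (h : RK K a) (hab : a ≤ b) : RK K b :=
  fun A hA => (h A hA).trans (Nat.pow_le_pow_right two_pos hab)

/-- The rank bound in injective form. -/
theorem RK.card_le_of_injective {K : Type v} [Group K] {a : ℕ} (h : RK K a) {E : Type*} [Group E]
    (f : E →* MulAut K) (hf : Function.Injective f) (hE : ∀ x : E, x ^ 2 = 1) : Nat.card E ≤ 2 ^ a := by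
  have h1 : Nat.card f.range ≤ 2 ^ a := by
    refine h f.range ?_
    rintro _ ⟨x, rfl⟩
    rw [← map_pow, hE, map_one]
  rwa [← Nat.card_congr (MonoidHom.ofInjective hf).toEquiv] at h1

theorem RK.equiv {K : Type v} {K' : Type w} [Group K] [Group K'] (e : K ≃* K') {a : ℕ} (h : RK K' a) :
    RK K a := by
  intro A hA
  refine h.card_le_of_injective ((MulAut.congr e).toMonoidHom.comp A.subtype) ?_ fun x =>
    Subtype.ext (by simpa using hA x x.2)
  exact (MulAut.congr e).injective.comp A.subtype_injective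

/-- A group with an injective homomorphism from `MulAut K`, e.g. a known overgroup. -/
theorem RK.of_injective {K : Type v} [Group K] {X : Type*} [Group X] {a : ℕ} (f : MulAut K →* X)
    (hf : Function.Injective f) (h : ∀ A : Subgroup X, (∀ x ∈ A, x ^ 2 = 1) → Nat.card A ≤ 2 ^ a) : RK K a := by
  intro A hA
  have h1 := h (A.map f) (by
    rintro _ ⟨x, hx, rfl⟩
    rw [← map_pow, hA x hx, map_one])
  rwa [← Nat.card_congr (A.equivMapOfInjective f hf).toEquiv] at h1

/-! ### The rank bound in a group with a normal odd cover -/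

section Cover

variable {X : Type*} [Group X] {L : Subgroup X} {K : Type v} [Group K] {π : L →* K}

/-- `π(L) = K` centreless: the kernel is the centre. -/
theorem OddCover.ker_eq (h : OddCover π) (hK : center K = ⊥) : π.ker = center L := by
  refine le_antisymm h.cent fun x hx => ?_
  rw [MonoidHom.mem_ker, ← mem_bot, ← hK, mem_center_iff]
  intro k
  obtain ⟨y, rfl⟩ := h.surj k
  rw [← map_mul, ← map_mul, mem_center_iff.mp hx y]

/-- The action of `X` on `K` (through the normal odd cover `L ≤ X`). -/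
theorem OddCover.exists_hom [L.Normal] (h : OddCover π) (hK : center K = ⊥) :
    ∃ f : X →* MulAut K, ∀ (x : X) (l : L) (l' : L), (l' : X) = x * l * x⁻¹ → f x (π l) = π l' := by
  have hZ : ∀ (φ : MulAut L) (l : L), l ∈ π.ker → φ l ∈ π.ker := by
    intro φ l hl
    rw [h.ker_eq hK] at hl ⊢
    rw [mem_center_iff] at hl ⊢
    intro g
    obtain ⟨g, rfl⟩ := φ.surjective g
    rw [← map_mul, ← map_mul, hl g]
  have hZ' : ∀ (φ : MulAut L), π.ker.map (φ : L ≃* L).toMonoidHom = π.ker := by
    intro φ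
    apply le_antisymm
    · rintro _ ⟨l, hl, rfl⟩
      exact hZ φ l hl
    · intro l hl
      exact ⟨φ⁻¹ l, hZ φ⁻¹ l hl, MulAut.apply_inv_self _ φ l⟩
  let eK : L ⧸ π.ker ≃* K := QuotientGroup.quotientKerEquivOfSurjective π h.surj
  let F : MulAut L →* MulAut (L ⧸ π.ker) :=
    { toFun := fun φ => QuotientGroup.congr _ _ (φ : L ≃* L) (hZ' φ)
      map_one' := by
        ext x
        obtain ⟨x, rfl⟩ := QuotientGroup.mk_surjective x
        rfl
      map_mul' := by
        intro φ ψ
        ext x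
        obtain ⟨x, rfl⟩ := QuotientGroup.mk_surjective x
        rfl }
  refine ⟨(MulAut.congr eK).toMonoidHom.comp (F.comp MulAut.conjNormal), ?_⟩
  intro x l l' hl
  have h1 : eK.symm (π l) = (l : L ⧸ π.ker) := by
    rw [MulEquiv.symm_apply_eq]
    rfl
  show eK (F (MulAut.conjNormal x) (eK.symm (π l))) = π l'
  rw [h1]
  show π (MulAut.conjNormal x l) = π l'
  congr 1
  apply Subtype.ext
  rw [MulAut.conjNormal_apply, hl]

/-- **The rank bound**, `L ≤ X` a normal odd cover of `K`, `A ∩ C_X(L) = 1`. -/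
theorem RK.card_le {a : ℕ} (hr : RK K a) [L.Normal] (h : OddCover π) (hK : center K = ⊥) {A : Subgroup X}
    (hA : ∀ x ∈ A, x ^ 2 = 1) (hC : A ⊓ centralizer (L : Set X) = ⊥) : Nat.card A ≤ 2 ^ a := by
  obtain ⟨f, hf⟩ := h.exists_hom hK
  refine hr.card_le_of_injective (f.comp A.subtype) ?_ fun x => Subtype.ext (by simpa using hA x x.2)
  rw [injective_iff_map_eq_one]
  intro x hx
  have hcomm : ∀ l : L, ∃ z ∈ center L, (x : X) * l * (x : X)⁻¹ = l * z := by
    intro l
    have h1 := hf x l ⟨(x : X) * l * (x : X)⁻¹, Normal.conj_mem inferInstance _ l.2 _⟩ rfl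
    have h2 : f x = 1 := hx
    rw [h2, MulAut.one_apply] at h1
    refine ⟨l⁻¹ * ⟨(x : X) * l * (x : X)⁻¹, Normal.conj_mem inferInstance _ l.2 _⟩, ?_, ?_⟩
    · rw [← h.ker_eq hK, MonoidHom.mem_ker, map_mul, map_inv, ← h1, inv_mul_cancel]
    · simp
  -- the map `l ↦ l⁻¹ (x l x⁻¹)` is a homomorphism of `L` into its centre
  choose z hz hz' using hcomm
  have hzmul : ∀ l m : L, z (l * m) = z l * z m := by
    intro l m
    apply Subtype.ext
    have e1 := hz' (l * m)
    have e2 := hz' l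
    have e3 := hz' m
    have e4 := mem_center_iff.mp (hz l) m
    have e4' : (m : X) * (z l : X) = (z l : X) * (m : X) := congrArg Subtype.val e4
    push_cast at e1 ⊢
    have e5 : (x : X) * ((l : X) * m) * (x : X)⁻¹ = ((x : X) * l * (x : X)⁻¹) * ((x : X) * m * (x : X)⁻¹) := by
      group
    rw [e5, e2, e3] at e1
    have e6 : (l : X) * (z l : X) * ((m : X) * (z m : X)) = (l : X) * (m : X) * ((z l : X) * (z m : X)) := by
      rw [mul_assoc, ← mul_assoc (z l : X), ← e4', mul_assoc (m : X), ← mul_assoc (l : X)]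
    rw [e6] at e1
    exact (mul_left_cancel e1).symm
  let ζ : L →* center L :=
    { toFun := fun l => ⟨z l, hz l⟩
      map_one' := by
        apply Subtype.ext
        have := hzmul 1 1
        rw [mul_one] at this
        exact (left_eq_mul.mp this)
      map_mul' := fun l m => Subtype.ext (hzmul l m) }
  have hζ : ∀ l, ζ l = 1 := by
    intro l
    have h1 : commutator L ≤ ζ.ker := by
      rw [commutator_def, commutator_le]
      intro a _ b _
      have hc : ∀ s t : center L, s * t = t * s := fun s t => Subtype.ext (mem_center_iff.mp t.2 s)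
      rw [MonoidHom.mem_ker, map_commutatorElement, commutatorElement_def, hc (ζ a), mul_assoc, mul_assoc]
      simp
    rw [h.perf] at h1
    exact h1 (mem_top l)
  have hxc : (x : X) ∈ centralizer (L : Set X) := by
    rw [mem_centralizer_iff]
    intro l hl
    have h1 := hz' ⟨l, hl⟩
    have h2 : z ⟨l, hl⟩ = 1 := congrArg Subtype.val (hζ ⟨l, hl⟩)
    rw [h2] at h1
    simp only [OneMemClass.coe_one, mul_one] at h1
    rw [mul_inv_eq_iff_eq_mul] at h1
    exact h1.symm
  have h3 : (x : X) ∈ A ⊓ centralizer (L : Set X) := ⟨x.2, hxc⟩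
  rw [hC] at h3
  exact Subtype.ext (mem_bot.mp h3)

end Cover

/-! ### The configuration of EH3 -/

/-- **The configuration of EH3** (`q = 2`, width `w ≥ 6`): `H` acts faithfully and irreducibly on `V` preserving a
nondegenerate alternating form, `|V| ≥ 2^12`, `L` is normal in `H` (an odd cover of the simple group in question),
`1 ≠ a ∈ V`, `X` is an elementary abelian normal 2-subgroup of the stabiliser `H_a`, `H_a` contains a Sylow
2-subgroup of `H`, `X ∩ C_H(L) = 1` and `|V| ≤ 4|X|²`. -/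
structure Conf2 {H V : Type*} [Group H] [CommGroup V] (φ : H →* MulAut V) (b : V → V → ZMod 2) (L X : Subgroup H)
    (a : V) : Prop where
  inj : Function.Injective φ
  form : IsForm b
  inv : ∀ g x y, b (φ g x) (φ g y) = b x y
  two : ∀ x : V, x ^ 2 = 1
  irr : ∀ W : Subgroup V, (∀ g, ∀ x ∈ W, φ g x ∈ W) → W = ⊥ ∨ W = ⊤
  twelve : 2 ^ 12 ≤ Nat.card V
  normal : L.Normal
  a_ne : a ≠ 1
  X_two : ∀ x ∈ X, x ^ 2 = 1
  X_fix : ∀ x ∈ X, φ x a = a
  X_norm : ∀ h, φ h a = a → ∀ x ∈ X, h * x * h⁻¹ ∈ X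
  syl : ∃ S : Sylow 2 H, ∀ s ∈ S, φ s a = a
  cent : X ⊓ centralizer (L : Set H) = ⊥
  card_le : Nat.card V ≤ 4 * Nat.card X ^ 2

/-- `K` is excluded in EH3: `Conf2` does not occur for the odd covers of `K`. -/
def Kill2 (K : Type v) [Group K] : Prop :=
  ∀ (H V : Type u) [Group H] [Finite H] [CommGroup V] [Finite V] (φ : H →* MulAut V) (b : V → V → ZMod 2)
    (L X : Subgroup H) (a : V) (π : L →* K), OddCover π → ¬ Conf2 φ b L X a

/-- In `Conf2` the group `L` acts nontrivially. -/
theorem Conf2.ne_one {H V : Type*} [Group H] [CommGroup V] {φ : H →* MulAut V} {b : V → V → ZMod 2}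
    {L X : Subgroup H} {a : V} (h : Conf2 φ b L X a) (hL : L ≠ ⊥) : φ.comp L.subtype ≠ 1 := by
  intro h1
  apply hL
  rw [eq_bot_iff]
  intro l hl
  have h2 : φ l = 1 := DFunLike.congr_fun h1 (⟨l, hl⟩ : L)
  rw [mem_bot]
  exact h.inj (h2.trans (map_one φ).symm)

/-- Lower bound and rank bound in `Conf2`: `n ≤ dim V ≤ 2a + 2`. -/
theorem Conf2.bounds {K : Type v} [Group K] {n r : ℕ} (hn : LBs.{u} K n) (hr : RK K r) (hK : center K = ⊥)
    (hK1 : Nontrivial K) {H V : Type u} [Group H] [Finite H] [CommGroup V] [Finite V] {φ : H →* MulAut V}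
    {b : V → V → ZMod 2} {L X : Subgroup H} {a : V} {π : L →* K} (hπ : OddCover π) (h : Conf2 φ b L X a) :
    2 ^ n ≤ Nat.card V ∧ Nat.card X ≤ 2 ^ r ∧ Nat.card V ≤ 2 ^ (2 * r + 2) := by
  have hL : L ≠ ⊥ := by
    rintro rfl
    obtain ⟨k, hk⟩ := exists_ne (1 : K)
    obtain ⟨l, rfl⟩ := hπ.surj k
    exact hk (by rw [Subsingleton.elim l 1, map_one])
  have := h.normal
  have h1 : Nat.card X ≤ 2 ^ r := hr.card_le hπ hK h.X_two h.cent
  refine ⟨hn L π hπ V (φ.comp L.subtype) b h.form (fun g x y => h.inv _ _ _) h.two (h.ne_one hL), h1, ?_⟩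
  refine h.card_le.trans ?_
  calc 4 * Nat.card X ^ 2 ≤ 4 * (2 ^ r) ^ 2 := Nat.mul_le_mul_left 4 (Nat.pow_le_pow_left h1 2)
    _ = 2 ^ (2 * r + 2) := by ring

/-- **The numerical criterion.** -/
theorem Dead2.kill {K : Type v} [Group K] (hd : Dead2.{u} K) (hK : center K = ⊥) (hK1 : Nontrivial K) :
    Kill2.{u} K := by
  obtain ⟨n, r, hn, hr, hnr⟩ := hd
  intro H V _ _ _ _ φ b L X a π hπ h
  obtain ⟨h1, -, h2⟩ := Conf2.bounds hn hr hK hK1 hπ h
  rcases hnr with h3 | h3
  · exact absurd (Nat.pow_le_pow_iff_right (by norm_num) |>.mp (h1.trans h2)) (by omega)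
  · exact absurd (Nat.pow_le_pow_iff_right (by norm_num) |>.mp (h.twelve.trans h2)) (by omega)

theorem Kill2.equiv {K : Type v} {K' : Type w} [Group K] [Group K'] (e : K ≃* K') (h : Kill2.{u} K') :
    Kill2.{u} K :=
  fun H V _ _ _ _ φ b L X a π hπ => h H V φ b L X a (e.toMonoidHom.comp π) (hπ.comp e)

theorem Dead2.equiv {K : Type v} {K' : Type w} [Group K] [Group K'] (e : K ≃* K') (h : Dead2.{u} K') :
    Dead2.{u} K := by
  obtain ⟨n, r, hn, hr, hnr⟩ := h
  exact ⟨n, r, hn.equiv e, hr.equiv e, hnr⟩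

/-- **A group of automorphism 2-rank at most 4 is excluded.** -/
theorem Dead2.of_rk {K : Type v} [Group K] (h : RK K 4) : Dead2.{u} K :=
  ⟨0, 4, fun _ _ _ _ _ _ _ _ _ _ _ _ _ _ => Nat.card_pos, h, Or.inr le_rfl⟩

/-- The standard criterion. -/
theorem Dead2.of_lb {K : Type v} [Group K] {n a : ℕ} (hn : LB.{u} K n) (hr : RK K a) (h : 2 * a + 2 < n) :
    Dead2.{u} K :=
  ⟨n, a, hn.lbs, hr, Or.inl h⟩

/-! ### The facts for `q ≥ 4` -/

/-- `(ZS K)`: no automorphism `t` of odd order normalising a Sylow 2-subgroup `S` of `K` normalises and acts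
fixed-point-freely on a nontrivial elementary abelian `U ≤ Z(S)`. -/
def ZS (K : Type v) [Group K] : Prop :=
  ∀ (S : Sylow 2 K) (t : MulAut K), Odd (orderOf t) → (∀ s ∈ S, t s ∈ S) →
    ∀ U : Subgroup K, U ≤ (S : Subgroup K) → (S : Subgroup K) ≤ centralizer (U : Set K) → (∀ u ∈ U, u ^ 2 = 1) →
      (∀ u ∈ U, t u ∈ U) → (∀ u ∈ U, t u = u → u = 1) → U = ⊥

/-- `(OutOdd K)`: no 2-subgroup `A ≠ 1` of `Aut K` with `A ∩ Inn K = 1` is normalised modulo `Inn K` by an automorphism
`t` of odd order which centralises a Sylow 2-subgroup of `K` and has no fixed point on `A` modulo `Inn K`. -/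
def OutOdd (K : Type v) [Group K] : Prop :=
  ∀ (S : Sylow 2 K) (t : MulAut K) (A : Subgroup (MulAut K)), Odd (orderOf t) → (∀ s ∈ S, t s = s) →
    (∀ x ∈ A, x ^ 2 = 1) → (∀ x ∈ A, x ∈ (MulAut.conj : K →* MulAut K).range → x = 1) →
      (∀ x ∈ A, t * x * t⁻¹ ∈ A) → (∀ x ∈ A, t * x = x * t → x = 1) → A = ⊥

end Cfsg.Agent.Omega.TwoF
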