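import Cfsg.Agent.Omega.TwoF.Defs
import Cfsg.Agent.Omega.TwoF.Rk
import Cfsg.Agent.Omega.Lie.HeisCover

/-!
# TABLE 2F: from the row columns to `Dead2` (helper416)

* `toLB` : `Heis.LB` gives `TwoF.LB`;
* `toRK` : `Rk.RK` gives `TwoF.RK` (trivial centre);
* `factorization_mulAut` : `|Out K|₂ ≤ 2` bounds the 2-part of `|Aut K|`.
-/

set_option autoImplicit false

namespace Cfsg.Agent.Omega.TwoF.RowTool

open Subgroup

universe u v

theorem toLB {K : Type v} [Group K] {m : ℕ} (h : Cfsg.Agent.Omega.Lie.Heis.LB.{v, u, u} K m) : LB.{u} K m :=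
  fun L _ _ π hπ V _ _ φ h2 h1 => h L π hπ.surj hπ.cent hπ.odd hπ.perf V (fun g => ⟨1, by rw [pow_one]; exact h2 g⟩) φ h1

theorem conj_injective {K : Type*} [Group K] (hc : center K = ⊥) :
    Function.Injective (MulAut.conj : K →* MulAut K) := by
  rw [← MonoidHom.ker_eq_bot_iff, eq_bot_iff, ← hc]
  intro g hg
  rw [mem_center_iff]
  intro x
  have h2 := congrArg (fun φ : MulAut K => φ x) (MonoidHom.mem_ker.1 hg)
  simp only [MulAut.conj_apply, MulAut.one_apply] at h2
  exact (mul_inv_eq_iff_eq_mul.1 h2).symm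

theorem toRK {K : Type u} [Group K] [Finite K] (hc : center K = ⊥) {a : ℕ} (h : Rk.RK.{u} K a) : RK K a := by
  intro A hA
  have hi := conj_injective hc
  have hn : ((MulAut.conj : K →* MulAut K).range).Normal := by
    refine ⟨?_⟩
    rintro _ ⟨x, rfl⟩ α
    refine ⟨α x, ?_⟩
    ext y
    simp [MulAut.conj_apply]
  have hcen : centralizer (((MulAut.conj : K →* MulAut K).range : Subgroup (MulAut K)) : Set (MulAut K)) = ⊥ := by
    rw [eq_bot_iff]
    intro α hα
    rw [mem_centralizer_iff] at hα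
    rw [mem_bot]
    ext x
    rw [MulAut.one_apply]
    apply hi
    have h1 := hα (MulAut.conj x) ⟨x, rfl⟩
    have h2 : MulAut.conj (α x) = α * MulAut.conj x * α⁻¹ := by
      ext y
      simp [MulAut.conj_apply]
    rw [h2, ← h1, mul_inv_cancel_right]
  exact h (MulAut K) (MulAut.conj : K →* MulAut K).range ⟨(MonoidHom.ofInjective hi).symm⟩ hcen A
    (fun x hx => by rw [← pow_two]; exact hA x hx)

/-- `|Out K|₂ ≤ 2` -/
theorem factorization_mulAut {K : Type*} [Group K] [Finite K] (hc : center K = ⊥)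
    (hout : ¬ 4 ∣ (MulAut.conj : K →* MulAut K).range.index) {e : ℕ} (he : (Nat.card K).factorization 2 ≤ e) :
    (Nat.card (MulAut K)).factorization 2 ≤ e + 1 := by
  rw [Rk.card_mulAut hc rfl]
  have h0 : (MulAut.conj : K →* MulAut K).range.index ≠ 0 := index_ne_zero_of_finite
  rw [Nat.factorization_mul h0 Nat.card_pos.ne', Finsupp.add_apply]
  have h1 : (MulAut.conj : K →* MulAut K).range.index.factorization 2 ≤ 1 := by
    by_contra hcon
    apply hout
    exact ((Nat.prime_two.pow_dvd_iff_le_factorization h0).2 (by omega : 2 ≤ _))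
  omega

theorem dead {K : Type v} [Group K] [Finite K] (hc : center K = ⊥) {m a : ℕ}
    (h : Cfsg.Agent.Omega.Lie.Heis.LB.{v, u, u} K m) (hr : Rk.RK.{v} K a) (hma : 2 * a + 2 < m) : Dead2.{u} K :=
  Dead2.of_lb (toLB h) (toRK hc hr) hma

end Cfsg.Agent.Omega.TwoF.RowTool
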