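import Cfsg.Agent.Omega.TwoF.AltPure

/-!
# Elementary abelian 2-groups with an action of an alternating group, V: the degree theorem

* `Mod4.deg`: a nontrivial `Mod4` module for `A_S` has order at least `4 ^ D |S|`, `D m = m - 2` for `m ≥ 9`,
  `D 6 = D 7 = D 8 = 4`;
* `natl_of_card`: `|S| ≥ 10`, `|M| ≤ 2 ^ (2 ⌊|S| / 2⌋ + 2)` ⟹ natural type;
* `nine`: `|S| = 9`, `|M| ≤ 2 ^ 10` ⟹ natural type, or the operators `F a b c` are all equal on `M`.
-/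

set_option autoImplicit false
set_option linter.unusedSectionVars false

namespace Cfsg.Agent.Omega.TwoF.AltDeg

open Equiv Equiv.Perm AltCyc AltSplit AltSix AltNat AltPure

universe u w

variable {Ω : Type u} [DecidableEq Ω] [Fintype Ω]
variable {V : Type w} [AddCommGroup V] [Two V] [DistribMulAction (alternatingGroup Ω) V]
variable {a b c d e f p q : Ω} {S T : Finset Ω} {M : AddSubgroup V} {ω : V →+ V}

/-- the exponent -/
def Dg (m : ℕ) : ℕ := if m < 9 then 4 else m - 2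

theorem sdiff3 (hD : D3 a b c) (ha : a ∈ S) (hb : b ∈ S) (hc : c ∈ S) :
    (S \ {a, b, c}).card = S.card - 3 ∧ a ∉ S \ {a, b, c} ∧ b ∉ S \ {a, b, c} ∧ c ∉ S \ {a, b, c} ∧
      S \ {a, b, c} ⊆ S ∧ ∀ x, x ∈ S \ {a, b, c} ↔ x ∈ S ∧ x ≠ a ∧ x ≠ b ∧ x ≠ c := by
  have h3 : ({a, b, c} : Finset Ω).card = 3 := Finset.card_eq_three.mpr ⟨a, b, c, hD.1, hD.2.1, hD.2.2, rfl⟩
  refine ⟨?_, ?_, ?_, ?_, Finset.sdiff_subset, ?_⟩
  · rw [Finset.card_sdiff_of_subset, h3]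
    intro x hx
    simp only [Finset.mem_insert, Finset.mem_singleton] at hx
    rcases hx with rfl | rfl | rfl <;> assumption
  · simp
  · simp
  · simp
  · intro x
    simp only [Finset.mem_sdiff, Finset.mem_insert, Finset.mem_singleton, not_or]

/-- not natural type: a pair of disjoint cycles -/
theorem exists_of_not_natl (h : ¬ Natl S M) : ∃ a ∈ S, ∃ b ∈ S, ∃ c ∈ S, ∃ d ∈ S, ∃ e ∈ S, ∃ f ∈ S,
    D6 a b c d e f ∧ ∃ v ∈ M, F a b c (F d e f v) ≠ 0 := by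
  rw [Natl] at h
  push Not at h
  exact h

theorem Mod4.pc_mod4 (h : Mod4 S M ω) (ha : a ∈ S) (hb : b ∈ S) (hc : c ∈ S) (hT : T ⊆ S)
    (ha' : a ∉ T) (hb' : b ∉ T) (hc' : c ∉ T) {θ : V →+ V}
    (hθ : ∀ g : alternatingGroup Ω, Sup T g → ∀ v ∈ M, θ (g • v) = g • θ v)
    (hθ' : ∀ v ∈ M, θ (ω v) = ω (θ v)) : Mod4 T (pc (cm M a b c) a b c θ) ω := by
  have h1 := Mod4.om_cm h ha hb hc
  refine ⟨⟨?_, ?_⟩, ?_, ?_⟩
  · intro v hv
    refine ⟨h1.mem v hv.1, ?_⟩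
    have e1 : C a b c • v = θ v := hv.2
    rw [hθ' v hv.1.1, ← e1]
    exact (h.comm _ (sup_C ha hb hc) v hv.1.1).symm
  · intro v hv
    exact h.sq v hv.1.1
  · intro g hg v hv
    refine ⟨inv_cm h.inv hT ha' hb' hc' g hg v hv.1, ?_⟩
    have e1 : C a b c • v = θ v := hv.2
    rw [hθ g hg v hv.1.1, ← e1, sm_apply, ← mul_smul, ← mul_smul, comm_C hg ha' hb' hc']
  · intro g hg v hv
    exact h.comm g (hg.mono hT) v hv.1.1

/-- the splitting of the `F d e f`-part -/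
theorem Mod4.step [Finite V] (hS : 5 ≤ S.card) (h : Mod4 S M ω) (hD : D6 a b c d e f) (ha : a ∈ S) (hb : b ∈ S)
    (hc : c ∈ S) (hd : d ∈ S) (he : e ∈ S) (hf : f ∈ S) {v : V} (hv : v ∈ M) (h0 : F a b c (F d e f v) ≠ 0)
    {n : ℕ} (ih : ∀ (P : AddSubgroup V), Mod4 (S \ {a, b, c}) P ω → Nt (S \ {a, b, c}) P → n ≤ Nat.card P) :
    n * n ≤ Nat.card (cm M a b c) := by
  obtain ⟨-, ha', hb', hc', hT, hmem⟩ := sdiff3 hD.1 ha hb hc
  have hd' : d ∈ S \ {a, b, c} := (hmem d).mpr ⟨hd, hD.2.2.1⟩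
  have he' : e ∈ S \ {a, b, c} := (hmem e).mpr ⟨he, hD.2.2.2.1⟩
  have hf' : f ∈ S \ {a, b, c} := (hmem f).mpr ⟨hf, hD.2.2.2.2⟩
  obtain ⟨k1, k2⟩ := Mod4.cm_sq hS h hD.1 ha hb hc
  have hP : Mod4 (S \ {a, b, c}) (pc (cm M a b c) a b c ω) ω :=
    Mod4.pc_mod4 h ha hb hc hT ha' hb' hc' (fun g hg v hv => h.comm g (hg.mono hT) v hv) fun _ _ => rfl
  have hQ : Mod4 (S \ {a, b, c}) (pc (cm M a b c) a b c (om1 ω)) ω :=
    Mod4.pc_mod4 h ha hb hc hT ha' hb' hc' (fun g hg v hv => by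
      rw [om1_apply, om1_apply, h.comm g (hg.mono hT) v hv, smul_add]) fun v hv => by
      rw [om1_apply, om1_apply, map_add]
  rw [k1]
  -- one of the parts is nontrivial
  by_cases hn : Nt (S \ {a, b, c}) (pc (cm M a b c) a b c ω)
  · have := ih _ hP hn
    exact Nat.mul_le_mul this this
  by_cases hn' : Nt (S \ {a, b, c}) (pc (cm M a b c) a b c (om1 ω))
  · have := ih _ hQ hn'
    rw [k2] at this
    exact Nat.mul_le_mul this this
  exfalso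
  -- decompose `x = F a b c v`
  have hx : F a b c v ∈ cm M a b c := F_mem_cm h.inv hD.1 ha hb hc hv
  set x := F a b c v with hxdef
  have hx1 : F d e f x ≠ 0 := by
    rw [hxdef, ← F_comm hD.2.2.1 hD.2.2.2.1 hD.2.2.2.2]; exact h0
  have o1 : Om (cm M a b c) (sm (C a b c)) := AltSplit.om_cm S h.inv hD.1 ha hb hc
  have o2 := Mod4.om_cm h ha hb hc
  have e1 := o1.sq x hx
  have e2 := o2.sq x hx
  have e3 : sm (C a b c) (ω x) = ω (sm (C a b c) x) := (h.comm _ (sup_C ha hb hc) x hx.1).symm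
  have hx2 : x + (sm (C a b c) x + ω x) ∈ pc (cm M a b c) a b c ω := by
    refine ⟨(cm M a b c).add_mem hx ((cm M a b c).add_mem (o1.mem x hx) (o2.mem x hx)), ?_⟩
    rw [map_add, map_add, map_add, map_add, e1, e2, e3]; two
  have hx3 : sm (C a b c) x + ω x ∈ pc (cm M a b c) a b c (om1 ω) := by
    refine ⟨(cm M a b c).add_mem (o1.mem x hx) (o2.mem x hx), ?_⟩
    rw [om1_apply, map_add, map_add, e1, e2, e3]; two
  have z1 : F d e f (x + (sm (C a b c) x + ω x)) = 0 := by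
    by_contra hne
    exact hn ⟨d, hd', e, he', f, hf', hD.2.1, _, hx2, hne⟩
  have z2 : F d e f (sm (C a b c) x + ω x) = 0 := by
    by_contra hne
    exact hn' ⟨d, hd', e, he', f, hf', hD.2.1, _, hx3, hne⟩
  apply hx1
  rw [map_add, z2, add_zero] at z1
  exact z1

/-- **the degree of a nontrivial `Mod4` module** -/
theorem Mod4.deg [Finite V] : ∀ (m : ℕ) (S : Finset Ω) (M : AddSubgroup V) (ω : V →+ V), S.card = m → 6 ≤ m →
    Mod4 S M ω → Nt S M → 4 ^ Dg m ≤ Nat.card M := by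
  intro m
  induction m using Nat.strong_induction_on with
  | _ m IH =>
  intro S M ω hSm hm h hn
  by_cases h9 : m < 9
  · rw [Dg, if_pos h9]
    exact Mod4.six (by omega) h hn
  rw [Dg, if_neg h9]
  by_cases hN : Natl S M
  · have := Mod4.natl (by omega) h hN hn
    rwa [hSm] at this
  obtain ⟨a, ha, b, hb, c, hc, d, hd, e, he, f, hf, hD, v, hv, h0⟩ := exists_of_not_natl hN
  obtain ⟨hcard, -⟩ := sdiff3 hD.1 ha hb hc
  have h1 := Mod4.step (n := 4 ^ Dg (m - 3)) (by omega) h hD ha hb hc hd he hf hv h0 fun P hP hnP =>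
    IH (m - 3) (by omega) _ P ω (by omega) (by omega) hP hnP
  have h2 : Nat.card (cm M a b c) ≤ Nat.card M := card_le_of_le Eqz_le
  rw [← pow_add] at h1
  by_cases h11 : m = 11
  · have h3 : Dg (m - 3) = 4 := by rw [Dg, if_pos (by omega)]
    rw [h3] at h1
    by_cases htop : ∀ v ∈ M, F a b c v = v
    · -- pure
      have hpr : Pr S M := pr_of_one (by omega) h.inv hD.1 ha hb hc htop
      have hMne : 1 < Nat.card M := by
        refine lt_of_lt_of_le ?_ (h1.trans h2)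
        norm_num
      have := Mod4.pure_ten h hpr (by omega) hMne
      refine le_trans ?_ this
      exact Nat.pow_le_pow_right (by norm_num) (by omega)
    · push Not at htop
      obtain ⟨x, hx, hx'⟩ := htop
      have hce : Om (ce M a b c) ω :=
        h.toOm.eqz (fun _ hv => h.F_comm ha hb hc hv) fun v _ => by
          show (0 : V) = ω 0
          rw [map_zero]
      have h4 := hce.four_le (compl_mem_ce h.inv hD.1 ha hb hc hx) (fun h5 => hx' (addz_iff.mp h5).symm)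
      rw [card_cm_mul_ce h.inv hD.1 ha hb hc]
      have h5 := Nat.mul_le_mul h1 h4
      refine le_trans ?_ h5
      rw [h11]
      norm_num
  · refine le_trans ?_ (h1.trans h2)
    apply Nat.pow_le_pow_right (by norm_num)
    unfold Dg
    split_ifs <;> omega

/-! ### The operators `F` -/

theorem D6_unmap {a b c d e f : Ω} (g : Perm Ω) (h : D6 (g a) (g b) (g c) (g d) (g e) (g f)) :
    D6 a b c d e f := by
  have k : ∀ {x y : Ω}, g x ≠ g y → x ≠ y := fun h e => h (by rw [e])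
  obtain ⟨⟨x1, x2, x3⟩, ⟨x4, x5, x6⟩, ⟨y1, y2, y3⟩, ⟨y4, y5, y6⟩, ⟨y7, y8, y9⟩⟩ := h
  exact ⟨⟨k x1, k x2, k x3⟩, ⟨k x4, k x5, k x6⟩, ⟨k y1, k y2, k y3⟩, ⟨k y4, k y5, k y6⟩, ⟨k y7, k y8, k y9⟩⟩

/-- `F d e f F a b c = F a b c` for one triple `a b c` and all `d e f` -/
theorem all_of_one (hS : 5 ≤ S.card) (hM : Inv S M) (hD : D3 a b c) (ha : a ∈ S) (hb : b ∈ S) (hc : c ∈ S)
    (h : ∀ d ∈ S, ∀ e ∈ S, ∀ f ∈ S, D6 a b c d e f → ∀ v ∈ M, F d e f (F a b c v) = F a b c v) :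
    ∀ a' ∈ S, ∀ b' ∈ S, ∀ c' ∈ S, ∀ d ∈ S, ∀ e ∈ S, ∀ f ∈ S, D6 a' b' c' d e f → ∀ v ∈ M,
      F d e f (F a' b' c' v) = F a' b' c' v := by
  intro a' ha' b' hb' c' hc' d hd e he f hf hD' v hv
  obtain ⟨g, hg, e1, e2, e3⟩ := exists_move hS hD hD'.1 ha hb hc ha' hb' hc'
  -- `d = g d₁`
  have hinv : ∀ x ∈ S, ∃ y ∈ S, (g : Perm Ω) y = x := fun x hx =>
    ⟨(g : Perm Ω).symm x, hg.inv.mem hx, Equiv.apply_symm_apply _ _⟩
  obtain ⟨d₁, hd₁, f1⟩ := hinv d hd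
  obtain ⟨e₁, he₁, f2⟩ := hinv e he
  obtain ⟨f₁, hf₁, f3⟩ := hinv f hf
  subst f1 f2 f3 e1 e2 e3
  have hD₁ : D6 a b c d₁ e₁ f₁ := by
    exact D6_unmap _ hD'
  have h1 := h d₁ hd₁ e₁ he₁ f₁ hf₁ hD₁ (g⁻¹ • v) (hM _ hg.inv v hv)
  have h2 := congrArg (g • ·) h1
  simp only [smul_F, smul_inv_smul] at h2
  exact h2

/-- then all `F`s are equal -/
theorem F_all_eq (hS : 9 ≤ S.card)
    (h : ∀ a ∈ S, ∀ b ∈ S, ∀ c ∈ S, ∀ d ∈ S, ∀ e ∈ S, ∀ f ∈ S, D6 a b c d e f → ∀ v ∈ M,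
      F d e f (F a b c v) = F a b c v)
    (hD : D3 a b c) (hD' : D3 d e f) (ha : a ∈ S) (hb : b ∈ S) (hc : c ∈ S) (hd : d ∈ S) (he : e ∈ S)
    (hf : f ∈ S) : ∀ v ∈ M, F a b c v = F d e f v := by
  have key : ∀ {a b c x y z : Ω}, D6 a b c x y z → a ∈ S → b ∈ S → c ∈ S → x ∈ S → y ∈ S → z ∈ S →
      ∀ v ∈ M, F a b c v = F x y z v := by
    intro a b c x y z hD ha hb hc hx hy hz v hv
    rw [← h a ha b hb c hc x hx y hy z hz hD v hv, ← F_comm hD.2.2.1 hD.2.2.2.1 hD.2.2.2.2,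
      h x hx y hy z hz a ha b hb c hc hD.symm v hv]
  obtain ⟨x, hx, hx'⟩ := exists_not_mem (S := S) {a, b, c, d, e, f} (lt_of_le_of_lt (Finset.card_le_six) (by omega))
  have k7 : (insert x ({a, b, c, d, e, f} : Finset Ω)).card ≤ 7 :=
    (Finset.card_insert_le _ _).trans (by have := Finset.card_le_six (a := a) (b := b) (c := c) (d := d) (e := e) (f := f); omega)
  obtain ⟨y, hy, hy'⟩ := exists_not_mem (S := S) (insert x {a, b, c, d, e, f}) (by omega)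
  have k8 : (insert y (insert x ({a, b, c, d, e, f} : Finset Ω))).card ≤ 8 :=
    (Finset.card_insert_le _ _).trans (by omega)
  obtain ⟨z, hz, hz'⟩ := exists_not_mem (S := S) (insert y (insert x {a, b, c, d, e, f})) (by omega)
  simp only [Finset.mem_insert, Finset.mem_singleton, not_or] at hx' hy' hz'
  obtain ⟨xa, xb, xc, xd, xe, xf⟩ := hx'
  obtain ⟨yx, ya, yb, yc, yd, ye, yf⟩ := hy'
  obtain ⟨zy, zx, za, zb, zc, zd, ze, zf⟩ := hz'
  have hDx : D3 x y z := ⟨Ne.symm yx, Ne.symm zx, Ne.symm zy⟩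
  intro v hv
  rw [key (x := x) (y := y) (z := z) ⟨hD, hDx, ⟨xa, xb, xc⟩, ⟨ya, yb, yc⟩, ⟨za, zb, zc⟩⟩ ha hb hc hx hy hz v hv,
    key (x := x) (y := y) (z := z) ⟨hD', hDx, ⟨xd, xe, xf⟩, ⟨yd, ye, yf⟩, ⟨zd, ze, zf⟩⟩ hd he hf hx hy hz v hv]

/-- case A: `A_{S ∖ {a, b, c}}` is trivial on `C_M(a b c)` -/
theorem caseA (hS : 5 ≤ S.card) (hM : Inv S M) (hD : D3 a b c) (ha : a ∈ S) (hb : b ∈ S) (hc : c ∈ S)
    (hn : ¬ Nt (S \ {a, b, c}) (ce M a b c)) :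
    ∀ a ∈ S, ∀ b ∈ S, ∀ c ∈ S, ∀ d ∈ S, ∀ e ∈ S, ∀ f ∈ S, D6 a b c d e f → ∀ v ∈ M,
      F d e f (F a b c v) = F a b c v := by
  obtain ⟨-, -, -, -, -, hmem⟩ := sdiff3 hD ha hb hc
  have h1 : ∀ d ∈ S, ∀ e ∈ S, ∀ f ∈ S, D6 a b c d e f → ∀ v ∈ M, F d e f (F a b c v) = F d e f v := by
    intro d hd e he f hf hD' v hv
    have h2 : F d e f (v + F a b c v) = 0 := by
      by_contra hne
      exact hn ⟨d, (hmem d).mpr ⟨hd, hD'.2.2.1⟩, e, (hmem e).mpr ⟨he, hD'.2.2.2.1⟩, f,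
        (hmem f).mpr ⟨hf, hD'.2.2.2.2⟩, hD'.2.1, _, compl_mem_ce hM hD ha hb hc hv, hne⟩
    rw [map_add] at h2
    exact (addz_iff.mp h2).symm
  -- move
  intro a' ha' b' hb' c' hc' d hd e he f hf hD' v hv
  obtain ⟨g, hg, e1, e2, e3⟩ := exists_move hS hD hD'.2.1 ha hb hc hd he hf
  have hinv : ∀ x ∈ S, ∃ y ∈ S, (g : Perm Ω) y = x := fun x hx =>
    ⟨(g : Perm Ω).symm x, hg.inv.mem hx, Equiv.apply_symm_apply _ _⟩
  obtain ⟨a₁, ha₁, f1⟩ := hinv a' ha'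
  obtain ⟨b₁, hb₁, f2⟩ := hinv b' hb'
  obtain ⟨c₁, hc₁, f3⟩ := hinv c' hc'
  subst f1 f2 f3 e1 e2 e3
  have hD₁ : D6 a b c a₁ b₁ c₁ := by
    exact D6_unmap _ hD'.symm
  have h2 := h1 a₁ ha₁ b₁ hb₁ c₁ hc₁ hD₁ (g⁻¹ • v) (hM _ hg.inv v hv)
  rw [F_comm hD₁.symm.2.2.1 hD₁.symm.2.2.2.1 hD₁.symm.2.2.2.2] at h2
  have h3 := congrArg (g • ·) h2
  simp only [smul_F, smul_inv_smul] at h3
  exact h3

/-- all `F` equal and not zero: a pure part -/
theorem pure_part [Finite V] (hS : 10 ≤ S.card) (hM : Inv S M)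
    (h : ∀ a ∈ S, ∀ b ∈ S, ∀ c ∈ S, ∀ d ∈ S, ∀ e ∈ S, ∀ f ∈ S, D6 a b c d e f → ∀ v ∈ M,
      F d e f (F a b c v) = F a b c v)
    (hD : D3 a b c) (ha : a ∈ S) (hb : b ∈ S) (hc : c ∈ S) {v : V} (hv : v ∈ M) (h0 : F a b c v ≠ 0) :
    2 ^ 16 ≤ Nat.card M := by
  have hinv : Inv S (cm M a b c) := by
    intro g hg w hw
    refine ⟨hM g hg w hw.1, ?_⟩
    have h1 := smul_F g a b c w
    have h2 : F a b c w = w := hw.2
    rw [h2] at h1
    rw [F_all_eq (by omega) h hD (hD.map (g : Perm Ω)) ha hb hc (hg.mem ha) (hg.mem hb) (hg.mem hc) _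
      (hM g hg w hw.1)]
    exact h1.symm
  have hpr : Pr S (cm M a b c) := by
    intro x hx y hy z hz hD' w hw
    rw [F_all_eq (by omega) h hD' hD hx hy hz ha hb hc w hw.1]
    exact hw.2
  exact (pure_ten hinv hpr hS (card_of_ne (F_mem_cm hM hD ha hb hc hv) h0)).trans (card_le_of_le Eqz_le)

/-- **nine points** -/
theorem nine [Finite V] (hS : S.card = 9) (hM : Inv S M) (hcard : Nat.card M ≤ 2 ^ 10) : Natl S M ∨
    ∀ a ∈ S, ∀ b ∈ S, ∀ c ∈ S, D3 a b c → ∀ d ∈ S, ∀ e ∈ S, ∀ f ∈ S, D3 d e f → ∀ v ∈ M,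
      F a b c v = F d e f v := by
  by_cases hN : Natl S M
  · exact Or.inl hN
  refine Or.inr ?_
  obtain ⟨a, ha, b, hb, c, hc, d, hd, e, he, f, hf, hD, v, hv, h0⟩ := exists_of_not_natl hN
  obtain ⟨hcT, ha', hb', hc', hT, hmem⟩ := sdiff3 hD.1 ha hb hc
  have hM1 : Mod4 (S \ {a, b, c}) (cm M a b c) (sm (C a b c)) := mod4_cm hM hD.1 ha hb hc hT ha' hb' hc'
  have hn1 : Nt (S \ {a, b, c}) (cm M a b c) := by
    refine ⟨d, (hmem d).mpr ⟨hd, hD.2.2.1⟩, e, (hmem e).mpr ⟨he, hD.2.2.2.1⟩, f,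
        (hmem f).mpr ⟨hf, hD.2.2.2.2⟩, hD.2.1, F a b c v, F_mem_cm hM hD.1 ha hb hc hv, ?_⟩
    rw [← F_comm hD.2.2.1 hD.2.2.2.1 hD.2.2.2.2]
    exact h0
  have h1 := Mod4.six (by omega) hM1 hn1
  have hn0 : ¬ Nt (S \ {a, b, c}) (ce M a b c) := by
    intro hn
    have h2 := six (by omega) (inv_ce hM hT ha' hb' hc') hn
    rw [card_cm_mul_ce hM hD.1 ha hb hc] at hcard
    have h3 := (Nat.mul_le_mul h1 h2).trans hcard
    norm_num at h3
  have h2 := caseA (by omega) hM hD.1 ha hb hc hn0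
  intro a ha b hb c hc hD d hd e he f hf hD'
  exact F_all_eq (by omega) h2 hD hD' ha hb hc hd he hf

/-- ten points -/
theorem ten [Finite V] (hS : S.card = 10) (hM : Inv S M) (hcard : Nat.card M ≤ 2 ^ 12) : Natl S M := by
  by_contra hN
  obtain ⟨a, ha, b, hb, c, hc, d, hd, e, he, f, hf, hD, v, hv, h0⟩ := exists_of_not_natl hN
  obtain ⟨hcT, ha', hb', hc', hT, hmem⟩ := sdiff3 hD.1 ha hb hc
  have hM1 : Mod4 (S \ {a, b, c}) (cm M a b c) (sm (C a b c)) := mod4_cm hM hD.1 ha hb hc hT ha' hb' hc'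
  have hn1 : Nt (S \ {a, b, c}) (cm M a b c) := by
    refine ⟨d, (hmem d).mpr ⟨hd, hD.2.2.1⟩, e, (hmem e).mpr ⟨he, hD.2.2.2.1⟩, f,
        (hmem f).mpr ⟨hf, hD.2.2.2.2⟩, hD.2.1, F a b c v, F_mem_cm hM hD.1 ha hb hc hv, ?_⟩
    rw [← F_comm hD.2.2.1 hD.2.2.2.1 hD.2.2.2.2]
    exact h0
  have hF0 : F a b c v ≠ 0 := by
    intro h
    apply h0
    rw [F_comm hD.2.2.1 hD.2.2.2.1 hD.2.2.2.2, h, map_zero]
  have h1 := Mod4.six (by omega) hM1 hn1
  have hM0 := inv_ce hM hT ha' hb' hc'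
  have hprod := card_cm_mul_ce hM hD.1 ha hb hc
  -- it is enough to have `F d e f F a b c = F a b c`
  suffices key : ∀ a ∈ S, ∀ b ∈ S, ∀ c ∈ S, ∀ d ∈ S, ∀ e ∈ S, ∀ f ∈ S, D6 a b c d e f → ∀ v ∈ M,
      F d e f (F a b c v) = F a b c v by
    have := pure_part (by omega) hM key hD.1 ha hb hc hv hF0
    have := this.trans hcard
    norm_num at this
  by_cases hn0 : Nt (S \ {a, b, c}) (ce M a b c)
  · -- case B
    have hN0 : ¬ Natl (S \ {a, b, c}) (ce M a b c) := by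
      intro hN0
      have h2 := natl (by omega) hM0 hN0 hn0
      have h3 : (S \ {a, b, c}).card - 2 = 5 := by omega
      rw [h3] at h2
      rw [hprod] at hcard
      have h4 := (Nat.mul_le_mul h1 h2).trans hcard
      norm_num at h4
    have h16 : 2 ^ 4 ≤ Nat.card (ce M a b c) := by
      obtain ⟨x1, i1, x2, i2, x3, i3, x4, i4, x5, i5, x6, i6, hD', w, hw, hw0⟩ := exists_of_not_natl hN0
      exact (quad hM0 hD' i1 i2 i3 i4 i5 i6 hw hw0).trans (card_le_of_le (Eqz_le.trans Eqz_le))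
    have h256 : Nat.card (cm M a b c) ≤ 2 ^ 8 := by
      rw [hprod] at hcard
      by_contra hlt
      have h3 : 2 ^ 8 + 1 ≤ Nat.card (cm M a b c) := by omega
      have h4 := (Nat.mul_le_mul h3 h16).trans hcard
      norm_num at h4
    have hN1 : ¬ Natl (S \ {a, b, c}) (cm M a b c) := by
      intro hN1
      have h2 := Mod4.natl (by omega) hM1 hN1 hn1
      have h3 : (S \ {a, b, c}).card - 2 = 5 := by omega
      rw [h3] at h2
      have h4 := h2.trans h256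
      norm_num at h4
    obtain ⟨x1, i1, x2, i2, x3, i3, x4, i4, x5, i5, x6, i6, hD', w, hw, hw0⟩ := exists_of_not_natl hN1
    have h2 := Mod4.quad hM1 hD' i1 i2 i3 i4 i5 i6 hw hw0
    have h3 : cm2 (cm M a b c) x1 x2 x3 x4 x5 x6 = cm M a b c :=
      eq_of_card_le (Eqz_le.trans Eqz_le) (h256.trans (le_trans (by norm_num) h2))
    have h4 : ∀ w ∈ cm M a b c, F x1 x2 x3 w = w := by
      intro w hw
      rw [← h3] at hw
      exact hw.1.2
    -- all triples in `S ∖ {a, b, c}`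
    have h5 : Pr (S \ {a, b, c}) (cm M a b c) := pr_of_one (by omega) hM1.inv hD'.1 i1 i2 i3 h4
    refine all_of_one (by omega) hM hD.1 ha hb hc ?_
    intro d hd e he f hf hD' v hv
    exact h5 d ((hmem d).mpr ⟨hd, hD'.2.2.1⟩) e ((hmem e).mpr ⟨he, hD'.2.2.2.1⟩) f
      ((hmem f).mpr ⟨hf, hD'.2.2.2.2⟩) hD'.2.1 _ (F_mem_cm hM hD.1 ha hb hc hv)
  · exact caseA (by omega) hM hD.1 ha hb hc hn0

/-- natural type is detected on ten points -/
theorem natl_of_sub {n : ℕ} (hn : 6 ≤ n) (hS : n ≤ S.card)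
    (h : ∀ T : Finset Ω, T ⊆ S → T.card = n → Natl T M) : Natl S M := by
  intro a ha b hb c hc d hd e he f hf hD v hv
  have h6 : ({a, b, c, d, e, f} : Finset Ω) ⊆ S := by
    intro x hx
    simp only [Finset.mem_insert, Finset.mem_singleton] at hx
    rcases hx with rfl | rfl | rfl | rfl | rfl | rfl <;> assumption
  obtain ⟨T, hT1, hT2, hT3⟩ := Finset.exists_subsuperset_card_eq h6
    (Finset.card_le_six.trans hn) hS
  have hm : ∀ x ∈ ({a, b, c, d, e, f} : Finset Ω), x ∈ T := fun x hx => hT1 hx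
  exact h T hT2 hT3 a (hm a (by simp)) b (hm b (by simp)) c (hm c (by simp)) d (hm d (by simp)) e (hm e (by simp)) f
    (hm f (by simp)) hD v hv

/-- **the degree theorem** -/
theorem natl_of_card [Finite V] (hS : 10 ≤ S.card) (hM : Inv S M)
    (hcard : Nat.card M ≤ 2 ^ (2 * (S.card / 2) + 2)) : Natl S M := by
  by_cases h10 : S.card = 10
  · rw [h10] at hcard
    exact ten h10 hM hcard
  by_cases h11 : S.card = 11
  · rw [h11] at hcard
    exact natl_of_sub (n := 10) (by omega) hS fun T hT hT' => ten hT' (hM.mono hT) hcard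
  by_contra hN
  obtain ⟨a, ha, b, hb, c, hc, d, hd, e, he, f, hf, hD, v, hv, h0⟩ := exists_of_not_natl hN
  obtain ⟨hcT, ha', hb', hc', hT, hmem⟩ := sdiff3 hD.1 ha hb hc
  have hM1 : Mod4 (S \ {a, b, c}) (cm M a b c) (sm (C a b c)) := mod4_cm hM hD.1 ha hb hc hT ha' hb' hc'
  have hn1 : Nt (S \ {a, b, c}) (cm M a b c) := by
    refine ⟨d, (hmem d).mpr ⟨hd, hD.2.2.1⟩, e, (hmem e).mpr ⟨he, hD.2.2.2.1⟩, f,
        (hmem f).mpr ⟨hf, hD.2.2.2.2⟩, hD.2.1, F a b c v, F_mem_cm hM hD.1 ha hb hc hv, ?_⟩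
    rw [← F_comm hD.2.2.1 hD.2.2.2.1 hD.2.2.2.2]
    exact h0
  have h1 := Mod4.deg (S.card - 3) _ _ _ hcT (by omega) hM1 hn1
  have h2 : Nat.card (cm M a b c) ≤ Nat.card M := card_le_of_le Eqz_le
  have h3 : Dg (S.card - 3) = S.card - 5 := by
    rw [Dg, if_neg (by omega)]; omega
  rw [h3, show (4 : ℕ) = 2 ^ 2 by norm_num, ← pow_mul] at h1
  by_cases h12 : S.card = 12
  · rw [h12] at h1 hcard
    have h4 : cm M a b c = M := eq_of_card_le Eqz_le (hcard.trans (le_trans (by norm_num) h1))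
    have h5 : Pr S M := pr_of_one (by omega) hM hD.1 ha hb hc fun w hw => by
      rw [← h4] at hw
      exact hw.2
    have h6 : 1 < Nat.card M := lt_of_lt_of_le (by norm_num) (h1.trans h2)
    have h7 := (pure_ten hM h5 (by omega) h6).trans hcard
    norm_num at h7
  · have h4 := (h1.trans h2).trans hcard
    have h5 := (Nat.pow_le_pow_iff_right (by norm_num : 1 < 2)).mp h4
    omega

end Cfsg.Agent.Omega.TwoF.AltDeg
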