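import Cfsg.Agent.Omega.TwoF.AltNat

/-!
# Elementary abelian 2-groups with an action of an alternating group, IV: pure type

All 3-cycles satisfy `1 + c + c² = 0` on `M`.  The operators `X_i = (p q i)` generate a Clifford algebra:

* `halve`: `a² = 0`, `a b + b' a = 1` on `M` ⟹ `|M| = |ker a|²`;
* `clifford`: six operators with `v_i² = 1`, `v_i v_j + v_j v_i = 1` ⟹ `|M| = y ^ 8`;
* `pure_nine`, `pure_ten`: `|M| = y ^ 8` (`|S| ≥ 9`), `|M| = y ^ 16` (`|S| ≥ 10`).
-/

set_option autoImplicit false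
set_option linter.unusedSectionVars false

namespace Cfsg.Agent.Omega.TwoF.AltPure

open Equiv Equiv.Perm AltCyc AltSplit AltSix AltNat

universe u w

section Ring

variable {V : Type w} [AddCommGroup V] [Two V]

theorem end_aa (a : AddMonoid.End V) : a + a = 0 := by
  ext v
  exact aa (a v)

theorem end_aab (a b : AddMonoid.End V) : a + (a + b) = b := by rw [← add_assoc, end_aa, zero_add]

/-- normalise sums of endomorphisms in characteristic 2 -/
macro "etwo" : tactic =>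
  `(tactic| simp only [add_comm, add_left_comm, add_assoc, end_aa, end_aab, add_zero, zero_add])

theorem end_add_eq_zero {a b : AddMonoid.End V} : a + b = 0 ↔ a = b := by
  constructor
  · intro h
    calc a = a + (b + b) := by rw [end_aa, add_zero]
      _ = b := by rw [← add_assoc, h, zero_add]
  · rintro rfl; exact end_aa a

/-- the kernel of `a` on `M` -/
def kr (M : AddSubgroup V) (a : AddMonoid.End V) : AddSubgroup V where
  carrier := {v | v ∈ M ∧ a v = 0}
  zero_mem' := ⟨M.zero_mem, map_zero a⟩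
  add_mem' := fun {x y} hx hy => ⟨M.add_mem hx.1 hy.1, by rw [map_add, hx.2, hy.2, add_zero]⟩
  neg_mem' := fun {x} hx => ⟨M.neg_mem hx.1, by rw [map_neg, hx.2, neg_zero]⟩

/-- **the halving lemma** -/
theorem halve [Finite V] {M : AddSubgroup V} {a b b' : AddMonoid.End V} (ha : ∀ v ∈ M, a v ∈ M)
    (hb : ∀ v ∈ M, b v ∈ M) (h1 : a * a = 0) (h2 : a * b + b' * a = 1) :
    Nat.card M = Nat.card (kr M a) ^ 2 := by
  have e1 : ∀ v, a (a v) = 0 := fun v => DFunLike.congr_fun h1 v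
  have e2 : ∀ v, a (b v) + b' (a v) = v := fun v => DFunLike.congr_fun h2 v
  have e3 : ∀ v, a v = 0 → a (b v) = v := by
    intro v hv
    have := e2 v
    rwa [hv, map_zero, add_zero] at this
  rw [pow_two, ← Nat.card_prod]
  refine Nat.card_congr
    { toFun := fun v => (⟨a v, ha v v.2, e1 v⟩, ⟨v + b (a v), M.add_mem v.2 (hb _ (ha _ v.2)), ?_⟩)
      invFun := fun x => ⟨x.2 + b x.1, M.add_mem x.2.2.1 (hb _ x.1.2.1)⟩
      left_inv := ?_
      right_inv := ?_ }
  · rw [map_add, e3 _ (e1 v)]; exact aa _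
  · intro v
    apply Subtype.ext
    show (v : V) + b (a v) + b (a v) = v
    rw [add_assoc, aa, add_zero]
  · rintro ⟨⟨x, hx, hx'⟩, ⟨y, hy, hy'⟩⟩
    have hx'' : a x = 0 := hx'
    have hy'' : a y = 0 := hy'
    refine Prod.ext (Subtype.ext ?_) (Subtype.ext ?_)
    · show a (y + b x) = x
      rw [map_add, hy'', zero_add, e3 x hx'']
    · show y + b x + b (a (y + b x)) = y
      rw [map_add a, hy'', zero_add, e3 x hx'', add_assoc, aa, add_zero]

theorem mem_ker_of_comm {M : AddSubgroup V} {a c : AddMonoid.End V} (hc : ∀ v ∈ M, c v ∈ M)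
    (h : a * c = c * a) : ∀ v ∈ kr M a, c v ∈ kr M a := by
  intro v hv
  refine ⟨hc v hv.1, ?_⟩
  have h1 : a (c v) = c (a v) := DFunLike.congr_fun h v
  rw [h1, hv.2, map_zero]

/-- the Clifford relations for six operators -/
structure Cl (v1 v2 v3 v4 v5 v6 : AddMonoid.End V) : Prop where
  h11 : v1 * v1 = 1
  h22 : v2 * v2 = 1
  h33 : v3 * v3 = 1
  h44 : v4 * v4 = 1
  h55 : v5 * v5 = 1
  h66 : v6 * v6 = 1
  h21 : v2 * v1 = v1 * v2 + 1
  h31 : v3 * v1 = v1 * v3 + 1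
  h41 : v4 * v1 = v1 * v4 + 1
  h51 : v5 * v1 = v1 * v5 + 1
  h61 : v6 * v1 = v1 * v6 + 1
  h32 : v3 * v2 = v2 * v3 + 1
  h42 : v4 * v2 = v2 * v4 + 1
  h52 : v5 * v2 = v2 * v5 + 1
  h62 : v6 * v2 = v2 * v6 + 1
  h43 : v4 * v3 = v3 * v4 + 1
  h53 : v5 * v3 = v3 * v5 + 1
  h63 : v6 * v3 = v3 * v6 + 1
  h54 : v5 * v4 = v4 * v5 + 1
  h64 : v6 * v4 = v4 * v6 + 1
  h65 : v6 * v5 = v5 * v6 + 1

/-- the last kernel -/
abbrev Kc (M : AddSubgroup V) (v1 v2 v3 v4 v5 : AddMonoid.End V) : AddSubgroup V :=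
  kr (kr (kr M (v1 + 1)) (v3 + v1 + v2)) (v5 + (v1 + v2 + v3 + v4) + 1)

theorem clifford [Finite V] {M : AddSubgroup V} {v1 v2 v3 v4 v5 v6 : AddMonoid.End V}
    (h : Cl v1 v2 v3 v4 v5 v6) (m1 : ∀ v ∈ M, v1 v ∈ M) (m2 : ∀ v ∈ M, v2 v ∈ M) (m3 : ∀ v ∈ M, v3 v ∈ M)
    (m4 : ∀ v ∈ M, v4 v ∈ M) (m5 : ∀ v ∈ M, v5 v ∈ M) (m6 : ∀ v ∈ M, v6 v ∈ M) :
    Nat.card M = Nat.card (Kc M v1 v2 v3 v4 v5) ^ 8 := by
  obtain ⟨h11, h22, h33, h44, h55, h66, h21, h31, h41, h51, h61, h32, h42, h52, h62, h43, h53, h63, h54, h64,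
    h65⟩ := h
  have add_mem : ∀ {a b : AddMonoid.End V}, (∀ v ∈ M, a v ∈ M) → (∀ v ∈ M, b v ∈ M) → ∀ v ∈ M, (a + b) v ∈ M :=
    fun ha hb v hv => M.add_mem (ha v hv) (hb v hv)
  have one_mem : ∀ v ∈ M, (1 : AddMonoid.End V) v ∈ M := fun v hv => hv
  have s1 : Nat.card M = Nat.card (kr M (v1 + 1)) ^ 2 := by
    refine halve (b := v2) (b' := v2) (add_mem m1 one_mem) m2 ?_ ?_
    · simp only [mul_add, add_mul, mul_one, one_mul, h11]; etwo
    · simp only [mul_add, add_mul, mul_one, one_mul, h21]; etwo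
  have ma2 := mem_ker_of_comm (a := v1 + 1) (add_mem (add_mem m3 m1) m2) (by
    simp only [mul_add, add_mul, mul_one, one_mul, h11, h21, h31]; etwo)
  have mb2 := mem_ker_of_comm (a := v1 + 1) (add_mem (add_mem m4 m1) m2) (by
    simp only [mul_add, add_mul, mul_one, one_mul, h11, h21, h41]; etwo)
  have s2 : Nat.card (kr M (v1 + 1)) = Nat.card (kr (kr M (v1 + 1)) (v3 + v1 + v2)) ^ 2 := by
    refine halve (b := v4 + v1 + v2) (b' := v4 + v1 + v2) ma2 mb2 ?_ ?_
    · simp only [mul_add, add_mul, h11, h21, h31, h22, h32, h33]; etwo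
    · simp only [mul_add, add_mul, h11, h21, h31, h41, h22, h32, h42, h43]; etwo
  have ms := add_mem (add_mem (add_mem m1 m2) m3) m4
  have ma3 := mem_ker_of_comm (a := v1 + 1) (add_mem (add_mem m5 ms) one_mem) (by
    simp only [mul_add, add_mul, mul_one, one_mul, h11, h21, h31, h41, h51]; etwo)
  have mb3 := mem_ker_of_comm (a := v1 + 1) (add_mem m6 ms) (by
    simp only [mul_add, add_mul, mul_one, one_mul, h11, h21, h31, h41, h61]; etwo)
  have ma3' := mem_ker_of_comm (a := v3 + v1 + v2) ma3 (by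
    simp only [mul_add, add_mul, mul_one, one_mul, h11, h21, h31, h41, h51, h22, h32, h42, h52, h33, h43, h53]
    etwo)
  have mb3' := mem_ker_of_comm (a := v3 + v1 + v2) mb3 (by
    simp only [mul_add, add_mul, mul_one, one_mul, h11, h21, h31, h41, h61, h22, h32, h42, h62, h33, h43, h63]
    etwo)
  have s3 : Nat.card (kr (kr M (v1 + 1)) (v3 + v1 + v2)) = Nat.card (Kc M v1 v2 v3 v4 v5) ^ 2 := by
    have ss : (v1 + v2 + v3 + v4) * (v1 + v2 + v3 + v4) = 0 := by
      simp only [mul_add, add_mul, h11, h21, h31, h41, h22, h32, h42, h33, h43, h44]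
      etwo
    have s5 : v5 * (v1 + v2 + v3 + v4) = (v1 + v2 + v3 + v4) * v5 := by
      simp only [mul_add, add_mul, h51, h52, h53, h54]
      etwo
    have s6 : v6 * (v1 + v2 + v3 + v4) = (v1 + v2 + v3 + v4) * v6 := by
      simp only [mul_add, add_mul, h61, h62, h63, h64]
      etwo
    refine halve (b := v6 + (v1 + v2 + v3 + v4)) (b' := v6 + (v1 + v2 + v3 + v4)) ma3' mb3' ?_ ?_
    · generalize v1 + v2 + v3 + v4 = s at *
      simp only [mul_add, add_mul, mul_one, one_mul, ss, s5, h55]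
      etwo
    · generalize v1 + v2 + v3 + v4 = s at *
      simp only [mul_add, add_mul, mul_one, one_mul, ss, s5, s6, h65]
      etwo
  rw [s1, s2, s3]
  ring

/-- operators commuting with the `v`s -/
theorem Kc_mem {M : AddSubgroup V} {v1 v2 v3 v4 v5 ω : AddMonoid.End V} (hω : ∀ v ∈ M, ω v ∈ M)
    (c1 : v1 * ω = ω * v1) (c2 : v2 * ω = ω * v2) (c3 : v3 * ω = ω * v3) (c4 : v4 * ω = ω * v4)
    (c5 : v5 * ω = ω * v5) : ∀ v ∈ Kc M v1 v2 v3 v4 v5, ω v ∈ Kc M v1 v2 v3 v4 v5 := by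
  refine mem_ker_of_comm (mem_ker_of_comm (mem_ker_of_comm hω ?_) ?_) ?_
  · simp only [mul_add, add_mul, mul_one, one_mul, c1]
  · simp only [mul_add, add_mul, c1, c2, c3]
  · simp only [mul_add, add_mul, mul_one, one_mul, c1, c2, c3, c4, c5]

/-- the relations of the `X_i` -/
structure Xs {n : ℕ} (X : Fin n → AddMonoid.End V) : Prop where
  sq : ∀ i, X i * X i = X i + 1
  comm : ∀ i j, i ≠ j → X j * X i = X i * X j + X i + X j + 1

theorem Xs.v_sq {n : ℕ} {X : Fin n → AddMonoid.End V} (h : Xs X) {i j : Fin n} (hij : i ≠ j) :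
    (X i + X j) * (X i + X j) = 1 := by
  simp only [mul_add, add_mul, h.sq, h.comm i j hij]; etwo

theorem Xs.v_comm {n : ℕ} {X : Fin n → AddMonoid.End V} (h : Xs X) {i j k : Fin n} (hij : i ≠ j) (hik : i ≠ k)
    (hjk : j ≠ k) : (X i + X k) * (X i + X j) = (X i + X j) * (X i + X k) + 1 := by
  simp only [mul_add, add_mul, h.sq, h.comm i j hij, h.comm i k hik, h.comm j k hjk]; etwo

theorem Xs.cl {n : ℕ} {X : Fin n → AddMonoid.End V} (h : Xs X) (j : Fin 7 → Fin n) (hj : Function.Injective j) :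
    Cl (X (j 0) + X (j 1)) (X (j 0) + X (j 2)) (X (j 0) + X (j 3)) (X (j 0) + X (j 4)) (X (j 0) + X (j 5))
      (X (j 0) + X (j 6)) := by
  have k : ∀ a b : Fin 7, a ≠ b → j a ≠ j b := fun a b hab => hj.ne hab
  constructor <;> first
    | exact h.v_sq (k _ _ (by decide))
    | exact h.v_comm (k _ _ (by decide)) (k _ _ (by decide)) (k _ _ (by decide))

/-- nine points -/
theorem Xs.nine [Finite V] {X : Fin 7 → AddMonoid.End V} (h : Xs X) : ∃ y, Nat.card V = y ^ 8 := by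
  have h1 := clifford (M := (⊤ : AddSubgroup V)) (h.cl id Function.injective_id) (fun _ _ => trivial)
    (fun _ _ => trivial) (fun _ _ => trivial) (fun _ _ => trivial) (fun _ _ => trivial) (fun _ _ => trivial)
  rw [AddSubgroup.card_top] at h1
  exact ⟨_, h1⟩

/-- ten points, in terms of the `v_i` -/
theorem ten_aux [Finite V] {x v1 v2 v3 v4 v5 v6 v7 : AddMonoid.End V} (h : Cl v1 v2 v3 v4 v5 v6)
    (h77 : v7 * v7 = 1) (h71 : v7 * v1 = v1 * v7 + 1) (h72 : v7 * v2 = v2 * v7 + 1)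
    (h73 : v7 * v3 = v3 * v7 + 1) (h74 : v7 * v4 = v4 * v7 + 1) (h75 : v7 * v5 = v5 * v7 + 1)
    (h76 : v7 * v6 = v6 * v7 + 1) (x1 : x * v1 = v1 * x + v1 + 1) (x2 : x * v2 = v2 * x + v2 + 1)
    (x3 : x * v3 = v3 * x + v3 + 1) (x4 : x * v4 = v4 * x + v4 + 1) (x5 : x * v5 = v5 * x + v5 + 1)
    (x6 : x * v6 = v6 * x + v6 + 1) (x7 : x * v7 = v7 * x + v7 + 1) :
    Nat.card V = Nat.card (Kc (kr ⊤ (v1 + v2 + v3 + v4 + v5 + v6 + v7)) v1 v2 v3 v4 v5) ^ 16 := by
  obtain ⟨h11, h22, h33, h44, h55, h66, h21, h31, h41, h51, h61, h32, h42, h52, h62, h43, h53, h63, h54, h64,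
    h65⟩ := id h
  have s1 : Nat.card (⊤ : AddSubgroup V) = Nat.card (kr ⊤ (v1 + v2 + v3 + v4 + v5 + v6 + v7)) ^ 2 := by
    refine halve (b := x) (b' := x + 1) (fun _ _ => trivial) (fun _ _ => trivial) ?_ ?_
    · simp only [mul_add, add_mul, h11, h22, h33, h44, h55, h66, h77, h21, h31, h41, h51, h61, h71, h32, h42, h52,
        h62, h72, h43, h53, h63, h73, h54, h64, h74, h65, h75, h76]
      etwo
    · simp only [mul_add, add_mul, one_mul, x1, x2, x3, x4, x5, x6, x7]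
      etwo
  have m1 := mem_ker_of_comm (M := ⊤) (a := v1 + v2 + v3 + v4 + v5 + v6 + v7) (c := v1) (fun _ _ => trivial) (by
    simp only [mul_add, add_mul, h11, h21, h31, h41, h51, h61, h71]; etwo)
  have m2 := mem_ker_of_comm (M := ⊤) (a := v1 + v2 + v3 + v4 + v5 + v6 + v7) (c := v2) (fun _ _ => trivial) (by
    simp only [mul_add, add_mul, h22, h21, h32, h42, h52, h62, h72]; etwo)
  have m3 := mem_ker_of_comm (M := ⊤) (a := v1 + v2 + v3 + v4 + v5 + v6 + v7) (c := v3) (fun _ _ => trivial) (by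
    simp only [mul_add, add_mul, h33, h31, h32, h43, h53, h63, h73]; etwo)
  have m4 := mem_ker_of_comm (M := ⊤) (a := v1 + v2 + v3 + v4 + v5 + v6 + v7) (c := v4) (fun _ _ => trivial) (by
    simp only [mul_add, add_mul, h44, h41, h42, h43, h54, h64, h74]; etwo)
  have m5 := mem_ker_of_comm (M := ⊤) (a := v1 + v2 + v3 + v4 + v5 + v6 + v7) (c := v5) (fun _ _ => trivial) (by
    simp only [mul_add, add_mul, h55, h51, h52, h53, h54, h65, h75]; etwo)
  have m6 := mem_ker_of_comm (M := ⊤) (a := v1 + v2 + v3 + v4 + v5 + v6 + v7) (c := v6) (fun _ _ => trivial) (by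
    simp only [mul_add, add_mul, h66, h61, h62, h63, h64, h65, h76]; etwo)
  have s2 := clifford h m1 m2 m3 m4 m5 m6
  rw [← AddSubgroup.card_top, s1, s2]
  ring

/-- ten points -/
theorem Xs.ten [Finite V] {X : Fin 8 → AddMonoid.End V} (h : Xs X) : ∃ K : AddSubgroup V,
    Nat.card V = Nat.card K ^ 16 ∧ ∀ ω : AddMonoid.End V, (∀ i, X i * ω = ω * X i) → ∀ v ∈ K, ω v ∈ K := by
  have hcl := h.cl (Fin.castSucc : Fin 7 → Fin 8) (Fin.castSucc_injective 7)
  have hv7 : ∀ i : Fin 8, i ≠ 0 → i ≠ 7 → (X 0 + X 7) * (X 0 + X i) = (X 0 + X i) * (X 0 + X 7) + 1 :=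
    fun i hi hi' => h.v_comm hi.symm (by decide) hi'
  have hX : ∀ i : Fin 8, i ≠ 0 → X 0 * (X 0 + X i) = (X 0 + X i) * X 0 + (X 0 + X i) + 1 := by
    intro i hi
    simp only [mul_add, add_mul, h.sq, h.comm 0 i hi.symm]; etwo
  refine ⟨_, ten_aux (x := X 0) (v1 := X 0 + X 1) (v2 := X 0 + X 2) (v3 := X 0 + X 3) (v4 := X 0 + X 4)
    (v5 := X 0 + X 5) (v6 := X 0 + X 6) (v7 := X 0 + X 7) hcl (h.v_sq (by decide))
    (hv7 1 (by decide) (by decide)) (hv7 2 (by decide) (by decide)) (hv7 3 (by decide) (by decide))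
    (hv7 4 (by decide) (by decide)) (hv7 5 (by decide) (by decide)) (hv7 6 (by decide) (by decide))
    (hX 1 (by decide)) (hX 2 (by decide)) (hX 3 (by decide)) (hX 4 (by decide)) (hX 5 (by decide))
    (hX 6 (by decide)) (hX 7 (by decide)), ?_⟩
  intro ω hω
  have c : ∀ i, (X 0 + X i) * ω = ω * (X 0 + X i) := by
    intro i
    rw [mul_add, add_mul, hω, hω]
  refine Kc_mem (mem_ker_of_comm (fun _ _ => trivial) ?_) (c 1) (c 2) (c 3) (c 4) (c 5)
  rw [add_mul, add_mul, add_mul, add_mul, add_mul, add_mul, mul_add, mul_add, mul_add, mul_add, mul_add, mul_add,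
    c, c, c, c, c, c, c]

end Ring

section Mod

variable {Ω : Type u} [DecidableEq Ω] [Fintype Ω]
variable {V : Type w} [AddCommGroup V] [Two V] [DistribMulAction (alternatingGroup Ω) V]
variable {a b c d e f p q : Ω} {S : Finset Ω} {M : AddSubgroup V}

/-- pure type: every 3-cycle in `S` satisfies `1 + c + c² = 0` on `M` -/
def Pr (S : Finset Ω) (M : AddSubgroup V) : Prop :=
  ∀ a ∈ S, ∀ b ∈ S, ∀ c ∈ S, D3 a b c → ∀ v ∈ M, F a b c v = v

theorem pr_of_one (hS : 5 ≤ S.card) (hM : Inv S M) (hD : D3 a b c) (ha : a ∈ S) (hb : b ∈ S) (hc : c ∈ S)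
    (h : ∀ v ∈ M, F a b c v = v) : Pr S M := by
  intro a' ha' b' hb' c' hc' hD' v hv
  obtain ⟨g, hg, e1, e2, e3⟩ := exists_move hS hD hD' ha hb hc ha' hb' hc'
  have h1 := smul_F g a b c (g⁻¹ • v)
  rw [e1, e2, e3, smul_inv_smul, h _ (hM _ hg.inv v hv), smul_inv_smul] at h1
  exact h1.symm

/-- the restriction to `M` -/
def rs (hM : Inv S M) (g : alternatingGroup Ω) (hg : Sup S g) : AddMonoid.End M where
  toFun v := ⟨g • (v : V), hM g hg v v.2⟩
  map_zero' := Subtype.ext (smul_zero g)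
  map_add' v w := Subtype.ext (smul_add g (v : V) w)

theorem rs_apply (hM : Inv S M) (g : alternatingGroup Ω) (hg : Sup S g) (v : M) :
    ((rs hM g hg v : M) : V) = g • (v : V) := rfl

theorem C_mul_C_sq {i j : Ω} (h1 : D3 p q i) (h2 : D3 p q j) (hij : i ≠ j) :
    (C p q i * C p q j) * (C p q i * C p q j) = 1 := by
  have key : ∀ x : Ω, (C p q i : Perm Ω) ((C p q j : Perm Ω) x) =
      if x = p then i else if x = i then p else if x = q then j else if x = j then q else x := by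
    intro x
    by_cases hp : x = p
    · rw [hp, C_a h2, C_b h1, if_pos rfl]
    by_cases hi : x = i
    · rw [hi, C_of_ne h1.2.1.symm h1.2.2.symm hij, C_c h1, if_neg h1.2.1.symm, if_pos rfl]
    by_cases hq : x = q
    · rw [hq, C_b h2, C_of_ne h2.2.1.symm h2.2.2.symm hij.symm, if_neg h1.1.symm, if_neg h1.2.2, if_pos rfl]
    by_cases hj : x = j
    · rw [hj, C_c h2, C_a h1, if_neg h2.2.1.symm, if_neg hij.symm, if_neg h2.2.2.symm, if_pos rfl]
    rw [C_of_ne hp hq hj, C_of_ne hp hq hi, if_neg hp, if_neg hi, if_neg hq, if_neg hj]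
  apply Subtype.ext
  ext x
  show (C p q i : Perm Ω) ((C p q j : Perm Ω) ((C p q i : Perm Ω) ((C p q j : Perm Ω) x))) = x
  rw [key, key]
  obtain ⟨pq, pi, qi⟩ := h1
  obtain ⟨-, pj, qj⟩ := h2
  by_cases hp : x = p
  · subst hp; rw [if_pos rfl, if_neg pi.symm, if_pos rfl]
  by_cases hi : x = i
  · subst hi; rw [if_neg pi.symm, if_pos rfl, if_pos rfl]
  by_cases hq : x = q
  · subst hq; rw [if_neg pq.symm, if_neg qi, if_pos rfl, if_neg pj.symm, if_neg hij.symm, if_neg qj.symm, if_pos rfl]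
  by_cases hj : x = j
  · subst hj
    rw [if_neg pj.symm, if_neg hij.symm, if_neg qj.symm, if_pos rfl, if_neg pq.symm, if_neg qi, if_pos rfl]
  rw [if_neg hp, if_neg hi, if_neg hq, if_neg hj, if_neg hp, if_neg hi, if_neg hq, if_neg hj]

theorem comm_of_sq {R : Type w} [AddCommGroup R] [Two R] {x y : AddMonoid.End R} (hx : x * x = x + 1)
    (hy : y * y = y + 1) (h : (x * y) * (x * y) = 1) : y * x = x * y + x + y + 1 := by
  have hx3 : x * (x * x) = 1 := by rw [hx, mul_add, hx, mul_one]; etwo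
  have hy3 : (y * y) * y = 1 := by rw [hy, add_mul, hy, one_mul]; etwo
  calc y * x = (x * (x * x)) * (y * x) * ((y * y) * y) := by rw [hx3, hy3, one_mul, mul_one]
    _ = (x * x) * ((x * y) * (x * y)) * (y * y) := by simp only [mul_assoc]
    _ = (x + 1) * (y + 1) := by rw [h, hx, hy, mul_one]
    _ = x * y + x + y + 1 := by
      simp only [mul_add, add_mul, mul_one, one_mul]; etwo

/-- the operators `(p q t_i)` -/
theorem exists_xs (hM : Inv S M) (hpr : Pr S M) (n : ℕ) (hS : n + 2 ≤ S.card) :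
    ∃ X : Fin n → AddMonoid.End M, Xs X ∧ ∀ ω : AddMonoid.End M,
      (∀ (g : alternatingGroup Ω) (hg : Sup S g), rs hM g hg * ω = ω * rs hM g hg) → ∀ i, X i * ω = ω * X i := by
  obtain ⟨p, hp, -⟩ := exists_not_mem (S := S) ∅ (by rw [Finset.card_empty]; omega)
  obtain ⟨q, hq, hq'⟩ := exists_not_mem (S := S) {p} (by rw [Finset.card_singleton]; omega)
  have hqp : p ≠ q := fun h => hq' (by simp [h])
  have hT : n ≤ (S \ {p, q}).card := by
    rw [Finset.card_sdiff_of_subset, Finset.card_pair hqp]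
    · omega
    · intro x hx
      simp only [Finset.mem_insert, Finset.mem_singleton] at hx
      rcases hx with rfl | rfl <;> assumption
  let t : Fin n → Ω := fun i => ((S \ {p, q}).equivFin.symm (Fin.castLE hT i) : Ω)
  have ht : Function.Injective t := by
    intro i j hij
    exact Fin.castLE_injective hT ((S \ {p, q}).equivFin.symm.injective (Subtype.ext hij))
  have htm : ∀ i, t i ∈ S ∧ D3 p q (t i) := by
    intro i
    have := ((S \ {p, q}).equivFin.symm (Fin.castLE hT i)).2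
    simp only [Finset.mem_sdiff, Finset.mem_insert, Finset.mem_singleton, not_or] at this
    exact ⟨this.1, hqp, Ne.symm this.2.1, Ne.symm this.2.2⟩
  have hsup : ∀ i, Sup S (C p q (t i)) := fun i => sup_C hp hq (htm i).1
  have hsq : ∀ i, rs hM (C p q (t i)) (hsup i) * rs hM (C p q (t i)) (hsup i) =
      rs hM (C p q (t i)) (hsup i) + 1 := by
    intro i
    ext v
    exact (F_eq_self_iff (htm i).2).mp (hpr p hp q hq (t i) (htm i).1 (htm i).2 v v.2)
  refine ⟨fun i => rs hM (C p q (t i)) (hsup i), ⟨hsq, ?_⟩, fun ω hω i => hω _ _⟩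
  intro i j hij
  refine comm_of_sq (hsq i) (hsq j) ?_
  ext v
  show C p q (t i) • C p q (t j) • C p q (t i) • C p q (t j) • (v : V) = v
  rw [← mul_smul, ← mul_smul, ← mul_smul, mul_assoc (C p q (t i) * C p q (t j)),
    C_mul_C_sq (htm i).2 (htm j).2 (ht.ne hij), one_smul]

theorem pure_nine [Finite V] (hM : Inv S M) (hpr : Pr S M) (hS : 9 ≤ S.card) : ∃ y, Nat.card M = y ^ 8 := by
  obtain ⟨X, hX, -⟩ := exists_xs hM hpr 7 hS
  exact hX.nine

theorem pure_ten [Finite V] (hM : Inv S M) (hpr : Pr S M) (hS : 10 ≤ S.card) (h1 : 1 < Nat.card M) :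
    2 ^ 16 ≤ Nat.card M := by
  obtain ⟨X, hX, -⟩ := exists_xs hM hpr 8 hS
  obtain ⟨K, hK, -⟩ := hX.ten
  have h2 : 2 ≤ Nat.card K := by
    by_contra hn
    have h4 : Nat.card K ≤ 1 := by omega
    have := Nat.pow_le_pow_left h4 16
    omega
  rw [hK]
  exact Nat.pow_le_pow_left h2 16

theorem Mod4.pure_ten [Finite V] {ω : V →+ V} (h : Mod4 S M ω) (hpr : Pr S M) (hS : 10 ≤ S.card)
    (h1 : 1 < Nat.card M) : 4 ^ 16 ≤ Nat.card M := by
  obtain ⟨X, hX, hX'⟩ := exists_xs h.inv hpr 8 hS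
  obtain ⟨K, hK, hK'⟩ := hX.ten
  have h2 : 1 < Nat.card K := by
    by_contra hn
    have h4 : Nat.card K ≤ 1 := by omega
    have := Nat.pow_le_pow_left h4 16
    omega
  let ω' : AddMonoid.End M :=
    { toFun := fun v => ⟨ω v, h.mem v v.2⟩
      map_zero' := Subtype.ext (map_zero ω)
      map_add' := fun v w => Subtype.ext (map_add ω (v : V) w) }
  have h3 : Om K ω' := by
    refine ⟨hK' ω' (hX' ω' ?_), ?_⟩
    · intro g hg
      ext v
      exact (h.comm g hg v v.2).symm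
    · intro v _
      exact Subtype.ext (h.sq v v.2)
  obtain ⟨x, hx, hx0⟩ := exists_ne_of_card h2
  rw [hK]
  exact Nat.pow_le_pow_left (h3.four_le hx hx0) 16

end Mod

end Cfsg.Agent.Omega.TwoF.AltPure
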