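import Cfsg.Agent.Omega.TwoF.RowTool
import Cfsg.Agent.Omega.KFacts
import Cfsg.Agent.CoThreeStd.M12.Out
import Cfsg.Agent.MTwelveType.SylowModel

/-!
# TABLE 2F: the row M12

`m_2(Aut M12) ≤ 4`: the Sylow 2-subgroup of `M12` (order 64) has rank 3 and `|Out M12| ≤ 2`.
-/

set_option autoImplicit false

namespace Cfsg.Agent.Omega.TwoF.RowM12

open Subgroup Cfsg Cfsg.Agent.ClassificationK.GTwoModel

universe u

/-- the Sylow 2-subgroup of `M12` -/
abbrev T4 := T (2 * 2)

instance : Fintype T4 := Fintype.ofEquiv _ (T.equivProd (2 * 2)).symm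

instance : DecidableEq T4 := fun a b =>
  decidable_of_iff (T.equivProd (2 * 2) a = T.equivProd (2 * 2) b) (T.equivProd (2 * 2)).injective.eq_iff

/-- the elements of order at most 2 of the homocyclic subgroup -/
def om : Finset T4 := {1, T.z 2, T.a' 2, T.b' 2}

theorem e_mul : ∀ x y : T4, x.e = y.e → x.d = y.d → (x * y).e = false ∧ (x * y).d = false := by decide +kernel

theorem omega : ∀ y : T4, y.e = false → y.d = false → y * y = 1 → y ∈ om := by decide +kernel

theorem omega_cent : ∀ x : T4, x.d = true → ∀ y : T4, y.e = false → y.d = false → y * y = 1 → x * y = y * x →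
    y ∈ ({1, T.z 2} : Finset T4) := by decide +kernel

theorem card_le (B : Subgroup T4) (hB : Rk.El B) : Nat.card B ≤ 2 ^ 3 := by
  classical
  set s : Finset T4 := Finset.univ.filter (· ∈ B) with hs
  have hmem : ∀ x, x ∈ s ↔ x ∈ B := fun x => by simp [hs]
  have hcard : Nat.card B = s.card := by
    rw [Nat.card_eq_fintype_card]
    exact Fintype.card_of_subtype s hmem
  have hcomm : ∀ x ∈ B, ∀ y ∈ B, x * y = y * x := by
    intro x hx y hy
    have h1 := hB (x * y) (B.mul_mem hx hy)
    have h2 : x = x⁻¹ := eq_inv_of_mul_eq_one_left (hB x hx)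
    have h3 : y = y⁻¹ := eq_inv_of_mul_eq_one_left (hB y hy)
    have h4 : x * y = (x * y)⁻¹ := eq_inv_of_mul_eq_one_left h1
    rw [mul_inv_rev, ← h2, ← h3] at h4
    exact h4
  -- fibres
  have fib : ∀ (f : T4 → Bool × Bool) (o : Finset T4), (∀ x ∈ B, ∀ y ∈ B, f x = f y → x * y ∈ o) →
      s.card ≤ o.card * (s.image f).card := by
    intro f o ho
    apply Finset.card_le_mul_card_image
    intro a ha
    obtain ⟨x, hx, rfl⟩ := Finset.mem_image.1 ha
    refine Finset.card_le_card_of_injOn (fun y => x * y) ?_ ?_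
    · intro y hy
      obtain ⟨hy1, hy2⟩ := Finset.mem_filter.1 hy
      exact ho x ((hmem x).1 hx) y ((hmem y).1 hy1) hy2.symm
    · intro y _ y' _ h
      exact mul_left_cancel h
  rw [hcard]
  by_cases hd : ∃ x ∈ B, x.d = true
  · obtain ⟨x, hx, hxd⟩ := hd
    refine (fib (fun y => (y.e, y.d)) {1, T.z 2} ?_).trans ?_
    · intro y hy y' hy' h
      have h1 : y.e = y'.e := (Prod.ext_iff.1 h).1
      have h2 : y.d = y'.d := (Prod.ext_iff.1 h).2
      obtain ⟨h3, h4⟩ := e_mul y y' h1 h2
      exact omega_cent x hxd _ h3 h4 (hB _ (B.mul_mem hy hy')) (hcomm _ hx _ (B.mul_mem hy hy'))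
    · calc ({1, T.z 2} : Finset T4).card * (s.image fun y => (y.e, y.d)).card
          ≤ 2 * 4 := Nat.mul_le_mul Finset.card_le_two (Finset.card_le_univ _)
        _ = 2 ^ 3 := by norm_num
  · push Not at hd
    refine (fib (fun y => (y.e, false)) om ?_).trans ?_
    · intro y hy y' hy' h
      have h1 : y.e = y'.e := (Prod.ext_iff.1 h).1
      have h5 : y.d = false := by simpa using hd y hy
      have h6 : y'.d = false := by simpa using hd y' hy'
      obtain ⟨h3, h4⟩ := e_mul y y' h1 (h5.trans h6.symm)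
      exact omega _ h3 h4 (hB _ (B.mul_mem hy hy'))
    · have h1 : (s.image fun y => (y.e, false)) ⊆ ({(true, false), (false, false)} : Finset (Bool × Bool)) := by
        intro a ha
        obtain ⟨x, _, rfl⟩ := Finset.mem_image.1 ha
        cases x.e <;> simp
      calc om.card * (s.image fun y => (y.e, false)).card
          ≤ 4 * 2 := Nat.mul_le_mul Finset.card_le_four ((Finset.card_le_card h1).trans Finset.card_le_two)
        _ = 2 ^ 3 := by norm_num

theorem card_M12 : Nat.card Spor.M12 = 95040 := Cfsg.Agent.MTwelveType.SylowModel.card_M12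

instance : Finite Spor.M12 := Nat.finite_of_card_ne_zero (by rw [card_M12]; norm_num)

theorem center_eq : center Spor.M12 = ⊥ := by
  rw [eq_bot_iff]
  intro x hx
  rw [mem_bot]
  have h1 : CoThreeStd.M12.equiv x ∈ center _ := by
    rw [mem_center_iff] at hx ⊢
    intro g
    obtain ⟨g, rfl⟩ := CoThreeStd.M12.equiv.surjective g
    rw [← map_mul, ← map_mul, hx g]
  rw [CoThreeStd.M12.Out.center_eq_bot, mem_bot] at h1
  exact CoThreeStd.M12.equiv.injective (h1.trans (map_one _).symm)

theorem index_dvd : (MulAut.conj : Spor.M12 →* MulAut Spor.M12).range.index ∣ 2 := by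
  set R := (MulAut.conj : Spor.M12 →* MulAut Spor.M12).range with hR
  by_cases h : ∃ φ, φ ∉ R
  · obtain ⟨φ, hφ⟩ := h
    rw [index_eq_two_iff.2 ⟨φ, fun ψ => ?_⟩]
    by_cases hψ : ψ ∈ R
    · exact Or.inr ⟨hψ, fun h => hφ ((R.mul_mem_cancel_left hψ).1 h)⟩
    · exact Or.inl ⟨CoThreeStd.M12.Out.out_spor hψ hφ, hψ⟩
  · push Not at h
    have h1 : R = ⊤ := eq_top_iff.2 fun x _ => h x
    rw [h1, index_top]
    exact one_dvd _

/-- **RK**: `m_2(Aut M12) ≤ 4`. -/
theorem rk : RK Spor.M12 4 := by
  apply RowTool.toRK center_eq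
  have : Finite (MulAut Spor.M12) := Finite.of_injective (fun φ => (φ : Spor.M12 → Spor.M12)) DFunLike.coe_injective
  obtain ⟨P⟩ : Nonempty (Sylow 2 Spor.M12) := inferInstance
  obtain ⟨e⟩ := Cfsg.Agent.MTwelveType.SylowModel.exists_equiv P
  refine Rk.rk_of_subgroup (e := 7) (t := 6) (m := 3) ?_ (P : Subgroup Spor.M12) ?_ ?_ (by norm_num)
  · apply RowTool.factorization_mulAut center_eq (e := 6)
    · intro h
      have h1 := Nat.le_of_dvd (by norm_num) (h.trans index_dvd)
      omega
    · rw [card_M12]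
      by_contra hcon
      have h1 : 2 ^ 7 ∣ 95040 := (Nat.prime_two.pow_dvd_iff_le_factorization (by norm_num)).2 (by omega)
      norm_num at h1
  · rw [← Nat.card_congr e.toEquiv, T.card_T]
    norm_num
  · intro B hB hBe
    have h1 : Nat.card B = Nat.card ((B.subgroupOf (P : Subgroup Spor.M12)).map e.symm.toMonoidHom) := by
      rw [← Nat.card_congr ((B.subgroupOf _).equivMapOfInjective e.symm.toMonoidHom e.symm.injective).toEquiv]
      exact Nat.card_congr (subgroupOfEquivOfLe hB).symm.toEquiv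
    rw [h1]
    apply card_le
    rintro _ ⟨b, hb, rfl⟩
    show e.symm b * e.symm b = 1
    rw [← map_mul, ← map_one e.symm]
    congr 1
    exact Subtype.ext (hBe b hb)

theorem dead {K : Type u} [Group K] (h : Spor.IsoM12 K) : Dead2.{u} K := by
  obtain ⟨e⟩ := h
  exact Dead2.of_rk (rk.equiv e)

theorem row : KFacts.KillRow.{u} @Spor.IsoM12 := by
  intro K _ h
  have hd := dead h
  obtain ⟨e⟩ := h
  refine hd.kill ?_ ?_
  · rw [eq_bot_iff]
    intro x hx
    rw [mem_bot]
    have h1 : e x ∈ center _ := by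
      rw [mem_center_iff] at hx ⊢
      intro g
      obtain ⟨g, rfl⟩ := e.surjective g
      rw [← map_mul, ← map_mul, hx g]
    rw [center_eq, mem_bot] at h1
    exact e.injective (h1.trans (map_one _).symm)
  · have h1 : Nat.card K = 95040 := (Nat.card_congr e.toEquiv).trans card_M12
    have : Finite K := Nat.finite_of_card_ne_zero (by rw [h1]; norm_num)
    exact Finite.one_lt_card_iff_nontrivial.1 (by rw [h1]; norm_num)

end Cfsg.Agent.Omega.TwoF.RowM12
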