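import Cfsg.Agent.CoOneType.CoEval

/-!
# A Frobenius group `7² : SL₂(3)` in `Co₁`: the matrices

Four elements `a`, `b`, `u`, `v` of `Co₀` (24 × 24 integer matrices divided by 8): `a`, `b` commute and have order 7,
`u a u⁻¹ = a²`, `u b u⁻¹ = a⁶ b⁴`, `v a v⁻¹ = b`, `v b v⁻¹ = a⁻¹` in `Co₁`.  Generated by a script; checked by the kernel.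
-/

set_option autoImplicit false
set_option maxRecDepth 100000

namespace Cfsg.Agent.Omega.TwoF.Co1Mat

open Cfsg Cfsg.Agent.SporadicStructure.Co0Matrix Cfsg.Agent.CoOneType.CoEval

/-- rows of `a` -/
def rA : List (List ℤ) := [
  [0, 0, 0, 0, 0, 0, 0, 0, 0, 0, 0, 0, 0, 0, 0, 0, 8, 0, 0, 0, 0, 0, 0, 0],
  [0, 0, 0, 0, 0, 0, 0, 0, 0, 0, 0, 0, 8, 0, 0, 0, 0, 0, 0, 0, 0, 0, 0, 0],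
  [0, 0, 0, 0, 0, 0, 0, 0, 0, 0, 0, 0, 0, 0, 0, 0, 0, 0, 0, 8, 0, 0, 0, 0],
  [0, 0, 0, 0, 0, 0, 0, 0, 0, 0, 0, 0, 0, 0, 0, 0, 0, 0, 0, 0, 0, 0, 0, 8],
  [0, 0, 0, 0, 0, 0, 0, 0, 0, 0, 0, 8, 0, 0, 0, 0, 0, 0, 0, 0, 0, 0, 0, 0],
  [0, 0, 0, 0, 0, 0, 8, 0, 0, 0, 0, 0, 0, 0, 0, 0, 0, 0, 0, 0, 0, 0, 0, 0],
  [0, 0, 0, 0, 0, 0, 0, 0, 8, 0, 0, 0, 0, 0, 0, 0, 0, 0, 0, 0, 0, 0, 0, 0],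
  [0, 0, 0, 0, 0, 0, 0, 0, 0, 0, 0, 0, 0, 0, 0, 0, 0, 0, 8, 0, 0, 0, 0, 0],
  [8, 0, 0, 0, 0, 0, 0, 0, 0, 0, 0, 0, 0, 0, 0, 0, 0, 0, 0, 0, 0, 0, 0, 0],
  [0, 0, 8, 0, 0, 0, 0, 0, 0, 0, 0, 0, 0, 0, 0, 0, 0, 0, 0, 0, 0, 0, 0, 0],
  [0, 0, 0, 0, 0, 0, 0, 0, 0, 0, 0, 0, 0, 0, 0, 8, 0, 0, 0, 0, 0, 0, 0, 0],
  [0, 0, 0, 0, 0, 0, 0, 0, 0, 0, 0, 0, 0, 0, 0, 0, 0, 0, 0, 0, 0, 0, 8, 0],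
  [0, 0, 0, 8, 0, 0, 0, 0, 0, 0, 0, 0, 0, 0, 0, 0, 0, 0, 0, 0, 0, 0, 0, 0],
  [0, 0, 0, 0, 0, 0, 0, 0, 0, 0, 0, 0, 0, 8, 0, 0, 0, 0, 0, 0, 0, 0, 0, 0],
  [0, 0, 0, 0, 0, 0, 0, 0, 0, 0, 0, 0, 0, 0, 8, 0, 0, 0, 0, 0, 0, 0, 0, 0],
  [0, 0, 0, 0, 0, 8, 0, 0, 0, 0, 0, 0, 0, 0, 0, 0, 0, 0, 0, 0, 0, 0, 0, 0],
  [0, 0, 0, 0, 0, 0, 0, 0, 0, 0, 8, 0, 0, 0, 0, 0, 0, 0, 0, 0, 0, 0, 0, 0],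
  [0, 0, 0, 0, 0, 0, 0, 8, 0, 0, 0, 0, 0, 0, 0, 0, 0, 0, 0, 0, 0, 0, 0, 0],
  [0, 0, 0, 0, 8, 0, 0, 0, 0, 0, 0, 0, 0, 0, 0, 0, 0, 0, 0, 0, 0, 0, 0, 0],
  [0, 8, 0, 0, 0, 0, 0, 0, 0, 0, 0, 0, 0, 0, 0, 0, 0, 0, 0, 0, 0, 0, 0, 0],
  [0, 0, 0, 0, 0, 0, 0, 0, 0, 0, 0, 0, 0, 0, 0, 0, 0, 0, 0, 0, 8, 0, 0, 0],
  [0, 0, 0, 0, 0, 0, 0, 0, 0, 0, 0, 0, 0, 0, 0, 0, 0, 8, 0, 0, 0, 0, 0, 0],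
  [0, 0, 0, 0, 0, 0, 0, 0, 0, 0, 0, 0, 0, 0, 0, 0, 0, 0, 0, 0, 0, 8, 0, 0],
  [0, 0, 0, 0, 0, 0, 0, 0, 0, 8, 0, 0, 0, 0, 0, 0, 0, 0, 0, 0, 0, 0, 0, 0]]

/-- columns of `a` -/
def cA : List (List ℤ) := [
  [0, 0, 0, 0, 0, 0, 0, 0, 8, 0, 0, 0, 0, 0, 0, 0, 0, 0, 0, 0, 0, 0, 0, 0],
  [0, 0, 0, 0, 0, 0, 0, 0, 0, 0, 0, 0, 0, 0, 0, 0, 0, 0, 0, 8, 0, 0, 0, 0],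
  [0, 0, 0, 0, 0, 0, 0, 0, 0, 8, 0, 0, 0, 0, 0, 0, 0, 0, 0, 0, 0, 0, 0, 0],
  [0, 0, 0, 0, 0, 0, 0, 0, 0, 0, 0, 0, 8, 0, 0, 0, 0, 0, 0, 0, 0, 0, 0, 0],
  [0, 0, 0, 0, 0, 0, 0, 0, 0, 0, 0, 0, 0, 0, 0, 0, 0, 0, 8, 0, 0, 0, 0, 0],
  [0, 0, 0, 0, 0, 0, 0, 0, 0, 0, 0, 0, 0, 0, 0, 8, 0, 0, 0, 0, 0, 0, 0, 0],
  [0, 0, 0, 0, 0, 8, 0, 0, 0, 0, 0, 0, 0, 0, 0, 0, 0, 0, 0, 0, 0, 0, 0, 0],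
  [0, 0, 0, 0, 0, 0, 0, 0, 0, 0, 0, 0, 0, 0, 0, 0, 0, 8, 0, 0, 0, 0, 0, 0],
  [0, 0, 0, 0, 0, 0, 8, 0, 0, 0, 0, 0, 0, 0, 0, 0, 0, 0, 0, 0, 0, 0, 0, 0],
  [0, 0, 0, 0, 0, 0, 0, 0, 0, 0, 0, 0, 0, 0, 0, 0, 0, 0, 0, 0, 0, 0, 0, 8],
  [0, 0, 0, 0, 0, 0, 0, 0, 0, 0, 0, 0, 0, 0, 0, 0, 8, 0, 0, 0, 0, 0, 0, 0],
  [0, 0, 0, 0, 8, 0, 0, 0, 0, 0, 0, 0, 0, 0, 0, 0, 0, 0, 0, 0, 0, 0, 0, 0],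
  [0, 8, 0, 0, 0, 0, 0, 0, 0, 0, 0, 0, 0, 0, 0, 0, 0, 0, 0, 0, 0, 0, 0, 0],
  [0, 0, 0, 0, 0, 0, 0, 0, 0, 0, 0, 0, 0, 8, 0, 0, 0, 0, 0, 0, 0, 0, 0, 0],
  [0, 0, 0, 0, 0, 0, 0, 0, 0, 0, 0, 0, 0, 0, 8, 0, 0, 0, 0, 0, 0, 0, 0, 0],
  [0, 0, 0, 0, 0, 0, 0, 0, 0, 0, 8, 0, 0, 0, 0, 0, 0, 0, 0, 0, 0, 0, 0, 0],
  [8, 0, 0, 0, 0, 0, 0, 0, 0, 0, 0, 0, 0, 0, 0, 0, 0, 0, 0, 0, 0, 0, 0, 0],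
  [0, 0, 0, 0, 0, 0, 0, 0, 0, 0, 0, 0, 0, 0, 0, 0, 0, 0, 0, 0, 0, 8, 0, 0],
  [0, 0, 0, 0, 0, 0, 0, 8, 0, 0, 0, 0, 0, 0, 0, 0, 0, 0, 0, 0, 0, 0, 0, 0],
  [0, 0, 8, 0, 0, 0, 0, 0, 0, 0, 0, 0, 0, 0, 0, 0, 0, 0, 0, 0, 0, 0, 0, 0],
  [0, 0, 0, 0, 0, 0, 0, 0, 0, 0, 0, 0, 0, 0, 0, 0, 0, 0, 0, 0, 8, 0, 0, 0],
  [0, 0, 0, 0, 0, 0, 0, 0, 0, 0, 0, 0, 0, 0, 0, 0, 0, 0, 0, 0, 0, 0, 8, 0],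
  [0, 0, 0, 0, 0, 0, 0, 0, 0, 0, 0, 8, 0, 0, 0, 0, 0, 0, 0, 0, 0, 0, 0, 0],
  [0, 0, 0, 8, 0, 0, 0, 0, 0, 0, 0, 0, 0, 0, 0, 0, 0, 0, 0, 0, 0, 0, 0, 0]]

/-- rows of `b` -/
def rB : List (List ℤ) := [
  [2, 0, 0, 0, 0, 2, -2, 0, -2, 0, 2, 0, 0, 0, 0, 2, -2, 0, 0, 0, -2, 0, -4, 4],
  [0, 2, -2, 2, -2, 0, 0, -2, 0, -2, 0, 2, -2, -2, -2, 0, 0, -2, 2, -2, 0, -2, 2, 2],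
  [0, 2, 2, -2, 2, 0, 0, -2, 0, -2, 0, -2, 2, -2, -2, 0, 0, 2, 2, -2, 0, -2, -2, -2],
  [0, -2, 2, 2, -2, 0, 0, -2, 0, 2, 0, 2, -2, -2, -2, 0, 0, 2, -2, -2, 0, 2, -2, -2],
  [2, 0, 4, 0, 0, -2, -2, 0, -2, 0, -2, 0, 0, 0, 0, 2, 2, -4, 0, 0, 2, 0, 0, 0],
  [2, 4, 0, 0, 0, 2, -2, 0, 2, 0, -2, 0, 0, 0, 0, -2, 2, 0, -4, 0, -2, 0, 0, 0],
  [2, 0, 0, 0, -4, -2, 2, 0, -2, 0, 2, 0, 4, 0, 0, -2, 2, 0, 0, 0, -2, 0, 0, 0],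
  [-2, 0, 0, 0, 0, -2, 2, 0, 2, 0, -2, 0, 0, 0, 0, -2, 2, 0, 0, 0, 2, 0, -4, 4],
  [-2, 0, 0, 4, 0, -2, -2, 0, 2, 0, 2, -4, 0, 0, 0, 2, 2, 0, 0, 0, -2, 0, 0, 0],
  [0, 2, -2, -2, -2, 0, 0, 2, 0, 2, 0, -2, -2, -2, -2, 0, 0, -2, 2, 2, 0, 2, -2, -2],
  [-2, 0, 4, 0, 0, 2, 2, 0, 2, 0, 2, 0, 0, 0, 0, -2, -2, -4, 0, 0, -2, 0, 0, 0],
  [-2, 0, 0, 0, 0, 2, -2, -4, -2, 0, 2, 0, 0, 0, 0, -2, 2, 0, 0, 4, 2, 0, 0, 0],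
  [0, -2, -2, -2, 2, 0, 0, -2, 0, 2, 0, -2, 2, -2, -2, 0, 0, -2, -2, -2, 0, 2, 2, 2],
  [0, 2, 2, 2, 2, 0, 0, 2, 0, 2, 0, 2, 2, -2, -2, 0, 0, 2, 2, 2, 0, 2, 2, 2],
  [-2, 0, 0, 0, 0, -2, -2, 0, -2, 0, -2, 0, 0, 4, -4, -2, -2, 0, 0, 0, -2, 0, 0, 0],
  [2, 0, 0, 0, 0, -2, 2, -4, 2, 0, -2, 0, 0, 0, 0, 2, -2, 0, 0, 4, -2, 0, 0, 0],
  [-2, 0, 0, 0, 0, 2, 2, 0, -2, 4, -2, 0, 0, 0, 0, 2, 2, 0, 0, 0, -2, -4, 0, 0],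
  [2, 0, 0, 4, 0, 2, 2, 0, -2, 0, -2, -4, 0, 0, 0, -2, -2, 0, 0, 0, 2, 0, 0, 0],
  [2, 0, 0, 0, 0, -2, -2, 0, 2, 4, 2, 0, 0, 0, 0, -2, -2, 0, 0, 0, 2, -4, 0, 0],
  [0, -2, -2, 2, 2, 0, 0, 2, 0, -2, 0, 2, 2, -2, -2, 0, 0, -2, -2, 2, 0, -2, -2, -2],
  [2, 0, 0, 0, 0, 2, 2, 0, 2, 0, 2, 0, 0, 4, -4, 2, 2, 0, 0, 0, 2, 0, 0, 0],
  [-2, 0, 0, 0, -4, 2, -2, 0, 2, 0, -2, 0, 4, 0, 0, 2, -2, 0, 0, 0, 2, 0, 0, 0],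
  [-2, 4, 0, 0, 0, -2, 2, 0, -2, 0, 2, 0, 0, 0, 0, 2, -2, 0, -4, 0, 2, 0, 0, 0],
  [0, -2, 2, -2, -2, 0, 0, 2, 0, -2, 0, -2, -2, -2, -2, 0, 0, 2, -2, 2, 0, -2, 2, 2]]

/-- columns of `b` -/
def cB : List (List ℤ) := [
  [2, 0, 0, 0, 2, 2, 2, -2, -2, 0, -2, -2, 0, 0, -2, 2, -2, 2, 2, 0, 2, -2, -2, 0],
  [0, 2, 2, -2, 0, 4, 0, 0, 0, 2, 0, 0, -2, 2, 0, 0, 0, 0, 0, -2, 0, 0, 4, -2],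
  [0, -2, 2, 2, 4, 0, 0, 0, 0, -2, 4, 0, -2, 2, 0, 0, 0, 0, 0, -2, 0, 0, 0, 2],
  [0, 2, -2, 2, 0, 0, 0, 0, 4, -2, 0, 0, -2, 2, 0, 0, 0, 4, 0, 2, 0, 0, 0, -2],
  [0, -2, 2, -2, 0, 0, -4, 0, 0, -2, 0, 0, 2, 2, 0, 0, 0, 0, 0, 2, 0, -4, 0, -2],
  [2, 0, 0, 0, -2, 2, -2, -2, -2, 0, 2, 2, 0, 0, -2, -2, 2, 2, -2, 0, 2, 2, -2, 0],
  [-2, 0, 0, 0, -2, -2, 2, 2, -2, 0, 2, -2, 0, 0, -2, 2, 2, 2, -2, 0, 2, -2, 2, 0],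
  [0, -2, -2, -2, 0, 0, 0, 0, 0, 2, 0, -4, -2, 2, 0, -4, 0, 0, 0, 2, 0, 0, 0, 2],
  [-2, 0, 0, 0, -2, 2, -2, 2, 2, 0, 2, -2, 0, 0, -2, 2, -2, -2, 2, 0, 2, 2, -2, 0],
  [0, -2, -2, 2, 0, 0, 0, 0, 0, 2, 0, 0, 2, 2, 0, 0, 4, 0, 4, -2, 0, 0, 0, -2],
  [2, 0, 0, 0, -2, -2, 2, -2, 2, 0, 2, 2, 0, 0, -2, -2, -2, -2, 2, 0, 2, -2, 2, 0],
  [0, 2, -2, 2, 0, 0, 0, 0, -4, -2, 0, 0, -2, 2, 0, 0, 0, -4, 0, 2, 0, 0, 0, -2],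
  [0, -2, 2, -2, 0, 0, 4, 0, 0, -2, 0, 0, 2, 2, 0, 0, 0, 0, 0, 2, 0, 4, 0, -2],
  [0, -2, -2, -2, 0, 0, 0, 0, 0, -2, 0, 0, -2, -2, 4, 0, 0, 0, 0, -2, 4, 0, 0, -2],
  [0, -2, -2, -2, 0, 0, 0, 0, 0, -2, 0, 0, -2, -2, -4, 0, 0, 0, 0, -2, -4, 0, 0, -2],
  [2, 0, 0, 0, 2, -2, -2, -2, 2, 0, -2, -2, 0, 0, -2, 2, 2, -2, -2, 0, 2, 2, 2, 0],
  [-2, 0, 0, 0, 2, 2, 2, 2, 2, 0, -2, 2, 0, 0, -2, -2, 2, -2, -2, 0, 2, -2, -2, 0],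
  [0, -2, 2, 2, -4, 0, 0, 0, 0, -2, -4, 0, -2, 2, 0, 0, 0, 0, 0, -2, 0, 0, 0, 2],
  [0, 2, 2, -2, 0, -4, 0, 0, 0, 2, 0, 0, -2, 2, 0, 0, 0, 0, 0, -2, 0, 0, -4, -2],
  [0, -2, -2, -2, 0, 0, 0, 0, 0, 2, 0, 4, -2, 2, 0, 4, 0, 0, 0, 2, 0, 0, 0, 2],
  [-2, 0, 0, 0, 2, -2, -2, 2, -2, 0, -2, 2, 0, 0, -2, -2, -2, 2, 2, 0, 2, 2, 2, 0],
  [0, -2, -2, 2, 0, 0, 0, 0, 0, 2, 0, 0, 2, 2, 0, 0, -4, 0, -4, -2, 0, 0, 0, -2],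
  [-4, 2, -2, -2, 0, 0, 0, -4, 0, -2, 0, 0, 2, 2, 0, 0, 0, 0, 0, -2, 0, 0, 0, 2],
  [4, 2, -2, -2, 0, 0, 0, 4, 0, -2, 0, 0, 2, 2, 0, 0, 0, 0, 0, -2, 0, 0, 0, 2]]

/-- rows of `u` -/
def rU : List (List ℤ) := [
  [0, 0, 0, 0, 0, 0, 0, 0, 0, 0, 0, 8, 0, 0, 0, 0, 0, 0, 0, 0, 0, 0, 0, 0],
  [8, 0, 0, 0, 0, 0, 0, 0, 0, 0, 0, 0, 0, 0, 0, 0, 0, 0, 0, 0, 0, 0, 0, 0],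
  [0, 0, 0, 0, 0, 0, 0, 0, 8, 0, 0, 0, 0, 0, 0, 0, 0, 0, 0, 0, 0, 0, 0, 0],
  [0, 0, 0, 0, 0, 0, 0, 0, 0, 0, 0, 0, 0, 0, 0, 0, 8, 0, 0, 0, 0, 0, 0, 0],
  [0, 0, 0, 0, 0, 0, 0, 0, 0, 0, 0, 0, 0, 0, 0, 0, 0, 0, 0, 0, 0, 0, 0, 8],
  [0, 0, 0, 0, 0, 0, 0, 0, 0, 0, 0, 0, 0, 0, 0, 0, 0, 0, 0, 0, 0, 8, 0, 0],
  [0, 0, 0, 0, 8, 0, 0, 0, 0, 0, 0, 0, 0, 0, 0, 0, 0, 0, 0, 0, 0, 0, 0, 0],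
  [0, 0, 0, 8, 0, 0, 0, 0, 0, 0, 0, 0, 0, 0, 0, 0, 0, 0, 0, 0, 0, 0, 0, 0],
  [0, 0, 0, 0, 0, 0, 0, 0, 0, 0, 0, 0, 0, 0, 0, 0, 0, 8, 0, 0, 0, 0, 0, 0],
  [0, 0, 0, 0, 0, 0, 0, 0, 0, 0, 8, 0, 0, 0, 0, 0, 0, 0, 0, 0, 0, 0, 0, 0],
  [0, 0, 0, 0, 0, 0, 0, 0, 0, 0, 0, 0, 0, 0, 0, 0, 0, 0, 0, 0, 0, 0, 8, 0],
  [0, 8, 0, 0, 0, 0, 0, 0, 0, 0, 0, 0, 0, 0, 0, 0, 0, 0, 0, 0, 0, 0, 0, 0],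
  [0, 0, 0, 0, 0, 8, 0, 0, 0, 0, 0, 0, 0, 0, 0, 0, 0, 0, 0, 0, 0, 0, 0, 0],
  [0, 0, 0, 0, 0, 0, 0, 0, 0, 0, 0, 0, 0, 0, 0, 0, 0, 0, 0, 0, 8, 0, 0, 0],
  [0, 0, 0, 0, 0, 0, 0, 0, 0, 0, 0, 0, 0, 8, 0, 0, 0, 0, 0, 0, 0, 0, 0, 0],
  [0, 0, 0, 0, 0, 0, 0, 0, 0, 0, 0, 0, 0, 0, 0, 0, 0, 0, 8, 0, 0, 0, 0, 0],
  [0, 0, 0, 0, 0, 0, 0, 8, 0, 0, 0, 0, 0, 0, 0, 0, 0, 0, 0, 0, 0, 0, 0, 0],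
  [0, 0, 8, 0, 0, 0, 0, 0, 0, 0, 0, 0, 0, 0, 0, 0, 0, 0, 0, 0, 0, 0, 0, 0],
  [0, 0, 0, 0, 0, 0, 0, 0, 0, 0, 0, 0, 0, 0, 0, 0, 0, 0, 0, 8, 0, 0, 0, 0],
  [0, 0, 0, 0, 0, 0, 0, 0, 0, 0, 0, 0, 0, 0, 0, 8, 0, 0, 0, 0, 0, 0, 0, 0],
  [0, 0, 0, 0, 0, 0, 0, 0, 0, 0, 0, 0, 0, 0, 8, 0, 0, 0, 0, 0, 0, 0, 0, 0],
  [0, 0, 0, 0, 0, 0, 0, 0, 0, 0, 0, 0, 8, 0, 0, 0, 0, 0, 0, 0, 0, 0, 0, 0],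
  [0, 0, 0, 0, 0, 0, 0, 0, 0, 8, 0, 0, 0, 0, 0, 0, 0, 0, 0, 0, 0, 0, 0, 0],
  [0, 0, 0, 0, 0, 0, 8, 0, 0, 0, 0, 0, 0, 0, 0, 0, 0, 0, 0, 0, 0, 0, 0, 0]]

/-- columns of `u` -/
def cU : List (List ℤ) := [
  [0, 8, 0, 0, 0, 0, 0, 0, 0, 0, 0, 0, 0, 0, 0, 0, 0, 0, 0, 0, 0, 0, 0, 0],
  [0, 0, 0, 0, 0, 0, 0, 0, 0, 0, 0, 8, 0, 0, 0, 0, 0, 0, 0, 0, 0, 0, 0, 0],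
  [0, 0, 0, 0, 0, 0, 0, 0, 0, 0, 0, 0, 0, 0, 0, 0, 0, 8, 0, 0, 0, 0, 0, 0],
  [0, 0, 0, 0, 0, 0, 0, 8, 0, 0, 0, 0, 0, 0, 0, 0, 0, 0, 0, 0, 0, 0, 0, 0],
  [0, 0, 0, 0, 0, 0, 8, 0, 0, 0, 0, 0, 0, 0, 0, 0, 0, 0, 0, 0, 0, 0, 0, 0],
  [0, 0, 0, 0, 0, 0, 0, 0, 0, 0, 0, 0, 8, 0, 0, 0, 0, 0, 0, 0, 0, 0, 0, 0],
  [0, 0, 0, 0, 0, 0, 0, 0, 0, 0, 0, 0, 0, 0, 0, 0, 0, 0, 0, 0, 0, 0, 0, 8],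
  [0, 0, 0, 0, 0, 0, 0, 0, 0, 0, 0, 0, 0, 0, 0, 0, 8, 0, 0, 0, 0, 0, 0, 0],
  [0, 0, 8, 0, 0, 0, 0, 0, 0, 0, 0, 0, 0, 0, 0, 0, 0, 0, 0, 0, 0, 0, 0, 0],
  [0, 0, 0, 0, 0, 0, 0, 0, 0, 0, 0, 0, 0, 0, 0, 0, 0, 0, 0, 0, 0, 0, 8, 0],
  [0, 0, 0, 0, 0, 0, 0, 0, 0, 8, 0, 0, 0, 0, 0, 0, 0, 0, 0, 0, 0, 0, 0, 0],
  [8, 0, 0, 0, 0, 0, 0, 0, 0, 0, 0, 0, 0, 0, 0, 0, 0, 0, 0, 0, 0, 0, 0, 0],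
  [0, 0, 0, 0, 0, 0, 0, 0, 0, 0, 0, 0, 0, 0, 0, 0, 0, 0, 0, 0, 0, 8, 0, 0],
  [0, 0, 0, 0, 0, 0, 0, 0, 0, 0, 0, 0, 0, 0, 8, 0, 0, 0, 0, 0, 0, 0, 0, 0],
  [0, 0, 0, 0, 0, 0, 0, 0, 0, 0, 0, 0, 0, 0, 0, 0, 0, 0, 0, 0, 8, 0, 0, 0],
  [0, 0, 0, 0, 0, 0, 0, 0, 0, 0, 0, 0, 0, 0, 0, 0, 0, 0, 0, 8, 0, 0, 0, 0],
  [0, 0, 0, 8, 0, 0, 0, 0, 0, 0, 0, 0, 0, 0, 0, 0, 0, 0, 0, 0, 0, 0, 0, 0],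
  [0, 0, 0, 0, 0, 0, 0, 0, 8, 0, 0, 0, 0, 0, 0, 0, 0, 0, 0, 0, 0, 0, 0, 0],
  [0, 0, 0, 0, 0, 0, 0, 0, 0, 0, 0, 0, 0, 0, 0, 8, 0, 0, 0, 0, 0, 0, 0, 0],
  [0, 0, 0, 0, 0, 0, 0, 0, 0, 0, 0, 0, 0, 0, 0, 0, 0, 0, 8, 0, 0, 0, 0, 0],
  [0, 0, 0, 0, 0, 0, 0, 0, 0, 0, 0, 0, 0, 8, 0, 0, 0, 0, 0, 0, 0, 0, 0, 0],
  [0, 0, 0, 0, 0, 8, 0, 0, 0, 0, 0, 0, 0, 0, 0, 0, 0, 0, 0, 0, 0, 0, 0, 0],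
  [0, 0, 0, 0, 0, 0, 0, 0, 0, 0, 8, 0, 0, 0, 0, 0, 0, 0, 0, 0, 0, 0, 0, 0],
  [0, 0, 0, 0, 8, 0, 0, 0, 0, 0, 0, 0, 0, 0, 0, 0, 0, 0, 0, 0, 0, 0, 0, 0]]

/-- rows of `v` -/
def rV : List (List ℤ) := [
  [-2, 0, -2, 0, -2, 0, 0, 2, -2, 0, -2, 0, -2, -2, -2, 4, 0, 2, 0, -2, 2, 0, 0, 0],
  [-2, 0, 2, 0, -2, 0, 0, 2, 2, 0, 2, 0, -2, -2, 2, 0, 0, 2, 0, 2, -2, 0, 4, 0],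
  [0, -2, 0, 2, 0, -2, 2, 0, 0, -2, 0, 2, 0, 0, 0, -2, 2, 0, 2, -4, 0, 2, 2, -2],
  [2, 4, -2, 0, -2, 0, 0, 2, 2, 0, 2, 0, 2, -2, 2, 0, 0, -2, 0, -2, 2, 0, 0, 0],
  [0, -2, -4, -2, 0, -2, -2, 0, 0, 2, 0, 2, 0, 0, 0, -2, -2, 0, -2, 0, 0, -2, 2, -2],
  [0, -2, 0, 2, 0, 2, 2, 0, 0, 2, 0, 2, 0, -4, 0, -2, -2, 0, -2, 0, 0, 2, -2, 2],
  [2, 0, -2, 4, -2, 0, 0, 2, -2, 0, 2, 0, 2, 2, -2, 0, 0, 2, 0, 2, -2, 0, 0, 0],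
  [-2, 0, 2, 0, -2, 0, 0, 2, 2, 0, -2, 4, 2, 2, -2, 0, 0, -2, 0, 2, 2, 0, 0, 0],
  [2, 0, -2, 0, -2, 0, 4, -2, 2, 0, -2, 0, -2, 2, 2, 0, 0, 2, 0, 2, 2, 0, 0, 0],
  [-2, 0, 2, 0, -2, 0, 0, -2, -2, 4, 2, 0, 2, 2, 2, 0, 0, 2, 0, -2, 2, 0, 0, 0],
  [-2, 0, -2, 0, 2, 4, 0, 2, 2, 0, -2, 0, 2, 2, 2, 0, 0, 2, 0, -2, -2, 0, 0, 0],
  [-2, 0, -2, 0, -2, 0, 0, -2, -2, 0, -2, 0, 2, -2, 2, 0, 0, -2, 4, 2, -2, 0, 0, 0],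
  [-2, 0, -2, 0, -2, 0, 0, -2, 2, 0, 2, 0, -2, 2, -2, 0, 0, -2, 0, -2, -2, 0, 0, 4],
  [0, 2, 0, -2, 0, 2, 2, 0, -4, -2, 0, 2, 0, 0, 0, -2, 2, 0, -2, 0, 0, -2, 2, 2],
  [0, 2, 0, 2, 0, 2, -2, 0, 0, 2, 0, 2, -4, 0, 0, -2, 2, 0, 2, 0, 0, -2, -2, -2],
  [0, -2, 0, -2, -4, 2, -2, 0, 0, -2, 0, -2, 0, 0, 0, -2, 2, 0, -2, 0, 0, 2, -2, -2],
  [0, 2, 0, 2, 0, -2, -2, 0, 0, 2, -4, -2, 0, 0, 0, -2, 2, 0, -2, 0, 0, 2, 2, 2],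
  [-2, 0, -2, 0, 2, 0, 0, -2, 2, 0, 2, 0, 2, -2, -2, 0, 4, 2, 0, 2, 2, 0, 0, 0],
  [-2, 0, -2, 0, 2, 0, 0, 2, -2, 0, 2, 0, -2, 2, 2, 0, 0, -2, 0, 2, 2, 4, 0, 0],
  [-4, 2, 0, 2, 0, -2, 2, 0, 0, -2, 0, -2, 0, 0, 0, -2, -2, 0, -2, 0, 0, -2, -2, -2],
  [0, 2, 0, 2, 0, 2, -2, -4, 0, -2, 0, 2, 0, 0, 0, 2, -2, 0, -2, 0, 0, 2, 2, -2],
  [0, -2, 0, 2, 0, 2, 2, 0, 0, 2, 0, -2, 0, 0, 0, 2, 2, -4, -2, 0, 0, -2, 2, -2],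
  [0, 2, 0, -2, 0, -2, 2, 0, 0, 2, 0, 2, 0, 0, 0, 2, 2, 0, -2, 0, -4, 2, -2, -2],
  [0, 2, 0, -2, 0, 2, 2, 0, 0, 2, 0, -2, 0, 0, -4, -2, -2, 0, 2, 0, 0, 2, 2, -2]]

/-- columns of `v` -/
def cV : List (List ℤ) := [
  [-2, -2, 0, 2, 0, 0, 2, -2, 2, -2, -2, -2, -2, 0, 0, 0, 0, -2, -2, -4, 0, 0, 0, 0],
  [0, 0, -2, 4, -2, -2, 0, 0, 0, 0, 0, 0, 0, 2, 2, -2, 2, 0, 0, 2, 2, -2, 2, 2],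
  [-2, 2, 0, -2, -4, 0, -2, 2, -2, 2, -2, -2, -2, 0, 0, 0, 0, -2, -2, 0, 0, 0, 0, 0],
  [0, 0, 2, 0, -2, 2, 4, 0, 0, 0, 0, 0, 0, -2, 2, -2, 2, 0, 0, 2, 2, 2, -2, -2],
  [-2, -2, 0, -2, 0, 0, -2, -2, -2, -2, 2, -2, -2, 0, 0, -4, 0, 2, 2, 0, 0, 0, 0, 0],
  [0, 0, -2, 0, -2, 2, 0, 0, 0, 0, 4, 0, 0, 2, 2, 2, -2, 0, 0, -2, 2, 2, -2, 2],
  [0, 0, 2, 0, -2, 2, 0, 0, 4, 0, 0, 0, 0, 2, -2, -2, -2, 0, 0, 2, -2, 2, 2, 2],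
  [2, 2, 0, 2, 0, 0, 2, 2, -2, -2, 2, -2, -2, 0, 0, 0, 0, -2, 2, 0, -4, 0, 0, 0],
  [-2, 2, 0, 2, 0, 0, -2, 2, 2, -2, 2, -2, 2, -4, 0, 0, 0, 2, -2, 0, 0, 0, 0, 0],
  [0, 0, -2, 0, 2, 2, 0, 0, 0, 4, 0, 0, 0, -2, 2, -2, 2, 0, 0, -2, -2, 2, 2, 2],
  [-2, 2, 0, 2, 0, 0, 2, -2, -2, 2, -2, -2, 2, 0, 0, 0, -4, 2, 2, 0, 0, 0, 0, 0],
  [0, 0, 2, 0, 2, 2, 0, 4, 0, 0, 0, 0, 0, 2, 2, -2, -2, 0, 0, -2, 2, -2, 2, -2],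
  [-2, -2, 0, 2, 0, 0, 2, 2, -2, 2, 2, 2, -2, 0, -4, 0, 0, 2, -2, 0, 0, 0, 0, 0],
  [-2, -2, 0, -2, 0, -4, 2, 2, 2, 2, 2, -2, 2, 0, 0, 0, 0, -2, 2, 0, 0, 0, 0, 0],
  [-2, 2, 0, 2, 0, 0, -2, -2, 2, 2, 2, 2, -2, 0, 0, 0, 0, -2, 2, 0, 0, 0, 0, -4],
  [4, 0, -2, 0, -2, -2, 0, 0, 0, 0, 0, 0, 0, -2, -2, -2, -2, 0, 0, -2, 2, 2, 2, -2],
  [0, 0, 2, 0, -2, -2, 0, 0, 0, 0, 0, 0, 0, 2, 2, 2, 2, 4, 0, -2, -2, 2, 2, -2],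
  [2, 2, 0, -2, 0, 0, 2, -2, 2, 2, 2, -2, -2, 0, 0, 0, 0, 2, -2, 0, 0, -4, 0, 0],
  [0, 0, 2, 0, -2, -2, 0, 0, 0, 0, 0, 4, 0, -2, 2, -2, -2, 0, 0, -2, -2, -2, -2, 2],
  [-2, 2, -4, -2, 0, 0, 2, 2, 2, -2, -2, 2, -2, 0, 0, 0, 0, 2, 2, 0, 0, 0, 0, 0],
  [2, -2, 0, 2, 0, 0, -2, 2, 2, 2, -2, -2, -2, 0, 0, 0, 0, 2, 2, 0, 0, 0, -4, 0],
  [0, 0, 2, 0, -2, 2, 0, 0, 0, 0, 0, 0, 0, -2, -2, 2, 2, 0, 4, -2, 2, -2, 2, 2],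
  [0, 4, 2, 0, 2, -2, 0, 0, 0, 0, 0, 0, 0, 2, -2, -2, 2, 0, 0, -2, 2, 2, -2, 2],
  [0, 0, -2, 0, -2, 2, 0, 0, 0, 0, 0, 0, 4, 2, -2, -2, 2, 0, 0, -2, -2, -2, -2, -2]]

theorem okA : Ok rA cA := Ok.of_bool (by decide +kernel)

theorem okB : Ok rB cB := Ok.of_bool (by decide +kernel)

theorem okU : Ok rU cU := Ok.of_bool (by decide +kernel)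

theorem okV : Ok rV cV := Ok.of_bool (by decide +kernel)

/-- The letters: `a b u v` and their inverses. -/
def M : ℕ → List (List ℤ)
  | 0 => rA
  | 1 => rB
  | 2 => rU
  | 3 => rV
  | 4 => cA
  | 5 => cB
  | 6 => cU
  | _ => cV

/-- The elements of `Co₀`. -/
def e : ℕ → Co0
  | 0 => mk okA
  | 1 => mk okB
  | 2 => mk okU
  | 3 => mk okV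
  | 4 => (mk okA)⁻¹
  | 5 => (mk okB)⁻¹
  | 6 => (mk okU)⁻¹
  | _ => (mk okV)⁻¹

theorem rep : ∀ i, Rep (e i) (M i)
  | 0 => rep_mk okA
  | 1 => rep_mk okB
  | 2 => rep_mk okU
  | 3 => rep_mk okV
  | 4 => rep_inv okA
  | 5 => rep_inv okB
  | 6 => rep_inv okU
  | _ + 7 => rep_inv okV

theorem rel_aa : relB M [0, 0, 0, 0, 0, 0, 0] = true := by decide +kernel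
theorem rel_ab : relB M [0, 1, 4, 5] = true := by decide +kernel
theorem rel_ua : relB M [2, 0, 6, 4, 4] = true := by decide +kernel
theorem rel_va : relB M [3, 0, 7, 5] = true := by decide +kernel
theorem rel_vb : relB M [3, 1, 7, 0] = true := by decide +kernel
theorem rel_ub : relB M [2, 1, 6, 5, 5, 5, 5, 0] = true := by decide +kernel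
theorem ne_a : neB M [0] = true := by decide +kernel

end Cfsg.Agent.Omega.TwoF.Co1Mat
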