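import Cfsg.Agent.ChevalleyStructure.Tits.Main

/-!
# The automorphisms of the Tits group, 2-part (helper415)

`K = ²F₄(2)′ < H = ²F₄(2)`, `U` the Sylow 2-subgroup of `H` (order `2 ^ 12`).

* `inner_of_map` : an automorphism of `H` fixing `U` is induced by an element of `U`;
* `not_dvd_card` : `2 ^ 13` does not divide `|Aut K|`;
* `out_iso` : `|Out K|` is not divisible by 4.
-/

set_option autoImplicit false
set_option linter.unusedSectionVars false

namespace Cfsg.Agent.Omega.TwoF.TitsAut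

open Subgroup Cfsg.Agent.ChevalleyStructure.Tits.Data Cfsg.Agent.ChevalleyStructure.Tits.Rank2
  Cfsg.Agent.ChevalleyStructure.Tits.Sat Cfsg.Agent.ChevalleyStructure.Tits.Final

/-! ### The (B, N)-pair -/

section BN

variable {Γ : Type*} [Group Γ] (D : RD Γ)

/-- the longest element -/
def w8 : Γ := w D.n true 8

theorem w8_eq (s : Bool) : w8 D = w D.n s 8 := by
  cases s
  · exact D.w8.symm
  · rfl

/-- the reversed word -/
theorem w_inv (k : ℕ) : ∀ s : Bool, (w D.n s k)⁻¹ = w D.n (if k % 2 = 1 then s else !s) k := by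
  have key : ∀ (k : ℕ) (s : Bool), w D.n s (k + 1) = w D.n s k * D.n (if k % 2 = 1 then !s else s) := by
    intro k
    induction k with
    | zero => intro s; rw [w_succ, w_zero, w_zero]; simp
    | succ k ih =>
      intro s
      rw [w_succ, ih (!s), ← mul_assoc, ← w_succ]
      congr 2
      rcases Nat.mod_two_eq_zero_or_one k with h | h
      · rw [if_neg (by omega), if_pos (by omega)]
      · rw [if_pos h, if_neg (by omega), Bool.not_not]
  induction k with
  | zero => intro s; simp [w_zero]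
  | succ k ih =>
    intro s
    rw [key k s, mul_inv_rev, D.ninv, ih s, w_succ]
    rcases Nat.mod_two_eq_zero_or_one k with h | h
    · rw [if_neg (by omega), if_neg (by omega), if_pos (by omega)]
    · rw [if_pos h, if_pos h, if_neg (by omega), Bool.not_not]

theorem w8_inv : (w8 D)⁻¹ = w8 D := by
  rw [w8, w_inv]
  exact D.w8

theorem w8_succ (s : Bool) : w8 D = D.n s * w D.n (!s) 7 := by
  rw [w8_eq D s, w_succ]

theorem n_w8 (s : Bool) : D.n s * w8 D = w8 D * D.n s := by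
  have h0 : D.n s * w8 D = w D.n (!s) 7 := by
    rw [w8_succ D s, ← mul_assoc, D.nn, one_mul]
  have h1 : (D.n s * w8 D)⁻¹ = w D.n (!s) 7 := by
    rw [h0, w_inv]
    norm_num
  rw [h0, ← h1, mul_inv_rev, w8_inv, D.ninv]

/-- the opposite group is denoted `U⁻`: `g ∈ U⁻` iff `w8⁻¹ g w8 ∈ U` -/
def Um : Subgroup Γ := D.U.map (MulAut.conj (w8 D)).toMonoidHom

theorem mem_Um {g : Γ} : g ∈ Um D ↔ (w8 D)⁻¹ * g * w8 D ∈ D.U := by
  constructor
  · rintro ⟨u, hu, rfl⟩
    show (w8 D)⁻¹ * (w8 D * u * (w8 D)⁻¹) * w8 D ∈ D.U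
    have : (w8 D)⁻¹ * (w8 D * u * (w8 D)⁻¹) * w8 D = u := by group
    rwa [this]
  · intro h
    refine ⟨_, h, ?_⟩
    show w8 D * ((w8 D)⁻¹ * g * w8 D) * (w8 D)⁻¹ = g
    group

/-- the negative root groups -/
theorem neg_mem {s : Bool} {x : Γ} (hx : x ∈ D.X s) : D.n s * x * D.n s ∈ Um D := by
  rw [mem_Um, w8_succ D s, mul_inv_rev, D.ninv]
  have h1 : (w D.n (!s) 7)⁻¹ * D.n s * (D.n s * x * D.n s) * (D.n s * w D.n (!s) 7) =
      (w D.n (!s) 7)⁻¹ * ((D.n s * D.n s) * x * (D.n s * D.n s)) * w D.n (!s) 7 := by group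
  rw [h1, D.nn, one_mul, mul_one]
  exact D.wX s 7 (by norm_num) x hx

variable [Finite Γ] (hX : ∀ s, Nat.card (D.X s) = if s then 4 else 2) (hU : Nat.card D.U = 4096)
  (hG : D.G = ⊤) (hcard : Nat.card Γ = 35942400)

include hX hU hG hcard

theorem mem_All (g : Γ) : g ∈ D.All := D.G_subset_All (by rw [hG]; trivial)

theorem inf_eq : D.U ⊓ Um D = ⊥ := by
  have hXs : ∀ s, (D.X s : Set Γ).Finite ∧ (D.X s : Set Γ).ncard ≤ if s then 4 else 2 := fun s =>
    ⟨Set.toFinite _, (hX s).le⟩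
  have hUs : (D.U : Set Γ).Finite ∧ (D.U : Set Γ).ncard ≤ 4096 := ⟨Set.toFinite _, hU.le⟩
  have h := fun k s => (D.cell_card hXs hUs k s).2
  have hall : D.All = (Set.univ : Set Γ) := Set.eq_univ_of_forall fun g => mem_All D hX hU hG hcard g
  have h0 : (Set.univ : Set Γ).ncard = 35942400 := by rw [Set.ncard_univ, hcard]
  have h1 : (⋃ k ∈ Finset.range 9, D.cell false k) = (⋃ k ∈ Finset.range 8, D.cell false k) ∪ D.cell false 8 := by
    ext x
    simp only [Set.mem_iUnion, Finset.mem_range, Set.mem_union]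
    constructor
    · rintro ⟨k, hk, hx⟩
      rcases Nat.lt_or_ge k 8 with h | h
      · exact Or.inl ⟨k, h, hx⟩
      · have : k = 8 := by omega
        subst this; exact Or.inr hx
    · rintro (⟨k, hk, hx⟩ | hx)
      · exact ⟨k, by omega, hx⟩
      · exact ⟨8, by omega, hx⟩
  have h2 := (RD.ncard_biUnion_le (fun k => D.cell false k) 8).trans
      (Finset.sum_le_sum (fun k _ => h k false))
  have h3 := (RD.ncard_biUnion_le (fun k => D.cell true (k + 1)) 7).trans
      (Finset.sum_le_sum (fun k _ => h (k + 1) true))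
  have h4 : ∑ k ∈ Finset.range 8, RD.q false k * 4096 = 1755 * 4096 := by decide +kernel
  have h5 : ∑ k ∈ Finset.range 7, RD.q true (k + 1) * 4096 = 2924 * 4096 := by decide +kernel
  rw [h4] at h2
  rw [h5] at h3
  have h6 : 35942400 ≤ 1755 * 4096 + (D.cell false 8).ncard + 2924 * 4096 := by
    rw [← h0, ← hall, D.All_eq, h1]
    refine (Set.ncard_union_le _ _).trans (Nat.add_le_add ((Set.ncard_union_le _ _).trans ?_) h3)
    exact Nat.add_le_add_right h2 _
  have h7 : D.cell false 8 = (fun p : Γ × Γ => p.1 * w8 D * p.2) '' ((D.U : Set Γ) ×ˢ (D.U : Set Γ)) := by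
    ext g
    constructor
    · rintro ⟨u, hu, v, hv, rfl⟩
      exact ⟨(u, v), ⟨hu, hv⟩, by rw [w8_eq D false]⟩
    · rintro ⟨⟨u, v⟩, ⟨hu, hv⟩, rfl⟩
      exact ⟨u, hu, v, hv, by rw [w8_eq D false]⟩
  have h8 : ((D.U : Set Γ) ×ˢ (D.U : Set Γ)).ncard = 4096 * 4096 := by
    rw [Set.ncard_prod]
    have : (D.U : Set Γ).ncard = 4096 := hU
    rw [this]
  have h9 : ((fun p : Γ × Γ => p.1 * w8 D * p.2) '' ((D.U : Set Γ) ×ˢ (D.U : Set Γ))).ncard =
      ((D.U : Set Γ) ×ˢ (D.U : Set Γ)).ncard := by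
    apply le_antisymm (Set.ncard_image_le (Set.toFinite _))
    rw [← h7, h8]
    omega
  have h10 := Set.injOn_of_ncard_image_eq h9 (Set.toFinite _)
  rw [eq_bot_iff]
  rintro x ⟨hx1, hx2'⟩
  have hx2 := (mem_Um D).1 hx2'
  have h11 := h10 (x₁ := (x, 1)) (x₂ := (1, (w8 D)⁻¹ * x * w8 D)) ⟨hx1, D.U.one_mem⟩ ⟨D.U.one_mem, hx2⟩ (by
    show x * w8 D * 1 = 1 * w8 D * ((w8 D)⁻¹ * x * w8 D)
    group)
  exact (Prod.ext_iff.1 h11).1

theorem eq_one_of_mem {x : Γ} (h1 : x ∈ D.U) (h2 : x ∈ Um D) : x = 1 := by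
  have : x ∈ D.U ⊓ Um D := ⟨h1, h2⟩
  rwa [inf_eq D hX hU hG hcard, mem_bot] at this

theorem neg_mem_U {s : Bool} {x : Γ} (hx : x ∈ D.X s) (h : D.n s * x * D.n s ∈ D.U) : x = 1 := by
  have h1 := eq_one_of_mem D hX hU hG hcard h (neg_mem D hx)
  have h2 : D.n s * (D.n s * x * D.n s) * D.n s = (D.n s * D.n s) * x * (D.n s * D.n s) := by group
  rw [D.nn, one_mul, mul_one, h1, mul_one, D.nn] at h2
  exact h2.symm

theorem exists_ne (s : Bool) : ∃ x ∈ D.X s, x ≠ 1 := by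
  by_contra hcon
  push Not at hcon
  have h1 : D.X s = ⊥ := by
    rw [eq_bot_iff]
    exact fun x hx => hcon x hx
  have h2 := hX s
  rw [h1, Nat.card_unique] at h2
  cases s
  · norm_num at h2
  · norm_num at h2

theorem n_not_mem (s : Bool) : D.n s ∉ D.U := by
  intro h
  obtain ⟨x, hx, hx1⟩ := exists_ne D hX hU hG hcard s
  exact hx1 (neg_mem_U D hX hU hG hcard hx (D.U.mul_mem (D.U.mul_mem h (D.XU s hx)) h))

/-- the normalizer of `U` -/
theorem mem_of_norm {g : Γ} (hg : ∀ u ∈ D.U, g * u * g⁻¹ ∈ D.U) : g ∈ D.U := by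
  by_contra hgU
  have h1 : g ∈ normalizer (D.U : Set Γ) := by
    rw [mem_normalizer_iff]
    intro u
    refine ⟨fun h => hg u h, fun h => ?_⟩
    have h2 : D.U.map (MulAut.conj g).toMonoidHom = D.U := by
      apply Subgroup.eq_of_le_of_card_ge
      · rintro _ ⟨u, hu, rfl⟩
        exact hg u hu
      · exact (Nat.card_congr (D.U.equivMapOfInjective (MulAut.conj g).toMonoidHom
          (MulAut.conj g).injective).toEquiv).le
    rw [← SetLike.mem_coe] at h
    have h3 : g * u * g⁻¹ ∈ D.U.map (MulAut.conj g).toMonoidHom := by rw [h2]; exact h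
    obtain ⟨v, hv, hvu⟩ := h3
    have h4 : g * v * g⁻¹ = g * u * g⁻¹ := hvu
    have h5 : v = u := by
      have := mul_right_cancel h4
      exact mul_left_cancel this
    rw [← h5]; exact hv
  obtain ⟨s, hs⟩ := D.exists_n_mem (exists_ne D hX hU hG hcard) (H := normalizer (D.U : Set Γ)) le_normalizer h1
    (mem_All D hX hU hG hcard g) hgU
  obtain ⟨x, hx, hx1⟩ := exists_ne D hX hU hG hcard s
  rw [mem_normalizer_iff] at hs
  have h2 := (hs x).1 (D.XU s hx)
  rw [D.ninv] at h2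
  exact hx1 (neg_mem_U D hX hU hG hcard hx h2)

/-- conjugates of `U` which meet `U` trivially -/
theorem opp {g : Γ} (hg : ∀ u ∈ D.U, g⁻¹ * u * g ∈ D.U → u = 1) : ∃ u ∈ D.U, ∃ v ∈ D.U, g = u * w8 D * v := by
  obtain ⟨s, k, hk, u, hu, v, hv, rfl⟩ := mem_All D hX hU hG hcard g
  rcases Nat.lt_or_ge k 8 with h | h
  · exfalso
    obtain ⟨x, hx, hx1⟩ := exists_ne D hX hU hG hcard (!s)
    have h1 := D.wX (!s) k h x hx
    rw [Bool.not_not] at h1
    apply hx1
    have h2 := hg (u * x * u⁻¹) (D.U.mul_mem (D.U.mul_mem hu (D.XU _ hx)) (D.U.inv_mem hu)) (by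
      have : (u * w D.n s k * v)⁻¹ * (u * x * u⁻¹) * (u * w D.n s k * v) =
          v⁻¹ * ((w D.n s k)⁻¹ * x * w D.n s k) * v := by group
      rw [this]
      exact D.U.mul_mem (D.U.mul_mem (D.U.inv_mem hv) h1) hv)
    have h3 : x = u⁻¹ * (u * x * u⁻¹) * u := by group
    rw [h3, h2]; group
  · have : k = 8 := by omega
    subst this
    exact ⟨u, hu, v, hv, by rw [w8_eq D s]⟩

/-! ### The minimal parabolic subgroups -/

/-- the minimal parabolic subgroup -/
def Pp (s : Bool) : Subgroup Γ := closure ((D.U : Set Γ) ∪ {D.n s})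

omit [Finite Γ] hX hU hG hcard in
theorem U_le_P (s : Bool) : D.U ≤ Pp D s := fun _ hu => subset_closure (Or.inl hu)

omit [Finite Γ] hX hU hG hcard in
theorem n_mem_P (s : Bool) : D.n s ∈ Pp D s := subset_closure (Or.inr rfl)

omit [Finite Γ] hX hU hG hcard in
/-- elements of the parabolic -/
theorem P_cases {s : Bool} {g : Γ} (hg : g ∈ Pp D s) : g ∈ D.U ∨ ∃ x ∈ D.X s, ∃ v ∈ D.U, g = x * D.n s * v := by
  have key : ∀ g : Γ, (g ∈ D.U ∨ ∃ x ∈ D.X s, ∃ v ∈ D.U, g = x * D.n s * v) ↔ g ∈ D.cell s 0 ∨ g ∈ D.cell s 1 := by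
    intro g
    rw [D.cell_zero]
    refine or_congr Iff.rfl ⟨?_, fun h => ?_⟩
    · rintro ⟨x, hx, v, hv, rfl⟩
      refine ⟨x, D.XU s hx, v, hv, ?_⟩
      rw [w_succ, w_zero, mul_one]
    · obtain ⟨x, hx, c, hc, rfl⟩ := D.cell_succ h
      rw [D.cell_zero] at hc
      exact ⟨x, hx, c, hc, rfl⟩
  rw [key]
  have hn : ∀ g, (g ∈ D.cell s 0 ∨ g ∈ D.cell s 1) → (D.n s * g ∈ D.cell s 0 ∨ D.n s * g ∈ D.cell s 1) := by
    rintro g (h | h)
    · right
      refine D.n_mul_up (k := 0) (by norm_num) ?_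
      rw [D.cell_zero] at h ⊢
      exact h
    · rcases D.n_mul_down (k := 0) (by norm_num) h with h | h
      · left
        rw [D.cell_zero] at h ⊢
        exact h
      · exact Or.inr h
  have hu : ∀ u ∈ D.U, ∀ g, (g ∈ D.cell s 0 ∨ g ∈ D.cell s 1) → (u * g ∈ D.cell s 0 ∨ u * g ∈ D.cell s 1) := by
    rintro u hu g (h | h)
    · exact Or.inl (D.mul_mem_cell hu h)
    · exact Or.inr (D.mul_mem_cell hu h)
  have hg' : g ∈ closure ((D.U : Set Γ) ∪ {D.n s}) := hg
  induction hg' using Subgroup.closure_induction_left with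
  | one => exact Or.inl (by rw [D.cell_zero]; exact D.U.one_mem)
  | mul_left x hx y hy ih =>
    rcases hx with hx | hx
    · exact hu x hx _ (ih hy)
    · rw [Set.mem_singleton_iff] at hx
      rw [hx]
      exact hn _ (ih hy)
  | inv_mul_cancel x hx y hy ih =>
    rcases hx with hx | hx
    · exact hu _ (D.U.inv_mem hx) _ (ih hy)
    · rw [Set.mem_singleton_iff] at hx
      rw [hx, D.ninv]
      exact hn _ (ih hy)

/-- the order of the parabolic -/
theorem card_P (s : Bool) : Nat.card (Pp D s) = (if s then 5 else 3) * 4096 := by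
  -- `Option (X s) × U ≃ P s`
  have hf : ∀ p : Option (D.X s) × D.U, (match p with
    | (none, u) => (u : Γ)
    | (some x, u) => (x : Γ) * D.n s * (u : Γ)) ∈ Pp D s := by
    rintro ⟨_ | x, u⟩
    · exact U_le_P D s u.2
    · exact mul_mem (mul_mem (U_le_P D s (D.XU s x.2)) (n_mem_P D s)) (U_le_P D s u.2)
  let f : Option (D.X s) × D.U → Pp D s := fun p => ⟨_, hf p⟩
  have h1 : Function.Bijective f := by
    constructor
    · rintro ⟨_ | x, u⟩ ⟨_ | x', u'⟩ h
      · have h2 : (u : Γ) = u' := congrArg (fun q : Pp D s => (q : Γ)) h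
        rw [Subtype.ext h2]
      · exfalso
        have h2 : (u : Γ) = (x' : Γ) * D.n s * (u' : Γ) := congrArg (fun q : Pp D s => (q : Γ)) h
        apply n_not_mem D hX hU hG hcard s
        have h3 : D.n s = (x' : Γ)⁻¹ * (u : Γ) * (u' : Γ)⁻¹ := by rw [h2]; group
        rw [h3]
        exact mul_mem (mul_mem (inv_mem (D.XU s x'.2)) u.2) (inv_mem u'.2)
      · exfalso
        have h2 : (x : Γ) * D.n s * (u : Γ) = u' := congrArg (fun q : Pp D s => (q : Γ)) h
        apply n_not_mem D hX hU hG hcard s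
        have h3 : D.n s = (x : Γ)⁻¹ * (u' : Γ) * (u : Γ)⁻¹ := by rw [← h2]; group
        rw [h3]
        exact mul_mem (mul_mem (inv_mem (D.XU s x.2)) u'.2) (inv_mem u.2)
      · have h2 : (x : Γ) * D.n s * (u : Γ) = (x' : Γ) * D.n s * (u' : Γ) :=
          congrArg (fun q : Pp D s => (q : Γ)) h
        have h3 : D.n s * ((x' : Γ)⁻¹ * x) * D.n s = u' * (u : Γ)⁻¹ := by
          have h4 : (x : Γ) * D.n s = (x' : Γ) * D.n s * (u' : Γ) * (u : Γ)⁻¹ := by rw [← h2]; group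
          calc D.n s * ((x' : Γ)⁻¹ * x) * D.n s = D.n s * (x' : Γ)⁻¹ * ((x : Γ) * D.n s) := by group
            _ = D.n s * (x' : Γ)⁻¹ * ((x' : Γ) * D.n s * (u' : Γ) * (u : Γ)⁻¹) := by rw [h4]
            _ = (D.n s * D.n s) * u' * (u : Γ)⁻¹ := by group
            _ = _ := by rw [D.nn, one_mul]
        have h5 := neg_mem_U D hX hU hG hcard (s := s) (x := (x' : Γ)⁻¹ * x) (mul_mem (inv_mem x'.2) x.2) (by
          rw [h3]
          exact mul_mem u'.2 (inv_mem u.2))
        have h6 : (x : Γ) = x' := (inv_mul_eq_one.1 h5).symm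
        have h7 : (u : Γ) = u' := by
          rw [h6] at h2
          exact mul_left_cancel h2
        rw [Subtype.ext h6, Subtype.ext h7]
    · rintro ⟨g, hg⟩
      rcases P_cases D hg with h | ⟨x, hx, v, hv, rfl⟩
      · exact ⟨(none, ⟨g, h⟩), rfl⟩
      · exact ⟨(some ⟨x, hx⟩, ⟨v, hv⟩), rfl⟩
  rw [← Nat.card_congr (Equiv.ofBijective f h1), Nat.card_prod, hU, Finite.card_option, hX]
  cases s <;> simp

/-- an overgroup of `U` of the same order is the parabolic itself -/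
theorem P_unique {s : Bool} {Q : Subgroup Γ} (hQ : D.U ≤ Q) (hc : Nat.card Q = Nat.card (Pp D s)) : Q = Pp D s := by
  have h1 : ¬ Q ≤ D.U := by
    intro h
    have h2 := Subgroup.card_le_of_le h
    rw [hc, card_P D hX hU hG hcard, hU] at h2
    cases s <;> norm_num at h2
  obtain ⟨g, hg, hgU⟩ := SetLike.not_le_iff_exists.mp h1
  obtain ⟨t, ht⟩ := D.exists_n_mem (exists_ne D hX hU hG hcard) hQ hg (mem_All D hX hU hG hcard g) hgU
  have h2 : Pp D t ≤ Q := by
    rw [Pp, closure_le]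
    rintro x (hx | hx)
    · exact hQ hx
    · rw [Set.mem_singleton_iff] at hx
      rw [hx]
      exact ht
  have h3 : t = s := by
    by_contra hne
    have h4 := Subgroup.card_dvd_of_le h2
    rw [hc, card_P D hX hU hG hcard, card_P D hX hU hG hcard] at h4
    cases s <;> cases t <;> first | exact hne rfl | norm_num at h4
  subst h3
  exact (Subgroup.eq_of_le_of_card_ge h2 hc.le).symm

/-- the opposite parabolic -/
def Pm (s : Bool) : Subgroup Γ := (Pp D s).map (MulAut.conj (w8 D)).toMonoidHom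

omit [Finite Γ] hX hU hG hcard in
theorem n_mem_Pm (s : Bool) : D.n s ∈ Pm D s := by
  refine ⟨D.n s, n_mem_P D s, ?_⟩
  show w8 D * D.n s * (w8 D)⁻¹ = D.n s
  rw [← n_w8, mul_inv_cancel_right]

omit [Finite Γ] hX hU hG hcard in
theorem Um_le_Pm (s : Bool) : Um D ≤ Pm D s := Subgroup.map_mono (U_le_P D s)

omit [Finite Γ] hX hU hG hcard in
theorem X_le_Pm (s : Bool) : D.X s ≤ Pm D s := by
  intro x hx
  have h1 := mul_mem (mul_mem (n_mem_Pm D s) (Um_le_Pm D s (neg_mem D hx))) (n_mem_Pm D s)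
  have h2 : D.n s * (D.n s * x * D.n s) * D.n s = (D.n s * D.n s) * x * (D.n s * D.n s) := by group
  rwa [h2, D.nn, one_mul, mul_one] at h1

omit hX hU hG hcard in
theorem card_mul_le {A B C : Subgroup Γ} (hA : A ≤ C) (hB : B ≤ C) (hAB : ∀ x ∈ A, x ∈ B → x = 1) :
    Nat.card A * Nat.card B ≤ Nat.card C := by
  rw [← Nat.card_prod]
  refine Nat.card_le_card_of_injective (fun p : A × B => (⟨(p.1 : Γ) * p.2, mul_mem (hA p.1.2) (hB p.2.2)⟩ : C)) ?_
  rintro ⟨a, b⟩ ⟨a', b'⟩ h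
  have h1 : (a : Γ) * b = (a' : Γ) * b' := congrArg Subtype.val h
  have h2 : (a' : Γ)⁻¹ * a = b' * (b : Γ)⁻¹ := by
    have : (a : Γ) = (a' : Γ) * b' * (b : Γ)⁻¹ := by rw [← h1]; group
    rw [this]; group
  have h3 := hAB ((a' : Γ)⁻¹ * a) (mul_mem (inv_mem a'.2) a.2) (by rw [h2]; exact mul_mem b'.2 (inv_mem b.2))
  have h4 : (a : Γ) = a' := (inv_mul_eq_one.1 h3).symm
  rw [h4] at h1
  rw [Subtype.ext h4, Subtype.ext (mul_left_cancel h1)]

/-- `U ∩ P⁻ = X` -/
theorem inf_Pm (s : Bool) : D.U ⊓ Pm D s = D.X s := by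
  have h1 := card_mul_le (A := D.U ⊓ Pm D s) (B := Um D) (C := Pm D s) inf_le_right (Um_le_Pm D s)
    (fun x hx h => eq_one_of_mem D hX hU hG hcard hx.1 h)
  have h2 : Nat.card (Um D) = 4096 := by
    rw [← hU]
    exact Nat.card_congr (D.U.equivMapOfInjective (MulAut.conj (w8 D)).toMonoidHom
      (MulAut.conj (w8 D)).injective).toEquiv.symm
  have h3 : Nat.card (Pm D s) = (if s then 5 else 3) * 4096 := by
    rw [← card_P D hX hU hG hcard]
    exact Nat.card_congr ((Pp D s).equivMapOfInjective (MulAut.conj (w8 D)).toMonoidHom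
      (MulAut.conj (w8 D)).injective).toEquiv.symm
  rw [h2, h3] at h1
  have h4 : Nat.card (D.U ⊓ Pm D s : Subgroup Γ) ≤ if s then 5 else 3 := Nat.le_of_mul_le_mul_right h1 (by norm_num)
  have h5 : Nat.card (D.U ⊓ Pm D s : Subgroup Γ) ∣ 4096 := by
    rw [← hU]
    exact Subgroup.card_dvd_of_le inf_le_left
  have h6 : D.X s ≤ D.U ⊓ Pm D s := le_inf (D.XU s) (X_le_Pm D s)
  symm
  apply Subgroup.eq_of_le_of_card_ge h6
  rw [hX]
  cases s
  · have h7 : Nat.card (D.U ⊓ Pm D false : Subgroup Γ) ≤ 3 := h4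
    show Nat.card (D.U ⊓ Pm D false : Subgroup Γ) ≤ 2
    by_contra hcon
    have h8 : Nat.card (D.U ⊓ Pm D false : Subgroup Γ) = 3 := by omega
    rw [h8] at h5
    norm_num at h5
  · have h7 : Nat.card (D.U ⊓ Pm D true : Subgroup Γ) ≤ 5 := h4
    show Nat.card (D.U ⊓ Pm D true : Subgroup Γ) ≤ 4
    by_contra hcon
    have h8 : Nat.card (D.U ⊓ Pm D true : Subgroup Γ) = 5 := by omega
    rw [h8] at h5
    norm_num at h5

/-- `U⁻ ∩ P` consists of the conjugates of `X` -/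
theorem mem_neg {s : Bool} {g : Γ} (h1 : g ∈ Um D) (h2 : g ∈ Pp D s) : ∃ x ∈ D.X s, g = D.n s * x * D.n s := by
  -- `x ↦ n x n` from `X` to `U⁻ ∩ P`, which has the order of `X`
  have hc : Nat.card (Um D ⊓ Pp D s : Subgroup Γ) ≤ Nat.card (D.X s) := by
    refine Nat.card_le_card_of_injective (fun g : (Um D ⊓ Pp D s : Subgroup Γ) => (⟨(w8 D)⁻¹ * (g : Γ) * w8 D, ?_⟩ :
      D.X s)) ?_
    · rw [← inf_Pm D hX hU hG hcard s]
      refine ⟨(mem_Um D).1 g.2.1, ?_⟩
      refine ⟨(g : Γ), g.2.2, ?_⟩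
      show w8 D * (g : Γ) * (w8 D)⁻¹ = (w8 D)⁻¹ * (g : Γ) * w8 D
      rw [w8_inv]
    · rintro ⟨a, ha⟩ ⟨b, hb⟩ h
      have h1 : (w8 D)⁻¹ * a * w8 D = (w8 D)⁻¹ * b * w8 D := congrArg (fun q : D.X s => (q : Γ)) h
      exact Subtype.ext (mul_left_cancel (mul_right_cancel h1))
  let f : D.X s → (Um D ⊓ Pp D s : Subgroup Γ) := fun x => ⟨D.n s * x * D.n s, neg_mem D x.2,
    mul_mem (mul_mem (n_mem_P D s) (U_le_P D s (D.XU s x.2))) (n_mem_P D s)⟩
  have hf : Function.Injective f := by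
    rintro ⟨a, ha⟩ ⟨b, hb⟩ h
    have h1 : D.n s * a * D.n s = D.n s * b * D.n s :=
      congrArg (fun q : (Um D ⊓ Pp D s : Subgroup Γ) => (q : Γ)) h
    exact Subtype.ext (mul_left_cancel (mul_right_cancel h1))
  obtain ⟨x, hx⟩ := (Function.Injective.bijective_of_nat_card_le hf hc).2 ⟨g, h1, h2⟩
  exact ⟨x, x.2, (congrArg (fun q : (Um D ⊓ Pp D s : Subgroup Γ) => (q : Γ)) hx).symm⟩

section Aut

variable (τ : MulAut Γ) (hτ : ∀ u ∈ D.U, τ u ∈ D.U)

include hτ

omit hX hU hG hcard in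
theorem map_U : D.U.map (τ : MulAut Γ).toMonoidHom = D.U := by
  apply Subgroup.eq_of_le_of_card_ge
  · rintro _ ⟨u, hu, rfl⟩
    exact hτ u hu
  · exact (Nat.card_congr (D.U.equivMapOfInjective τ.toMonoidHom τ.injective).toEquiv).le

omit hX hU hG hcard in
theorem mem_of_map {g : Γ} (h : τ g ∈ D.U) : g ∈ D.U := by
  rw [← map_U D τ hτ] at h
  obtain ⟨v, hv, hvg⟩ := h
  rw [← τ.injective hvg]
  exact hv

theorem exists_w8 : ∃ a ∈ D.U, ∃ b ∈ D.U, τ (w8 D) = a * w8 D * b := by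
  apply opp D hX hU hG hcard
  intro u hu h
  rw [← map_U D τ hτ] at hu
  obtain ⟨v, hv, rfl⟩ := hu
  have h1 : τ ((w8 D)⁻¹ * v * w8 D) ∈ D.U := by
    rw [map_mul, map_mul, map_inv]
    exact h
  have h2 := mem_of_map D τ hτ h1
  have h3 := eq_one_of_mem D hX hU hG hcard hv ((mem_Um D).2 h2)
  rw [h3]
  exact map_one τ

theorem map_P {s : Bool} {g : Γ} (hg : g ∈ Pp D s) : τ g ∈ Pp D s := by
  have h1 : (Pp D s).map τ.toMonoidHom = Pp D s := by
    apply P_unique D hX hU hG hcard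
    · rw [← map_U D τ hτ]
      exact Subgroup.map_mono (U_le_P D s)
    · exact (Nat.card_congr ((Pp D s).equivMapOfInjective τ.toMonoidHom τ.injective).toEquiv).symm
  rw [← h1]
  exact ⟨g, hg, rfl⟩

variable {c : Γ} (hc : c ∈ D.U) (hw : τ (w8 D) = w8 D * c)

include hc hw

theorem map_Um {g : Γ} (hg : g ∈ Um D) : τ g ∈ Um D := by
  rw [mem_Um]
  have h1 := hτ _ ((mem_Um D).1 hg)
  rw [map_mul, map_mul, map_inv, hw] at h1
  have h2 : (w8 D)⁻¹ * τ g * w8 D = c * ((w8 D * c)⁻¹ * τ g * (w8 D * c)) * c⁻¹ := by group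
  rw [h2]
  exact mul_mem (mul_mem hc h1) (inv_mem hc)

theorem map_Pm {s : Bool} {g : Γ} (hg : g ∈ Pm D s) : τ g ∈ Pm D s := by
  obtain ⟨p, hp, rfl⟩ := hg
  refine ⟨c * τ p * c⁻¹, mul_mem (mul_mem (U_le_P D s hc) (map_P D hX hU hG hcard τ hτ hp)) (inv_mem (U_le_P D s hc)), ?_⟩
  show w8 D * (c * τ p * c⁻¹) * (w8 D)⁻¹ = τ (w8 D * p * (w8 D)⁻¹)
  rw [map_mul, map_mul, map_inv, hw]
  group

theorem map_X {s : Bool} {x : Γ} (hx : x ∈ D.X s) : τ x ∈ D.X s := by
  rw [← inf_Pm D hX hU hG hcard s]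
  exact ⟨hτ x (D.XU s hx), map_Pm D hX hU hG hcard τ hτ hc hw (X_le_Pm D s hx)⟩

theorem map_neg {s : Bool} {x : Γ} (hx : x ∈ D.X s) : ∃ x' ∈ D.X s, τ (D.n s * x * D.n s) = D.n s * x' * D.n s :=
  mem_neg D hX hU hG hcard (map_Um D hX hU hG hcard τ hτ hc hw (neg_mem D hx))
    (map_P D hX hU hG hcard τ hτ (mul_mem (mul_mem (n_mem_P D s) (U_le_P D s (D.XU s hx))) (n_mem_P D s)))

end Aut

end BN

/-! ### The Frobenius group of order 20 -/

section Frob

variable {Γ : Type*} [Group Γ]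

theorem push {p f : Γ} (h : p * f = f ^ 3 * p) (a b : ℕ) : p ^ a * f ^ b = f ^ (b * 3 ^ a) * p ^ a := by
  have h1 : ∀ b : ℕ, p * f ^ b = f ^ (b * 3) * p := by
    intro b
    induction b with
    | zero => simp
    | succ b ih => rw [pow_succ, ← mul_assoc, ih, mul_assoc, h, ← mul_assoc, ← pow_add]; ring_nf
  induction a with
  | zero => simp
  | succ a ih => rw [pow_succ', mul_assoc, ih, ← mul_assoc, h1, mul_assoc]; ring_nf

theorem frob {p f : Γ} (hp : p ^ 4 = 1) (hf : f ^ 5 = 1) (h : p * f = f ^ 3 * p) (hf1 : f ≠ 1) (τ : MulAut Γ)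
    (h1 : τ p = p ∨ τ p = p ^ 3) (h2 : τ (p * f) = p * f ∨ τ (p * f) = (p * f) ^ 3) : τ p = p ∧ τ f = f := by
  have hpi : p⁻¹ = p ^ 3 := inv_eq_of_mul_eq_one_right (by rw [← pow_succ']; exact hp)
  have e : τ f = (τ p) ^ 3 * τ (p * f) := by
    have h3 : f = p⁻¹ * (p * f) := by group
    conv_lhs => rw [h3]
    rw [map_mul, hpi, map_pow]
  have h5 : τ f ^ 5 = 1 := by rw [← map_pow, hf, map_one]
  have hne : τ f ≠ 1 := fun h => hf1 (τ.injective (by rw [h, map_one]))
  have key : ∀ i : ℕ, τ f = f ^ i * p ^ 2 → False := by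
    intro i hi
    have h6 : (τ f) ^ 2 = 1 := by
      rw [hi, pow_two]
      have h7 : f ^ i * p ^ 2 * (f ^ i * p ^ 2) = f ^ i * (p ^ 2 * f ^ i) * p ^ 2 := by group
      rw [h7, push h, mul_assoc (f ^ i), mul_assoc (f ^ _) (p ^ 2) (p ^ 2), ← pow_add, hp, mul_one, ← pow_add,
        show i + i * 3 ^ 2 = 5 * (2 * i) by ring, pow_mul, hf, one_pow]
    apply hne
    calc τ f = (τ f) ^ 5 * ((τ f) ^ 2)⁻¹ * ((τ f) ^ 2)⁻¹ := by group
      _ = 1 := by rw [h5, h6]; simp
  have e3 : (p * f) ^ 3 = f ^ 39 * p ^ 3 := by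
    have q3 : p * f ^ 3 = f ^ 9 * p := by simpa using push h 1 3
    have q9 : p * f ^ 9 = f ^ 27 * p := by simpa using push h 1 9
    calc (p * f) ^ 3 = (p * f) * ((p * f) * (p * f)) := pow_three _
      _ = (f ^ 3 * p) * ((f ^ 3 * p) * (f ^ 3 * p)) := by rw [h]
      _ = f ^ 3 * ((p * f ^ 3) * ((p * f ^ 3) * p)) := by simp only [mul_assoc]
      _ = f ^ 3 * ((f ^ 9 * p) * ((f ^ 9 * p) * p)) := by rw [q3]
      _ = (f ^ 3 * f ^ 9) * ((p * f ^ 9) * (p * p)) := by simp only [mul_assoc]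
      _ = f ^ 12 * ((f ^ 27 * p) * (p * p)) := by rw [q9, ← pow_add]
      _ = f ^ 39 * p ^ 3 := by rw [mul_assoc (f ^ 27), ← mul_assoc (f ^ 12), ← pow_add, pow_three]
  rcases h1 with h1 | h1 <;> rcases h2 with h2 | h2
  · refine ⟨h1, ?_⟩
    rw [e, h1, h2, ← mul_assoc, ← pow_succ, hp, one_mul]
  · exfalso
    apply key (39 * 27)
    rw [e, h1, h2, e3, ← mul_assoc, push h, mul_assoc, ← pow_add, show 3 + 3 = 4 + 2 from rfl, pow_add p 4 2, hp,
      one_mul]
    norm_num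
  · exfalso
    apply key 9
    rw [e, h1, h2, ← pow_mul, ← mul_assoc, ← pow_succ, show 3 * 3 + 1 = 4 * 2 + 2 from rfl, pow_add, pow_mul, hp,
      one_pow, one_mul]
    have := push h 2 1
    rw [pow_one] at this
    rw [this]
    norm_num
  · exfalso
    have h6 : τ f = f ^ 2 := by
      rw [e, h1, h2, e3, ← pow_mul, ← mul_assoc, push h, mul_assoc, ← pow_add, show 3 * 3 + 3 = 4 * 3 from rfl,
        pow_mul p, hp, one_pow, mul_one, pow_eq_pow_mod _ hf, show 39 * 3 ^ (3 * 3) % 5 = 2 by norm_num]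
    have h7 : τ (p * f) = τ (f ^ 3 * p) := by rw [h]
    rw [map_mul, map_mul, map_pow, h6, h1, push h, ← pow_mul] at h7
    have h8 := mul_right_cancel h7
    rw [pow_eq_pow_mod _ hf, pow_eq_pow_mod (2 * 3) hf] at h8
    norm_num at h8
    -- `f ^ 4 = f`
    have h9 : f ^ 3 = 1 := by
      have : f ^ 4 = f ^ 3 * f := pow_succ f 3
      rw [this] at h8
      exact mul_eq_right.1 h8
    apply hf1
    calc f = f ^ 3 * f ^ 3 * (f ^ 5)⁻¹ := by group
      _ = 1 := by rw [h9, hf]; simp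

end Frob

/-! ### Automorphisms of `²F₄(2)` -/

section Main

variable {Γ : Type*} [Group Γ] [Finite Γ] {y : ℕ → Γ} (hy : Sat y)
  (hgen : closure (y '' {i | i < 10}) = ⊤) (hcard : Nat.card Γ = 35942400) (hU : Nat.card (V y 0) = 4096)
  (h0 : y 0 ≠ 1) (h7 : y 7 ^ 2 ≠ 1)

omit [Finite Γ] in
include hy h0 h7 in
theorem card_X (s : Bool) : Nat.card ((rd hy).X s) = if s then 4 else 2 := by
  have : Fact (Nat.Prime 2) := ⟨Nat.prime_two⟩
  cases s
  · show Nat.card (zpowers (y 0)) = 2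
    rw [Nat.card_zpowers]
    exact orderOf_eq_prime (pow_od hy (i := 0) (by norm_num)) h0
  · show Nat.card (zpowers (y 7)) = 4
    rw [Nat.card_zpowers]
    exact orderOf_eq_prime_pow (p := 2) (n := 1) (by rw [pow_one]; exact h7)
      (pow_od hy (i := 7) (by norm_num))

include hy hgen hcard hU h0 h7

theorem inner_of_map (τ : MulAut Γ) (hτ : ∀ u ∈ V y 0, τ u ∈ V y 0) :
    ∃ a ∈ V y 0, ∀ g, τ g = a * g * a⁻¹ := by
  have hX := card_X hy h0 h7
  have hG : (rd hy).G = ⊤ := by rw [rd_G hy, hgen]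
  obtain ⟨a, ha, b, hb, hab⟩ := exists_w8 (rd hy) hX hU hG hcard τ hτ
  refine ⟨a, ha, ?_⟩
  have ha' : a ∈ V y 0 := ha
  have hb' : b ∈ V y 0 := hb
  let σ : MulAut Γ := MulAut.conj a⁻¹ * τ
  have hσ : ∀ g, σ g = a⁻¹ * τ g * a := fun g => by
    show a⁻¹ * τ g * a⁻¹⁻¹ = _
    rw [inv_inv]
  have hσU : ∀ u ∈ (rd hy).U, σ u ∈ (rd hy).U := fun u hu => by
    rw [hσ]
    exact mul_mem (mul_mem (inv_mem ha) (hτ u hu)) ha
  have hσw : σ (w8 (rd hy)) = w8 (rd hy) * (b * a) := by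
    rw [hσ, hab]; group
  have hba : b * a ∈ (rd hy).U := mul_mem hb ha
  have mX : ∀ {s : Bool} {x : Γ}, x ∈ (rd hy).X s → σ x ∈ (rd hy).X s := fun hx =>
    map_X (rd hy) hX hU hG hcard σ hσU hba hσw hx
  have mN : ∀ {s : Bool} {x : Γ}, x ∈ (rd hy).X s → ∃ x' ∈ (rd hy).X s,
      σ ((rd hy).n s * x * (rd hy).n s) = (rd hy).n s * x' * (rd hy).n s := fun hx =>
    map_neg (rd hy) hX hU hG hcard σ hσU hba hσw hx
  have n8 : (rd hy).n false = y 8 := rfl
  have n9 : (rd hy).n true = y 9 := rfl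
  -- the node of order 2
  have z0 : ∀ x ∈ (rd hy).X false, x ≠ 1 → x = y 0 := by
    intro x hx hx1
    obtain ⟨k, hk, rfl⟩ := mem_zpowers_cases (m := 2) (by norm_num) (pow_od hy (i := 0) (by norm_num)) hx
    have : k = 0 ∨ k = 1 := by omega
    rcases this with rfl | rfl
    · exact absurd (pow_zero _) hx1
    · exact pow_one _
  have y0X : y 0 ∈ (rd hy).X false := mem_zpowers _
  have s0 : σ (y 0) = y 0 := z0 _ (mX y0X) (fun h => h0 (σ.injective (by rw [h, map_one])))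
  have s0n : σ (y 8 * y 0 * y 8) = y 8 * y 0 * y 8 := by
    obtain ⟨x, hx, h⟩ := mN y0X
    rw [n8] at h
    have hx1 : x ≠ 1 := by
      rintro rfl
      rw [mul_one, n1n1 hy] at h
      have h1 : y 8 * y 0 * y 8 = 1 := σ.injective (by rw [h, map_one])
      apply h0
      calc y 0 = y 8 * y 8 * y 0 * (y 8 * y 8) := by rw [n1n1 hy]; group
        _ = y 8 * (y 8 * y 0 * y 8) * y 8 := by group
        _ = 1 := by rw [h1, mul_one, n1n1 hy]
    rw [h, z0 x hx hx1]
  have e8 : y 8 = y 0 * (y 8 * y 0 * y 8) * y 0 := by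
    have h := hy ([8, 0, 8], [0, 8, 0]) (by decide +kernel)
    simp only [List.map_cons, List.map_nil, List.prod_cons, List.prod_nil, mul_one, ← mul_assoc] at h
    have h00 : y 0 * y 0 = 1 := by
      have := pow_od hy (i := 0) (by norm_num)
      have hod : od 0 = 2 := rfl
      rwa [hod, pow_two] at this
    rw [h]
    calc y 8 = (y 0 * y 0) * y 8 * (y 0 * y 0) := by rw [h00]; group
      _ = _ := by group
  have s8 : σ (y 8) = y 8 := by
    conv_lhs => rw [e8]
    rw [map_mul, map_mul, s0, s0n]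
    exact e8.symm
  -- the node of order 4
  have p4 : y 7 ^ 4 = 1 := pow_od hy (i := 7) (by norm_num)
  have z7 : ∀ x ∈ (rd hy).X true, x ^ 2 ≠ 1 → x = y 7 ∨ x = y 7 ^ 3 := by
    intro x hx hx1
    obtain ⟨k, hk, rfl⟩ := mem_zpowers_cases (m := 4) (by norm_num) (pow_od hy (i := 7) (by norm_num)) hx
    have : k = 0 ∨ k = 1 ∨ k = 2 ∨ k = 3 := by omega
    rcases this with rfl | rfl | rfl | rfl
    · exact absurd (by rw [pow_zero, one_pow]) hx1
    · exact Or.inl (pow_one _)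
    · exact absurd (by rw [← pow_mul]; exact p4) hx1
    · exact Or.inr rfl
  have y7X : y 7 ∈ (rd hy).X true := mem_zpowers _
  have s7 : σ (y 7) = y 7 ∨ σ (y 7) = y 7 ^ 3 := z7 _ (mX y7X) (fun h => h7 (σ.injective (by
    rw [map_pow, h, map_one])))
  have e1 := hy ([9, 7, 9], [7, 9, 7, 7]) (by decide +kernel)
  have e2 := hy ([9, 7, 7, 9], [7, 7, 7, 9, 7]) (by decide +kernel)
  have e3 := hy ([9, 7, 7, 7, 9], [7, 7, 9, 7, 7, 7]) (by decide +kernel)
  have e5 := hy ([9, 7, 7, 9, 7, 7, 9, 7, 7, 9, 7, 7, 9, 7, 7], []) (by decide +kernel)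
  simp only [List.map_cons, List.map_nil, List.prod_cons, List.prod_nil, mul_one] at e1 e2 e3 e5
  have nn9 := n2n2 hy
  -- `f`
  obtain ⟨f, hf⟩ : ∃ f, f = y 9 * y 7 ^ 2 := ⟨_, rfl⟩
  have f5 : f ^ 5 = 1 := by
    rw [hf, ← e5]
    simp only [pow_succ, pow_zero, one_mul, mul_assoc]
  have hpf : y 7 * f = y 9 * y 7 * y 9 := by
    rw [hf, mul_assoc (y 9), e1]
    simp only [pow_succ, pow_zero, one_mul]
  have f2 : f ^ 2 = y 7 ^ 3 * y 9 * y 7 ^ 3 := by
    calc f ^ 2 = (y 9 * (y 7 * (y 7 * y 9))) * y 7 ^ 2 := by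
          rw [hf]; simp only [pow_succ, pow_zero, one_mul, mul_assoc]
      _ = _ := by
          rw [e2]; simp only [pow_succ, pow_zero, one_mul, mul_assoc]
  have f3 : f ^ 3 = y 7 * y 9 * y 7 := by
    calc f ^ 3 = f ^ 2 * f := pow_succ f 2
      _ = y 7 ^ 3 * (y 9 * (y 7 * (y 7 * (y 7 * y 9)))) * y 7 ^ 2 := by
          rw [f2, hf]; simp only [pow_succ, pow_zero, one_mul, mul_assoc]
      _ = y 7 ^ 4 * (y 7 * y 9 * y 7) * y 7 ^ 4 := by
          rw [e3]; simp only [pow_succ, pow_zero, one_mul, mul_assoc]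
      _ = _ := by rw [p4, one_mul, mul_one]
  have hpf' : y 7 * f = f ^ 3 * y 7 := by
    rw [f3, hf]; simp only [pow_succ, pow_zero, one_mul, mul_assoc]
  have f1 : f ≠ 1 := by
    intro h
    rw [h, one_pow] at f3
    rw [h] at hf
    -- `y 9 = y 7 ^ 2` is in `U`
    have h9 : y 9 = y 7 ^ 2 := by
      calc y 9 = y 9 * y 7 ^ 4 := by rw [p4, mul_one]
        _ = (y 9 * y 7 ^ 2) * y 7 ^ 2 := by rw [mul_assoc, ← pow_add]
        _ = _ := by rw [← hf, one_mul]
    refine n_not_mem (rd hy) hX hU hG hcard true ?_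
    rw [n9, h9]
    exact pow_mem (mem_V y (by norm_num) (by norm_num)) 2
  have s7n : σ (y 7 * f) = y 7 * f ∨ σ (y 7 * f) = (y 7 * f) ^ 3 := by
    obtain ⟨x, hx, h⟩ := mN y7X
    rw [n9] at h
    have hq : ∀ k : ℕ, (y 9 * y 7 * y 9) ^ k = y 9 * y 7 ^ k * y 9 := by
      intro k
      have h1 : (y 9)⁻¹ = y 9 := inv_eq_of_mul_eq_one_left nn9
      have h2 := conj_pow (i := k) (a := y 9) (b := y 7)
      rwa [h1] at h2
    have hx1 : x ^ 2 ≠ 1 := by
      intro hx2
      have h3 : σ ((y 9 * y 7 * y 9) ^ 2) = 1 := by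
        rw [map_pow, h]
        calc (y 9 * x * y 9) ^ 2 = y 9 * x * (y 9 * y 9) * x * y 9 := by rw [pow_two]; group
          _ = y 9 * x ^ 2 * y 9 := by rw [nn9, mul_one, pow_two]; group
          _ = 1 := by rw [hx2, mul_one, nn9]
      have h4 : (y 9 * y 7 * y 9) ^ 2 = 1 := σ.injective (by rw [h3, map_one])
      rw [hq] at h4
      apply h7
      calc y 7 ^ 2 = (y 9 * y 9) * y 7 ^ 2 * (y 9 * y 9) := by rw [nn9]; group
        _ = y 9 * (y 9 * y 7 ^ 2 * y 9) * y 9 := by group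
        _ = 1 := by rw [h4, mul_one, nn9]
    rw [hpf]
    rcases z7 x hx hx1 with h2 | h2
    · left; rw [h, h2]
    · right; rw [h, h2, hq]
  obtain ⟨r7, rf⟩ := frob p4 f5 hpf' f1 σ s7 s7n
  have s9 : σ (y 9) = y 9 := by
    have h9 : y 9 = f * y 7 ^ 2 := by
      rw [hf, mul_assoc, ← pow_add, p4, mul_one]
    conv_lhs => rw [h9]
    rw [map_mul, map_pow, rf, r7]
    exact h9.symm
  -- all letters are fixed
  have hall : ∀ g : Γ, σ g = g := by
    intro g
    let F : Subgroup Γ := MonoidHom.eqLocus (σ : Γ ≃* Γ).toMonoidHom (MonoidHom.id Γ)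
    have h1 : closure (y '' {i | i < 10}) ≤ F := gen4 hy F s0 r7 s8 s9
    rw [hgen] at h1
    exact h1 (mem_top g)
  intro g
  have h1 := hall g
  rw [hσ] at h1
  calc τ g = a * (a⁻¹ * τ g * a) * a⁻¹ := by group
    _ = _ := by rw [h1]

/-- the derived group has index 2 -/
theorem min_normal (hcore : ∀ N : Subgroup Γ, N.Normal → N ≤ V y 0 → N = ⊥) (N : Subgroup Γ) (hN : N.Normal)
    (hne : N ≠ ⊥) : commutator Γ ≤ N := by
  apply commutator_le_of_sup hy hgen N hU
  refine (rd hy).normal_sup_U ?_ ?_ N ?_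
  · rw [rd_G hy, hgen]
  · exact exists_ne (rd hy) (card_X hy h0 h7) hU (by rw [rd_G hy, hgen]) hcard
  · intro hle
    exact hne (hcore N hN hle)

theorem conj_injective (hcore : ∀ N : Subgroup Γ, N.Normal → N ≤ V y 0 → N = ⊥)
    (hna : ¬ IsMulCommutative (commutator Γ)) :
    Function.Injective (MulAut.conjNormal : Γ →* MulAut (commutator Γ)) := by
  rw [← MonoidHom.ker_eq_bot_iff]
  by_contra hne
  have h1 := min_normal hy hgen hcard hU h0 h7 hcore _ (MonoidHom.normal_ker _) hne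
  apply hna
  rw [isMulCommutative_iff]
  rintro ⟨a, ha⟩ ⟨b, hb⟩
  have h2 := MonoidHom.mem_ker.1 (h1 ha)
  have h3 := congrArg (fun φ : MulAut (commutator Γ) => ((φ ⟨b, hb⟩ : commutator Γ) : Γ)) h2
  simp only [MulAut.conjNormal_apply, MulAut.one_apply] at h3
  exact Subtype.ext (mul_inv_eq_iff_eq_mul.1 h3)

/-- **the image of `U` is self-normalizing in `Aut K`** -/
theorem norm_map (hcore : ∀ N : Subgroup Γ, N.Normal → N ≤ V y 0 → N = ⊥)
    (hna : ¬ IsMulCommutative (commutator Γ)) (hsup : commutator Γ ⊔ V y 0 = ⊤)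
    (τ : MulAut (commutator Γ))
    (hτ : τ ∈ normalizer (((V y 0).map (MulAut.conjNormal : Γ →* MulAut (commutator Γ)) :
      Subgroup (MulAut (commutator Γ))) : Set (MulAut (commutator Γ)))) :
    τ ∈ (V y 0).map (MulAut.conjNormal : Γ →* MulAut (commutator Γ)) := by
  set ι : Γ →* MulAut (commutator Γ) := MulAut.conjNormal with hι
  have hinj : Function.Injective ι := conj_injective hy hgen hcard hU h0 h7 hcore hna
  rw [mem_normalizer_iff] at hτ
  have hK : ∀ k : commutator Γ, τ * ι (k : Γ) * τ⁻¹ = ι ((τ k : commutator Γ) : Γ) := by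
    intro k
    ext x
    show ((τ (ι (k : Γ) (τ⁻¹ x)) : commutator Γ) : Γ) = ((ι ((τ k : commutator Γ) : Γ) x : commutator Γ) : Γ)
    have h1 : ι (k : Γ) (τ⁻¹ x) = k * τ⁻¹ x * k⁻¹ := by
      apply Subtype.ext
      rw [hι, MulAut.conjNormal_apply]
      rfl
    rw [h1, map_mul, map_mul, map_inv, MulAut.apply_inv_self, hι, MulAut.conjNormal_apply]
    rfl
  have hR : ∀ g : Γ, τ * ι g * τ⁻¹ ∈ ι.range := by
    intro g
    have hg : g ∈ commutator Γ ⊔ V y 0 := by rw [hsup]; trivial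
    obtain ⟨k, hk, u, hu, rfl⟩ := Subgroup.mem_sup_of_normal_left.mp hg
    have h1 : τ * ι (k * u) * τ⁻¹ = (τ * ι ((⟨k, hk⟩ : commutator Γ) : Γ) * τ⁻¹) * (τ * ι u * τ⁻¹) := by
      rw [map_mul]; group
    rw [h1, hK]
    refine mul_mem ⟨_, rfl⟩ ?_
    obtain ⟨v, hv, hvu⟩ := (hτ (ι u)).1 ⟨u, hu, rfl⟩
    rw [← hvu]
    exact ⟨v, rfl⟩
  -- the induced automorphism of `Γ`
  let e : Γ ≃* ι.range := MonoidHom.ofInjective hinj
  let F : Γ →* ι.range := ((MulAut.conj τ).toMonoidHom.comp ι).codRestrict ι.range (fun g => hR g)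
  let σ0 : Γ →* Γ := e.symm.toMonoidHom.comp F
  have hσ0 : ∀ g, ι (σ0 g) = τ * ι g * τ⁻¹ := by
    intro g
    have h1 : e (σ0 g) = F g := e.apply_symm_apply _
    have h2 := congrArg (fun q : ι.range => (q : MulAut (commutator Γ))) h1
    exact h2
  have hσi : Function.Injective σ0 := by
    rw [injective_iff_map_eq_one]
    intro g hg
    have h1 := hσ0 g
    rw [hg, map_one] at h1
    apply hinj
    rw [map_one]
    calc ι g = τ⁻¹ * (τ * ι g * τ⁻¹) * τ := by group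
      _ = 1 := by rw [← h1]; group
  let σ : MulAut Γ := MulEquiv.ofBijective σ0 (Finite.injective_iff_bijective.1 hσi)
  have hσ : ∀ g, ι (σ g) = τ * ι g * τ⁻¹ := hσ0
  obtain ⟨a, ha, haσ⟩ := inner_of_map hy hgen hcard hU h0 h7 σ (fun u hu => by
    obtain ⟨v, hv, hvu⟩ := (hτ (ι u)).1 ⟨u, hu, rfl⟩
    rw [← hσ] at hvu
    rw [← hinj hvu]
    exact hv)
  refine ⟨a, ha, ?_⟩
  ext k
  have h1 : ι ((τ k : commutator Γ) : Γ) = ι (a * (k : Γ) * a⁻¹) := by
    rw [← hK, ← hσ, haσ]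
  have h2 := hinj h1
  rw [h2, hι, MulAut.conjNormal_apply]

/-- **the 2-part of `|Aut K|`** -/
theorem not_dvd_abs (hcore : ∀ N : Subgroup Γ, N.Normal → N ≤ V y 0 → N = ⊥)
    (hna : ¬ IsMulCommutative (commutator Γ)) (hsup : commutator Γ ⊔ V y 0 = ⊤) :
    ¬ 2 ^ 13 ∣ Nat.card (MulAut (commutator Γ)) := by
  intro h
  have : Fact (Nat.Prime 2) := ⟨Nat.prime_two⟩
  have hinj := conj_injective hy hgen hcard hU h0 h7 hcore hna
  have hc : Nat.card ((V y 0).map (MulAut.conjNormal : Γ →* MulAut (commutator Γ))) = 2 ^ 12 := by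
    rw [← Nat.card_congr ((V y 0).equivMapOfInjective _ hinj).toEquiv, hU]
    norm_num
  have h1 := Sylow.prime_pow_dvd_card_normalizer (p := 2) (n := 12) h hc
  have h2 : normalizer (((V y 0).map (MulAut.conjNormal : Γ →* MulAut (commutator Γ)) :
      Subgroup (MulAut (commutator Γ))) : Set (MulAut (commutator Γ))) =
      (V y 0).map (MulAut.conjNormal : Γ →* MulAut (commutator Γ)) :=
    le_antisymm (fun τ hτ => norm_map hy hgen hcard hU h0 h7 hcore hna hsup τ hτ) le_normalizer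
  rw [h2, hc] at h1
  norm_num at h1

end Main

/-! ### The Tits group -/

theorem out_of {K : Type*} [Group K] (hc : center K = ⊥) {m : ℕ} (hm : Nat.card K = 2 ^ 11 * m)
    (h : ¬ 2 ^ 13 ∣ Nat.card (MulAut K)) : ¬ 4 ∣ (MulAut.conj : K →* MulAut K).range.index := by
  intro h4
  apply h
  have h1 : Function.Injective (MulAut.conj : K →* MulAut K) := by
    rw [← MonoidHom.ker_eq_bot_iff, eq_bot_iff, ← hc]
    intro g hg
    rw [mem_center_iff]
    intro x
    have h2 := congrArg (fun φ : MulAut K => φ x) (MonoidHom.mem_ker.1 hg)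
    simp only [MulAut.conj_apply, MulAut.one_apply] at h2
    exact (mul_inv_eq_iff_eq_mul.1 h2).symm
  have h2 : Nat.card (MulAut.conj : K →* MulAut K).range = 2 ^ 11 * m := by
    rw [← hm]
    exact Nat.card_congr (MonoidHom.ofInjective h1).toEquiv.symm
  rw [← Subgroup.index_mul_card (MulAut.conj : K →* MulAut K).range, h2]
  obtain ⟨k, hk⟩ := h4
  exact ⟨k * m, by rw [hk]; ring⟩

section Concrete

open Cfsg.Agent.ChevalleyStructure.Tits.Pack Cfsg.Agent.ChevalleyStructure.Tits.Mat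
  Cfsg.Agent.ChevalleyStructure.Tits.Order Cfsg.Agent.ChevalleyStructure.Tits.Main
open scoped MatrixGroups

theorem fin_H0 : Finite H0 := Nat.finite_of_card_ne_zero (by rw [card_H0]; norm_num)

theorem yH7_sq : yH 7 ^ 2 ≠ 1 := by
  intro h
  have h1 : ((yH 7 ^ 2 : H0) : GL I52 (ZMod 2)) = 1 := by rw [h]; rfl
  have h2' : yH 7 ^ 2 = ([7, 7].map yH).prod := by
    rw [List.map_cons, List.map_cons, List.map_nil, List.prod_cons, List.prod_cons, List.prod_nil, mul_one, pow_two]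
  have h2 : ((yH 7 ^ 2 : H0) : GL I52 (ZMod 2)) = ([7, 7].map yG).prod := by
    rw [h2', coe_list [7, 7] (by decide)]
  have h3 := not_mem_cert (c := ([], [1], [7, 7])) (by decide +kernel)
  apply h3
  have h4 : ((([] : List (List ℕ)), [1], [7, 7]).2.2.map yG).prod = ([7, 7].map yG).prod := rfl
  rw [h4, ← h2, h1]
  exact Subgroup.one_mem _

theorem yH7_not_mem : yH 7 ∉ commutator H0 := by
  have := fin_H0
  obtain ⟨χ, hχ⟩ := exists_sign Sat_yH gen_yH card_H0
  intro h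
  have h2 : commutator H0 ≤ χ.ker := Abelianization.commutator_subset_ker χ
  have h3 := h2 h
  rw [MonoidHom.mem_ker, hχ] at h3
  exact absurd h3 (by decide)

theorem sup_H0 : commutator H0 ⊔ V yH 0 = ⊤ := by
  have := fin_H0
  rw [eq_top_iff]
  intro g _
  have h7 : yH 7 ∈ V yH 0 := mem_V yH (by norm_num) (by norm_num)
  by_cases hg : g ∈ commutator H0
  · exact (le_sup_left : commutator H0 ≤ _) hg
  · have h1 : g * (yH 7)⁻¹ ∈ commutator H0 := by
      rw [Subgroup.mul_mem_iff_of_index_two H0_result.1]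
      refine iff_of_false hg fun h => yH7_not_mem ?_
      rwa [inv_mem_iff] at h
    have h2 : g = g * (yH 7)⁻¹ * yH 7 := by group
    rw [h2]
    exact mul_mem ((le_sup_left : commutator H0 ≤ _) h1) ((le_sup_right : V yH 0 ≤ _) h7)

theorem not_dvd_H0 : ¬ 2 ^ 13 ∣ Nat.card (MulAut (commutator H0)) := by
  have := fin_H0
  exact not_dvd_abs Sat_yH gen_yH card_H0 card_V_yH (yH_ne_one (by norm_num)) yH7_sq core H0_result.2.2.1 sup_H0

theorem card_mulAut_congr {G K : Type*} [Group G] [Group K] (T : Subgroup G) (e : K ≃* commutator T) :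
    Nat.card (MulAut K) = Nat.card (MulAut (commutator T)) := Nat.card_congr (MulAut.congr e).toEquiv

theorem not_dvd_aux (T : Subgroup (GL I52 (ZMod 2))) (hT : T = H0) :
    ¬ 2 ^ 13 ∣ Nat.card (MulAut (commutator T)) := by
  subst hT
  exact not_dvd_H0

theorem simple_aux (T : Subgroup (GL I52 (ZMod 2))) (hT : T = H0) : IsSimpleGroup (commutator T) := by
  subst hT
  exact H0_result.2.1

theorem not_comm_aux (T : Subgroup (GL I52 (ZMod 2))) (hT : T = H0) : ¬ IsMulCommutative (commutator T) := by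
  subst hT
  exact H0_result.2.2.1

theorem card_aux (T : Subgroup (GL I52 (ZMod 2))) (hT : T = H0) :
    Nat.card (commutator T) = 2 ^ 11 * 3 ^ 3 * 5 ^ 2 * 13 := by
  subst hT
  exact H0_result.2.2.2

/-- the isomorphism with the matrix model -/
theorem exists_equiv {K : Type*} [Group K] (h : Cfsg.Lie.IsoTits K) :
    ∃ T : Subgroup (GL I52 (ZMod 2)), T = H0 ∧ Nonempty (K ≃* commutator T) :=
  ⟨Cfsg.Lie.twistedF4 (ZMod 2) 1, T0_eq_H0, h⟩

section Iso

variable {K : Type*} [Group K]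

theorem simple_of {G : Type*} [Group G] (T : Subgroup G) (hC : IsSimpleGroup (commutator T))
    (e : K ≃* commutator T) : IsSimpleGroup K := e.isSimpleGroup

theorem comm_of {G : Type*} [Group G] (T : Subgroup G) (hC : ¬ IsMulCommutative (commutator T))
    (e : K ≃* commutator T) : ¬ IsMulCommutative K := by
  intro h
  apply hC
  rw [isMulCommutative_iff] at h ⊢
  intro a b
  have h1 := h (e.symm a) (e.symm b)
  rw [← map_mul, ← map_mul] at h1
  exact e.symm.injective h1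

theorem center_of (hs : IsSimpleGroup K) (hna : ¬ IsMulCommutative K) : center K = ⊥ := by
  rcases hs.eq_bot_or_eq_top_of_normal (center K) inferInstance with h1 | h1
  · exact h1
  · exfalso
    apply hna
    rw [isMulCommutative_iff]
    intro a b
    have h2 : b ∈ center K := by rw [h1]; trivial
    exact mem_center_iff.1 h2 a

variable (h : Cfsg.Lie.IsoTits K)

include h

theorem simple_iso : IsSimpleGroup K := by
  obtain ⟨T, hT, ⟨e⟩⟩ := exists_equiv h
  exact simple_of T (simple_aux T hT) e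

theorem not_comm_iso : ¬ IsMulCommutative K := by
  obtain ⟨T, hT, ⟨e⟩⟩ := exists_equiv h
  exact comm_of T (not_comm_aux T hT) e

theorem card_iso : Nat.card K = 2 ^ 11 * (3 ^ 3 * 5 ^ 2 * 13) := by
  obtain ⟨T, hT, ⟨e⟩⟩ := exists_equiv h
  rw [Nat.card_congr e.toEquiv]
  exact (card_aux T hT).trans (by norm_num)

theorem finite_iso : Finite K := Nat.finite_of_card_ne_zero (by rw [card_iso h]; norm_num)

theorem center_iso : center K = ⊥ := center_of (simple_iso h) (not_comm_iso h)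

/-- **`2 ^ 13` does not divide the order of the automorphism group of the Tits group.** -/
theorem not_dvd_iso : ¬ 2 ^ 13 ∣ Nat.card (MulAut K) := by
  obtain ⟨T, hT, ⟨e⟩⟩ := exists_equiv h
  rw [card_mulAut_congr T e]
  exact not_dvd_aux T hT

/-- **the outer automorphism group of the Tits group has order not divisible by 4** -/
theorem out_iso : ¬ 4 ∣ (MulAut.conj : K →* MulAut K).range.index :=
  out_of (center_iso h) (card_iso h) (not_dvd_iso h)

end Iso

end Concrete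

end Cfsg.Agent.Omega.TwoF.TitsAut
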