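import Mathlib.GroupTheory.Index
import Mathlib.Tactic

/-!
# Commutative subgroups of a group with derived subgroup of order two (helper703)

`card_mul_self_le`: if the commutators of `Q` lie in `{1, z}` and the centre of `Q` is contained in `{1, z}`, then a
commutative subgroup `B` of `Q` satisfies `|B|² ≤ 2 |Q|`.
-/

set_option autoImplicit false

namespace Cfsg.Agent.Omega.TwoF.ExtraRank

open Subgroup Finset

variable {G : Type*} [Group G]

section

variable {Q : Subgroup G} {z : G}

open scoped Classical in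
/-- the commutation sign -/
noncomputable def sg (a b : G) : ℤ := if a * b = b * a then 1 else -1

theorem sg_eq_one {a b : G} (h : a * b = b * a) : sg a b = 1 := if_pos h

theorem sg_eq_neg {a b : G} (h : a * b ≠ b * a) : sg a b = -1 := if_neg h

theorem sg_comm (a b : G) : sg a b = sg b a := by
  by_cases h : a * b = b * a
  · rw [sg_eq_one h, sg_eq_one h.symm]
  · rw [sg_eq_neg h, sg_eq_neg (Ne.symm h)]

/-- multiplicativity in the first variable, one factor anticommuting -/
theorem sg_mul (hcomm : ∀ a ∈ Q, ∀ b ∈ Q, a * b = b * a ∨ a * b = z * (b * a)) (hz : ∀ a ∈ Q, z * a = a * z)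
    (hzz : z * z = 1) (hz1 : z ≠ 1) {a b c : G} (ha : a ∈ Q) (hb : b ∈ Q) (hc : c ∈ Q) (h : a * c ≠ c * a) :
    sg (a * b) c = - sg b c := by
  have h1 : a * c = z * (c * a) := (hcomm a ha c hc).resolve_left h
  by_cases h2 : b * c = c * b
  · have h3 : a * b * c = z * (c * (a * b)) := by
      rw [mul_assoc, h2, ← mul_assoc, h1, mul_assoc, mul_assoc]
    rw [sg_eq_one h2, sg_eq_neg]
    rw [h3]
    intro h4
    exact hz1 (mul_eq_right.1 h4)
  · have h5 : b * c = z * (c * b) := (hcomm b hb c hc).resolve_left h2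
    have h3 : a * b * c = c * (a * b) := by
      calc a * b * c = a * (b * c) := mul_assoc _ _ _
        _ = a * (z * (c * b)) := by rw [h5]
        _ = (z * a) * (c * b) := by rw [hz a ha, mul_assoc]
        _ = z * (a * c) * b := by group
        _ = z * (z * (c * a)) * b := by rw [h1]
        _ = (z * z) * (c * (a * b)) := by group
        _ = c * (a * b) := by rw [hzz, one_mul]
    rw [sg_eq_neg h2, sg_eq_one h3, neg_neg]

/-- the sum over a subgroup of a sign which is not constantly 1 -/
theorem sum_sg [Finite G] (hcomm : ∀ a ∈ Q, ∀ b ∈ Q, a * b = b * a ∨ a * b = z * (b * a))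
    (hz : ∀ a ∈ Q, z * a = a * z) (hzz : z * z = 1) (hz1 : z ≠ 1) {B : Subgroup G} (hB : B ≤ Q) [Fintype B]
    {c : G} (hc : c ∈ Q) (h : ∃ b ∈ B, b * c ≠ c * b) : ∑ b : B, sg (b : G) c = 0 := by
  obtain ⟨b₀, hb₀, hb⟩ := h
  have h1 : ∑ b : B, sg (b : G) c = ∑ b : B, sg (((⟨b₀, hb₀⟩ : B) * b : B) : G) c :=
    (Equiv.sum_comp (Equiv.mulLeft (⟨b₀, hb₀⟩ : B)) fun b : B => sg (b : G) c).symm
  have h2 : ∑ b : B, sg (((⟨b₀, hb₀⟩ : B) * b : B) : G) c = - ∑ b : B, sg (b : G) c := by
    rw [← Finset.sum_neg_distrib]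
    exact Finset.sum_congr rfl fun b _ => sg_mul hcomm hz hzz hz1 (hB hb₀) (hB b.2) hc hb
  rw [h2] at h1
  omega

/-- **Commutative subgroups**: `|B|² ≤ 2 |Q|`. -/
theorem card_mul_self_le [Finite G] (hcomm : ∀ a ∈ Q, ∀ b ∈ Q, a * b = b * a ∨ a * b = z * (b * a))
    (hz : ∀ a ∈ Q, z * a = a * z) (hzz : z * z = 1) (hz1 : z ≠ 1)
    (hcent : ∀ a ∈ Q, (∀ b ∈ Q, a * b = b * a) → a = 1 ∨ a = z) {B : Subgroup G} (hB : B ≤ Q)
    (hBB : ∀ a ∈ B, ∀ b ∈ B, a * b = b * a) : Nat.card B * Nat.card B ≤ 2 * Nat.card Q := by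
  classical
  have := Fintype.ofFinite G
  have hBf : Fintype B := Fintype.ofFinite B
  have hQf : Fintype Q := Fintype.ofFinite Q
  rw [Nat.card_eq_fintype_card, Nat.card_eq_fintype_card]
  -- the double sum
  have h1 : ∑ q : Q, ∑ b : B, sg (b : G) (q : G) = ∑ b : B, ∑ q : Q, sg (q : G) (b : G) := by
    rw [Finset.sum_comm]
    exact Finset.sum_congr rfl fun b _ => Finset.sum_congr rfl fun q _ => sg_comm _ _
  -- the left-hand side
  have h2 : (Fintype.card B * Fintype.card B : ℤ) ≤ ∑ q : Q, ∑ b : B, sg (b : G) (q : G) := by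
    have h3 : ∀ q : Q, (if (q : G) ∈ B then (Fintype.card B : ℤ) else 0) ≤ ∑ b : B, sg (b : G) (q : G) := by
      intro q
      by_cases hq : ∀ b ∈ B, b * (q : G) = q * b
      · have h4 : ∑ b : B, sg (b : G) (q : G) = Fintype.card B := by
          have h5 : ∑ b : B, sg (b : G) (q : G) = ∑ _b : B, (1 : ℤ) :=
            Finset.sum_congr rfl fun b _ => sg_eq_one (hq b b.2)
          rw [h5]
          simp
        rw [h4]
        split_ifs <;> simp
      · push Not at hq
        rw [sum_sg hcomm hz hzz hz1 hB q.2 hq, if_neg]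
        intro hqB
        obtain ⟨b, hb, h5⟩ := hq
        exact h5 (hBB b hb q hqB)
    refine le_trans (le_of_eq ?_) (Finset.sum_le_sum fun q _ => h3 q)
    rw [← Finset.sum_filter, Finset.sum_const, nsmul_eq_mul]
    congr 1
    have h4 : Fintype.card B = (Finset.univ.filter fun q : Q => (q : G) ∈ B).card := by
      rw [← Fintype.card_subtype]
      exact Fintype.card_congr
        { toFun := fun b => ⟨⟨b, hB b.2⟩, b.2⟩
          invFun := fun q => ⟨q.1, q.2⟩
          left_inv := fun _ => rfl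
          right_inv := fun _ => rfl }
    exact_mod_cast h4
  -- the right-hand side
  have h5 : ∑ b : B, ∑ q : Q, sg (q : G) (b : G) ≤ 2 * (Fintype.card Q : ℤ) := by
    have h6 : ∀ b : B, ∑ q : Q, sg (q : G) (b : G) ≤ if ((b : G) = 1 ∨ (b : G) = z) then (Fintype.card Q : ℤ) else 0 := by
      intro b
      by_cases hb : ((b : G) = 1 ∨ (b : G) = z)
      · rw [if_pos hb]
        have h7 : ∀ q ∈ (Finset.univ : Finset Q), sg (q : G) (b : G) ≤ 1 := by
          intro q _
          by_cases h : (q : G) * b = b * q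
          · rw [sg_eq_one h]
          · rw [sg_eq_neg h]; norm_num
        refine (Finset.sum_le_sum h7).trans ?_
        simp
      · rw [if_neg hb, sum_sg hcomm hz hzz hz1 le_rfl (hB b.2)]
        by_contra hcon
        push Not at hcon
        exact hb (hcent b (hB b.2) fun q hq => (hcon q hq).symm)
    refine (Finset.sum_le_sum fun b _ => h6 b).trans ?_
    rw [← Finset.sum_filter, Finset.sum_const, nsmul_eq_mul]
    refine mul_le_mul_of_nonneg_right ?_ (by positivity)
    have h8 : (Finset.univ.filter fun b : B => ((b : G) = 1 ∨ (b : G) = z)).card ≤ ({1, z} : Finset G).card := by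
      refine Finset.card_le_card_of_injOn (fun b : B => (b : G)) ?_ (fun a _ b _ h => Subtype.ext h)
      intro b hb
      have h9 := (Finset.mem_filter.1 (Finset.mem_coe.1 hb)).2
      rcases h9 with h9 | h9 <;> simp [h9]
    have h10 := h8.trans Finset.card_le_two
    exact_mod_cast h10
  have h11 : (Fintype.card B * Fintype.card B : ℤ) ≤ 2 * (Fintype.card Q : ℤ) := h2.trans (h1.le.trans h5)
  exact_mod_cast h11

end

end Cfsg.Agent.Omega.TwoF.ExtraRank
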