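import Cfsg.Agent.Omega.TwoF.RowTool
import Cfsg.Agent.Omega.KFacts
import Cfsg.Agent.FixBN.HeCent
import Cfsg.Agent.KFacts.He.Cent
import Cfsg.Agent.KFacts.He.Classes
import Cfsg.Agent.OddHalf.UT5.KBasic

/-!
# TABLE 2F, row `He` (helper40)

`LB 21` through an explicit `7^{1+2}` (and the prime 17), `RK 9` through an element of order 8.
-/

set_option autoImplicit false
set_option Elab.async false

namespace Cfsg.Agent.Omega.TwoF.RowHe

open Cfsg.Agent.Omega.Lie.Heis Cfsg.Agent.FixBN.HeCent Cfsg.Agent.FixBN.HeData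
open Cfsg.Agent.KFacts.He.Words Cfsg.Agent.Held.Letters Cfsg.Agent.SporadicRecognition.CosetCert

universe u v w

theorem Z_ne : Z ≠ 1 := by
  intro h
  have h1 : Cfsg.Agent.SporadicB.HePerm.phi Z 2 = 2 := by rw [h, map_one]; rfl
  have h2 := Cfsg.Agent.SporadicB.HePerm.phi_wd_apply zW 2
  have h3 : Cfsg.Agent.SporadicB.HePerm.act zW 2 = 2 := by
    rw [show ((2 : Fin 2058) : ℕ) = 2 from rfl] at h2
    rw [← h2]
    exact congrArg Fin.val h1
  exact absurd h3 (by decide +kernel)

theorem heis : Heis 7 1 Z (fun _ => P₁) (fun _ => P₂) where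
  prime := by norm_num
  zr := Z_pow
  xr := fun _ => P₁_pow
  zx := fun _ => comm_P₁_Z.symm
  zy := fun _ => comm_P₂_Z.symm
  xx := fun _ _ => rfl
  yx := fun i j h => absurd (Subsingleton.elim i j) h
  conj := fun _ => by
    rw [P₂_P₁, comm_P₂_Z, mul_assoc, mul_assoc, mul_inv_cancel, mul_one]

theorem orderOf_two_seven : orderOf (2 : ZMod 7) = 3 := by
  have : Fact (Nat.Prime 3) := ⟨by norm_num⟩
  exact orderOf_eq_prime (by decide) (by decide)

theorem orderOf_two_17 : orderOf (2 : ZMod 17) = 8 := by
  have : Fact (Nat.Prime 2) := ⟨by norm_num⟩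
  have h := orderOf_eq_prime_pow (p := 2) (n := 2) (x := (2 : ZMod 17)) (by decide) (by decide)
  simpa using h

/-- an element of order 8 -/
def g8 : Cfsg.Spor.He := ev (gy xr y1 y2) [0, 4, 7, 9]

theorem orderOf_g8 : orderOf g8 = 2 ^ 3 := by
  have : Fact (Nat.Prime 2) := ⟨by norm_num⟩
  refine orderOf_eq_prime_pow (p := 2) (n := 2) ?_ ?_
  · have h : ev (gy xr y1 y2) (List.replicate 4 [0, 4, 7, 9]).flatten ≠ ev (gy xr y1 y2) [] :=
      wne (i := 2) (by norm_num) (by decide +kernel)
    rw [ev_flatten, ev_nil] at h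
    exact h
  · have h := weq (u := (List.replicate 8 [0, 4, 7, 9]).flatten) (v := []) (by decide +kernel)
    rw [ev_flatten, ev_nil] at h
    exact h

theorem card_of {K : Type u} [Group K] (h : Cfsg.Spor.IsoHe K) : IsSimpleGroup K ∧ Nat.card K = 4030387200 := by
  obtain ⟨e⟩ := h
  have := KFacts.He.Cent.simpleHe
  exact ⟨MulEquiv.isSimpleGroup e, by rw [Nat.card_congr e.toEquiv, KFacts.He.Cent.card_He]⟩

theorem center_bot {K : Type u} [Group K] (h : Cfsg.Spor.IsoHe K) : Subgroup.center K = ⊥ := by
  obtain ⟨hs, hc⟩ := card_of h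
  have hfin : Finite K := Nat.finite_of_card_ne_zero (by rw [hc]; norm_num)
  rcases hs.eq_bot_or_eq_top_of_normal (Subgroup.center K) inferInstance with h1 | h1
  · exact h1
  · exfalso
    have hcomm : ∀ a b : K, a * b = b * a := by
      intro a b
      have : b ∈ Subgroup.center K := by rw [h1]; trivial
      exact Subgroup.mem_center_iff.1 this a
    let _ : CommGroup K := { ‹Group K› with mul_comm := hcomm }
    have h2 : (Nat.card K).Prime := IsSimpleGroup.prime_card
    rw [hc] at h2
    norm_num at h2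

theorem lb {K : Type u} [Group K] (h : Cfsg.Spor.IsoHe K) : Cfsg.Agent.Omega.Lie.Heis.LB.{u, v, w} K 21 := by
  obtain ⟨hs, hc⟩ := card_of h
  obtain ⟨i⟩ := h
  let e : Cfsg.Spor.He ≃* K := i.symm
  have hfin : Finite K := Nat.finite_of_card_ne_zero (by rw [hc]; norm_num)
  have hh : Heis 7 1 (e Z) (fun _ => e P₁) (fun _ => e P₂) := by
    have H := heis
    exact {
      prime := H.prime
      zr := by rw [← map_pow, H.zr, map_one]
      xr := fun i => by rw [← map_pow, H.xr i, map_one]
      zx := fun i => by rw [← map_mul, ← map_mul, H.zx i]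
      zy := fun i => by rw [← map_mul, ← map_mul, H.zy i]
      xx := fun _ _ => rfl
      yx := fun i j hij => absurd (Subsingleton.elim i j) hij
      conj := fun i => by rw [← map_inv, ← map_mul, ← map_mul, ← map_mul, H.conj i] }
  refine LB.heis hh (by norm_num) (fun h1 => Z_ne ?_) (p := 17) (by norm_num) (by norm_num) ?_ ?_ ?_
  · exact (MulEquiv.map_eq_one_iff e).1 h1
  · rw [hc]; norm_num
  · rw [orderOf_two_seven]; norm_num
  · rw [orderOf_two_seven, orderOf_two_17]; decide

theorem rk {K : Type u} [Group K] (h : Cfsg.Spor.IsoHe K) : Rk.RK.{v} K 9 := by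
  obtain ⟨hs, hc⟩ := card_of h
  have hcb := center_bot h
  obtain ⟨i⟩ := h
  let e : Cfsg.Spor.He ≃* K := i.symm
  have hfin : Finite K := Nat.finite_of_card_ne_zero (by rw [hc]; norm_num)
  have hfin' : Finite (MulAut K) := Finite.of_injective (fun f : MulAut K => (f : K → K)) fun a b hab =>
    MulEquiv.ext fun x => congrFun hab x
  -- the index of the inner automorphisms
  have hyp' : SporadicRecognition.HeldModel.Hyp (e KFacts.He.Bound.z) (e.toMonoidHom.comp KFacts.He.Hyp.iota) := by
    have h := KFacts.He.Hyp.hyp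
    exact {
      inj := e.injective.comp h.inj
      map_zz := by
        show e (KFacts.He.Hyp.iota SporadicRecognition.HeldModel.zC) = _
        rw [h.map_zz]
      range := by
        rw [MonoidHom.range_comp, h.range]
        ext x
        rw [Subgroup.mem_map]
        constructor
        · rintro ⟨y, hy, rfl⟩
          rw [Subgroup.mem_centralizer_singleton_iff] at hy ⊢
          show e y * e _ = e _ * e y
          rw [← map_mul, hy, map_mul]
        · intro hx
          rw [Subgroup.mem_centralizer_singleton_iff] at hx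
          refine ⟨e.symm x, ?_, e.apply_symm_apply x⟩
          rw [Subgroup.mem_centralizer_singleton_iff]
          apply e.injective
          rw [map_mul, map_mul, e.apply_symm_apply, hx] }
  have hi := OddHalf.UT5.KBasic.index_le_two hyp'
  refine Rk.rk_of_elt (e := 11) (k := 3) ?_ (e g8) ?_ (by norm_num)
  · refine RowTool.factorization_mulAut hcb (by rcases hi with h | h <;> rw [h] <;> norm_num) (e := 10) ?_
    rw [hc]
    have h2 : ¬ 2 ^ 11 ∣ 4030387200 := by norm_num
    by_contra hcon
    exact h2 ((Nat.prime_two.pow_dvd_iff_le_factorization (by norm_num)).2 (by omega))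
  · rw [MulEquiv.orderOf_eq, orderOf_g8]

/-- **the row He of TABLE 2F** -/
theorem dead {K : Type v} [Group K] (h : Cfsg.Spor.IsoHe K) : Dead2.{u} K := by
  obtain ⟨hs, hc⟩ := card_of h
  have hfin : Finite K := Nat.finite_of_card_ne_zero (by rw [hc]; norm_num)
  exact RowTool.dead (center_bot h) (lb h) (rk h) (by norm_num)

/-- **Row He of TABLE 2F.** -/
theorem row : KFacts.KillRow.{u} @Cfsg.Spor.IsoHe := by
  intro K _ h
  obtain ⟨hs, hc⟩ := card_of h
  exact (dead h).kill (center_bot h) hs.toNontrivial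

end Cfsg.Agent.Omega.TwoF.RowHe
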