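import Cfsg.Agent.KFacts.MulSpor.CoThree
import Cfsg.Agent.Omega.TwoF.RowTool
import Cfsg.Agent.OddHalf.D8.RowCo3

/-!
# TABLE 2F, row `Co3` (helper828)

`LB 20` through an explicit `5^{1+2}`, `RK 8` through an element of order 8.
-/

set_option autoImplicit false
set_option Elab.async false

namespace Cfsg.Agent.Omega.TwoF.RowCo3

open Cfsg.Agent.SporadicStructure.PermChain Cfsg.Agent.McLType.Chain Cfsg.Agent.Schreier.CoThreeGens
open Cfsg.Agent.KFacts.MulSpor.CoThreeTab Cfsg.Agent.KFacts.MulSpor.CoThree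
open Cfsg.Agent.LeechPack.X552 Cfsg.Agent.Schreier.CoThreeCent
open Cfsg.Agent.Omega.Lie.Heis

universe u v w

/-- the central element of `5^{1+2}` -/
def tz : ℕ := 0x348864b9ef60dad6ba0a70a0b471803620c881e17205752de6278bb85dfc6f454391702c42c359df0a5a713d820a88b3aded4ec0417521399948080f08d71140c41dd1e1cd842990c87503149692bc926a0377895e0c8b82506454ddb1c0ff085651896b0791839d7a7ac3316d1d620084f83f1c8744c8aa2b01a0349a7c83d07c1377607630ea5f8cc641983f4f63d1723e18b3ed101a082734cb4380b444bd3e9f81b8df7e8f038c221bd77234f20f9cb658d06a99b43538699a359a2141dc60d1d6591e08583171d9767dc06f9296b0a1724a84016d6c615265990d96105dbc6819e509d989d045b8ce5cdee738f77dda4748e07697440a127914619a24454b2524bf6154c7951f575f978d56214752adff4d8965814a5393f315542b8588641957d2251526541b64e59244dd4549ec2286c63e2580d587798780078301ba845a9879ab536225693a8989d84d2b79dd14d20f712017721b0304b09863060f3158403f014628013b4cd014da1f0091f8161b5676bc272804933c24008986ed9d0ecd514d14254ee1c4d7404e2414c88380e73d7934d623a0d9374c7644f10a17c6c9a2344440b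8ca4204236ca25a0de5d51200dc138443055252cc4d51c5520c304c0590e4b4564b948c00138e5224871ae10319f12398e048762e9275fc5e6187b3f86919c88240607d81111cc3145f318520018c1210813bd1a2307d55c91171e94d59a2c1b8815444dc2d521b90bd2d5a916871195705a695bf45d2c2712f2d5334c52a23c9756ca94f49b0804a852087a8356361a8357b5f4f56cdb57a0e987c9f429cc7d03c2b54043e092f1c530a064a1b7130d470d935bdf5324457c07f655782f9d54900a46d8128db4425b058dd72da048602524d41419ca88cec0e93c671fd295d8201fe121517ed762dd4374c6a0ac105b189104dc7405f1180706d4f29d0b07065074791e8a40e0f968555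
/-- an element of order 5 -/
def tx : ℕ := 0x89e25849f964a006321763a08829dc5e223845f65e8f873587729ff75224869f863d8377dc8656106518644dec78e0b75619790ef7d5ef5f621879883cd85731f184dc28157b8098a882147860d7d1f370dc779626745e25c5ce7f21c76d7f6017281e1b7a1d964e228617771203661798758d609d77761572cf67f9d087dc65d4fb779fa831743f4f583e01819e73f9d88258b3d1893e9d67b4f27c11274df265dcf43d91641963e4f0445737dd7674a04768eb331656c1ae395b937dbd5a9b642970591696ccd0669ba6a5b168d03670ff6fdaf3716e6d5ad3b563680d432d626896b67dbe5bcda410ec36109390de438dd678e06d0e23294c47c86569521b07b541594993f554bf4852546946238752e95f4f883558c1539444f5584806f49c815511c1ad405791b4e4822312231867300701fd60544bb1f48a504801f05e4d819198412ad2b298394c03d0a82c11d1728c620443c2a43e7a57e7ae1671584441e07edfd7a8f77b9813f17c799c1838f1725ab69ce6675aa5b0d631da86dd67701614159b694ee430c939dbc42cd3699006e10733cea38cd9598d1690e93216d6c9993850d409065a0d23a101338d76b1bb354cd6850836d5d5147351c8952919525434794f4ed23534b81a4882f0853155c54c873113a1e8722e54b1e0684a08b490841d87e1b48d55c742f8c32dd1d1c4bd1a9481b9421e4773095b4f04d08c552c4302d1164dd2e2449725918160900d454454374d43a1452d279332701e13d2910021098184c92a2cc1b0b4494b0b21840815c294c45c0484a140a52680a2b88f090632c00f014941383f030202d4a72a04c02c2b164b61145600442180640d0330684604c07274252b022194140d85b2893427c09018aa0e0324e04303852070440ed142849305c9217c48290980bc0d00c530a05d2805a4bcad0c416010af12c1d07c990409b09c950b81500800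
/-- an element of order 5 -/
def ty : ℕ := 0x6f1595595a88e1720922301f94d9265e0624f83d8005e829512a55f4ad53758644921a80a2281a0b81ca24de134aa245aa15899fe6bd5d1e9945706542943124b556d332d1f52c8fb52c7447823310a171de35152e4b4c52f85c2c48f161d355d775c11476dbd62a197c9b487132184fe2a8a77cdbf251ed16dec138ff1c83002609509be461917e1d588531622146c1a012842655122d9b97202b090eb79cac2200825cda7e996379a26d9d818c380cc9a5958f805d265d38739a35b9ae7c1346ea0f1148d2a20d745164e85060c9e05da97840f0298b0fe20439da5ad9c120dd360222ba0c5d0e05904386db1294ec15d040d96f678df3c93f895584952150208579ff481544f6123187b20144239551d51f0b0ba518ab000bf20d601f18e734474c12730439218674e59223141299ca45c81105501c14c1bd1a5e9f60443c4711b548f853a11198a32ec8a1b1d461c7d0a98c7707f0643e7a60e6a04b26dfd6a8a014dbb6756c611c1058d94bcd54310b7ae160c4ad435b836db735de669910175813999b254ee701a17b966400f77805a265ab31da45a2275f0e15b5fb421b23499938da76b161054ea34d070a0c907ce74190233c023a135520892e1f148dd04ed821d80c790c351cb306d798154f529df22cbc1351901de82721d860461fa10624a475ced444560697f669e20606d3cc371e4b9210593bc9015426260c2635f47bdc413c71215492442d5359087d9f5ec404f2037f05f1b97145492795dd21c7704c9f3d8061482f2590f1a4e507a1e7ddb54a1d90edcc0e9931a0346017d4a5c63d40b1cc350389d1a84c44cb72c0d0151cf6617672d69588fa3e4e21106061963811096ccdc4b1750c9733d0cc5c9de3911d708cb24dad328780a401048bd00cfd050f06142007021014250350370c51350fc3217e3581d724277a8e9714af404f10b967415a504004334d13386b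
/-- an element of order 8 -/
def tg : ℕ := 0x7dde8501dc2de05818a452a1880df6445f82d9b57f9a04155e899ac2ad282f1cc1c0806850f8957d3dd5a8446b275757280e535c676425504f9545d27108a411292f4a386c6f84d7923a0938992885ef821d745db382a1f285cd5b95832d4856c07320c67a9f56448453cb826054481c12b54b0b9dd4d60e6bd82875aa159b481dc92c1f43b11264de73f55034604601137780b329ee785023a5ff6fa27789c0659b06b5fd14cfc77d0d694c36c8ac432243b5764f4c273ca80d2013e03a5094e7086e30043549da24c3e58223379ba2999f661a485c7e4c45f858c442154248a27c4644c9fb231004260c035b14d1cb5a60b439f22bce36ed551e42d760412fdc7835c520497530d450c2b2e89f5c9396698e42a220de124d9ec68947281d0225e34cc094b4905b1592ccef850c56ac9c40d0680051841bf3ac5942deb6a13f048a9499d54b0c16709e4dddb11c9b061576f4e17949a6d8b45cc71634425186a3420f631e0130f06248b598fb149015fa153a07f0f11c7393c1a017758274852462c7c588134e174338bb65cfa878f41119e15d87380850ecf1055f00151d2648d3b8b56216d7f0e454cdb641a61881a181687984f7e9ae3486c511780d519070be170f31da1a06d1e49d9b0b0f570c366159534d1f58c11720f66a41020c8f221811b549010c77a594134d5791676e465364e57b52f099f35fc58594ea2c53a00d1b5ec7559082468484add40a87a1dc9119c45000690a13e494460e55d87049450a708d5635d2a100944553b0cd77178201cdd11f40a29478064f2129f93717a1990774d8f5bcd868c960c83d5855f880cc37d5c33cb9169860201d1d1101401f0e00625545079992b8146e00c6116a3f92367463154d64b8e68084e184da8645d2c98a6f016335302a8024608669db716d6b3fd7c1ec013252221c291c9710bd160c42403cdd60c210897012ce70fc30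

theorem in_z : InK 10 K0 tz := InK.word inLL (l := [4, 4, 0, 7, 6, 7, 7, 8, 5, 5, 12, 12, 9, 9, 10, 14, 13, 13, 14, 15, 15, 16, 22]) (by decide +kernel)
theorem in_x : InK 10 K0 tx := InK.word inLL (l := [0, 1, 0, 0, 2, 0, 8, 7, 6, 5, 9, 12, 9, 9, 15, 15, 14, 13, 14, 13, 13, 13, 20, 19, 18, 16, 22]) (by decide +kernel)
theorem in_y : InK 10 K0 ty := InK.word inLL (l := [3, 2, 0, 4, 4, 2, 0, 8, 5, 5, 5, 5, 12, 12, 9, 9, 10, 14, 13, 13, 14, 18, 19, 20, 16]) (by decide +kernel)
theorem in_g : InK 10 K0 tg := InK.word inLL (l := [0, 4, 1, 2, 4, 1, 2, 2, 0, 4, 2, 4, 0, 4, 1, 2, 4, 1, 2, 2, 0, 4, 2, 4, 0, 4, 1, 2, 4, 1, 2, 2, 0, 4, 2, 4]) (by decide +kernel)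

/-- the tables -/
def U : List ℕ := [tz, tx, ty, tg]

theorem inU : ∀ t ∈ U, InK 10 K0 t := by
  intro t ht
  simp only [U, List.mem_cons, List.not_mem_nil, or_false] at ht
  rcases ht with rfl | rfl | rfl | rfl
  · exact in_z
  · exact in_x
  · exact in_y
  · exact in_g

/-- both words (in the tables `U`) have the same values -/
def sameU (l l' : List ℕ) : Bool :=
  (l.all fun s => Nat.blt s 4) && (l'.all fun s => Nat.blt s 4) &&
    allBelow (fun p => Nat.beq (evalWord 10 U l p) (evalWord 10 U l' p)) 552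

/-- the elements -/
noncomputable def u (k : ℕ) : K0 := el inU k

theorem relU {l l' : List ℕ} (h : sameU l l' = true) : (l.map u).prod = (l'.map u).prod := by
  unfold sameU at h
  rw [Bool.and_eq_true, Bool.and_eq_true, List.all_eq_true, List.all_eq_true] at h
  exact prod_eq inU (fun s hs => blt_of (h.1.1 s hs)) (fun s hs => blt_of (h.1.2 s hs)) h.2

theorem c1 : sameU [0, 0, 0, 0, 0] [] = true := by decide +kernel
theorem c2 : sameU [1, 1, 1, 1, 1] [] = true := by decide +kernel
theorem c3 : sameU [0, 1] [1, 0] = true := by decide +kernel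
theorem c4 : sameU [0, 2] [2, 0] = true := by decide +kernel
theorem c5 : sameU [2, 1] [1, 0, 2] = true := by decide +kernel
theorem c6 : sameU [3, 3, 3, 3, 3, 3, 3, 3] [] = true := by decide +kernel
theorem n1 : Nat.beq (look 10 tz 0) 0 = false := by decide +kernel
theorem n2 : Nat.beq (evalWord 10 U [3, 3, 3, 3] 2) 2 = false := by decide +kernel

theorem heis : Heis 5 1 (u 0) (fun _ => u 1) (fun _ => u 2) where
  prime := by norm_num
  zr := by
    have := relU c1
    simp only [List.map_cons, List.map_nil, List.prod_cons, List.prod_nil, mul_one] at this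
    simpa only [pow_succ, pow_zero, one_mul, mul_assoc] using this
  xr := fun _ => by
    have := relU c2
    simp only [List.map_cons, List.map_nil, List.prod_cons, List.prod_nil, mul_one] at this
    simpa only [pow_succ, pow_zero, one_mul, mul_assoc] using this
  zx := fun _ => by
    have := relU c3
    simpa only [List.map_cons, List.map_nil, List.prod_cons, List.prod_nil, mul_one] using this
  zy := fun _ => by
    have := relU c4
    simpa only [List.map_cons, List.map_nil, List.prod_cons, List.prod_nil, mul_one] using this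
  xx := fun _ _ => rfl
  yx := fun i j h => absurd (Subsingleton.elim i j) h
  conj := fun _ => by
    have := relU c5
    simp only [List.map_cons, List.map_nil, List.prod_cons, List.prod_nil, mul_one] at this
    rw [mul_inv_eq_iff_eq_mul, mul_assoc]
    exact this

theorem u0_ne : u 0 ≠ 1 := by
  intro h
  have h1 := el_val inU (k := 0) (by decide) (⟨0, by decide⟩ : Fin 552)
  have h2 : el inU 0 = 1 := h
  rw [h2] at h1
  have h3 : look 10 tz 0 = 0 := h1.symm
  have h4 := n1
  rw [h3] at h4
  exact Bool.noConfusion ((Nat.beq_refl 0).symm.trans h4)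

theorem orderOf_u3 : orderOf (u 3) = 2 ^ 3 := by
  apply orderOf_eq_prime_pow
  · intro h
    change u 3 ^ 4 = 1 at h
    have h1 := prod_val inU [3, 3, 3, 3] (by decide) (⟨2, by decide⟩ : Fin 552)
    have h2 : (([3, 3, 3, 3].map (el inU)).prod : K0) = 1 := by
      simp only [List.map_cons, List.map_nil, List.prod_cons, List.prod_nil, mul_one]
      have h5 : u 3 * (u 3 * (u 3 * u 3)) = 1 := by
        rw [← h, pow_succ, pow_succ, pow_succ, pow_one, mul_assoc, mul_assoc]
      exact h5
    rw [h2] at h1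
    have h3 : evalWord 10 U [3, 3, 3, 3] 2 = 2 := h1.symm
    have h4 := n2
    rw [h3] at h4
    exact Bool.noConfusion ((Nat.beq_refl 2).symm.trans h4)
  · have := relU c6
    simp only [List.map_cons, List.map_nil, List.prod_cons, List.prod_nil, mul_one] at this
    change u 3 ^ 8 = 1
    simpa only [pow_succ, pow_zero, one_mul, mul_assoc] using this

theorem orderOf_two_five : orderOf (2 : ZMod 5) = 4 := by
  refine orderOf_eq_prime_pow (p := 2) (n := 1) ?_ ?_ <;> decide

theorem orderOf_two_23 : orderOf (2 : ZMod 23) = 11 := by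
  have : Fact (Nat.Prime 11) := ⟨by norm_num⟩
  exact orderOf_eq_prime (by decide) (by decide)

/-- every group isomorphic to Co3 is isomorphic to `K0` -/
theorem equivK0 {K : Type*} [Group K] (h : Cfsg.Spor.IsoCo3 K) : Nonempty (K0 ≃* K) := by
  obtain ⟨i⟩ := isoCo3_G3
  obtain ⟨j⟩ := h
  have k : ψ.range ≃* G3 := (MonoidHom.ofInjective ψ_injective).symm
  rw [← K0_eq] at k
  exact ⟨k.trans (i.trans j.symm)⟩

theorem lb {K : Type u} [Group K] (h : Cfsg.Spor.IsoCo3 K) : Cfsg.Agent.Omega.Lie.Heis.LB.{u, v, w} K 20 := by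
  obtain ⟨e⟩ := equivK0 h
  obtain ⟨hs, hc⟩ := Cfsg.Agent.OddHalf.D8.RowCo3.card_of h
  have hfin : Finite K := Nat.finite_of_card_ne_zero (by rw [hc]; norm_num)
  have hh : Heis 5 1 (e (u 0)) (fun _ => e (u 1)) (fun _ => e (u 2)) := by
    have H := heis
    exact {
      prime := H.prime
      zr := by rw [← map_pow, H.zr, map_one]
      xr := fun i => by rw [← map_pow, H.xr i, map_one]
      zx := fun i => by rw [← map_mul, ← map_mul, H.zx i]
      zy := fun i => by rw [← map_mul, ← map_mul, H.zy i]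
      xx := fun _ _ => rfl
      yx := fun i j hij => absurd (Subsingleton.elim i j) hij
      conj := fun i => by rw [← map_inv, ← map_mul, ← map_mul, ← map_mul, H.conj i] }
  refine LB.heis hh (by norm_num) (fun h1 => u0_ne ?_) (p := 23) (by norm_num) (by norm_num) ?_ ?_ ?_
  · exact (MulEquiv.map_eq_one_iff e).1 h1
  · rw [hc]; norm_num
  · rw [orderOf_two_five]; norm_num
  · rw [orderOf_two_five, orderOf_two_23]; decide

theorem rk {K : Type u} [Group K] (h : Cfsg.Spor.IsoCo3 K) : Rk.RK.{v} K 8 := by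
  obtain ⟨e⟩ := equivK0 h
  obtain ⟨hs, hc⟩ := Cfsg.Agent.OddHalf.D8.RowCo3.card_of h
  have hfin : Finite K := Nat.finite_of_card_ne_zero (by rw [hc]; norm_num)
  obtain ⟨z, hz⟩ := Cfsg.Agent.KFacts.Co3.Sheet.exists_facts h
  have hfin' : Finite (MulAut K) := Finite.of_injective (fun f : MulAut K => (f : K → K)) fun a b hab =>
    MulEquiv.ext fun x => congrFun hab x
  have h1 : Nat.card (MulAut K) ∣ Nat.card K := by
    have h2 : (MulAut.conj : K →* MulAut K).range = ⊤ := by
      rw [eq_top_iff]
      intro α _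
      obtain ⟨k, rfl⟩ := hz.inner α
      exact ⟨k, rfl⟩
    have h3 : Nat.card (MulAut K) = 1 * Nat.card K :=
      Rk.card_mulAut (Cfsg.Agent.OddHalf.D8.RowCo3.center_bot h) (by rw [h2, Subgroup.index_top])
    rw [h3, one_mul]
  refine Rk.rk_of_elt (e := 10) (k := 3) ?_ (e (u 3)) ?_ (by norm_num)
  · have h2 : ¬ 2 ^ 11 ∣ Nat.card (MulAut K) := by
      intro h3
      have h4 := h3.trans h1
      rw [hc] at h4
      norm_num at h4
    by_contra hcon
    apply h2
    exact (Nat.prime_two.pow_dvd_iff_le_factorization Nat.card_pos.ne').2 (by omega)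
  · rw [MulEquiv.orderOf_eq, orderOf_u3]

/-- **the row Co3 of TABLE 2F** -/
theorem dead {K : Type v} [Group K] (h : Cfsg.Spor.IsoCo3 K) : Dead2.{u} K := by
  obtain ⟨hs, hc⟩ := Cfsg.Agent.OddHalf.D8.RowCo3.card_of h
  have hfin : Finite K := Nat.finite_of_card_ne_zero (by rw [hc]; norm_num)
  exact RowTool.dead (Cfsg.Agent.OddHalf.D8.RowCo3.center_bot h) (lb h) (rk h) (by norm_num)

end Cfsg.Agent.Omega.TwoF.RowCo3
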