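import Cfsg.Agent.KFacts.J2.Facts
import Cfsg.Agent.KFacts.J2.Aut
import Cfsg.Agent.Omega.KFacts

/-!
# TABLE 2F, the row `J₂`: `RK K 4`

`A ≤ Aut(J₂)` elementary abelian fixes a conjugate of `t` (there are 315), acts on the five classes `{v i, t v i}` of
involutions of `Q = 2^{1+4}_-` as an elementary abelian subgroup of `S₅` (order at most 4), and the kernel consists of
conjugations by elements of some `⟨t, v i⟩`.
-/

set_option autoImplicit false

universe u

namespace Cfsg.Agent.Omega.TwoF.RowJ2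

open Subgroup Cfsg.Agent.J2Type.Model Cfsg.Agent.J2Type.SPFacts Cfsg.Agent.J2Type.CStruct
open Cfsg.Agent.J3Type.OneClass Cfsg.Agent.J2Type.Base Cfsg.Agent.KFacts.J2.Basic Cfsg.Agent.KFacts.J2.Aut

/-! ### Elementary abelian subgroups of `S₅` -/

set_option synthInstance.maxHeartbeats 1000000 in
set_option synthInstance.maxSize 2000 in
theorem five_aux : ∀ a : Equiv.Perm (Fin 5), a * a = 1 → a ≠ 1 → ∀ b : Equiv.Perm (Fin 5), b * b = 1 →
    a * b = b * a → b ≠ 1 → b ≠ a → ∀ c : Equiv.Perm (Fin 5), c * c = 1 → a * c = c * a → b * c = c * b →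
    c = 1 ∨ c = a ∨ c = b ∨ c = a * b := by
  decide +kernel

theorem card_five (B : Subgroup (Equiv.Perm (Fin 5))) (hB : ∀ a ∈ B, a * a = 1) : Nat.card B ≤ 4 := by
  classical
  have hc : ∀ a ∈ B, ∀ b ∈ B, a * b = b * a := by
    intro a ha b hb
    have h1 := inv_eq_of_mul_eq_one_left (hB _ (mul_mem ha hb))
    rw [_root_.mul_inv_rev, inv_eq_of_mul_eq_one_left (hB a ha), inv_eq_of_mul_eq_one_left (hB b hb)] at h1
    exact h1.symm
  by_cases h1 : ∃ a ∈ B, a ≠ 1
  · obtain ⟨a, ha, ha1⟩ := h1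
    by_cases h2 : ∃ b ∈ B, b ≠ 1 ∧ b ≠ a
    · obtain ⟨b, hb, hb1, hba⟩ := h2
      have h3 : (B : Set (Equiv.Perm (Fin 5))) ⊆ (({1, a, b, a * b} : Finset (Equiv.Perm (Fin 5))) : Set _) := by
        intro c hcB
        have := five_aux a (hB a ha) ha1 b (hB b hb) (hc a ha b hb) hb1 hba c (hB c hcB) (hc a ha c hcB)
          (hc b hb c hcB)
        simpa using this
      have h4 := Set.ncard_le_ncard h3 (Finset.finite_toSet _)
      rw [Set.ncard_coe_finset] at h4
      exact h4.trans Finset.card_le_four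
    · push Not at h2
      have h3 : (B : Set (Equiv.Perm (Fin 5))) ⊆ (({1, a} : Finset (Equiv.Perm (Fin 5))) : Set _) := by
        intro c hcB
        by_cases h : c = 1
        · simp [h]
        · simp [h2 c hcB h]
      have h4 := Set.ncard_le_ncard h3 (Finset.finite_toSet _)
      rw [Set.ncard_coe_finset] at h4
      exact h4.trans (Finset.card_le_two.trans (by norm_num))
  · push Not at h1
    have h3 : B = ⊥ := by
      rw [eq_bot_iff]
      intro c hcB
      exact mem_bot.2 (h1 c hcB)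
    rw [h3, Nat.card_unique]
    norm_num

variable {X : Type*} [Group X] {t u : X} {Q : Subgroup (centralizer ({t} : Set X))}
  {v : Fin 5 → centralizer ({t} : Set X)} {ρ : centralizer ({t} : Set X) →* SP}

/-- the centre is trivial -/
theorem center_eq (D : Dat t u Q v ρ) {c : X} (hc : ∀ x, c * x = x * c) : c = 1 := by
  have h1 : ρ ⟨c, mem_cent.2 (hc t)⟩ = 1 := by
    have h2 := act_inj D (act_conj D (hc t)) (α := MulAut.conj c) (τ := 1) (r := fun _ => 0) (by
      have h3 : MulAut.conj c = 1 := by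
        ext x
        show c * x * c⁻¹ = x
        rw [hc x, mul_inv_cancel_right]
      rw [h3]
      exact act_one v)
    exact SP.ext h2.1 h2.2
  rcases (D.M.ker _).1 h1 with h2 | h2
  · exact congrArg Subtype.val h2
  · exfalso
    have h3 : c = t := congrArg Subtype.val h2
    obtain ⟨n, hn, -⟩ := D.exists_n
    have h4 : n * t * n⁻¹ = t := by
      have h5 : n * t = t * n := by
        rw [← h3]
        exact (hc n).symm
      rw [h5, mul_inv_cancel_right]
    exact D.v_ne_t 0 (hn.symm.trans h4)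

/-- the square of an element of `Q` is `1` or `t` -/
theorem sq_Q (D : Dat t u Q v ρ) {k : centralizer ({t} : Set X)} (hk : k ∈ Q) : (k : X) * k = 1 ∨ (k : X) * k = t := by
  have hz : ∀ a : ZMod 2, ∀ y : centralizer ({t} : Set X), (zp (zc t) a * y) * (zp (zc t) a * y) = y * y := by
    intro a y
    rcases zmod2_cases a with h | h
    · rw [h, zp_zero, one_mul]
    · rw [h, zp_one]
      calc zc t * y * (zc t * y) = zc t * (y * zc t) * y := by group
        _ = (zc t * zc t) * (y * y) := by rw [D.M.z_comm y]; group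
        _ = y * y := by rw [D.M.z_sq, one_mul]
  rcases D.M.cover k hk with ⟨a, h⟩ | ⟨a, i, h⟩ | ⟨a, i, j, hij, h⟩
  · left
    have h1 := hz a 1
    rw [mul_one, mul_one, ← h] at h1
    exact congrArg Subtype.val h1
  · left
    have h1 := hz a (v i)
    rw [D.M.v_sq, ← h] at h1
    exact congrArg Subtype.val h1
  · right
    have h1 := hz a (v i * v j)
    have h2 : v i * v j * (v i * v j) = zc t := by
      calc v i * v j * (v i * v j) = v i * (v j * v i) * v j := by group
        _ = v i * (zc t * (v i * v j)) * v j := by rw [D.M.v_anti j i hij.ne']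
        _ = (v i * zc t) * v i * (v j * v j) := by group
        _ = zc t * (v i * v i) := by rw [D.M.z_comm, D.M.v_sq]; group
        _ = zc t := by rw [D.M.v_sq, mul_one]
    rw [h2, ← h] at h1
    exact congrArg Subtype.val h1

/-- the elements of `A` acting trivially on the classes -/
theorem ker_aux [Finite X] (D : Dat t u Q v ρ) {α : MulAut X} (hα : α t = t) (hαα : α * α = 1)
    {s : Fin 5 → ZMod 2} (h : Act α v 1 s) : α = 1 ∨ α = MulAut.conj t ∨ ∃ a i, α = MulAut.conj
      ((zp (zc t) a * v i : centralizer ({t} : Set X)) : X) := by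
  obtain ⟨k, rfl⟩ := D.inner_of_even α hα 1 s h (Equiv.Perm.sign_one)
  have hk : k * t = t * k := mul_inv_eq_iff_eq_mul.1 hα
  have h1 := act_inj D (act_conj D hk) h
  have h2 : (⟨k, mem_cent.2 hk⟩ : centralizer ({t} : Set X)) ∈ Q := (D.M.mem_Q _).2 h1.1
  have h3 : k * k = 1 := by
    apply center_eq D
    intro x
    have h4 : MulAut.conj (k * k) x = x := by rw [map_mul, hαα]; rfl
    exact mul_inv_eq_iff_eq_mul.1 h4
  by_cases hk1 : k = 1
  · left
    rw [hk1, map_one]
  · right
    rcases invol_Q D.M h2 (Subtype.ext h3) (fun h => hk1 (congrArg Subtype.val h)) with h4 | ⟨a, i, h4⟩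
    · left
      have : k = t := congrArg Subtype.val h4
      rw [this]
    · right
      exact ⟨a, i, by rw [← h4]⟩

/-- the action on the classes -/
theorem exists_hom [Finite X] (D : Dat t u Q v ρ) (A : Subgroup (MulAut X)) (hA : ∀ α ∈ A, α t = t) :
    ∃ f : A →* Equiv.Perm (Fin 5), ∀ α : A, ∃ s, Act (α : MulAut X) v (f α) s := by
  choose σ s hs using fun α : A => D.exists_act (α : MulAut X) (hA α α.2)
  refine ⟨MonoidHom.mk' σ fun α β => ?_, fun α => ⟨s α, hs α⟩⟩
  exact (act_inj D (hs (α * β)) (act_mul D (hA α α.2) (hs α) (hs β))).1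

theorem conj_inj (D : Dat t u Q v ρ) {x y : X} (h : MulAut.conj x = MulAut.conj y) : x = y := by
  have h1 : y⁻¹ * x = 1 := by
    apply center_eq D
    intro w
    have h2 : MulAut.conj (y⁻¹ * x) w = w := by
      rw [map_mul, h, ← map_mul, inv_mul_cancel, map_one]
      rfl
    exact mul_inv_eq_iff_eq_mul.1 h2
  exact (inv_mul_eq_one.1 h1).symm

theorem card_ker [Finite X] (D : Dat t u Q v ρ) (A : Subgroup (MulAut X)) (hA : ∀ α ∈ A, α t = t)
    (hA2 : ∀ α ∈ A, α * α = 1) (hA3 : ∀ α ∈ A, ∃ s, Act α v 1 s) : Nat.card A ≤ 4 := by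
  classical
  have key : ∀ α ∈ A, α = 1 ∨ α = MulAut.conj t ∨ ∃ a i, α = MulAut.conj
      ((zp (zc t) a * v i : centralizer ({t} : Set X)) : X) := by
    intro α hα
    obtain ⟨s, hs⟩ := hA3 α hα
    exact ker_aux D (hA α hα) (hA2 α hα) hs
  have hcov : ∃ i : Fin 5, ∀ α ∈ A, α = 1 ∨ α = MulAut.conj t ∨ ∃ a, α = MulAut.conj
      ((zp (zc t) a * v i : centralizer ({t} : Set X)) : X) := by
    by_cases h : ∃ α ∈ A, ∃ a i, α = MulAut.conj ((zp (zc t) a * v i : centralizer ({t} : Set X)) : X)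
    · obtain ⟨α, hα, a, i, rfl⟩ := h
      refine ⟨i, fun β hβ => ?_⟩
      rcases key β hβ with h1 | h1 | ⟨b, j, rfl⟩
      · exact Or.inl h1
      · exact Or.inr (Or.inl h1)
      · refine Or.inr (Or.inr ⟨b, ?_⟩)
        have h2 := hA2 _ hα
        have h3 := hA2 _ hβ
        have h4 := hA2 _ (mul_mem hα hβ)
        rw [← map_mul, ← map_mul, ← map_one MulAut.conj] at h4
        have h5 := conj_inj D h4
        rw [← map_mul, ← map_one MulAut.conj] at h2 h3
        have h6 := conj_inj D h2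
        have h7 := conj_inj D h3
        have h8 : ((zp (zc t) a * v i : centralizer ({t} : Set X)) : X) *
            ((zp (zc t) b * v j : centralizer ({t} : Set X)) : X) =
            ((zp (zc t) b * v j : centralizer ({t} : Set X)) : X) *
            ((zp (zc t) a * v i : centralizer ({t} : Set X)) : X) := by
          have h9 := inv_eq_of_mul_eq_one_left h5
          rw [_root_.mul_inv_rev, inv_eq_of_mul_eq_one_left h6, inv_eq_of_mul_eq_one_left h7] at h9
          exact h9.symm
        have h10 : i = j := (zv_comm_iff D.M a b i j).1 (Subtype.ext h8)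
        rw [h10]
    · refine ⟨0, fun β hβ => ?_⟩
      rcases key β hβ with h1 | h1 | ⟨b, j, h1⟩
      · exact Or.inl h1
      · exact Or.inr (Or.inl h1)
      · exact absurd ⟨β, hβ, b, j, h1⟩ h
  obtain ⟨i, hi⟩ := hcov
  have h3 : (A : Set (MulAut X)) ⊆ (({1, MulAut.conj t,
      MulAut.conj ((zp (zc t) 0 * v i : centralizer ({t} : Set X)) : X),
      MulAut.conj ((zp (zc t) 1 * v i : centralizer ({t} : Set X)) : X)} : Finset (MulAut X)) : Set _) := by
    intro α hα
    rcases hi α hα with h | h | ⟨a, h⟩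
    · simp [h]
    · simp [h]
    · rcases zmod2_cases a with h1 | h1
      · rw [h1] at h
        simp only [Finset.coe_insert, Finset.coe_singleton, Set.mem_insert_iff, Set.mem_singleton_iff]
        exact Or.inr (Or.inr (Or.inl h))
      · rw [h1] at h
        simp only [Finset.coe_insert, Finset.coe_singleton, Set.mem_insert_iff, Set.mem_singleton_iff]
        exact Or.inr (Or.inr (Or.inr h))
  have h4 := Set.ncard_le_ncard h3 (Finset.finite_toSet _)
  rw [Set.ncard_coe_finset] at h4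
  exact h4.trans Finset.card_le_four

/-- `A` fixing `t` -/
theorem card_of_fix [Finite X] (D : Dat t u Q v ρ) (A : Subgroup (MulAut X)) (hA : ∀ α ∈ A, α t = t)
    (hA2 : ∀ α ∈ A, α * α = 1) : Nat.card A ≤ 16 := by
  obtain ⟨f, hf⟩ := exists_hom D A hA
  have h1 : Nat.card f.range ≤ 4 := by
    apply card_five
    rintro _ ⟨α, rfl⟩
    rw [← map_mul]
    have : α * α = 1 := Subtype.ext (hA2 α α.2)
    rw [this, map_one]
  have h2 : Nat.card (f.ker.map A.subtype) ≤ 4 := by
    apply card_ker D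
    · rintro _ ⟨α, -, rfl⟩
      exact hA α α.2
    · rintro _ ⟨α, -, rfl⟩
      exact hA2 α α.2
    · rintro _ ⟨α, hα, rfl⟩
      obtain ⟨s, hs⟩ := hf α
      rw [MonoidHom.mem_ker.1 hα] at hs
      exact ⟨s, hs⟩
  have h3 : Nat.card (f.ker.map A.subtype) = Nat.card f.ker :=
    (Nat.card_congr (f.ker.equivMapOfInjective A.subtype A.subtype_injective).toEquiv).symm
  have h4 : Nat.card A = Nat.card f.range * Nat.card f.ker := by
    rw [← f.ker.index_mul_card, Subgroup.index_ker]
  rw [h4]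
  rw [h3] at h2
  exact Nat.mul_le_mul h1 h2

/-- an elementary abelian 2-group of automorphisms fixes a conjugate of `t` -/
theorem exists_fixed' [Finite X] (D : Dat t u Q v ρ) (A : Subgroup (MulAut X)) (hA2 : ∀ α ∈ A, α * α = 1) :
    ∃ g : X, ∀ α ∈ A, α (g * t * g⁻¹) = g * t * g⁻¹ := by
  have : Fact (Nat.Prime 2) := ⟨Nat.prime_two⟩
  have hcard : Nat.card {y : X // ∃ k : X, k * t * k⁻¹ = y} = 315 := by
    have h1 := card_conj t
    have h2 : Nat.card {k : X // k * t = t * k} = 1920 := by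
      rw [← D.cardC]
      exact Nat.card_congr (Equiv.subtypeEquivRight fun k => mem_cent.symm)
    rw [h2, D.card] at h1
    omega
  have hmap : ∀ (α : MulAut X) (y : X), (∃ k : X, k * t * k⁻¹ = y) → ∃ k : X, k * t * k⁻¹ = α y := by
    intro α y hy
    exact isConj_iff.1 ((D.isConj_aut α).trans (isConj_map α (isConj_iff.2 hy)))
  let act : MulAction A {y : X // ∃ k : X, k * t * k⁻¹ = y} :=
    { smul := fun α y => ⟨(α : MulAut X) y.1, hmap α y.1 y.2⟩
      one_smul := fun y => rfl
      mul_smul := fun α β y => rfl }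
  have hp : IsPGroup 2 A := fun α => ⟨1, by
    rw [pow_one, pow_two]
    exact Subtype.ext (hA2 α α.2)⟩
  obtain ⟨y, hy⟩ := hp.nonempty_fixed_point_of_prime_not_dvd_card {y : X // ∃ k : X, k * t * k⁻¹ = y} (by
    rw [hcard]; norm_num)
  obtain ⟨g, hg⟩ := y.2
  refine ⟨g, fun α hα => ?_⟩
  rw [hg]
  exact congrArg Subtype.val (hy ⟨α, hα⟩)

/-- **`m_2(Aut J₂) ≤ 4`** -/
theorem rk_of_dat [Finite X] (D : Dat t u Q v ρ) : RK X 4 := by
  intro A hA
  have hA2 : ∀ α ∈ A, α * α = 1 := fun α hα => by rw [← pow_two]; exact hA α hα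
  obtain ⟨g, hg⟩ := exists_fixed' D A hA2
  let c : MulAut (MulAut X) := MulAut.conj (MulAut.conj g⁻¹)
  have h1 : Nat.card (A.map c.toMonoidHom) ≤ 16 := by
    apply card_of_fix D
    · rintro _ ⟨α, hα, rfl⟩
      show (MulAut.conj g⁻¹ * α * (MulAut.conj g⁻¹)⁻¹) t = t
      rw [conj_conj, inv_inv, hg α hα]
      group
    · rintro _ ⟨α, hα, rfl⟩
      rw [← map_mul, hA2 α hα, map_one]
  rw [Nat.card_congr (A.equivMapOfInjective c.toMonoidHom c.injective).toEquiv]
  exact h1

theorem finite {K : Type*} [Group K] (h : Cfsg.Spor.IsoJ2 K) : Finite K := by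
  obtain ⟨e⟩ := h
  have h1 : Finite Cfsg.Spor.J2 := Nat.finite_of_card_ne_zero (by
    rw [Cfsg.Agent.S1619.result.2.2.2]; norm_num)
  exact Finite.of_equiv _ e.symm.toEquiv

/-- `m_2(Aut K) ≤ 4` for `K ≅ J₂`. -/
theorem rk {K : Type*} [Group K] (h : Cfsg.Spor.IsoJ2 K) : RK K 4 := by
  have := finite h
  obtain ⟨t, u, Q, v, ρ, D⟩ := Cfsg.Agent.KFacts.J2.Facts.exists_dat_of h
  exact rk_of_dat D

theorem center_eq_bot {K : Type*} [Group K] (h : Cfsg.Spor.IsoJ2 K) : center K = ⊥ := by
  have := finite h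
  obtain ⟨t, u, Q, v, ρ, D⟩ := Cfsg.Agent.KFacts.J2.Facts.exists_dat_of h
  rw [eq_bot_iff]
  intro c hc
  exact mem_bot.2 (center_eq D fun x => (mem_center_iff.1 hc x).symm)

theorem dead {K : Type*} [Group K] (h : Cfsg.Spor.IsoJ2 K) : Dead2.{u} K := Dead2.of_rk (rk h)

/-- **Row `J₂` of TABLE 2F.** -/
theorem row : KFacts.KillRow.{u} @Cfsg.Spor.IsoJ2 := by
  intro K _ h
  have := finite h
  obtain ⟨t, u, Q, v, ρ, D⟩ := Cfsg.Agent.KFacts.J2.Facts.exists_dat_of h
  exact (dead h).kill (center_eq_bot h) ⟨t, 1, D.t_ne⟩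

end Cfsg.Agent.Omega.TwoF.RowJ2
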