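import Mathlib

/-!
# The 2-rank of the symmetric groups (helper416)

`card_sq_le` : an elementary abelian 2-group `A` acting faithfully on a finite set `Ω` has `|A|² ≤ 2 ^ |Ω|`.
-/

set_option autoImplicit false

namespace Cfsg.Agent.Omega.TwoF.PermRank

open MulAction

universe u v

theorem two_mul_le_two_pow {k : ℕ} (hk : 1 ≤ k) : 2 * k ≤ 2 ^ k := by
  induction k, hk using Nat.le_induction with
  | base => norm_num
  | succ n hn ih =>
    rw [pow_succ]
    have : 2 ≤ 2 ^ n := by
      calc 2 = 2 ^ 1 := (pow_one 2).symm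
        _ ≤ 2 ^ n := Nat.pow_le_pow_right (by norm_num) hn
    omega

theorem aux : ∀ (n : ℕ) (A : Type u) [Group A] [Finite A] (_ : ∀ a : A, a * a = 1) (Ω : Type v) [Finite Ω]
    [MulAction A Ω] [FaithfulSMul A Ω], Nat.card Ω = n → Nat.card A ^ 2 ≤ 2 ^ n := by
  intro n
  induction n using Nat.strong_induction_on with
  | _ n ih =>
    intro A _ _ h2 Ω _ _ _ hn
    have hcomm : ∀ a b : A, a * b = b * a := by
      intro a b
      have h1 : (a * b)⁻¹ = a * b := inv_eq_of_mul_eq_one_left (h2 _)
      have ha : a⁻¹ = a := inv_eq_of_mul_eq_one_left (h2 _)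
      have hb : b⁻¹ = b := inv_eq_of_mul_eq_one_left (h2 _)
      rw [mul_inv_rev, ha, hb] at h1
      exact h1.symm
    by_cases htriv : ∀ (a : A) (x : Ω), a • x = x
    · have h1 : Subsingleton A := ⟨fun a b => FaithfulSMul.eq_of_smul_eq_smul fun x : Ω => by rw [htriv, htriv]⟩
      rw [Nat.card_unique, one_pow]
      exact Nat.one_le_two_pow
    · push Not at htriv
      obtain ⟨a₀, x, hx⟩ := htriv
      let B : Subgroup A := stabilizer A x
      let O : Set Ω := orbit A x
      -- the stabiliser fixes the orbit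
      have hBO : ∀ b ∈ B, ∀ y ∈ O, b • y = y := by
        rintro b hb _ ⟨a, rfl⟩
        have hb' : b • x = x := hb
        change b • (a • x) = a • x
        rw [← mul_smul, hcomm, mul_smul, hb']
      -- the action of the stabiliser on the complement
      let Ω' : Type v := {y : Ω // y ∉ O}
      have hinv : ∀ (a : A) (y : Ω), y ∉ O → a • y ∉ O := by
        intro a y hy h
        apply hy
        have h3 : a⁻¹ • (a • y) ∈ O := by
          obtain ⟨c, hc⟩ := h
          exact ⟨a⁻¹ * c, by
            change (a⁻¹ * c) • x = _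
            rw [mul_smul]
            exact congrArg (fun w => a⁻¹ • w) hc⟩
        rwa [inv_smul_smul] at h3
      let act : MulAction B Ω' :=
        { smul := fun b y => ⟨(b : A) • (y : Ω), hinv b y y.2⟩
          one_smul := fun y => Subtype.ext (one_smul A (y : Ω))
          mul_smul := fun b c y => Subtype.ext (mul_smul (b : A) (c : A) (y : Ω)) }
      have hf : FaithfulSMul B Ω' := ⟨by
        intro b c h
        apply Subtype.ext
        refine FaithfulSMul.eq_of_smul_eq_smul fun y : Ω => ?_
        by_cases hy : y ∈ O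
        · rw [hBO b b.2 y hy, hBO c c.2 y hy]
        · exact congrArg Subtype.val (h ⟨y, hy⟩)⟩
      have hcO : Nat.card O = B.index := Nat.card_congr (orbitEquivQuotientStabilizer A x)
      have hsum : Nat.card O + Nat.card Ω' = n := by
        rw [← hn]
        classical
        have := Fintype.ofFinite Ω
        have e : Nat.card {y : Ω // y ∈ O} + Nat.card {y : Ω // ¬ y ∈ O} = Nat.card Ω := by
          rw [← Nat.card_sum]
          exact Nat.card_congr (Equiv.sumCompl (fun y => y ∈ O))
        exact e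
      -- the index is a power of 2
      have hp : IsPGroup 2 A := fun a => ⟨1, by rw [pow_one, pow_two]; exact h2 a⟩
      have : Fact (Nat.Prime 2) := ⟨Nat.prime_two⟩
      obtain ⟨k, hk⟩ := hp.index B
      have hk1 : 1 ≤ k := by
        by_contra hcon
        have hk0 : k = 0 := by omega
        rw [hk0, pow_zero, Subgroup.index_eq_one] at hk
        exact hx (by
          have : a₀ ∈ B := hk ▸ Subgroup.mem_top _
          exact this)
      have h3 := two_mul_le_two_pow hk1
      have hlt : Nat.card Ω' < n := by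
        rw [hcO, hk] at hsum
        have : 0 < 2 ^ k := by positivity
        omega
      have h4 := @ih (Nat.card Ω') hlt B _ _ (fun b => Subtype.ext (h2 b)) Ω' _ act hf rfl
      have h5 := B.card_mul_index
      rw [hk] at h5
      rw [← h5, mul_pow, ← pow_mul]
      rw [hcO, hk] at hsum
      calc Nat.card B ^ 2 * 2 ^ (k * 2) ≤ 2 ^ Nat.card Ω' * 2 ^ (k * 2) := Nat.mul_le_mul_right _ h4
        _ = 2 ^ (Nat.card Ω' + k * 2) := (pow_add _ _ _).symm
        _ ≤ 2 ^ n := Nat.pow_le_pow_right (by norm_num) (by omega)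

/-- **The 2-rank of the symmetric group**: `|A|² ≤ 2 ^ |Ω|`. -/
theorem card_sq_le {A : Type u} [Group A] [Finite A] (h2 : ∀ a : A, a * a = 1) {Ω : Type v} [Finite Ω] [MulAction A Ω]
    [FaithfulSMul A Ω] : Nat.card A ^ 2 ≤ 2 ^ Nat.card Ω := aux _ A h2 Ω rfl

theorem le_of_sq_le {c n : ℕ} (hc : ∃ k, c = 2 ^ k) (h : c ^ 2 ≤ 2 ^ n) : c ≤ 2 ^ (n / 2) := by
  obtain ⟨k, rfl⟩ := hc
  rw [← pow_mul] at h
  have h1 : k * 2 ≤ n := (Nat.pow_le_pow_iff_right (by norm_num)).1 h
  exact Nat.pow_le_pow_right (by norm_num) (by omega)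

theorem card_pow_two {A : Type u} [Group A] [Finite A] (h2 : ∀ a : A, a * a = 1) : ∃ k, Nat.card A = 2 ^ k := by
  have : Fact (Nat.Prime 2) := ⟨Nat.prime_two⟩
  have hp : IsPGroup 2 A := fun a => ⟨1, by rw [pow_one, pow_two]; exact h2 a⟩
  exact IsPGroup.iff_card.1 hp

/-- elementary abelian 2-subgroups of `S_n` have order at most `2 ^ (n / 2)` -/
theorem card_le_perm {Ω : Type v} [Finite Ω] (A : Subgroup (Equiv.Perm Ω)) (h2 : ∀ a ∈ A, a * a = 1) :
    Nat.card A ≤ 2 ^ (Nat.card Ω / 2) := by
  have h : ∀ a : A, a * a = 1 := fun a => Subtype.ext (h2 a a.2)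
  exact le_of_sq_le (card_pow_two h) (card_sq_le (Ω := Ω) h)

/-- elementary abelian 2-subgroups of `A_n` -/
theorem card_le_alt {n : ℕ} (A : Subgroup (alternatingGroup (Fin n))) (h2 : ∀ a ∈ A, a * a = 1) :
    Nat.card A ≤ 2 ^ (n / 2) := by
  have h1 := card_le_perm (A.map (alternatingGroup (Fin n)).subtype) (by
    rintro _ ⟨a, ha, rfl⟩
    rw [← map_mul, h2 a ha, map_one])
  rw [Nat.card_eq_fintype_card (α := Fin n), Fintype.card_fin] at h1
  rwa [Nat.card_congr (A.equivMapOfInjective _ (alternatingGroup (Fin n)).subtype_injective).toEquiv]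

end Cfsg.Agent.Omega.TwoF.PermRank
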