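import Cfsg.Agent.Omega.TwoF.Defs
import Cfsg.Agent.StandardComponent.AltAut

/-!
# Elementary abelian 2-subgroups of symmetric groups

* `card_sq_le`: `E ≤ Sym Ω` elementary abelian 2-group supported in `S`: `|E|² ≤ 2 ^ |S|`;
* `rk_alt`: `RK A_n ⌊n / 2⌋`, `n ≥ 7`.
-/

set_option autoImplicit false

namespace Cfsg.Agent.Omega.TwoF.AltRk

open Equiv Equiv.Perm Subgroup

universe u w

variable {Ω : Type u} [DecidableEq Ω] [Fintype Ω]

theorem sq_le_two_pow {m : ℕ} (h : m = 2 ∨ 4 ≤ m) : m ^ 2 ≤ 2 ^ m := by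
  rcases h with rfl | h
  · norm_num
  · induction m, h using Nat.le_induction with
    | base => norm_num
    | succ m hm ih =>
      rw [pow_succ 2]
      nlinarith

theorem comm_of_sq {G : Type w} [Group G] {x y : G} (hx : x * x = 1) (hy : y * y = 1)
    (hxy : x * y * (x * y) = 1) : x * y = y * x := by
  have e1 : x⁻¹ = x := inv_eq_of_mul_eq_one_left hx
  have e2 : y⁻¹ = y := inv_eq_of_mul_eq_one_left hy
  have e3 : (x * y)⁻¹ = x * y := inv_eq_of_mul_eq_one_left hxy
  rw [← e3, mul_inv_rev, e1, e2]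

/-- **elementary abelian 2-subgroups of `Sym Ω`** -/
theorem card_sq_le : ∀ (n : ℕ) (E : Subgroup (Perm Ω)) (S : Finset Ω), S.card ≤ n → (∀ x ∈ E, x * x = 1) →
    (∀ x ∈ E, ∀ a, a ∉ S → x a = a) → Nat.card E ^ 2 ≤ 2 ^ S.card := by
  classical
  intro n
  induction n using Nat.strong_induction_on with
  | _ n ih =>
  intro E S hn h2 hS
  by_cases h1 : ∀ x ∈ E, ∀ a, x a = a
  · have : E = ⊥ := by
      rw [eq_bot_iff]
      intro x hx
      rw [mem_bot]
      ext a
      exact h1 x hx a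
    rw [this, card_bot, one_pow]
    exact Nat.one_le_two_pow
  push Not at h1
  obtain ⟨x₀, hx₀, a, ha⟩ := h1
  have hcomm : ∀ x ∈ E, ∀ y ∈ E, x * y = y * x := fun x hx y hy =>
    comm_of_sq (h2 x hx) (h2 y hy) (h2 _ (E.mul_mem hx hy))
  have haS : a ∈ S := by
    by_contra h
    exact ha (hS x₀ hx₀ a h)
  -- the orbit
  let O : Finset Ω := Finset.univ.filter fun b => b ∈ MulAction.orbit E a
  have hO : ∀ b, b ∈ O ↔ ∃ x ∈ E, x a = b := by
    intro b
    simp only [O, Finset.mem_filter, Finset.mem_univ, true_and, MulAction.mem_orbit_iff]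
    constructor
    · rintro ⟨x, hx⟩; exact ⟨x, x.2, hx⟩
    · rintro ⟨x, hx, e⟩; exact ⟨⟨x, hx⟩, e⟩
  have hOcard : Nat.card (MulAction.orbit E a) = O.card := by
    rw [← Nat.card_eq_card_finite_toFinset (Set.toFinite (MulAction.orbit E a)) |>.symm]
    congr 1
    ext b
    simp [O]
  have hOS : O ⊆ S := by
    intro b hb
    obtain ⟨x, hx, rfl⟩ := (hO b).mp hb
    by_contra h
    have h3 := hS x hx _ h
    rw [x.injective h3] at h
    exact h haS
  have hmul : Nat.card E = O.card * Nat.card (MulAction.stabilizer E a) := by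
    rw [← hOcard, Nat.card_congr (MulAction.orbitEquivQuotientStabilizer E a)]
    exact Subgroup.card_eq_card_quotient_mul_card_subgroup _
  have h2p : IsPGroup 2 E := fun x => ⟨1, Subtype.ext (by
    rw [pow_one, pow_two]; exact h2 x x.2)⟩
  have := Fact.mk Nat.prime_two
  obtain ⟨k, hk⟩ := IsPGroup.iff_card.mp h2p
  have hOdvd : O.card ∣ 2 ^ k := by
    rw [← hk, hmul]; exact dvd_mul_right _ _
  obtain ⟨j, -, hj⟩ := (Nat.dvd_prime_pow Nat.prime_two).mp hOdvd
  have hO2 : 1 < O.card := by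
    rw [Finset.one_lt_card]
    exact ⟨a, (hO a).mpr ⟨1, E.one_mem, rfl⟩, x₀ a, (hO _).mpr ⟨x₀, hx₀, rfl⟩, Ne.symm ha⟩
  have hO4 : O.card = 2 ∨ 4 ≤ O.card := by
    rw [hj] at hO2 ⊢
    rcases j with _ | _ | j
    · simp at hO2
    · left; rfl
    · right
      rw [pow_succ, pow_succ, mul_assoc]
      have := Nat.one_le_two_pow (n := j)
      omega
  -- the stabiliser
  set E' : Subgroup (Perm Ω) := (MulAction.stabilizer E a).map E.subtype with hE'
  have hE'card : Nat.card E' = Nat.card (MulAction.stabilizer E a) :=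
    (Nat.card_congr ((MulAction.stabilizer E a).equivMapOfInjective E.subtype E.subtype_injective).toEquiv).symm
  have hE'mem : ∀ y ∈ E', y ∈ E ∧ y a = a := by
    rintro _ ⟨y, hy, rfl⟩
    exact ⟨y.2, hy⟩
  have key := ih (S \ O).card (by
      have h3 := Finset.card_sdiff_of_subset hOS
      have h4 := Finset.card_le_card hOS
      omega) E' (S \ O) le_rfl (fun y hy => h2 y (hE'mem y hy).1) (by
      intro y hy b hb
      by_cases hbS : b ∈ S
      · have hbO : b ∈ O := by
          by_contra h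
          exact hb (Finset.mem_sdiff.mpr ⟨hbS, h⟩)
        obtain ⟨x, hx, rfl⟩ := (hO b).mp hbO
        have h3 := hcomm y (hE'mem y hy).1 x hx
        have h4 : y (x a) = x (y a) := DFunLike.congr_fun h3 a
        rw [h4, (hE'mem y hy).2]
      · exact hS y (hE'mem y hy).1 b hbS)
  rw [hmul, mul_pow, ← hE'card]
  have h3 := Finset.card_sdiff_of_subset hOS
  have h4 := Finset.card_le_card hOS
  calc O.card ^ 2 * Nat.card E' ^ 2 ≤ 2 ^ O.card * 2 ^ (S \ O).card := Nat.mul_le_mul (sq_le_two_pow hO4) key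
    _ = 2 ^ S.card := by rw [← pow_add]; congr 1; omega

theorem card_le (E : Subgroup (Perm Ω)) (h2 : ∀ x ∈ E, x * x = 1) : Nat.card E ≤ 2 ^ (Fintype.card Ω / 2) := by
  have h1 := card_sq_le _ E Finset.univ le_rfl h2 (fun x _ a ha => absurd (Finset.mem_univ a) ha)
  rw [Finset.card_univ] at h1
  have h2p : IsPGroup 2 E := fun x => ⟨1, Subtype.ext (by
    rw [pow_one, pow_two]; exact h2 x x.2)⟩
  have := Fact.mk Nat.prime_two
  obtain ⟨k, hk⟩ := IsPGroup.iff_card.mp h2p
  rw [hk, ← pow_mul] at h1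
  have h3 := (Nat.pow_le_pow_iff_right (by norm_num : 1 < 2)).mp h1
  rw [hk]
  exact Nat.pow_le_pow_right (by norm_num) (by omega)

theorem rk_of_hom {n : ℕ} (ψ : MulAut (alternatingGroup (Fin n)) →* Perm (Fin n))
    (hψ : Function.Injective ψ) : RK (alternatingGroup (Fin n)) (n / 2) := by
  refine RK.of_injective ψ hψ ?_
  intro A hA
  have := card_le A (fun x hx => by rw [← pow_two]; exact hA x hx)
  rwa [Fintype.card_fin] at this

theorem exists_psi {n : ℕ} (hn : 7 ≤ n) : ∃ ψ : MulAut (alternatingGroup (Fin n)) →* Perm (Fin n),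
    Function.Injective ψ ∧ ∀ (e : MulAut (alternatingGroup (Fin n))) (x : alternatingGroup (Fin n)),
      ((e x : alternatingGroup (Fin n)) : Perm (Fin n)) = ψ e * x * (ψ e)⁻¹ := by
  obtain ⟨ψ, hψ⟩ := Cfsg.Agent.StandardComponent.AltAut.exists_autHom n hn
  refine ⟨ψ, ?_, hψ⟩
  rw [injective_iff_map_eq_one]
  intro e he
  ext x : 2
  rw [hψ, he]
  simp

theorem rk_alt {n : ℕ} (hn : 7 ≤ n) : RK (alternatingGroup (Fin n)) (n / 2) := by
  obtain ⟨ψ, h, -⟩ := exists_psi hn
  exact rk_of_hom ψ h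

end Cfsg.Agent.Omega.TwoF.AltRk
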