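import Cfsg.Agent.Omega.TwoF.Defs
import Cfsg.Agent.Omega.TwoF.Rk
import Cfsg.Agent.Omega.Lie.HeisCover

/-!
# TABLE 2F: from the forms of `Lie.HeisCover` (`Heis.LB`) and `TwoF.Rk` (`Rk.RK`) to `TwoF.Defs`
-/

set_option autoImplicit false

namespace Cfsg.Agent.Omega.TwoF

open Subgroup

universe u v

/-- `(LB K n)` of `Lie.HeisCover` gives `(LB K n)`. -/
theorem LB.of_heis {K : Type v} [Group K] {n : ℕ} (h : Lie.Heis.LB.{v, u, u} K n) : LB.{u, v} K n :=
  fun L _ _ π hπ V _ _ φ h2 h1 =>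
    h L π hπ.surj hπ.cent hπ.odd hπ.perf V (fun x => ⟨1, by rw [pow_one]; exact h2 x⟩) φ h1

/-- `RkAut K a` of `TwoF.RkPSL` (or any other file) gives `(RK K a)`. -/
theorem RK.of_mul_self {K : Type v} [Group K] {a : ℕ}
    (h : ∀ A : Subgroup (MulAut K), (∀ x ∈ A, x * x = 1) → Nat.card A ≤ 2 ^ a) : RK K a :=
  fun A hA => h A fun x hx => by rw [← pow_two]; exact hA x hx

/-- `(RK K a)` of `TwoF.Rk` gives `(RK K a)`. -/
theorem RK.of_rk {K : Type v} [Group K] [Finite K] (hK : center K = ⊥) {a : ℕ} (h : Rk.RK.{v} K a) : RK K a := by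
  intro A hA
  have hinj : Function.Injective (MulAut.conj : K →* MulAut K) := by
    rw [injective_iff_map_eq_one]
    intro g hg
    rw [← mem_bot, ← hK, mem_center_iff]
    intro x
    have h2 := DFunLike.congr_fun hg x
    simp only [MulAut.conj_apply, MulAut.one_apply] at h2
    exact (mul_inv_eq_iff_eq_mul.1 h2).symm
  have hn : (MulAut.conj : K →* MulAut K).range.Normal := by
    constructor
    rintro _ ⟨k, rfl⟩ φ
    refine ⟨φ k, ?_⟩
    ext x
    simp
  refine h (MulAut K) (MulAut.conj : K →* MulAut K).range ⟨(MonoidHom.ofInjective hinj).symm⟩ ?_ A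
    fun x hx => by rw [← pow_two]; exact hA x hx
  rw [eq_bot_iff]
  intro φ hφ
  rw [mem_bot]
  ext x
  rw [MulAut.one_apply]
  apply hinj
  have h1 : MulAut.conj x * φ = φ * MulAut.conj x := mem_centralizer_iff.mp hφ _ ⟨x, rfl⟩
  have h2 : MulAut.conj (φ x) = φ * MulAut.conj x * φ⁻¹ := by
    ext y
    simp
  rw [h2, ← h1, mul_inv_cancel_right]

end Cfsg.Agent.Omega.TwoF
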