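import Cfsg.Agent.Omega.TwoF.LBPsl
import Cfsg.Agent.Omega.TwoF.Rk
import Cfsg.Agent.S0249

/-!
# TABLE 2F: the rows `PSL_n(q)`, `q` odd

`LB`: every nontrivial action of a perfect odd cover of `K` on a finite abelian `2`-group `V` has `|V| ≥ 2^m`.
`RK`: elementary abelian `2`-groups of automorphisms of `K` have order at most `2^a`.
-/

set_option autoImplicit false

universe u v w

namespace Cfsg.Agent.Omega.TwoF.RowPsl

open Matrix Cfsg.Agent.Omega.Lie.Heis Cfsg.Agent.Omega.TwoF.SignLift Cfsg.Agent.Omega.TwoF.LBPsl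
open Cfsg.Agent.Omega.TwoF.RkLin Cfsg.Agent.Omega.TwoF.RkPSL
open Cfsg.Agent.ClassicalGeometry.AutPSL.Root

theorem _root_.Cfsg.Agent.Omega.TwoF.RkPSL.RkAut.rk {K : Type*} [Group K] {a : ℕ} (h : RkAut K a) :
    Rk.RK.{u} K a := by
  intro X _ _ N _ hN hC A hA
  obtain ⟨e⟩ := hN
  exact h.of_normal e hC A hA

/-- A lower bound for the order of `2` modulo an odd prime. -/
theorem le_orderOf {p k : ℕ} (hp : p.Prime) (hp2 : p ≠ 2)
    (h : ∀ d, 0 < d → d < k → (2 : ZMod p) ^ d ≠ 1) : k ≤ orderOf (2 : ZMod p) := by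
  haveI : Fact p.Prime := ⟨hp⟩
  by_contra hlt
  push Not at hlt
  have h2 : (2 : ZMod p) ≠ 0 := by
    intro h0
    have h1 : ((2 : ℕ) : ZMod p) = 0 := by exact_mod_cast h0
    rw [ZMod.natCast_eq_zero_iff] at h1
    exact hp2 ((Nat.prime_dvd_prime_iff_eq hp Nat.prime_two).1 h1)
  have h3 : (2 : ZMod p) ^ (p - 1) = 1 := ZMod.pow_card_sub_one_eq_one h2
  have h4 : 0 < orderOf (2 : ZMod p) := by
    rw [orderOf_pos_iff, isOfFinOrder_iff_pow_eq_one]
    exact ⟨p - 1, by have := hp.two_le; omega, h3⟩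
  exact h _ h4 hlt (pow_orderOf_eq_one _)

theorem two_le_order {p : ℕ} (hp : p.Prime) (hp2 : p ≠ 2) : 2 ≤ orderOf (2 : ZMod p) := by
  apply le_orderOf hp hp2
  intro d h0 h1 h
  have hd : d = 1 := by omega
  rw [hd, pow_one] at h
  haveI : Fact p.Prime := ⟨hp⟩
  have h3 : (1 : ZMod p) = 0 := by
    have : (2 : ZMod p) = 1 + 1 := by norm_num
    rw [this] at h
    simpa using h
  exact one_ne_zero h3

theorem three_le_order {p : ℕ} (hp : p.Prime) (h5 : 5 ≤ p) : 3 ≤ orderOf (2 : ZMod p) := by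
  apply le_orderOf hp (by omega)
  intro d h0 h1 h
  have h6 : ((2 ^ d : ℕ) : ZMod p) = ((1 : ℕ) : ZMod p) := by push_cast; exact h
  rw [ZMod.natCast_eq_natCast_iff] at h6
  have h7 : (2 ^ d) % p = 1 % p := h6
  have hd : d = 1 ∨ d = 2 := by omega
  rcases hd with rfl | rfl
  · rw [Nat.mod_eq_of_lt (by omega), Nat.mod_eq_of_lt (by omega)] at h7
    omega
  · rw [Nat.mod_eq_of_lt (by omega), Nat.mod_eq_of_lt (by omega)] at h7
    omega

theorem order_five : 4 ≤ orderOf (2 : ZMod 5) := by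
  apply le_orderOf (by norm_num) (by norm_num)
  intro d h0 h1
  interval_cases d <;> decide

theorem order_thirteen : 12 ≤ orderOf (2 : ZMod 13) := by
  apply le_orderOf (by norm_num) (by norm_num)
  intro d h0 h1
  interval_cases d <;> decide

/-- `ord_r(2) · r ≥ 20` for a prime `r ≥ 5`. -/
theorem twenty_le {r : ℕ} (hr : r.Prime) (h5 : 5 ≤ r) : 20 ≤ orderOf (2 : ZMod r) * r := by
  by_cases h : r = 5
  · subst h
    have := order_five
    omega
  · have h7 : 7 ≤ r := by
      by_contra hlt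
      have : r = 6 := by omega
      subst this
      exact absurd hr (by norm_num)
    have := three_le_order hr h5
    nlinarith

section

variable {F : Type*} [Field F] [Fintype F] {n : ℕ}

/-- The Heisenberg bound for `PSL_n`. -/
theorem lb {r : ℕ} (hr : r.Prime) [CharP F r] (hr2 : r ≠ 2) (hn : 3 ≤ n) {m : ℕ}
    (hm : m ≤ orderOf (2 : ZMod r) * r ^ (n - 2)) :
    LB.{_, v, w} (Matrix.ProjectiveSpecialLinearGroup (Fin n) F) m := by
  have hs : IsSimpleGroup (Matrix.ProjectiveSpecialLinearGroup (Fin n) F) :=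
    Cfsg.Agent.S0249.result n hn
  obtain ⟨k, rfl⟩ : ∃ k, n = k + 2 := ⟨n - 2, by omega⟩
  have hpl : (0 : Fin (k + 2)) ≠ Fin.last (k + 1) := by
    rw [Ne, Fin.ext_iff]; simp
  let e : Fin k → Fin (k + 2) := fun i => i.castSucc.succ
  have he : Function.Injective e := fun i j h => by
    have := Fin.succ_injective _ h
    exact Fin.castSucc_injective _ this
  have hp : ∀ i, (0 : Fin (k + 2)) ≠ e i := fun i => (Fin.succ_ne_zero _).symm
  have hl : ∀ i, e i ≠ Fin.last (k + 1) := fun i => by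
    rw [Ne, Fin.ext_iff]
    simp only [e, Fin.val_succ, Fin.val_castSucc, Fin.val_last]
    have := i.2
    omega
  have hS := (signHeis (F := F) hr hpl he hp hl).map pr
  refine LB.sign (by omega) hS hr2 ?_ hm
  intro h1
  rw [pr_eq_one_iff, Matrix.SpecialLinearGroup.mem_center_iff] at h1
  obtain ⟨c, -, hc⟩ := h1
  have h3 := congrFun (congrFun hc 0) (Fin.last (k + 1))
  have h4 : (E hpl (1 : F) : Matrix (Fin (k + 2)) (Fin (k + 2)) F) 0 (Fin.last (k + 1)) = 1 := by
    rw [E, coe_tr, Matrix.add_apply, Matrix.one_apply_ne hpl, vecMulVec_apply, zero_add]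
    simp
  rw [h4, Matrix.scalar_apply, Matrix.diagonal_apply_ne _ hpl] at h3
  exact zero_ne_one h3

/-- An element of order `13` in `SL_3(3)`. -/
def M13 : Matrix (Fin 3) (Fin 3) (ZMod 3) := !![0, 0, 1; 1, 0, 1; 0, 1, 0]

theorem M13_det : M13.det = 1 := by decide

theorem M13_pow : M13 ^ 13 = 1 := by decide

/-- `13` divides the order of `PSL_3(3^f)`. -/
theorem thirteen_dvd [CharP F 3] :
    13 ∣ Nat.card (Matrix.ProjectiveSpecialLinearGroup (Fin 3) F) := by
  let f : ZMod 3 →+* F := ZMod.castHom (dvd_refl 3) F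
  let A : Matrix.SpecialLinearGroup (Fin 3) (ZMod 3) := ⟨M13, M13_det⟩
  have hA : A ^ 13 = 1 := by
    apply Subtype.ext
    rw [Matrix.SpecialLinearGroup.coe_pow]
    exact M13_pow
  let g : Matrix.SpecialLinearGroup (Fin 3) F := Matrix.SpecialLinearGroup.map f A
  have hg : (g : Matrix (Fin 3) (Fin 3) F) = M13.map f := rfl
  have h1 : g ^ 13 = 1 := by
    show (Matrix.SpecialLinearGroup.map f A) ^ 13 = 1
    rw [← map_pow, hA, map_one]
  have h2 : pr g ≠ 1 := by
    intro h
    rw [pr_eq_one_iff, Matrix.SpecialLinearGroup.mem_center_iff] at h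
    obtain ⟨c, -, hc⟩ := h
    have h3 := congrFun (congrFun hc 1) 0
    rw [hg] at h3
    simp [M13, Matrix.scalar] at h3
  haveI : Fact (Nat.Prime 13) := ⟨by norm_num⟩
  have h3 : orderOf (pr g) = 13 := orderOf_eq_prime (by rw [← map_pow, h1, map_one]) h2
  rw [← h3]
  exact orderOf_dvd_natCard _

/-- **TABLE 2F, row `PSL_n(q)`, `q` odd, `n ≥ 3`.** -/
theorem row (h2 : (2 : F) ≠ 0) (hn : 3 ≤ n) :
    ∃ m a, LB.{_, v, w} (Matrix.ProjectiveSpecialLinearGroup (Fin n) F) m ∧
      Rk.RK.{u} (Matrix.ProjectiveSpecialLinearGroup (Fin n) F) a ∧ 2 * a + 2 < m ∧ 12 ≤ m ∧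
      (¬ (n = 3 ∧ (3 : F) = 0) → 2 * a + 4 < m) := by
  obtain ⟨r, hcr⟩ := CharP.exists F
  have hr : r.Prime := CharP.char_is_prime F r
  have hr2 : r ≠ 2 := by
    rintro rfl
    exact h2 (by exact_mod_cast CharP.cast_eq_zero F 2)
  have hr3 : 3 ≤ r := by
    have := hr.two_le
    omega
  have hrk : Rk.RK.{u} (Matrix.ProjectiveSpecialLinearGroup (Fin n) F) (rk n + 2) :=
    (rkAut h2 hn).rk
  by_cases h3 : n = 3
  · subst h3
    have hk : rk 3 = 2 := by decide
    rw [hk] at hrk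
    by_cases h5 : r = 3
    · subst h5
      haveI hs : IsSimpleGroup (Matrix.ProjectiveSpecialLinearGroup (Fin 3) F) :=
        Cfsg.Agent.S0249.result 3 le_rfl
      haveI : Finite (Matrix.ProjectiveSpecialLinearGroup (Fin 3) F) :=
        Finite.of_surjective _ pr_surjective
      refine ⟨12, 4, LB.prime (p := 13) (by norm_num) (by norm_num) thirteen_dvd order_thirteen,
        hrk, by norm_num, le_rfl, fun h => ?_⟩
      exact absurd ⟨rfl, by exact_mod_cast CharP.cast_eq_zero F 3⟩ h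
    · have h5' : 5 ≤ r := by
        by_contra hlt
        have : r = 4 := by omega
        subst this
        exact absurd hr (by norm_num)
      refine ⟨20, 4, lb hr hr2 le_rfl ?_, hrk, by norm_num, by norm_num, fun _ => by norm_num⟩
      simpa using twenty_le hr h5'
  · obtain ⟨k, rfl⟩ : ∃ k, n = k + 4 := ⟨n - 4, by omega⟩
    have hkey : ∀ k : ℕ, 2 * (k + 4 + 2) + 4 < 2 * 3 ^ (k + 2) := by
      intro k
      induction k with
      | zero => norm_num
      | succ k ih =>
        rw [pow_succ]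
        omega
    have h6 : 2 * 3 ^ (k + 2) ≤ orderOf (2 : ZMod r) * r ^ (k + 4 - 2) :=
      Nat.mul_le_mul (two_le_order hr hr2)
        (by rw [show k + 4 - 2 = k + 2 by omega]; exact Nat.pow_le_pow_left hr3 _)
    have h7 := hkey k
    refine ⟨2 * 3 ^ (k + 2), k + 4 + 2, lb hr hr2 hn h6, hrk.mono (by have := rk_le (k + 4); omega),
      by omega, by omega, fun _ => h7⟩

/-- **TABLE 2F, row `PSL_2(q)`, `q` odd**: the 2-rank of the automorphism group is at most 3. -/
theorem row_two (h2 : (2 : F) ≠ 0) :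
    Rk.RK.{u} (Matrix.ProjectiveSpecialLinearGroup (Fin 2) F) 3 := (rkAut_two h2).rk

end

end Cfsg.Agent.Omega.TwoF.RowPsl
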