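import Cfsg.Agent.Lib.Zsigmondy
import Cfsg.Agent.S0280
import Cfsg.Agent.Omega.TwoF.RowPsl

/-!
# `PSU_4(3^f)`, `f ≥ 2`: a prime divisor `r` with `ord_r(2) ≥ 13`

`r` is a primitive prime divisor of `3^{4f} - 1` (of `3^{6f} - 1` for `f = 3, 4, 22`).
-/

set_option autoImplicit false

namespace Cfsg.Agent.Omega.TwoF.LBPsuFour

open Cfsg

/-- The odd primes `r` with `ord_r(2) ≤ 12`. -/
theorem small_primes {r d : ℕ} (hr : r.Prime) (h0 : 0 < d) (hd : d ≤ 12) (h : r ∣ 2 ^ d - 1) :
    r ∈ [3, 5, 7, 11, 13, 17, 23, 31, 73, 89, 127] := by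
  have key : ∀ m ∈ [3, 5, 7, 11, 13, 17, 23, 31, 73, 89, 127], m.Prime → True := fun _ _ _ => trivial
  have h1 : ∀ (l : List ℕ), r ∣ l.prod → (∀ m ∈ l, Nat.Prime m) → r ∈ l := by
    intro l hl hp
    obtain ⟨m, hm, hrm⟩ := (Prime.dvd_prod_iff hr.prime).1 hl
    rwa [(Nat.prime_dvd_prime_iff_eq hr (hp m hm)).1 hrm]
  have h2 : ∀ l : List ℕ, (∀ m ∈ l, Nat.Prime m) → 2 ^ d - 1 = l.prod →
      (∀ m ∈ l, m ∈ [3, 5, 7, 11, 13, 17, 23, 31, 73, 89, 127]) →
      r ∈ [3, 5, 7, 11, 13, 17, 23, 31, 73, 89, 127] := by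
    intro l hp hl hsub
    exact hsub r (h1 l (hl ▸ h) hp)
  interval_cases d
  · exact h2 [] (by simp) (by norm_num) (by simp)
  · exact h2 [3] (by norm_num) (by norm_num) (by simp)
  · exact h2 [7] (by norm_num) (by norm_num) (by simp)
  · exact h2 [3, 5] (by norm_num) (by norm_num) (by simp)
  · exact h2 [31] (by norm_num) (by norm_num) (by simp)
  · exact h2 [3, 3, 7] (by norm_num) (by norm_num) (by simp)
  · exact h2 [127] (by norm_num) (by norm_num) (by simp)
  · exact h2 [3, 5, 17] (by norm_num) (by norm_num) (by simp)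
  · exact h2 [7, 73] (by norm_num) (by norm_num) (by simp)
  · exact h2 [3, 11, 31] (by norm_num) (by norm_num) (by simp)
  · exact h2 [23, 89] (by norm_num) (by norm_num) (by simp)
  · exact h2 [3, 3, 5, 7, 13] (by norm_num) (by norm_num) (by simp)

/-- A primitive prime divisor `r` of `3^n - 1` with `ord_r(2) ≤ 12` has `n` in a short list. -/
theorem mem_list {r n d : ℕ} (hr : r.Prime) (h3 : ¬ r ∣ 3) (hn : ∀ m, r ∣ 3 ^ m - 1 ↔ n ∣ m)
    (h0 : 0 < d) (hd : d ≤ 12) (h : r ∣ 2 ^ d - 1) : n ∈ [4, 6, 5, 3, 16, 11, 30, 12, 88, 126] := by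
  have h1 := small_primes hr h0 hd h
  have hdvd : ∀ a b : ℕ, r ∣ 3 ^ a - 1 → (∀ c ∈ Nat.properDivisors a, ¬ r ∣ 3 ^ c - 1) → 0 < a → n = a := by
    intro a _ h4 h5 h6
    have h7 := (hn a).1 h4
    by_contra hne
    have h8 : n ∈ Nat.properDivisors a := by
      rw [Nat.mem_properDivisors]
      exact ⟨h7, lt_of_le_of_ne (Nat.le_of_dvd h6 h7) hne⟩
    exact h5 n h8 ((hn n).2 dvd_rfl)
  have hmod : ∀ a : ℕ, (3 ^ a) % r = 1 % r → r ∣ 3 ^ a - 1 := fun a h4 =>
    (Nat.modEq_iff_dvd' (Nat.one_le_pow _ _ (by norm_num))).1 (Nat.ModEq.symm h4)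
  have hmod' : ∀ a : ℕ, r ∣ 3 ^ a - 1 → (3 ^ a) % r = 1 % r := fun a h4 =>
    (Nat.ModEq.symm ((Nat.modEq_iff_dvd' (Nat.one_le_pow _ _ (by norm_num))).2 h4))
  simp only [List.mem_cons, List.not_mem_nil, or_false] at h1
  rcases h1 with rfl | rfl | rfl | rfl | rfl | rfl | rfl | rfl | rfl | rfl | rfl
  · exact absurd dvd_rfl h3
  · have := hdvd 4 0 (hmod 4 (by decide)) (fun c hc h => by
      have h9 := hmod' c h
      revert c; decide) (by norm_num)
    simp [this]
  · have := hdvd 6 0 (hmod 6 (by decide)) (fun c hc h => by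
      have h9 := hmod' c h
      revert c; decide) (by norm_num)
    simp [this]
  · have := hdvd 5 0 (hmod 5 (by decide)) (fun c hc h => by
      have h9 := hmod' c h
      revert c; decide) (by norm_num)
    simp [this]
  · have := hdvd 3 0 (hmod 3 (by decide)) (fun c hc h => by
      have h9 := hmod' c h
      revert c; decide) (by norm_num)
    simp [this]
  · have := hdvd 16 0 (hmod 16 (by decide)) (fun c hc h => by
      have h9 := hmod' c h
      revert c; decide) (by norm_num)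
    simp [this]
  · have := hdvd 11 0 (hmod 11 (by decide)) (fun c hc h => by
      have h9 := hmod' c h
      revert c; decide) (by norm_num)
    simp [this]
  · have := hdvd 30 0 (hmod 30 (by decide)) (fun c hc h => by
      have h9 := hmod' c h
      revert c; decide) (by norm_num)
    simp [this]
  · have := hdvd 12 0 (hmod 12 (by decide)) (fun c hc h => by
      have h9 := hmod' c h
      revert c; decide) (by norm_num)
    simp [this]
  · have := hdvd 88 0 (hmod 88 (by decide)) (fun c hc h => by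
      have h9 := hmod' c h
      revert c; decide) (by norm_num)
    simp [this]
  · have := hdvd 126 0 (hmod 126 (by decide)) (fun c hc h => by
      have h9 := hmod' c h
      revert c; decide) (by norm_num)
    simp [this]

/-- The prime. -/
theorem exists_prime {q f : ℕ} (hf : 2 ≤ f) (hq : q = 3 ^ f) {F : Type*} [Field F] [Fintype F]
    (hF : Fintype.card F = q ^ 2) :
    ∃ r, r.Prime ∧ r ≠ 2 ∧ r ∣ Nat.card (PSU 4 F q) ∧ 13 ≤ orderOf (2 : ZMod r) := by
  obtain ⟨n, hn, hn'⟩ : ∃ n, (n = 4 * f ∨ n = 6 * f) ∧ n ∉ [4, 6, 5, 3, 16, 11, 30, 12, 88, 126] := by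
    by_cases h : f = 3 ∨ f = 4 ∨ f = 22
    · refine ⟨6 * f, Or.inr rfl, ?_⟩
      rcases h with rfl | rfl | rfl <;> decide
    · refine ⟨4 * f, Or.inl rfl, ?_⟩
      simp only [List.mem_cons, List.not_mem_nil, or_false]
      omega
  have hn8 : 8 ≤ n := by rcases hn with h | h <;> omega
  obtain ⟨r, hr, hrn, -, hr3⟩ := Cfsg.Agent.Lib.Zsigmondy.exists_primitive (a := 3) (n := n)
    (by norm_num) (by omega) (fun h => by omega) (fun h => by omega)
  have hr2 : r ≠ 2 := by
    rintro rfl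
    have h1 : (2 : ℕ) ∣ 3 ^ 1 - 1 := by norm_num
    have h2 := Nat.le_of_dvd (by norm_num) ((hrn 1).1 h1)
    omega
  refine ⟨r, hr, hr2, ?_, ?_⟩
  · have h1 := Cfsg.Agent.S0280.result hF 4 (by norm_num)
    have h2 : r ∣ q ^ (4 * (4 - 1) / 2) * ∏ i ∈ Finset.range 4,
        (if Even i then q ^ (i + 1) + 1 else q ^ (i + 1) - 1) := by
      apply Dvd.dvd.mul_left
      rcases hn with h | h
      · have h3 : r ∣ q ^ 4 - 1 := by
          rw [hq, ← pow_mul, mul_comm f 4, ← h]
          exact (hrn n).2 dvd_rfl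
        have h9 := Finset.dvd_prod_of_mem (fun i => if Even i then q ^ (i + 1) + 1 else q ^ (i + 1) - 1)
          (Finset.mem_range.2 (show 3 < 4 by norm_num))
        simp only [show ¬ Even 3 by decide, if_false] at h9
        exact h3.trans h9
      · have h3 : r ∣ q ^ 6 - 1 := by
          rw [hq, ← pow_mul, mul_comm f 6, ← h]
          exact (hrn n).2 dvd_rfl
        have h4 : ¬ r ∣ q ^ 3 - 1 := by
          rw [hq, ← pow_mul, hrn]
          intro h5
          have := Nat.le_of_dvd (by omega) h5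
          omega
        have h5 : q ^ 6 - 1 = (q ^ 3 - 1) * (q ^ 3 + 1) := by
          have h6 : 1 ≤ q ^ 3 := Nat.one_le_pow _ _ (by rw [hq]; positivity)
          obtain ⟨a, ha⟩ : ∃ a, q ^ 3 = a + 1 := ⟨q ^ 3 - 1, by omega⟩
          have h7 : q ^ 6 = (q ^ 3) ^ 2 := by rw [← pow_mul]
          rw [h7, ha]
          have h8 : (a + 1) ^ 2 = a * (a + 2) + 1 := by ring
          rw [h8, Nat.add_sub_cancel, Nat.add_sub_cancel]
        rw [h5] at h3
        have h6 := (hr.dvd_mul.1 h3).resolve_left h4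
        have h9 := Finset.dvd_prod_of_mem (fun i => if Even i then q ^ (i + 1) + 1 else q ^ (i + 1) - 1)
          (Finset.mem_range.2 (show 2 < 4 by norm_num))
        simp only [show Even 2 by decide, if_true] at h9
        exact h6.trans h9
    rw [← h1] at h2
    rcases hr.dvd_mul.1 h2 with h3 | h3
    · exfalso
      have h4 : r ∣ 2 ^ 2 := h3.trans (Nat.gcd_dvd_left 4 (q + 1))
      exact hr2 ((Nat.prime_dvd_prime_iff_eq hr Nat.prime_two).1 (hr.dvd_of_dvd_pow h4))
    · rcases hr.dvd_mul.1 h3 with h4 | h4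
      · exfalso
        have h5 : r ∣ 3 ^ (2 * f) - 1 := by
          have h6 : 3 ^ (2 * f) - 1 = (q + 1) * (q - 1) := by
            rw [mul_comm 2 f, pow_mul, ← hq]
            have := Nat.sq_sub_sq q 1
            rwa [one_pow] at this
          rw [h6]
          exact h4.mul_right _
        have h7 := Nat.le_of_dvd (by omega) ((hrn (2 * f)).1 h5)
        rcases hn with h | h <;> omega
      · exact h4
  · apply RowPsl.le_orderOf hr hr2
    intro d h0 hd h
    apply hn'
    apply mem_list hr hr3 hrn h0 (d := d) (by omega)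
    have h1 : ((2 ^ d : ℕ) : ZMod r) = ((1 : ℕ) : ZMod r) := by push_cast; exact h
    rw [ZMod.natCast_eq_natCast_iff] at h1
    exact (Nat.modEq_iff_dvd' (Nat.one_le_pow _ _ (by norm_num))).1 h1.symm

end Cfsg.Agent.Omega.TwoF.LBPsuFour
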