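import Cfsg.Agent.Omega.TwoF.RowPsu
import Cfsg.Agent.Omega.TwoF.LBPsuFour
import Cfsg.Agent.Omega.TwoF.Bridge
import Cfsg.Agent.Omega.KFacts
import Cfsg.Agent.ClassicalGeometry.PSL2Solvable
import Cfsg.Agent.LieClassical.HermPerfect
import Cfsg.Agent.S0248

/-!
# TABLE 2F: the rows `psl`, `psu`, `u43` of `KFacts.Rows2`
-/

set_option autoImplicit false

universe u v

namespace Cfsg.Agent.Omega.TwoF.RowLU

open Cfsg Cfsg.Agent.Omega.TwoF Cfsg.Agent.Omega.EH3 Cfsg.Agent.Omega.KFacts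
open Cfsg.Agent.ClassicalGeometry.AutPSL.Root (pr_surjective)

theorem center_bot_of_perf {K : Type*} [Group K] [IsSimpleGroup K] (h : commutator K = ⊤) :
    Subgroup.center K = ⊥ := by
  rcases IsSimpleGroup.eq_bot_or_eq_top_of_normal (Subgroup.center K) inferInstance with h1 | h1
  · exact h1
  · exfalso
    have h2 : commutator K = ⊥ := by
      rw [eq_bot_iff, commutator_def, Subgroup.commutator_le]
      intro a _ b _
      rw [Subgroup.mem_bot, commutatorElement_eq_one_iff_mul_comm]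
      exact (Subgroup.mem_center_iff.1 (h1 ▸ Subgroup.mem_top b) a)
    exact bot_ne_top (h2.symm.trans h)

theorem perf_of_surjective {G K : Type*} [Group G] [Group K] (f : G →* K)
    (hf : Function.Surjective f) (h : commutator G = ⊤) : commutator K = ⊤ := by
  have h1 := Subgroup.map_commutator (⊤ : Subgroup G) ⊤ f
  rw [← MonoidHom.range_eq_map, MonoidHom.range_eq_top.2 hf] at h1
  rw [commutator_def, ← h1]
  have h2 : ⁅(⊤ : Subgroup G), ⊤⁆ = ⊤ := h
  rw [h2, ← MonoidHom.range_eq_map, MonoidHom.range_eq_top.2 hf]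

section psl

variable {F : Type} [Field F] [Fintype F] {n : ℕ}

theorem simple_psl (hn : 2 ≤ n) (h4 : n = 2 → 4 ≤ Fintype.card F) :
    IsSimpleGroup (Matrix.ProjectiveSpecialLinearGroup (Fin n) F) ∧
      Subgroup.center (Matrix.ProjectiveSpecialLinearGroup (Fin n) F) = ⊥ := by
  by_cases h3 : 3 ≤ n
  · haveI hs := Cfsg.Agent.S0249.result (F := F) n h3
    exact ⟨hs, center_bot_of_perf (perf_of_surjective _ pr_surjective (Cfsg.Agent.S0248.result n h3))⟩
  · obtain rfl : n = 2 := by omega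
    haveI hs : IsSimpleGroup (Matrix.ProjectiveSpecialLinearGroup (Fin 2) F) :=
      Matrix.ProjectiveSpecialLinearGroup.rank_two_simple (by
        rw [Nat.card_eq_fintype_card]; exact h4 rfl)
    refine ⟨hs, ?_⟩
    rcases IsSimpleGroup.eq_bot_or_eq_top_of_normal
      (Subgroup.center (Matrix.ProjectiveSpecialLinearGroup (Fin 2) F)) inferInstance with h1 | h1
    · exact h1
    · exfalso
      refine Cfsg.Agent.ClassicalGeometry.PSL2Solvable.not_isSolvable_psl F (h4 rfl)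
        (Group.isSolvable_of_comm fun a b => ?_)
      exact (Subgroup.mem_center_iff.1 (h1 ▸ Subgroup.mem_top b) a)

theorem psl_row (h2 : (2 : F) ≠ 0) (hn : 2 ≤ n) (h4 : n = 2 → 4 ≤ Fintype.card F) :
    RowEH3.{u} (Matrix.ProjectiveSpecialLinearGroup (Fin n) F) := by
  obtain ⟨hs, hc⟩ := simple_psl hn h4
  haveI : Finite (Matrix.ProjectiveSpecialLinearGroup (Fin n) F) := Finite.of_surjective _ pr_surjective
  by_cases h3 : 3 ≤ n
  · obtain ⟨m, a, hl, hr, hlt, -, -⟩ := RowPsl.row.{0, u, u} (F := F) h2 h3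
    exact RowEH3.of_dead hc (Dead2.of_lb (LB.of_heis hl) (RK.of_rk hc hr) hlt)
  · obtain rfl : n = 2 := by omega
    exact RowEH3.of_rk hc ((RK.of_rk hc (RowPsl.row_two.{0} (F := F) h2)).mono (by norm_num))

end psl

/-- **The row `psl`.** -/
theorem psl : KFacts.Row.{u} fun K _ => OddChar @IsPSLChar K ∧ ¬ IsLieTypeChar 2 K := by
  rintro K _ ⟨⟨p, hp, hp2, F, _, _, _, n, hn, h4, ⟨e⟩⟩, -⟩
  have h2 : (2 : F) ≠ 0 := by
    intro h0
    have h1 : ((2 : ℕ) : F) = 0 := by exact_mod_cast h0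
    rw [CharP.cast_eq_zero_iff F p] at h1
    exact hp2 ((Nat.prime_dvd_prime_iff_eq hp Nat.prime_two).1 h1)
  exact (psl_row h2 hn h4).equiv e

section psu

variable {F : Type} [Field F] [Fintype F] {n q : ℕ}

theorem ne_two (hF : Fintype.card F = q ^ 2) (h2 : (2 : F) ≠ 0) : q ≠ 2 := by
  rintro rfl
  obtain ⟨p, hp⟩ := CharP.exists F
  obtain ⟨k, hpp, hk⟩ := FiniteField.card F p
  have h1 : p ∣ 2 ^ 2 := by
    rw [← hF, hk]
    exact dvd_pow_self p k.pos.ne'
  have h3 : p = 2 := (Nat.prime_dvd_prime_iff_eq hpp Nat.prime_two).1 (hpp.dvd_of_dvd_pow h1)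
  subst h3
  exact h2 (by exact_mod_cast CharP.cast_eq_zero F 2)

theorem simple_psu (hF : Fintype.card F = q ^ 2) (h2 : (2 : F) ≠ 0) (hn : 3 ≤ n) :
    IsSimpleGroup (PSU n F q) ∧ Subgroup.center (PSU n F q) = ⊥ := by
  have h32 : ¬ (n = 3 ∧ q = 2) := fun h => ne_two hF h2 h.2
  haveI hs := Cfsg.Agent.S0283.result hF n hn h32
  exact ⟨hs, center_bot_of_perf (perf_of_surjective _
    (Cfsg.Agent.ClassicalGeometry.UnitAutBasic.pr_surjective (n := n) (F := F) (q := q))
    (Cfsg.Agent.LieClassical.HermPerfect.commutator_SU_eq_top hF hn h32))⟩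

theorem rk_psu (hF : Fintype.card F = q ^ 2) (h2 : (2 : F) ≠ 0) (hn : 3 ≤ n) :
    RK (PSU n F q) (RkLin.rk n + 1) := RK.of_mul_self (RkPSU.rkAut hF h2 hn)

theorem psu_row {p : ℕ} (hp : p.Prime) [CharP F p] (hF : Fintype.card F = q ^ 2) (h2 : (2 : F) ≠ 0)
    (hn : 3 ≤ n) (h43 : ¬ (n = 4 ∧ q = 3)) : RowEH3.{u} (PSU n F q) := by
  obtain ⟨hs, hc⟩ := simple_psu hF h2 hn
  have hp2 : p ≠ 2 := by
    rintro rfl
    exact h2 (by exact_mod_cast CharP.cast_eq_zero F 2)
  have hr := rk_psu hF h2 hn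
  by_cases h3 : n = 3
  · subst h3
    exact RowEH3.of_rk hc (hr.mono (by decide))
  by_cases h4 : n = 4
  · subst h4
    have h5 : RkLin.rk 4 + 1 = 5 := by decide
    rw [h5] at hr
    by_cases hp3 : p = 3
    · subst hp3
      obtain ⟨f, hf⟩ : ∃ f, q = 3 ^ f := by
        obtain ⟨a, _, ha⟩ := FiniteField.card F 3
        have h6 : q ∣ 3 ^ (a : ℕ) := by
          rw [← ha, hF]
          exact dvd_pow_self q (by norm_num)
        obtain ⟨f, _, hf⟩ := (Nat.dvd_prime_pow Nat.prime_three).1 h6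
        exact ⟨f, hf⟩
      have hf2 : 2 ≤ f := by
        by_contra hlt
        have h6 : f = 0 ∨ f = 1 := by omega
        rcases h6 with rfl | rfl
        · rw [pow_zero] at hf
          subst hf
          have := Fintype.one_lt_card (α := F)
          rw [hF] at this
          norm_num at this
        · exact h43 ⟨rfl, by rw [hf, pow_one]⟩
      obtain ⟨r, hr1, hr2, hr3, hr4⟩ := LBPsuFour.exists_prime hf2 hf hF
      haveI : Finite (PSU 4 F q) := RkPSU.finite_PSU
      exact RowEH3.of_dead hc (Dead2.of_lb (LB.of_heis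
        (Cfsg.Agent.Omega.Lie.Heis.LB.prime hr1 hr2 hr3 hr4)) hr (by norm_num))
    · have hp5 : 5 ≤ p := by
        have := hp.two_le
        by_contra hlt
        have h6 : p = 4 := by omega
        subst h6
        exact absurd hp (by norm_num)
      exact RowEH3.of_dead hc (Dead2.of_lb (LB.of_heis
        (RowPsu.lb_one (k := 2) hF h2 hp hp2 (by norm_num) (m := 20) (RowPsl.twenty_le hp hp5))) hr
        (by norm_num))
  · obtain ⟨k, rfl⟩ : ∃ k, n = k + 3 + 2 := ⟨n - 5, by omega⟩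
    have hp3 : 3 ≤ p := by
      have := hp.two_le
      omega
    have hkey : ∀ k : ℕ, 2 * (k + 3 + 2 + 1) + 2 < 2 * 3 ^ (k + 3) := by
      intro k
      induction k with
      | zero => norm_num
      | succ k ih =>
        rw [show k + 1 + 3 = (k + 3) + 1 by omega, pow_succ]
        omega
    have h6 : 2 * 3 ^ (k + 3) ≤ orderOf (2 : ZMod p) * p ^ (k + 3) :=
      Nat.mul_le_mul (RowPsl.two_le_order hp hp2) (Nat.pow_le_pow_left hp3 _)
    refine RowEH3.of_dead hc (Dead2.of_lb (LB.of_heis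
      (RowPsu.lb_five (k := k + 3) hF h2 hp hp2 (by omega) h6)) (hr.mono (b := k + 3 + 2 + 1) ?_) (hkey k))
    have := RkLin.rk_le (k + 3 + 2)
    omega

end psu

/-- **The row `psu`.** -/
theorem psu : KFacts.Row.{u} fun K _ => OddChar @IsPSUChar K ∧ ¬ IsLieTypeChar 2 K ∧ ¬ IsUFourThree K := by
  rintro K _ ⟨⟨p, hp, hp2, F, _, _, _, n, q, hF, hn, h32, ⟨e⟩⟩, -, h43⟩
  have h2 : (2 : F) ≠ 0 := by
    intro h0
    have h1 : ((2 : ℕ) : F) = 0 := by exact_mod_cast h0
    rw [CharP.cast_eq_zero_iff F p] at h1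
    exact hp2 ((Nat.prime_dvd_prime_iff_eq hp Nat.prime_two).1 h1)
  refine (psu_row hp hF h2 hn ?_).equiv e
  rintro ⟨rfl, rfl⟩
  exact h43 ⟨F, _, _, by rw [hF]; norm_num, ⟨e⟩⟩

/-- **The row `u43`.** -/
theorem u43 (K : Type u) [Group K] (h : IsUFourThree K) : Tight K 12 5 := by
  obtain ⟨F, _, _, hF, ⟨e⟩⟩ := h
  have hF' : Fintype.card F = 3 ^ 2 := by rw [hF]; norm_num
  have h2 : (2 : F) ≠ 0 := by
    intro h0
    obtain ⟨p, hp⟩ := CharP.exists F
    obtain ⟨k, hpp, hk⟩ := FiniteField.card F p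
    have h1 : ((2 : ℕ) : F) = 0 := by exact_mod_cast h0
    rw [CharP.cast_eq_zero_iff F p] at h1
    have h3 := (Nat.prime_dvd_prime_iff_eq hpp Nat.prime_two).1 h1
    subst h3
    have h4 : 2 ∣ 9 := by
      rw [← hF, hk]
      exact dvd_pow_self 2 k.pos.ne'
    norm_num at h4
  have hr := rk_psu hF' h2 (show 3 ≤ 4 by norm_num)
  have h5 : RkLin.rk 4 + 1 = 5 := by decide
  rw [h5] at hr
  exact ⟨Or.inl rfl, hr.equiv e, by norm_num⟩

end Cfsg.Agent.Omega.TwoF.RowLU
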