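import Cfsg.Agent.Omega.Lie.HeisLB
import Cfsg.Agent.S0270
import Cfsg.Agent.LieClassical.SympCenter
import Cfsg.Prelude.Def_LieTypeChar

/-!
# TABLE 2F: the lower bound of `PSp_2m(q)`, `q` odd

`Sp_2m(F)` contains `q^{1+2(m-1)}`: with `U T = [1 T; 0 1]` (`T` symmetric) and `D A = diag(A, A⁻ᵀ)`,
`z s = U (2 s E_oo)`, `x i s = U (s (E_oi + E_io))`, `y i t = D (1 + t E_oi)` (`i ≠ o`).

* `lb`: every nontrivial action of an odd cover of `PSp_2m(F)` (`m ≥ 2`, `char F = p` odd) on a finite abelian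
  2-group `V` has `|V| ≥ 2 ^ (ord_p(2) * |F| ^ (m - 1))`.
-/

set_option autoImplicit false
set_option linter.dupNamespace false

universe u v w

namespace Cfsg.Agent.Omega.TwoF.PspOdd

open Matrix Cfsg Cfsg.Agent.LieClassical.SympCenter Cfsg.Agent.Omega.Lie Cfsg.Agent.Omega.Lie.FHeis
  Cfsg.Agent.Omega.Lie.HeisLift

variable {F : Type u} [Field F] {m : ℕ}

/-- `[1 T; 0 1]` -/
def U (T : Matrix (Fin m) (Fin m) F) (hT : Tᵀ = T) : symplecticGroup (Fin m) F :=
  ⟨fromBlocks 1 T 0 1, upper_mem m hT⟩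

theorem U_congr {T T' : Matrix (Fin m) (Fin m) F} (hT : Tᵀ = T) (hT' : T'ᵀ = T') (h : T = T') : U T hT = U T' hT' := by
  subst h
  rfl

theorem U_mul {T T' : Matrix (Fin m) (Fin m) F} (hT : Tᵀ = T) (hT' : T'ᵀ = T') :
    U T hT * U T' hT' = U (T + T') (by rw [transpose_add, hT, hT']) := by
  apply Subtype.ext
  show fromBlocks 1 T 0 1 * fromBlocks 1 T' 0 1 = fromBlocks 1 (T + T') 0 1
  rw [fromBlocks_multiply]
  simp [add_comm]

theorem U_comm {T T' : Matrix (Fin m) (Fin m) F} (hT : Tᵀ = T) (hT' : T'ᵀ = T') :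
    U T hT * U T' hT' = U T' hT' * U T hT := by
  rw [U_mul, U_mul]
  exact U_congr _ _ (add_comm _ _)

theorem U_inv {T : Matrix (Fin m) (Fin m) F} (hT : Tᵀ = T) :
    (U T hT)⁻¹ = U (-T) (by rw [transpose_neg, hT]) := by
  apply inv_eq_of_mul_eq_one_right
  rw [U_mul]
  apply Subtype.ext
  show fromBlocks 1 (T + -T) 0 1 = 1
  rw [add_neg_cancel, fromBlocks_one]

/-- `diag(A, A⁻ᵀ)` -/
def D : GL (Fin m) F →* symplecticGroup (Fin m) F where
  toFun A := ⟨fromBlocks (A : Matrix (Fin m) (Fin m) F) 0 0 ((A⁻¹ : GL (Fin m) F) : Matrix (Fin m) (Fin m) F)ᵀ, by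
    rw [SymplecticGroup.fromBlocks_mem_iff]
    refine ⟨by simp, by simp, ?_⟩
    rw [transpose_zero, Matrix.zero_mul, sub_zero, ← transpose_mul, ← Units.val_mul, inv_mul_cancel, Units.val_one,
      transpose_one]⟩
  map_one' := by
    apply Subtype.ext
    show fromBlocks ((1 : GL (Fin m) F) : Matrix (Fin m) (Fin m) F) 0 0
      (((1 : GL (Fin m) F)⁻¹ : GL (Fin m) F) : Matrix (Fin m) (Fin m) F)ᵀ = 1
    rw [inv_one, Units.val_one, transpose_one, fromBlocks_one]
  map_mul' A B := by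
    apply Subtype.ext
    show fromBlocks ((A * B : GL (Fin m) F) : Matrix (Fin m) (Fin m) F) 0 0
      (((A * B)⁻¹ : GL (Fin m) F) : Matrix (Fin m) (Fin m) F)ᵀ =
      fromBlocks (A : Matrix (Fin m) (Fin m) F) 0 0 ((A⁻¹ : GL (Fin m) F) : Matrix (Fin m) (Fin m) F)ᵀ *
        fromBlocks (B : Matrix (Fin m) (Fin m) F) 0 0 ((B⁻¹ : GL (Fin m) F) : Matrix (Fin m) (Fin m) F)ᵀ
    rw [fromBlocks_multiply, _root_.mul_inv_rev, Units.val_mul, Units.val_mul, transpose_mul]
    simp

theorem D_U (A : GL (Fin m) F) {T T' : Matrix (Fin m) (Fin m) F} (hT : Tᵀ = T) (hT' : T'ᵀ = T')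
    (h : (A : Matrix (Fin m) (Fin m) F) * T * (A : Matrix (Fin m) (Fin m) F)ᵀ = T') :
    D A * U T hT * (D A)⁻¹ = U T' hT' := by
  rw [mul_inv_eq_iff_eq_mul]
  apply Subtype.ext
  show fromBlocks (A : Matrix (Fin m) (Fin m) F) 0 0 ((A⁻¹ : GL (Fin m) F) : Matrix (Fin m) (Fin m) F)ᵀ *
      fromBlocks 1 T 0 1 = fromBlocks 1 T' 0 1 *
      fromBlocks (A : Matrix (Fin m) (Fin m) F) 0 0 ((A⁻¹ : GL (Fin m) F) : Matrix (Fin m) (Fin m) F)ᵀ
  have h1 : T' * ((A⁻¹ : GL (Fin m) F) : Matrix (Fin m) (Fin m) F)ᵀ = (A : Matrix (Fin m) (Fin m) F) * T := by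
    rw [← h, Matrix.mul_assoc, ← transpose_mul, ← Units.val_mul, inv_mul_cancel, Units.val_one, transpose_one,
      Matrix.mul_one]
  rw [fromBlocks_multiply, fromBlocks_multiply, h1]
  simp

theorem D_U_comm (A : GL (Fin m) F) {T : Matrix (Fin m) (Fin m) F} (hT : Tᵀ = T)
    (h : (A : Matrix (Fin m) (Fin m) F) * T * (A : Matrix (Fin m) (Fin m) F)ᵀ = T) :
    D A * U T hT = U T hT * D A :=
  mul_inv_eq_iff_eq_mul.1 (D_U A hT hT h)

/-- diagonal matrices -/
def Dg : (Fin m → Fˣ) →* GL (Fin m) F where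
  toFun d := ⟨diagonal fun i => (d i : F), diagonal fun i => ((d i)⁻¹ : Fˣ), by
    rw [diagonal_mul_diagonal]; simp, by rw [diagonal_mul_diagonal]; simp⟩
  map_one' := by
    apply Units.ext
    show (diagonal fun i => (((1 : Fin m → Fˣ) i : Fˣ) : F)) = 1
    simp
  map_mul' d d' := by
    apply Units.ext
    show (diagonal fun i => (((d * d') i : Fˣ) : F)) = (diagonal fun i => (d i : F)) * diagonal fun i => (d' i : F)
    rw [diagonal_mul_diagonal]
    simp

theorem Dg_val (d : Fin m → Fˣ) : ((Dg d : GL (Fin m) F) : Matrix (Fin m) (Fin m) F) = diagonal fun i => (d i : F) :=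
  rfl

/-- permutation matrices -/
def P (σ : Equiv.Perm (Fin m)) : GL (Fin m) F :=
  ⟨σ.permMatrix F, σ⁻¹.permMatrix F, by
    rw [Equiv.Perm.permMatrix, PEquiv.toMatrix_toPEquiv_mul]
    ext a b
    simp [Equiv.Perm.permMatrix, PEquiv.toMatrix_apply, Matrix.one_apply, Equiv.toPEquiv_apply], by
    rw [Equiv.Perm.permMatrix, PEquiv.toMatrix_toPEquiv_mul]
    ext a b
    simp [Equiv.Perm.permMatrix, PEquiv.toMatrix_apply, Matrix.one_apply, Equiv.toPEquiv_apply]⟩

theorem P_conj (σ : Equiv.Perm (Fin m)) (T : Matrix (Fin m) (Fin m) F) :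
    ((P σ : GL (Fin m) F) : Matrix (Fin m) (Fin m) F) * T * ((P σ : GL (Fin m) F) : Matrix (Fin m) (Fin m) F)ᵀ =
      T.submatrix σ σ := by
  show σ.permMatrix F * T * (σ.permMatrix F)ᵀ = T.submatrix σ σ
  rw [transpose_permMatrix, Equiv.Perm.permMatrix, Equiv.Perm.permMatrix, PEquiv.toMatrix_toPEquiv_mul,
    PEquiv.mul_toMatrix_toPEquiv]
  rfl

theorem P_sq (i j : Fin m) : (P (Equiv.swap i j) : GL (Fin m) F) ^ 2 = 1 := by
  have h1 : (P (Equiv.swap i j) : GL (Fin m) F)⁻¹ = P (Equiv.swap i j) := by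
    apply Units.ext
    show (Equiv.swap i j)⁻¹.permMatrix F = (Equiv.swap i j).permMatrix F
    rw [Equiv.swap_inv]
  rw [pow_two]
  nth_rw 1 [← h1]
  exact inv_mul_cancel _

theorem P_Dg (σ : Equiv.Perm (Fin m)) (d : Fin m → Fˣ) (h : ∀ a, d (σ a) = d a) :
    (P σ : GL (Fin m) F) * Dg d = Dg d * P σ := by
  apply Units.ext
  show σ.permMatrix F * diagonal (fun i => (d i : F)) = diagonal (fun i => (d i : F)) * σ.permMatrix F
  ext a b
  rw [mul_diagonal, diagonal_mul, Equiv.Perm.permMatrix, PEquiv.toMatrix_apply]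
  simp only [Equiv.toPEquiv_apply, Option.mem_def, Option.some.injEq]
  split_ifs with h1
  · rw [← h1, h, one_mul, mul_one]
  · rw [mul_zero, zero_mul]

/-! ### The elements -/

/-- `1 + t E_oi` -/
def Y {o i : Fin m} (h : i ≠ o) (t : F) : GL (Fin m) F :=
  ⟨1 + single o i t, 1 - single o i t, by
    rw [add_mul, mul_sub, mul_sub, single_mul_single_of_ne (h := h)]; simp, by
    rw [sub_mul, mul_add, mul_add, single_mul_single_of_ne (h := h)]; simp⟩

theorem Y_val {o i : Fin m} (h : i ≠ o) (t : F) :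
    ((Y h t : GL (Fin m) F) : Matrix (Fin m) (Fin m) F) = 1 + single o i t := rfl

theorem Y_add {o i : Fin m} (h : i ≠ o) (s t : F) : Y h (s + t) = Y h s * Y h t := by
  apply Units.ext
  rw [Units.val_mul, Y_val, Y_val, Y_val, add_mul, mul_add, mul_add, single_mul_single_of_ne (h := h), single_add]
  simp [add_comm, add_assoc]

theorem Y_neg {o i : Fin m} (h : i ≠ o) (s : F) : Y h (-s) = (Y h s)⁻¹ := add_neg' (Y_add h) s

theorem Dg_Y {o i : Fin m} (h : i ≠ o) (d : Fin m → Fˣ) (s : F) :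
    Dg d * Y h s * (Dg d)⁻¹ = Y h ((d o : F) * ((d i)⁻¹ : Fˣ) * s) := by
  rw [mul_inv_eq_iff_eq_mul]
  apply Units.ext
  rw [Units.val_mul, Units.val_mul, Y_val, Y_val, Dg_val, mul_add, add_mul, Matrix.mul_one, Matrix.one_mul]
  congr 1
  ext a b
  rw [diagonal_mul, mul_diagonal, single_apply, single_apply]
  split_ifs with h1
  · obtain ⟨rfl, rfl⟩ := h1
    rw [mul_right_comm _ s, mul_assoc (d o : F), Units.inv_mul, mul_one]
  · rw [mul_zero, zero_mul]

theorem submatrix_add' (σ : Equiv.Perm (Fin m)) (A B : Matrix (Fin m) (Fin m) F) :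
    (A + B).submatrix σ σ = A.submatrix σ σ + B.submatrix σ σ := rfl

theorem submatrix_single {i j i' j' : Fin m} (σ : Equiv.Perm (Fin m)) (hi : σ i' = i) (hj : σ j' = j) (s : F) :
    (single i j s).submatrix σ σ = single i' j' s := by
  subst hi hj
  ext a b
  rw [submatrix_apply, single_apply, single_apply]
  simp only [σ.injective.eq_iff]

theorem P_Y {o i j : Fin m} (hi : i ≠ o) (hj : j ≠ o) (σ : Equiv.Perm (Fin m)) (ho : σ o = o) (hij : σ j = i) (s : F) :
    P σ * Y hi s * (P σ)⁻¹ = Y hj s := by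
  apply Units.ext
  have h1 : (((P σ : GL (Fin m) F)⁻¹ : GL (Fin m) F) : Matrix (Fin m) (Fin m) F) =
      ((P σ : GL (Fin m) F) : Matrix (Fin m) (Fin m) F)ᵀ := (transpose_permMatrix σ).symm
  rw [Units.val_mul, Units.val_mul, h1, P_conj, Y_val, Y_val, submatrix_add', submatrix_one_equiv,
    submatrix_single σ ho hij]

theorem P_T {o i j : Fin m} (σ : Equiv.Perm (Fin m)) (ho : σ o = o) (hij : σ j = i) (s : F) :
    ((P σ : GL (Fin m) F) : Matrix (Fin m) (Fin m) F) * (single o i s + single i o s) *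
      ((P σ : GL (Fin m) F) : Matrix (Fin m) (Fin m) F)ᵀ = single o j s + single j o s := by
  rw [P_conj, submatrix_add', submatrix_single σ ho hij, submatrix_single σ hij ho]

theorem sym_x (o i : Fin m) (s : F) : (single o i s + single i o s)ᵀ = single o i s + single i o s := by
  rw [transpose_add, transpose_single, transpose_single, add_comm]

theorem sym_z (o : Fin m) (s : F) : (single o o s)ᵀ = single o o s := transpose_single _ _ _

/-- `x i s = U (s (E_oi + E_io))` -/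
def x (o i : Fin m) (s : F) : symplecticGroup (Fin m) F := U (single o i s + single i o s) (sym_x o i s)

/-- `z s = U (2 s E_oo)` -/
def z (o : Fin m) (s : F) : symplecticGroup (Fin m) F := U (single o o (2 * s)) (sym_z o _)

theorem fheis (o : Fin m) : FHeis (ι := {i : Fin m // i ≠ o}) (z (F := F) o) (fun i => x o i)
    (fun i s => D (Y i.2 s)) where
  z_add s t := by
    rw [z, z, z, U_mul]
    exact U_congr _ _ (by rw [mul_add, single_add])
  x_add i s t := by
    rw [x, x, x, U_mul]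
    exact U_congr _ _ (by rw [single_add, single_add]; abel)
  y_add i s t := by rw [Y_add, map_mul]
  zx i s t := U_comm _ _
  zy i s t := by
    refine (D_U_comm _ _ ?_).symm
    have h1 := i.2
    have h2 := i.2.symm
    simp only [Y_val, transpose_add, transpose_one, transpose_single, add_mul, mul_add, Matrix.mul_one,
      Matrix.one_mul]
    simp [h1, h2, single_mul_single_of_ne]
  xx i j s t _ := U_comm _ _
  yx i j s t hij := by
    refine D_U_comm _ _ ?_
    have hij' : (i : Fin m) ≠ j := fun h => hij (Subtype.ext h)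
    have h1 := i.2
    have h2 := i.2.symm
    simp only [Y_val, transpose_add, transpose_one, transpose_single, add_mul, mul_add, Matrix.mul_one,
      Matrix.one_mul]
    simp [h1, h2, hij', hij'.symm, single_mul_single_of_ne]
  conj i s t := by
    have h1 := i.2
    have h2 := i.2.symm
    rw [x, z, U_mul]
    refine D_U _ _ _ ?_
    simp only [Y_val, transpose_add, transpose_one, transpose_single, add_mul, mul_add, Matrix.mul_one,
      Matrix.one_mul]
    simp only [ne_eq, h1, h2, not_false_eq_true, single_mul_single_of_ne, single_mul_single_same, add_zero,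
      Matrix.zero_mul]
    rw [two_mul, single_add, mul_comm t s]
    abel

theorem Dg_x {o i : Fin m} (d : Fin m → Fˣ) (s : F) :
    D (Dg d) * x o i s * (D (Dg d))⁻¹ = x o i ((d o : F) * (d i : F) * s) := by
  refine D_U _ _ _ ?_
  rw [Dg_val, diagonal_transpose, mul_add, add_mul]
  congr 1
  · ext a b
    rw [mul_diagonal, diagonal_mul, single_apply, single_apply]
    split_ifs with h1
    · obtain ⟨rfl, rfl⟩ := h1
      ring
    · rw [mul_zero, zero_mul]
  · ext a b
    rw [mul_diagonal, diagonal_mul, single_apply, single_apply]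
    split_ifs with h1
    · obtain ⟨rfl, rfl⟩ := h1
      ring
    · rw [mul_zero, zero_mul]

theorem Dg_z {o : Fin m} (d : Fin m → Fˣ) (s : F) (h : (d o : F) * (d o : F) = 1) :
    D (Dg d) * z o s = z o s * D (Dg d) := by
  refine D_U_comm _ _ ?_
  rw [Dg_val, diagonal_transpose]
  ext a b
  rw [mul_diagonal, diagonal_mul, single_apply]
  split_ifs with h1
  · obtain ⟨rfl, rfl⟩ := h1
    linear_combination (2 * s) * h
  · rw [mul_zero, zero_mul]

theorem Dg_y {o i : Fin m} (h : i ≠ o) (d : Fin m → Fˣ) (s : F) :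
    D (Dg d) * D (Y h s) * (D (Dg d))⁻¹ = D (Y h ((d o : F) * ((d i)⁻¹ : Fˣ) * s)) := by
  rw [← map_mul, ← map_inv, ← map_mul, Dg_Y]

/-- The sign change at `i`. -/
def sg (i : Fin m) : symplecticGroup (Fin m) F := D (Dg (Pi.mulSingle i (-1)))

/-- The torus element at `i`. -/
noncomputable def tor (i : Fin m) (u : F) : symplecticGroup (Fin m) F :=
  open Classical in D (Dg (Pi.mulSingle i (if h : u = 0 then 1 else Units.mk0 u h)))

theorem coprime_of_pow {G : Type*} [Group G] {g : G} {n k : ℕ} (h : g ^ n = 1) (hn : Nat.Coprime n k) :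
    Nat.Coprime (orderOf g) k :=
  Nat.Coprime.coprime_dvd_left (orderOf_dvd_of_pow_eq_one h) hn

theorem x_neg (o i : Fin m) (s : F) : x o i (-s) = (x o i s)⁻¹ :=
  add_neg' (f := x o i) (fun s t => by
    rw [x, x, x, U_mul]
    exact U_congr _ _ (by rw [single_add, single_add]; abel)) s

theorem force (o : Fin m) (i₀ : {i : Fin m // i ≠ o}) [Finite F] {p : ℕ} [Fact p.Prime] [CharP F p] (hp2 : p ≠ 2) :
    Force (ι := {i : Fin m // i ≠ o}) p (z (F := F) o) (fun i => x o i) (fun i s => D (Y i.2 s))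
      (sg o) (fun i u => tor i.1 u) (fun i => D (P (Equiv.swap i₀.1 i.1))) i₀ where
  gx i s := by
    rw [sg, Dg_x, ← x_neg]
    congr 1
    simp [Pi.mulSingle_eq_of_ne i.2]
  gy i s := by
    rw [sg, Dg_y, ← map_inv, ← Y_neg]
    congr 2
    simp [Pi.mulSingle_eq_of_ne i.2]
  gz s := by
    rw [sg]
    exact (Dg_z _ _ (by simp)).symm
  tg i u hu := by
    rw [sg, tor, ← map_mul, ← map_mul, ← map_mul, ← map_mul, mul_comm]
  tz i u hu s := by
    rw [tor]
    exact Dg_z _ _ (by simp [Pi.mulSingle_eq_of_ne i.2.symm])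
  tord i u hu := by
    have : Fintype F := Fintype.ofFinite F
    classical
    refine coprime_of_pow (n := Fintype.card F - 1) ?_ ?_
    · rw [tor, ← map_pow, ← map_pow, ← Pi.mulSingle_pow]
      have : (if h : u = 0 then 1 else Units.mk0 u h : Fˣ) ^ (Fintype.card F - 1) = 1 := by
        apply Units.ext
        rw [Units.val_pow_eq_pow_val, Units.val_one]
        exact FiniteField.pow_card_sub_one_eq_one _ (Units.ne_zero _)
      rw [this, Pi.mulSingle_one, map_one, map_one]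
    · obtain ⟨n, hp, hn⟩ := FiniteField.card F p
      rw [hn]
      have h1 : p ∣ p ^ (n : ℕ) := dvd_pow_self p n.ne_zero
      have h2 : 1 ≤ p ^ (n : ℕ) := Nat.one_le_pow _ _ hp.pos
      rw [Nat.coprime_comm, hp.coprime_iff_not_dvd]
      intro h3
      have h4 : p ∣ 1 := by
        have h5 := Nat.dvd_sub h1 h3
        rwa [Nat.sub_sub_self h2] at h5
      exact hp.one_lt.ne' (Nat.dvd_one.1 h4)
  tx i u hu s := by
    rw [tor, Dg_x]
    congr 1
    simp [Pi.mulSingle_eq_of_ne i.2.symm, hu]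
  ty i u hu s := by
    rw [tor, Dg_y]
    congr 2
    simp [Pi.mulSingle_eq_of_ne i.2.symm, hu]
  wg i := by
    rw [sg, ← map_mul, ← map_mul]
    congr 1
    refine P_Dg _ _ ?_
    intro a
    by_cases h1 : a = o
    · rw [h1, Equiv.swap_apply_of_ne_of_ne i₀.2.symm i.2.symm]
    · have h2 : Equiv.swap i₀.1 i.1 a ≠ o := by
        intro h3
        apply h1
        have h4 : Equiv.swap i₀.1 i.1 o = o := Equiv.swap_apply_of_ne_of_ne i₀.2.symm i.2.symm
        exact (Equiv.swap i₀.1 i.1).injective (h3.trans h4.symm)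
      rw [Pi.mulSingle_eq_of_ne h1, Pi.mulSingle_eq_of_ne h2]
  wz i s := by
    refine D_U_comm _ _ ?_
    rw [P_conj, submatrix_single (i' := o) (j' := o)]
    · exact Equiv.swap_apply_of_ne_of_ne i₀.2.symm i.2.symm
    · exact Equiv.swap_apply_of_ne_of_ne i₀.2.symm i.2.symm
  word i := by
    refine coprime_of_pow (n := 2) ?_ ((Nat.coprime_primes Nat.prime_two Fact.out).2 hp2.symm)
    rw [← map_pow, P_sq, map_one]
  wx i s := by
    refine D_U _ _ _ (P_T _ ?_ ?_ s)
    · exact Equiv.swap_apply_of_ne_of_ne i₀.2.symm i.2.symm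
    · exact Equiv.swap_apply_right _ _
  wy i s := by
    rw [← map_mul, ← map_inv, ← map_mul, P_Y i₀.2 i.2 _ ?_ ?_ s]
    · exact Equiv.swap_apply_of_ne_of_ne i₀.2.symm i.2.symm
    · exact Equiv.swap_apply_right _ _
  sepxx i j hij := by
    have hij' : (i : Fin m) ≠ j := fun h => hij (Subtype.ext h)
    refine ⟨sg i.1, fun s => ?_, fun s => ?_⟩
    · rw [sg, Dg_x, ← x_neg]
      congr 1
      simp [Pi.mulSingle_eq_of_ne i.2.symm]
    · rw [sg, ← mul_inv_eq_iff_eq_mul, Dg_x]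
      congr 1
      simp [Pi.mulSingle_eq_of_ne i.2.symm, Pi.mulSingle_eq_of_ne hij'.symm]
  sepyx i j hij := by
    have hij' : (i : Fin m) ≠ j := fun h => hij (Subtype.ext h)
    refine ⟨sg i.1, Or.inl ⟨fun s => ?_, fun s => ?_⟩⟩
    · rw [sg, Dg_y, ← map_inv, ← Y_neg]
      congr 2
      simp [Pi.mulSingle_eq_of_ne i.2.symm]
    · rw [sg, ← mul_inv_eq_iff_eq_mul, Dg_x]
      congr 1
      simp [Pi.mulSingle_eq_of_ne i.2.symm, Pi.mulSingle_eq_of_ne hij'.symm]

theorem z_notMem (o : Fin m) (h2 : (2 : F) ≠ 0) :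
    z (F := F) o 1 ∉ Subgroup.center (symplecticGroup (Fin m) F) := by
  intro h
  obtain ⟨a, ha⟩ := (mem_center_iff m _).1 h
  have h1 := congrFun (congrFun ha (Sum.inl o)) (Sum.inr o)
  have h3 : (z (F := F) o 1).1 (Sum.inl o) (Sum.inr o) = 2 := by
    show fromBlocks 1 (single o o (2 * 1)) 0 1 (Sum.inl o) (Sum.inr o) = (2 : F)
    rw [fromBlocks_apply₁₂, single_apply_same, mul_one]
  rw [h3, Matrix.smul_apply, one_apply_ne (by simp), smul_zero] at h1
  exact h2 h1

/-- **The lower bound of `PSp_2m(F)`**, `F` of odd characteristic `p`, `m ≥ 2`. -/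
theorem lb {F : Type u} [Field F] [Finite F] {p : ℕ} [Fact p.Prime] [CharP F p] (hp2 : p ≠ 2) {m : ℕ} (hm : 2 ≤ m) :
    Heis.LB.{u, v, w} (PSp m F) (orderOf (2 : ZMod p) * Nat.card F ^ (m - 1)) := by
  have : Fintype F := Fintype.ofFinite F
  have hc : 3 ≤ Fintype.card F := by
    obtain ⟨n, hp, hn⟩ := FiniteField.card F p
    rw [hn]
    have h1 : p ^ 1 ≤ p ^ (n : ℕ) := Nat.pow_le_pow_right hp.pos n.pos
    have h2 := hp.two_le
    have : p ≠ 2 := hp2
    rw [pow_one] at h1
    omega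
  have : IsSimpleGroup (PSp m F) := S0270.result m hm fun _ => hc
  let o : Fin m := ⟨0, by omega⟩
  let i₀ : {i : Fin m // i ≠ o} := ⟨⟨1, by omega⟩, by simp [o, Fin.ext_iff]⟩
  let q : symplecticGroup (Fin m) F →* PSp m F := QuotientGroup.mk' _
  have h2 : (2 : F) ≠ 0 := by
    intro h
    have h3 : ((2 : ℕ) : F) = 0 := by exact_mod_cast h
    rw [CharP.cast_eq_zero_iff F p] at h3
    exact hp2 ((Nat.prime_dvd_prime_iff_eq Fact.out Nat.prime_two).1 h3)
  have h3 := LB.fheis.{u, v, w} (F := F) (p := p) hp2 ((fheis (F := F) o).map q) ⟨1, fun h => z_notMem (F := F) o h2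
    ((QuotientGroup.eq_one_iff _).1 h)⟩ ((force (F := F) o i₀ hp2).map q)
  have h4 : Nat.card {i : Fin m // i ≠ o} = m - 1 := by
    rw [Nat.card_eq_fintype_card, Fintype.card_subtype_compl, Fintype.card_fin, Fintype.card_unique]
  rwa [h4] at h3

end Cfsg.Agent.Omega.TwoF.PspOdd
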