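import Cfsg.Agent.Omega.TwoF.RkPSp
import Cfsg.Agent.Omega.TwoF.PspOdd
import Cfsg.Agent.Omega.TwoF.Bridge
import Cfsg.Agent.ClassicalGeometry.SympAutCentral
import Cfsg.Agent.Omega.KFacts

/-!
# TABLE 2F: the row `PSp_2m(q)`, `q` odd, `m ≥ 2`

`LB` (helper938): `ord_p(2) q^(m-1)`; `RK`: `2m - 1` (4 for `m = 2`), plus one if `q` is a square.
-/

set_option autoImplicit false

namespace Cfsg.Agent.Omega.TwoF.RowPSp

open Cfsg Cfsg.Agent.Omega.TwoF.RkLin Cfsg.Agent.Omega.TwoF.RkPSL Cfsg.Agent.Omega.TwoF.RkPSp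
open Cfsg.Agent.ClassicalGeometry.SympSiegel
open Cfsg.Agent.ClassicalGeometry.SympAutCentral
open Cfsg.Agent.ClassicalGeometry.SympBasic

universe u v

theorem two_le_order {p : ℕ} (hp : p.Prime) (hp2 : p ≠ 2) : 2 ≤ orderOf (2 : ZMod p) := by
  haveI : Fact p.Prime := ⟨hp⟩
  have h2 : (2 : ZMod p) ≠ 0 := by
    intro h0
    have h1 : ((2 : ℕ) : ZMod p) = 0 := by exact_mod_cast h0
    rw [ZMod.natCast_eq_zero_iff] at h1
    exact hp2 ((Nat.prime_dvd_prime_iff_eq hp Nat.prime_two).1 h1)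
  have h4 : 0 < orderOf (2 : ZMod p) := by
    rw [orderOf_pos_iff, isOfFinOrder_iff_pow_eq_one]
    exact ⟨p - 1, by have := hp.two_le; omega, ZMod.pow_card_sub_one_eq_one h2⟩
  have h5 : orderOf (2 : ZMod p) ≠ 1 := by
    intro h
    rw [orderOf_eq_one_iff] at h
    have h6 : (1 : ZMod p) = 0 := by
      have : (2 : ZMod p) = 1 + 1 := by norm_num
      rw [this] at h
      simpa using h
    exact one_ne_zero h6
  omega

variable {F : Type v} [Field F] {m : ℕ}

theorem center_eq_bot (hm : 2 ≤ m) : Subgroup.center (PSp m F) = ⊥ := by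
  rw [eq_bot_iff]
  intro x hx
  obtain ⟨A, rfl⟩ := QuotientGroup.mk_surjective x
  have h1 : ∀ v : Fin m ⊕ Fin m → F, ∃ a : F, A • v = a • v := by
    intro v
    by_cases hv : v = 0
    · exact ⟨0, by rw [hv, smul_zero', smul_zero]⟩
    · obtain ⟨a, -, ha⟩ := smul_eq_of_commute hm hv (one_ne_zero (α := F)) (z := A)
        (Subgroup.mem_center_iff.1 hx _)
      exact ⟨a, ha⟩
  obtain ⟨b, -, hb⟩ := exists_scalar h1
  rw [Subgroup.mem_bot, QuotientGroup.eq_one_iff]
  exact mem_center_of_scalar hb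

/-- in a field with more than `p` elements there are at least `p²` -/
theorem card_cases [Fintype F] {p : ℕ} [CharP F p] (hp2 : p ≠ 2) :
    (∀ σ : F ≃+* F, σ = 1) ∨ 9 ≤ Fintype.card F := by
  obtain ⟨n, hp, hn⟩ := FiniteField.card F p
  have h3 : 3 ≤ p := by
    have := hp.two_le
    omega
  by_cases h1 : (n : ℕ) = 1
  · left
    intro σ
    have hsurj : Function.Surjective (Nat.cast : ℕ → F) := by
      have : Fact p.Prime := ⟨hp⟩
      have hinj : Function.Injective (fun i : Fin p => ((i : ℕ) : F)) := by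
        intro i j hij
        exact Fin.ext (CharP.natCast_injOn_Iio F p i.2 j.2 hij)
      have hcard : Fintype.card (Fin p) = Fintype.card F := by
        rw [hn, h1, pow_one, Fintype.card_fin]
      intro x
      obtain ⟨i, hi⟩ := ((Fintype.bijective_iff_injective_and_card _).2 ⟨hinj, hcard⟩).2 x
      exact ⟨i, hi⟩
    ext x
    obtain ⟨k, rfl⟩ := hsurj x
    rw [map_natCast]
    rfl
  · right
    have h4 : 2 ≤ (n : ℕ) := by
      have := n.pos
      omega
    rw [hn]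
    calc 9 = 3 ^ 2 := by norm_num
      _ ≤ p ^ 2 := Nat.pow_le_pow_left h3 2
      _ ≤ p ^ (n : ℕ) := Nat.pow_le_pow_right (by omega) h4

/-- **the row `PSp_2m(q)`**, `q` odd. -/
theorem dead2 {F : Type v} [Field F] [Fintype F] {p : ℕ} [Fact p.Prime] [CharP F p] (hp2 : p ≠ 2) {m : ℕ}
    (hm : 2 ≤ m) : Dead2.{u, v} (PSp m F) := by
  have hp : p.Prime := Fact.out
  have h2 : (2 : F) ≠ 0 := by
    intro h
    have h3 : ((2 : ℕ) : F) = 0 := by exact_mod_cast h
    rw [CharP.cast_eq_zero_iff F p] at h3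
    exact hp2 ((Nat.prime_dvd_prime_iff_eq hp Nat.prime_two).1 h3)
  have hlb := LB.of_heis (PspOdd.lb.{v, u, u} (F := F) (p := p) hp2 hm)
  have ho := two_le_order hp hp2
  have h3 : 3 ≤ Nat.card F := by
    rw [Nat.card_eq_fintype_card]
    obtain ⟨n, -, hn⟩ := FiniteField.card F p
    rw [hn]
    have h4 : p ^ 1 ≤ p ^ (n : ℕ) := Nat.pow_le_pow_right hp.pos n.pos
    have := hp.two_le
    rw [pow_one] at h4
    omega
  rcases Nat.lt_or_ge m 3 with h4 | h4
  · obtain rfl : m = 2 := by omega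
    rcases card_cases (F := F) (p := p) hp2 with h5 | h5
    · have h6 := rkAut_odd h2 (le_refl 2) (fun σ _ => h5 σ)
      exact Dead2.of_rk (RK.of_mul_self h6)
    · refine Dead2.of_lb hlb (RK.of_mul_self (rkAut h2 (le_refl 2))) ?_
      rw [← Nat.card_eq_fintype_card] at h5
      have e : rk (2 + 2) = 4 := by decide
      rw [e, show 2 - 1 = 1 from rfl, pow_one]
      nlinarith
  · refine Dead2.of_lb hlb (RK.of_mul_self (rkAut h2 hm)) ?_
    have e : rk (m + m) = m + m - 1 := by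
      rw [rk, if_neg (by omega)]
    rw [e]
    have h6 : ∀ k, 2 * k + 9 ≤ 3 ^ (k + 2) := by
      intro k
      induction k with
      | zero => norm_num
      | succ k ih =>
        rw [show k + 1 + 2 = (k + 2) + 1 from rfl, pow_succ]
        omega
    have h7 : 3 ^ (m - 1) ≤ Nat.card F ^ (m - 1) := Nat.pow_le_pow_left h3 _
    have h8 := h6 (m - 3)
    rw [show m - 3 + 2 = m - 1 by omega] at h8
    have h9 : 2 * 3 ^ (m - 1) ≤ orderOf (2 : ZMod p) * Nat.card F ^ (m - 1) := Nat.mul_le_mul ho h7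
    omega

theorem kill2 {F : Type v} [Field F] [Fintype F] {p : ℕ} [Fact p.Prime] [CharP F p] (hp2 : p ≠ 2) {m : ℕ}
    (hm : 2 ≤ m) : Kill2.{u, v} (PSp m F) := by
  refine (dead2 (p := p) hp2 hm).kill (center_eq_bot hm) ?_
  by_contra hnt
  rw [not_nontrivial_iff_subsingleton] at hnt
  have h1 : (QuotientGroup.mk (transv (E F ⟨0, by omega⟩) 1) : PSp m F) = QuotientGroup.mk 1 :=
    Subsingleton.elim _ _
  have h3 : transv (0 : Fin m ⊕ Fin m → F) (1 : F) = 1 := by
    apply ext_smul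
    intro v
    rw [transv_smul, smul_zero, add_zero, one_smul]
  rw [← h3] at h1
  obtain ⟨a, ha, -⟩ := mk_transv_eq hm (E_ne_zero _) (one_ne_zero) h1
  rw [smul_zero] at ha
  exact E_ne_zero _ ha

theorem kill (K : Type u) [Group K] (h : KFacts.OddChar @IsPSpChar K) : Kill2.{u} K := by
  obtain ⟨p, hp, hp2, F, _, _, _, m, hm, -, ⟨e⟩⟩ := h
  have : Fact p.Prime := ⟨hp⟩
  exact (kill2.{u, 0} (F := F) (p := p) hp2 hm).equiv e

/-- **the field `psp` of `KFacts.Rows2`.** -/
theorem row (K : Type u) [Group K] (h : KFacts.OddChar @IsPSpChar K ∧ ¬ IsLieTypeChar 2 K) : EH3.RowEH3.{u} K :=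
  EH3.RowEH3.of_kill (kill K h.1)

end Cfsg.Agent.Omega.TwoF.RowPSp
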