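import Cfsg.Agent.Omega.TwoF.AltPure
import Cfsg.Agent.Omega.TwoF.Defs

/-!
# Odd covers of alternating groups of degree at least 8 are trivial

`π : L → A_Ω` a perfect central extension with kernel of odd order, `|Ω| ≥ 8`: then `π` is injective.  Every 3-cycle
has a unique lift which is inverted by the lifts of the elements `a ↔ b`, `c ↦ c` (`Good`); the lifts `x_i` of the
cycles `(p q i)` satisfy Carmichael's relations `x_i³ = (x_i x_j)² = 1`.
-/

set_option autoImplicit false
set_option linter.unusedSectionVars false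

namespace Cfsg.Agent.Omega.TwoF.AltCover

open Equiv Equiv.Perm Subgroup AltCyc

universe u w

open scoped commutatorElement

/-! ### Carmichael's relations -/

section Carmichael

variable {L : Type w} [Group L] {ι : Type u} {x : ι → L}

/-- the relations -/
structure Car (x : ι → L) : Prop where
  cube : ∀ i, x i * x i * x i = 1
  sq : ∀ i j, i ≠ j → x i * x j * (x i * x j) = 1

variable (h : Car x)

include h

theorem Car.sq_eq (i : ι) : x i * x i = (x i)⁻¹ := eq_inv_of_mul_eq_one_left (h.cube i)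

theorem Car.mul_eq {i j : ι} (hij : i ≠ j) : x i * x j = (x j)⁻¹ * (x i)⁻¹ := by
  rw [← mul_inv_rev]; exact eq_inv_of_mul_eq_one_left (h.sq i j hij)

/-- the union of the cosets -/
def CU (x : ι → L) (H : Subgroup L) (T : Set ι) (m : ι) (g : L) : Prop :=
  g ∈ H ∨ (∃ k ∈ H, g = k * x m) ∨ (∃ k ∈ H, g = k * (x m)⁻¹) ∨ ∃ k ∈ H, ∃ j ∈ T, g = k * (x m)⁻¹ * x j

theorem Car.closed {H : Subgroup L} {T : Set ι} {m : ι} (hm : m ∉ T) (hH : ∀ i ∈ T, x i ∈ H) {g : L}
    (hg : CU x H T m g) {k : ι} (hk : k ∈ T ∨ k = m) : CU x H T m (g * x k) := by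
  have hmk : ∀ j ∈ T, m ≠ j := fun j hj e => hm (e ▸ hj)
  rcases hg with hg | ⟨a, ha, rfl⟩ | ⟨a, ha, rfl⟩ | ⟨a, ha, j, hj, rfl⟩
  · rcases hk with hk | rfl
    · exact Or.inl (H.mul_mem hg (hH k hk))
    · exact Or.inr (Or.inl ⟨g, hg, rfl⟩)
  · rcases hk with hk | rfl
    · refine Or.inr (Or.inr (Or.inl ⟨a * (x k)⁻¹, H.mul_mem ha (H.inv_mem (hH k hk)), ?_⟩))
      rw [mul_assoc, h.mul_eq (hmk k hk), mul_assoc]
    · refine Or.inr (Or.inr (Or.inl ⟨a, ha, ?_⟩))
      rw [mul_assoc, h.sq_eq]
  · rcases hk with hk | rfl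
    · exact Or.inr (Or.inr (Or.inr ⟨a, ha, k, hk, rfl⟩))
    · exact Or.inl (by rw [inv_mul_cancel_right]; exact ha)
  · have hjH := hH j hj
    have e1 := h.mul_eq (hmk j hj)
    have e2 := h.mul_eq (hmk j hj).symm
    rcases hk with hk | rfl
    · by_cases hkj : k = j
      · subst hkj
        refine Or.inr (Or.inl ⟨a * x k, H.mul_mem ha hjH, ?_⟩)
        have e3 : (x m)⁻¹ * x k * x k = x k * x m := by
          rw [mul_assoc, h.sq_eq, e2]
        rw [mul_assoc a, mul_assoc a, e3, mul_assoc]
      · refine Or.inr (Or.inr (Or.inr ⟨a * (x k * (x j)⁻¹), H.mul_mem ha (H.mul_mem (hH k hk) (H.inv_mem hjH)), j,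
          hj, ?_⟩))
        have e3 := h.mul_eq (hmk k hk).symm
        have e4 := h.mul_eq (Ne.symm hkj)
        -- `x_j x_k = x_k⁻¹ x_j⁻¹`, `x_m⁻¹ x_k⁻¹ = x_k x_m`, `x_m x_j⁻¹ = x_m x_j x_j`
        have e5 : (x m)⁻¹ * x j * x k = x k * (x j)⁻¹ * (x m)⁻¹ * x j := by
          calc (x m)⁻¹ * x j * x k = (x m)⁻¹ * (x j * x k) := mul_assoc _ _ _
            _ = (x m)⁻¹ * (x k)⁻¹ * (x j)⁻¹ := by rw [e4, mul_assoc]
            _ = x k * x m * (x j)⁻¹ := by rw [← e3]
            _ = x k * (x m * x j) * x j := by rw [← h.sq_eq j]; simp only [mul_assoc]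
            _ = x k * (x j)⁻¹ * (x m)⁻¹ * x j := by rw [e1]; simp only [mul_assoc]
        calc a * (x m)⁻¹ * x j * x k = a * ((x m)⁻¹ * x j * x k) := by simp only [mul_assoc]
          _ = _ := by rw [e5]; simp only [mul_assoc]
    · refine Or.inr (Or.inr (Or.inr ⟨a * (x j)⁻¹, H.mul_mem ha (H.inv_mem hjH), j, hj, ?_⟩))
      have e5 : (x k)⁻¹ * x j * x k = (x j)⁻¹ * (x k)⁻¹ * x j := by
        calc (x k)⁻¹ * x j * x k = (x k)⁻¹ * (x k)⁻¹ * (x j)⁻¹ := by rw [mul_assoc, e2, mul_assoc]
          _ = x k * (x j)⁻¹ := by rw [← mul_inv_rev, h.sq_eq, inv_inv]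
          _ = (x k * x j) * x j := by rw [← h.sq_eq j, mul_assoc]
          _ = _ := by rw [e1]
      calc a * (x k)⁻¹ * x j * x k = a * ((x k)⁻¹ * x j * x k) := by simp only [mul_assoc]
        _ = _ := by rw [e5]; simp only [mul_assoc]

end Carmichael

/-! ### Generation of the alternating group by the cycles `(p q i)` -/

section Gen

variable {Ω : Type u} [DecidableEq Ω] [Fintype Ω]

theorem mem_closure_pq {p q : Ω} (hpq : p ≠ q) (g : alternatingGroup Ω) :
    g ∈ closure {g : alternatingGroup Ω | ∃ i, i ≠ p ∧ i ≠ q ∧ g = C p q i} := by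
  classical
  set K := closure {g : alternatingGroup Ω | ∃ i, i ≠ p ∧ i ≠ q ∧ g = C p q i} with hK
  have hC : ∀ i, i ≠ p → i ≠ q → C p q i ∈ K := fun i hi hi' => subset_closure ⟨i, hi, hi', rfl⟩
  have key : ∀ (n : ℕ) (T : Finset Ω) (g : alternatingGroup Ω), T.card ≤ n → p ∉ T → q ∉ T →
      Sup (insert p (insert q T)) g → g ∈ K := by
    intro n
    induction n with
    | zero =>
      intro T g hT _ _ hg
      have hT' : T = ∅ := Finset.card_eq_zero.mp (by omega)
      subst hT'
      have hfix : ∀ x, x ≠ p → x ≠ q → (g : Perm Ω) x = x := by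
        intro x h1 h2
        exact hg x (by simp [h1, h2])
      have h1 : (g : Perm Ω) = 1 ∨ (g : Perm Ω) = Equiv.swap p q := by
        by_cases hp : (g : Perm Ω) p = p
        · left
          ext x
          by_cases hxp : x = p
          · rw [hxp, hp]; rfl
          by_cases hxq : x = q
          · rw [hxq]
            by_contra hne
            have h2 : (g : Perm Ω) q ≠ q := hne
            have h3 : (g : Perm Ω) q ≠ p := by
              intro e
              rw [← hp] at e
              exact hpq ((g : Perm Ω).injective e).symm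
            have h4 := hfix _ h3 h2
            exact h2 ((g : Perm Ω).injective h4)
          exact hfix x hxp hxq
        · right
          have hpq' : (g : Perm Ω) p = q := by
            by_contra hne
            exact hp ((g : Perm Ω).injective (hfix _ hp hne))
          have hqp : (g : Perm Ω) q = p := by
            by_contra hne
            have h2 : (g : Perm Ω) q ≠ q := by
              intro e
              rw [← hpq'] at e
              exact hpq ((g : Perm Ω).injective (by rw [hpq'] at e ⊢; exact e)).symm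
            exact h2 ((g : Perm Ω).injective (hfix _ hne h2))
          ext x
          by_cases hxp : x = p
          · rw [hxp, hpq', swap_apply_left]
          by_cases hxq : x = q
          · rw [hxq, hqp, swap_apply_right]
          rw [hfix x hxp hxq, swap_apply_of_ne_of_ne hxp hxq]
      rcases h1 with h1 | h1
      · have : g = 1 := Subtype.ext h1
        rw [this]; exact K.one_mem
      · have h2 := mem_alternatingGroup.mp g.2
        rw [h1, sign_swap hpq] at h2
        exact absurd h2 (by decide)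
    | succ n ih =>
      intro T g hT hpT hqT hg
      by_cases hTe : T = ∅
      · exact ih T g (by simp [hTe]) hpT hqT hg
      obtain ⟨m, hm⟩ := Finset.nonempty_of_ne_empty hTe
      have hmp : m ≠ p := fun e => hpT (e ▸ hm)
      have hmq : m ≠ q := fun e => hqT (e ▸ hm)
      have hDm : D3 p q m := ⟨hpq, hmp.symm, hmq.symm⟩
      -- an element of `K` moving `g m` back to `m`
      obtain ⟨k, hk, hks, hkm⟩ : ∃ k ∈ K, Sup (insert p (insert q T)) k ∧
          (k : Perm Ω) ((g : Perm Ω) m) = m := by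
        have hpS : p ∈ insert p (insert q T) := Finset.mem_insert_self _ _
        have hqS : q ∈ insert p (insert q T) := Finset.mem_insert_of_mem (Finset.mem_insert_self _ _)
        have hTS : ∀ j ∈ T, j ∈ insert p (insert q T) := fun j hj =>
          Finset.mem_insert_of_mem (Finset.mem_insert_of_mem hj)
        have hgm := hg.mem (hTS m hm)
        rw [Finset.mem_insert, Finset.mem_insert] at hgm
        rcases hgm with e | e | hj
        · refine ⟨C p q m * C p q m, K.mul_mem (hC m hmp hmq) (hC m hmp hmq),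
            (sup_C hpS hqS (hTS m hm)).mul (sup_C hpS hqS (hTS m hm)), ?_⟩
          show (C p q m : Perm Ω) ((C p q m : Perm Ω) ((g : Perm Ω) m)) = m
          rw [e, C_a hDm, C_b hDm]
        · refine ⟨C p q m, hC m hmp hmq, sup_C hpS hqS (hTS m hm), ?_⟩
          rw [e, C_b hDm]
        · set j := (g : Perm Ω) m with hjdef
          have hjp : j ≠ p := fun e => hpT (e ▸ hj)
          have hjq : j ≠ q := fun e => hqT (e ▸ hj)
          have hDj : D3 p q j := ⟨hpq, hjp.symm, hjq.symm⟩
          refine ⟨C p q m * C p q m * C p q j, K.mul_mem (K.mul_mem (hC m hmp hmq) (hC m hmp hmq)) (hC j hjp hjq),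
            ((sup_C hpS hqS (hTS m hm)).mul (sup_C hpS hqS (hTS m hm))).mul (sup_C hpS hqS (hTS j hj)), ?_⟩
          show (C p q m : Perm Ω) ((C p q m : Perm Ω) ((C p q j : Perm Ω) j)) = m
          rw [C_c hDj, C_a hDm, C_b hDm]
      have h1 : k * g ∈ K := by
        refine ih (T.erase m) (k * g) (by rw [Finset.card_erase_of_mem hm]; omega)
          (fun h => hpT (Finset.mem_of_mem_erase h)) (fun h => hqT (Finset.mem_of_mem_erase h)) ?_
        intro x hx
        by_cases hxm : x = m
        · rw [hxm]; exact hkm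
        · refine (hks.mul hg) x fun hx' => hx ?_
          rw [Finset.mem_insert, Finset.mem_insert] at hx' ⊢
          rcases hx' with h | h | h
          · exact Or.inl h
          · exact Or.inr (Or.inl h)
          · exact Or.inr (Or.inr (Finset.mem_erase.mpr ⟨hxm, h⟩))
      have h2 := K.mul_mem (K.inv_mem hk) h1
      rwa [inv_mul_cancel_left] at h2
  refine key _ (Finset.univ \ {p, q}) g le_rfl (by simp) (by simp) ?_
  intro x hx
  exfalso
  apply hx
  simp only [Finset.mem_insert, Finset.mem_sdiff, Finset.mem_univ, Finset.mem_singleton, true_and, not_or]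
  tauto

end Gen

/-! ### Lifts -/

section Lift

variable {Ω : Type u} [DecidableEq Ω] [Fintype Ω]
variable {L : Type w} [Group L] [Finite L] {π : L →* alternatingGroup Ω}

theorem eq_one_of_sq (ho : Odd (Nat.card π.ker)) {z : L} (hz : z ∈ π.ker) (h2 : z * z = 1) : z = 1 := by
  have h1 : orderOf (⟨z, hz⟩ : π.ker) ∣ 2 := orderOf_dvd_of_pow_eq_one (by
    rw [pow_two]; exact Subtype.ext h2)
  have h3 : orderOf (⟨z, hz⟩ : π.ker) ∣ Nat.card π.ker := orderOf_dvd_natCard _
  have h4 : orderOf (⟨z, hz⟩ : π.ker) = 1 := by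
    have := Nat.dvd_gcd h1 h3
    rw [Nat.Coprime.gcd_eq_one (Nat.coprime_two_left.mpr ho)] at this
    exact Nat.dvd_one.mp this
  exact congrArg Subtype.val (orderOf_eq_one_iff.mp h4)

theorem exists_sqrt (ho : Odd (Nat.card π.ker)) {z : L} (hz : z ∈ π.ker) : ∃ w ∈ π.ker, w * w = z := by
  obtain ⟨k, hk⟩ := ho
  refine ⟨z ^ (k + 1), π.ker.pow_mem hz _, ?_⟩
  have h1 : z ^ Nat.card π.ker = 1 := by
    have := pow_card_eq_one' (x := (⟨z, hz⟩ : π.ker))
    exact congrArg Subtype.val this
  rw [← pow_add, show k + 1 + (k + 1) = Nat.card π.ker + 1 by omega, pow_succ, h1, one_mul]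

variable (hs : Function.Surjective π) (hc : π.ker ≤ center L) (ho : Odd (Nat.card π.ker))

include hc in
theorem ker_comm {z : L} (hz : z ∈ π.ker) (g : L) : g * z = z * g := mem_center_iff.mp (hc hz) g

/-- `g` moves `a ↔ b`, `c ↦ c` -/
def Flip (π : L →* alternatingGroup Ω) (a b c : Ω) (g : L) : Prop :=
  (π g : Perm Ω) a = b ∧ (π g : Perm Ω) b = a ∧ (π g : Perm Ω) c = c

/-- the canonical lift of `C a b c` -/
structure Good (π : L →* alternatingGroup Ω) (a b c : Ω) (x : L) : Prop where
  map : π x = C a b c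
  flip : ∀ g, Flip π a b c g → g * x * g⁻¹ = x⁻¹

include hs hc ho

/-- elements of the centraliser supported off the cycle commute with its lifts -/
theorem comm_lift {S : Finset Ω} (hS : 5 ≤ S.card) {a b c : Ω} (ha : a ∉ S) (hb : b ∉ S) (hcS : c ∉ S) {x : L}
    (hx : π x = C a b c) {g : L} (hg : Sup S (π g)) : g * x = x * g := by
  -- commutators with `x` are central
  have hθ : ∀ g : L, Sup S (π g) → g * x * g⁻¹ * x⁻¹ ∈ π.ker := by
    intro g hg
    rw [MonoidHom.mem_ker, map_mul, map_mul, map_mul, map_inv, map_inv, hx, comm_C hg ha hb hcS]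
    group
  suffices h : ∀ g' : alternatingGroup Ω, Sup S g' → ∀ g : L, π g = g' → g * x = x * g from h _ hg g rfl
  intro g' hg'
  refine (sup_induction (P := fun g' => Sup S g' ∧ ∀ g : L, π g = g' → g * x = x * g) ?_ ?_ hg').2
  · exact ⟨Sup.one, fun g hg => (ker_comm hc (MonoidHom.mem_ker.mpr hg) x).symm⟩
  · rintro d hd e he f hf hD g' hg' ⟨-, ih⟩
    refine ⟨(sup_C hd he hf).mul hg', ?_⟩
    intro g hg
    obtain ⟨y, hy⟩ := hs (C d e f)
    have hyx : y * x = x * y := by
      obtain ⟨t', ht', t1, t2, t3⟩ := exists_move hS hD hD.swap' hd he hf he hd hf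
      obtain ⟨t, rfl⟩ := hs t'
      have hyS : Sup S (π y) := by rw [hy]; exact sup_C hd he hf
      have h1 := hθ y hyS
      have h2 := hθ t ht'
      -- `t y t⁻¹ = y⁻¹ k`
      have h3 : y * (t * y * t⁻¹) ∈ π.ker := by
        rw [MonoidHom.mem_ker, map_mul, map_mul, map_mul, map_inv, hy, AltCyc.conj, t1, t2, t3, ← C_rot hD.swap']
        exact C_mul_inv hD
      set z := y * x * y⁻¹ * x⁻¹ with hz
      set s := t * x * t⁻¹ * x⁻¹ with hs'
      set k := y * (t * y * t⁻¹) with hk
      have cz := fun w => ker_comm hc h1 w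
      have cs := fun w => ker_comm hc h2 w
      have ck := fun w => ker_comm hc h3 w
      have e1 : y * x = z * x * y := by rw [hz]; group
      have e2 : t * x = s * x * t := by rw [hs']; group
      have e3 : t * y = y⁻¹ * k * t := by rw [hk]; group
      -- compute `t (y x)` in two ways
      have e4 : y⁻¹ * x = z⁻¹ * x * y⁻¹ := by
        have : x * y⁻¹ = y⁻¹ * (z * x) := by
          rw [eq_inv_mul_iff_mul_eq, ← mul_assoc, e1, mul_assoc, mul_assoc, mul_inv_cancel, mul_one]
        rw [← mul_assoc, cz] at this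
        rw [mul_assoc z⁻¹, this, mul_assoc z, inv_mul_cancel_left]
      have e5 : t * (y * x) = z * s * x * (y⁻¹ * k) * t := by
        rw [e1]
        calc t * (z * x * y) = (t * z) * x * y := by simp only [mul_assoc]
          _ = z * (t * x) * y := by rw [cz t]; simp only [mul_assoc]
          _ = z * s * x * (t * y) := by rw [e2]; simp only [mul_assoc]
          _ = _ := by rw [e3]; simp only [mul_assoc]
      have e6 : t * (y * x) = z⁻¹ * s * x * (y⁻¹ * k) * t := by
        calc t * (y * x) = (t * y) * x := by rw [mul_assoc]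
          _ = y⁻¹ * k * (t * x) := by rw [e3]; simp only [mul_assoc]
          _ = y⁻¹ * (k * s) * x * t := by rw [e2]; simp only [mul_assoc]
          _ = (y⁻¹ * s) * k * x * t := by rw [cs k]; simp only [mul_assoc]
          _ = s * y⁻¹ * (k * x) * t := by rw [cs y⁻¹]; simp only [mul_assoc]
          _ = s * (y⁻¹ * x) * k * t := by rw [← ck x]; simp only [mul_assoc]
          _ = (s * z⁻¹) * x * y⁻¹ * k * t := by rw [e4]; simp only [mul_assoc]
          _ = _ := by rw [← cs z⁻¹]; simp only [mul_assoc]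
      have e7 : z * z = 1 := by
        rw [e5] at e6
        have h8 : z = z⁻¹ := by simpa only [mul_left_inj] using e6
        rw [mul_eq_one_iff_eq_inv]
        exact h8
      have e8 := eq_one_of_sq ho h1 e7
      rw [e1, e8, one_mul]
    -- `g = y g₂`
    have h4 := ih (y⁻¹ * g) (by rw [map_mul, map_inv, hy, hg, inv_mul_cancel_left])
    calc g * x = y * (y⁻¹ * g * x) := by group
      _ = (y * x) * (y⁻¹ * g) := by rw [h4]; group
      _ = x * g := by rw [hyx]; group

variable (hn : 8 ≤ Fintype.card Ω)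

include hn

theorem card_compl {a b c : Ω} : 5 ≤ ((Finset.univ : Finset Ω) \ {a, b, c}).card := by
  have h1 := Finset.le_card_sdiff ({a, b, c} : Finset Ω) Finset.univ
  have h2 : ({a, b, c} : Finset Ω).card ≤ 3 := Finset.card_le_three
  rw [Finset.card_univ] at h1
  omega

theorem comm_lift' {a b c : Ω} {x : L} (hx : π x = C a b c) {g : L} (h1 : (π g : Perm Ω) a = a)
    (h2 : (π g : Perm Ω) b = b) (h3 : (π g : Perm Ω) c = c) : g * x = x * g := by
  refine comm_lift hs hc ho (S := Finset.univ \ {a, b, c}) (card_compl hs hc ho hn) (by simp) (by simp) (by simp) hx ?_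
  intro y hy
  simp only [Finset.mem_sdiff, Finset.mem_univ, Finset.mem_insert, Finset.mem_singleton, true_and, not_not] at hy
  rcases hy with rfl | rfl | rfl <;> assumption

/-- one flip is enough -/
theorem good_of_one {a b c : Ω} {x : L} (hx : π x = C a b c) {g₀ : L} (h0 : Flip π a b c g₀)
    (h : g₀ * x * g₀⁻¹ = x⁻¹) : Good π a b c x := by
  refine ⟨hx, ?_⟩
  intro g hg
  obtain ⟨h1, h2, h3⟩ := h0
  obtain ⟨g1, g2, g3⟩ := hg
  have hcm := comm_lift' hs hc ho hn hx (g := g₀⁻¹ * g)
    (by
      rw [map_mul, map_inv]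
      show (π g₀ : Perm Ω).symm ((π g : Perm Ω) a) = a
      rw [g1, ← h1, Equiv.symm_apply_apply])
    (by
      rw [map_mul, map_inv]
      show (π g₀ : Perm Ω).symm ((π g : Perm Ω) b) = b
      rw [g2, ← h2, Equiv.symm_apply_apply])
    (by
      rw [map_mul, map_inv]
      show (π g₀ : Perm Ω).symm ((π g : Perm Ω) c) = c
      rw [g3]
      conv_lhs => rw [← h3]
      rw [Equiv.symm_apply_apply])
  calc g * x * g⁻¹ = g₀ * (g₀⁻¹ * g * x) * g⁻¹ := by group
    _ = g₀ * x * g₀⁻¹ := by rw [hcm]; group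
    _ = x⁻¹ := h

theorem exists_flip {a b c : Ω} (hD : D3 a b c) : ∃ g, Flip π a b c g := by
  obtain ⟨t, -, t1, t2, t3⟩ := exists_move (S := Finset.univ) (by rw [Finset.card_univ]; omega) hD hD.swap'
    (Finset.mem_univ _) (Finset.mem_univ _) (Finset.mem_univ _) (Finset.mem_univ _) (Finset.mem_univ _)
    (Finset.mem_univ _)
  obtain ⟨g, rfl⟩ := hs t
  exact ⟨g, t1, t2, t3⟩

theorem exists_good {a b c : Ω} (hD : D3 a b c) : ∃ x, Good π a b c x := by
  obtain ⟨g, hg⟩ := exists_flip hs hc ho hn hD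
  obtain ⟨x, hx⟩ := hs (C a b c)
  have h1 : x * (g * x * g⁻¹) ∈ π.ker := by
    rw [MonoidHom.mem_ker, map_mul, map_mul, map_mul, map_inv, hx, AltCyc.conj, hg.1, hg.2.1, hg.2.2,
      C_rot hD.swap.rot, C_rot hD.swap]
    exact C_mul_inv hD
  obtain ⟨w, hw, hw'⟩ := exists_sqrt ho h1
  have cw := fun y => ker_comm hc hw y
  refine ⟨x * w⁻¹, good_of_one hs hc ho hn (g₀ := g) ?_ hg ?_⟩
  · rw [map_mul, map_inv, MonoidHom.mem_ker.mp hw, inv_one, mul_one, hx]
  · have e1 : g * x * g⁻¹ = x⁻¹ * (w * w) := by rw [hw']; group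
    have e2 : g * w⁻¹ * g⁻¹ = w⁻¹ := by
      rw [ker_comm hc (π.ker.inv_mem hw) g]; group
    calc g * (x * w⁻¹) * g⁻¹ = (g * x * g⁻¹) * (g * w⁻¹ * g⁻¹) := by group
      _ = x⁻¹ * w := by rw [e1, e2]; group
      _ = (x * w⁻¹)⁻¹ := by rw [mul_inv_rev, inv_inv, cw]

omit hs hn in
theorem good_unique {a b c : Ω} {x y g : L} (hx : Good π a b c x) (hy : Good π a b c y)
    (hg : Flip π a b c g) : x = y := by
  have h1 : x⁻¹ * y ∈ π.ker := by
    rw [MonoidHom.mem_ker, map_mul, map_inv, hx.map, hy.map, inv_mul_cancel]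
  set z := x⁻¹ * y with hz
  have cz := fun w => ker_comm hc h1 w
  have e1 : y = x * z := by rw [hz]; group
  have e2 := hx.flip g hg
  have e3 := hy.flip g hg
  have e4 : g * y * g⁻¹ = x⁻¹ * z := by
    rw [e1]
    calc g * (x * z) * g⁻¹ = (g * x * g⁻¹) * (g * z * g⁻¹) := by group
      _ = x⁻¹ * z := by rw [e2, cz g]; group
  rw [e3, e1, mul_inv_rev] at e4
  have e5 : z * z = 1 := by
    have h2 : x⁻¹ * z⁻¹ = x⁻¹ * z := by
      rw [← e4, ker_comm hc (π.ker.inv_mem h1)]
    have h3 := mul_left_cancel h2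
    rw [mul_eq_one_iff_eq_inv]
    exact h3.symm
  have e6 := eq_one_of_sq ho h1 e5
  rw [e1, e6, mul_one]

omit hs hn in
theorem good_cube {a b c : Ω} {x g : L} (hD : D3 a b c) (hx : Good π a b c x) (hg : Flip π a b c g) :
    x * x * x = 1 := by
  have h1 : x * x * x ∈ π.ker := by
    rw [MonoidHom.mem_ker, map_mul, map_mul, hx.map, C_sq hD, ← C_inv hD, inv_mul_cancel]
  have e1 : g * (x * x * x) * g⁻¹ = (g * x * g⁻¹) * (g * x * g⁻¹) * (g * x * g⁻¹) := by group
  rw [hx.flip g hg, ker_comm hc h1 g, mul_inv_cancel_right] at e1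
  refine eq_one_of_sq ho h1 ?_
  calc x * x * x * (x * x * x) = (x⁻¹ * x⁻¹ * x⁻¹) * (x * x * x) := by rw [← e1]
    _ = 1 := by group

theorem good_sq {p q i j : Ω} {x y : L} (hDi : D3 p q i) (hDj : D3 p q j) (hij : i ≠ j)
    (hx : Good π p q i x) (hy : Good π p q j y) : x * y * (x * y) = 1 := by
  obtain ⟨t, ht, t1, t2, t3⟩ := exists_move (S := Finset.univ \ {j})
    (by
      have := Finset.le_card_sdiff ({j} : Finset Ω) Finset.univ
      rw [Finset.card_univ, Finset.card_singleton] at this
      omega) hDi hDi.swap' (by simp [hDj.2.1]) (by simp [hDj.2.2]) (by simp [hij]) (by simp [hDj.2.2])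
      (by simp [hDj.2.1]) (by simp [hij])
  obtain ⟨g, rfl⟩ := hs t
  have t4 : (π g : Perm Ω) j = j := ht j (by simp)
  have h1 : x * y * (x * y) ∈ π.ker := by
    rw [MonoidHom.mem_ker, map_mul, map_mul, hx.map, hy.map]
    exact AltPure.C_mul_C_sq hDi hDj hij
  have e1 := hx.flip g ⟨t1, t2, t3⟩
  have e2 := hy.flip g ⟨t1, t2, t4⟩
  have e3 : g * (x * y * (x * y)) * g⁻¹ = x⁻¹ * y⁻¹ * (x⁻¹ * y⁻¹) := by
    rw [← e1, ← e2]; group
  rw [ker_comm hc h1 g, mul_inv_cancel_right] at e3
  have e4 : x * (x * y * (x * y)) = (x * y * (x * y)) * x := ker_comm hc h1 x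
  have e5 : x * (x * y * (x * y)) = (x * y * (x * y))⁻¹ * x := by
    rw [e3]
    conv_rhs => rw [← e3]
    group
  have e6 : x * y * (x * y) = (x * y * (x * y))⁻¹ := by
    rw [e4] at e5
    exact mul_right_cancel e5
  exact eq_one_of_sq ho h1 (by rw [mul_eq_one_iff_eq_inv]; exact e6)

/-- **odd covers of `A_n`, `n ≥ 8`, are trivial** -/
theorem injective_of (hperf : commutator L = ⊤) : Function.Injective π := by
  classical
  obtain ⟨p, -, -⟩ := exists_not_mem (S := (Finset.univ : Finset Ω)) ∅ (by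
    rw [Finset.card_empty, Finset.card_univ]; omega)
  obtain ⟨q, -, hq⟩ := exists_not_mem (S := (Finset.univ : Finset Ω)) {p} (by
    rw [Finset.card_singleton, Finset.card_univ]; omega)
  have hpq : p ≠ q := fun e => hq (by simp [e])
  have hD : ∀ i : {i : Ω // i ≠ p ∧ i ≠ q}, D3 p q i := fun i => ⟨hpq, i.2.1.symm, i.2.2.symm⟩
  choose x hx using fun i : {i : Ω // i ≠ p ∧ i ≠ q} => exists_good hs hc ho hn (hD i)
  have hcar : Car x := by
    refine ⟨fun i => ?_, fun i j hij => ?_⟩
    · obtain ⟨g, hg⟩ := exists_flip hs hc ho hn (hD i)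
      exact good_cube hc ho (hD i) (hx i) hg
    · exact good_sq hs hc ho hn (hD i) (hD j) (fun e => hij (Subtype.ext e)) (hx i) (hx j)
  -- injectivity on the group generated by the `x i`
  have key : ∀ T : Finset {i : Ω // i ≠ p ∧ i ≠ q}, ∀ g ∈ closure (x '' (T : Set {i : Ω // i ≠ p ∧ i ≠ q})),
      π g = 1 → g = 1 := by
    intro T
    induction T using Finset.induction_on with
    | empty =>
      intro g hg _
      rw [Finset.coe_empty, Set.image_empty, Subgroup.closure_empty] at hg
      exact mem_bot.mp hg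
    | insert m T hm ih =>
      have hH : ∀ i ∈ (T : Set {i : Ω // i ≠ p ∧ i ≠ q}), x i ∈ closure (x '' (T : Set {i : Ω // i ≠ p ∧ i ≠ q})) :=
        fun i hi => subset_closure ⟨i, hi, rfl⟩
      have hm' : m ∉ (T : Set {i : Ω // i ≠ p ∧ i ≠ q}) := hm
      have hCU : ∀ g ∈ closure (x '' ((insert m T : Finset _) : Set {i : Ω // i ≠ p ∧ i ≠ q})),
          CU x (closure (x '' (T : Set {i : Ω // i ≠ p ∧ i ≠ q}))) T m g := by
        intro g hg
        induction hg using closure_induction_right with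
        | one => exact Or.inl (one_mem _)
        | mul_right g hg y hy ih' =>
          obtain ⟨k, hk, rfl⟩ := hy
          rw [Finset.coe_insert, Set.mem_insert_iff] at hk
          exact hcar.closed hm' hH ih' (by tauto)
        | mul_inv_cancel g hg y hy ih' =>
          obtain ⟨k, hk, rfl⟩ := hy
          rw [Finset.coe_insert, Set.mem_insert_iff] at hk
          rw [← hcar.sq_eq, ← mul_assoc]
          exact hcar.closed hm' hH (hcar.closed hm' hH ih' (by tauto)) (by tauto)
      -- the group generated by the `x i`, `i ∈ T`, fixes `m`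
      have hfix : ∀ g ∈ closure (x '' (T : Set {i : Ω // i ≠ p ∧ i ≠ q})), (π g : Perm Ω) m = m := by
        have hle : closure (x '' (T : Set {i : Ω // i ≠ p ∧ i ≠ q})) ≤
            (MulAction.stabilizer (Perm Ω) (m : Ω)).comap ((alternatingGroup Ω).subtype.comp π) := by
          rw [closure_le]
          rintro _ ⟨i, hi, rfl⟩
          show (π (x i) : Perm Ω) m = m
          rw [(hx i).map]
          exact C_of_ne m.2.1 m.2.2 fun e => hm (by rwa [Subtype.ext e])
        intro g hg
        exact hle hg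
      have hxm : (π ((x m)⁻¹) : Perm Ω) m = q := by
        rw [map_inv, (hx m).map, C_inv (hD m), C_b (hD m).swap]
      intro g hg h1
      rcases hCU g hg with hg' | ⟨k, hk, rfl⟩ | ⟨k, hk, rfl⟩ | ⟨k, hk, j, hj, rfl⟩
      · exact ih g hg' h1
      · exfalso
        have h2 : (π (k * x m) : Perm Ω) m = m := by rw [h1]; rfl
        rw [map_mul] at h2
        have h3 : (π k : Perm Ω) ((π (x m) : Perm Ω) m) = m := h2
        rw [(hx m).map, C_c (hD m)] at h3
        have h4 := hfix k hk
        rw [← h4] at h3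
        have h5 := (π k : Perm Ω).injective h3
        exact m.2.1 h5.symm
      · exfalso
        have h2 : (π (k * (x m)⁻¹) : Perm Ω) m = m := by rw [h1]; rfl
        rw [map_mul] at h2
        have h3 : (π k : Perm Ω) ((π ((x m)⁻¹) : Perm Ω) m) = m := h2
        rw [hxm] at h3
        have h4 := hfix k hk
        exact m.2.2 ((π k : Perm Ω).injective (h4.trans h3.symm))
      · exfalso
        have h2 : (π (k * (x m)⁻¹ * x j) : Perm Ω) m = m := by rw [h1]; rfl
        rw [map_mul, map_mul] at h2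
        have h3 : (π k : Perm Ω) ((π ((x m)⁻¹) : Perm Ω) ((π (x j) : Perm Ω) m)) = m := h2
        have h6 : (π (x j) : Perm Ω) m = m := by
          rw [(hx j).map]
          exact C_of_ne m.2.1 m.2.2 fun e => hm (by rwa [Subtype.ext e])
        rw [h6, hxm] at h3
        have h4 := hfix k hk
        exact m.2.2 ((π k : Perm Ω).injective (h4.trans h3.symm))
  -- the whole group
  set H := closure (x '' ((Finset.univ : Finset {i : Ω // i ≠ p ∧ i ≠ q}) : Set {i : Ω // i ≠ p ∧ i ≠ q})) with hH
  have hmap : ∀ g : alternatingGroup Ω, ∃ h ∈ H, π h = g := by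
    intro g
    have h1 : closure {g : alternatingGroup Ω | ∃ i, i ≠ p ∧ i ≠ q ∧ g = C p q i} ≤ H.map π := by
      rw [closure_le]
      rintro _ ⟨i, hi, hi', rfl⟩
      exact ⟨x ⟨i, hi, hi'⟩, subset_closure ⟨_, by simp, rfl⟩, (hx ⟨i, hi, hi'⟩).map⟩
    exact h1 (mem_closure_pq hpq g)
  have htop : ∀ g : L, g ∈ H := by
    have h1 : commutator L ≤ H := by
      rw [_root_.commutator_def, commutator_le]
      intro g _ g' _
      obtain ⟨h, hh, e⟩ := hmap (π g)
      obtain ⟨h', hh', e'⟩ := hmap (π g')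
      have z1 : h⁻¹ * g ∈ π.ker := by rw [MonoidHom.mem_ker, map_mul, map_inv, e, inv_mul_cancel]
      have z2 : h'⁻¹ * g' ∈ π.ker := by rw [MonoidHom.mem_ker, map_mul, map_inv, e', inv_mul_cancel]
      have c1 := fun w => ker_comm hc z1 w
      have c2 := fun w => ker_comm hc z2 w
      have h2 : ⁅g, g'⁆ = ⁅h, h'⁆ := by
        generalize hz : h⁻¹ * g = z at *
        generalize hz' : h'⁻¹ * g' = z' at *
        have e1 : g = h * z := by rw [← hz]; group
        have e2 : g' = h' * z' := by rw [← hz']; group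
        rw [e1, e2, commutatorElement_def, commutatorElement_def, mul_inv_rev, mul_inv_rev]
        calc h * z * (h' * z') * (z⁻¹ * h⁻¹) * (z'⁻¹ * h'⁻¹)
            = h * (z * h') * (z' * (z⁻¹ * h⁻¹) * z'⁻¹) * h'⁻¹ := by simp only [mul_assoc]
          _ = h * (h' * z) * ((z⁻¹ * h⁻¹) * z' * z'⁻¹) * h'⁻¹ := by rw [c2 (z⁻¹ * h⁻¹), c1 h']
          _ = h * h' * h⁻¹ * h'⁻¹ := by group
      rw [h2]
      exact H.mul_mem (H.mul_mem (H.mul_mem hh hh') (H.inv_mem hh)) (H.inv_mem hh')
    intro g
    exact h1 (by rw [hperf]; trivial)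
  rw [injective_iff_map_eq_one]
  exact fun g hg => key _ g (htop g) hg

end Lift

end Cfsg.Agent.Omega.TwoF.AltCover
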