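import Cfsg.Agent.Omega.TwoF.AltKill
import Cfsg.Agent.Omega.TwoF.AltCover
import Cfsg.Agent.Omega.EH3.Row

/-!
# The row `A_n`, `n ≥ 7`, of TABLE 2F

* `kill_add`: `H` irreducible on `V`, `A_Ω` normal in `H`, `2 ^ 10 ≤ |V| ≤ 2 ^ (2 ⌊|Ω| / 2⌋ + 2)`, `|Ω| ≥ 9`: there is
  no normal elementary abelian 2-subgroup `X` of the stabiliser of a vector with `|V| ≤ 4 |X|²`;
* `kill_alt`: `Kill2 (alternatingGroup (Fin n))`, `n ≥ 7`; `row_alt`: `RowEH3 (alternatingGroup (Fin n))`.
-/

set_option autoImplicit false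
set_option linter.unusedSectionVars false

namespace Cfsg.Agent.Omega.TwoF.AltRow

open Equiv Equiv.Perm AltCyc AltSplit AltSix AltNat AltPure AltDeg AltKill

universe u w x

section Add

variable {Ω : Type u} [DecidableEq Ω] [Fintype Ω]
variable {V : Type w} [AddCommGroup V] [Two V] [DistribMulAction (alternatingGroup Ω) V]
variable {H : Type x} [Group H] [DistribMulAction H V]
variable {σ : H →* Perm Ω} {ι : alternatingGroup Ω →* H}

theorem three_pow_lt : ∀ m : ℕ, 7 ≤ m → 2 ^ (m + 4) < 3 ^ m := by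
  intro m hm
  induction m, hm using Nat.le_induction with
  | base => norm_num
  | succ m hm ih =>
    have h1 : 2 ^ (m + 1 + 4) = 2 ^ (m + 4) * 2 := by rw [show m + 1 + 4 = (m + 4) + 1 by ring, pow_succ]
    have h2 : 3 ^ (m + 1) = 3 ^ m * 3 := pow_succ _ _
    have h3 : 0 < 3 ^ m := by positivity
    omega

theorem two_elts [Finite V] {N : AddSubgroup V} (hN : Nat.card N ≤ 2) {v₀ : V} (h0 : v₀ ∈ N) (hne : v₀ ≠ 0) :
    ∀ v ∈ N, v = 0 ∨ v = v₀ := by
  intro v hv
  by_contra hn
  push Not at hn
  have h1 : Nat.card (Fin 3) ≤ Nat.card N := by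
    refine Nat.card_le_card_of_injective (![⟨0, N.zero_mem⟩, ⟨v₀, h0⟩, ⟨v, hv⟩] : Fin 3 → N) ?_
    intro i j hij
    have hij' := congrArg Subtype.val hij
    fin_cases i <;> fin_cases j <;> simp at hij' ⊢
    all_goals first
      | exact absurd hij' hne
      | exact absurd hij'.symm hne
      | exact absurd hij' hn.1
      | exact absurd hij'.symm hn.1
      | exact absurd hij' hn.2
      | exact absurd hij'.symm hn.2
  rw [Nat.card_fin] at h1
  omega

/-- natural type -/
theorem natl_univ [Finite V] (hn : 9 ≤ Fintype.card Ω) (hA : Act V σ ι)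
    (hirr : ∀ W : AddSubgroup V, (∀ h : H, ∀ v ∈ W, h • v ∈ W) → W = ⊥ ∨ W = ⊤)
    (h10 : 2 ^ 10 ≤ Nat.card V) (hup : Nat.card V ≤ 2 ^ (2 * (Fintype.card Ω / 2) + 2)) :
    Natl (Finset.univ : Finset Ω) (⊤ : AddSubgroup V) := by
  have hU : (Finset.univ : Finset Ω).card = Fintype.card Ω := Finset.card_univ
  have hM : Inv (Finset.univ : Finset Ω) (⊤ : AddSubgroup V) := inv_univ _ rfl
  have htop : Nat.card (⊤ : AddSubgroup V) = Nat.card V := AddSubgroup.card_top
  by_cases h9 : Fintype.card Ω = 9
  · rcases nine (hU.trans h9) hM (by rw [htop]; rw [h9] at hup; exact hup) with h | h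
    · exact h
    · by_contra hN
      obtain ⟨a, -, b, -, c, -, d, -, e, -, f, -, hD, v, -, hv⟩ := exists_of_not_natl hN
      have heq : ∀ {a b c d e f : Ω}, D3 a b c → D3 d e f → ∀ v : V, F a b c v = F d e f v :=
        fun {a b c d e f} h1 h2 v => h a (Finset.mem_univ _) b (Finset.mem_univ _) c (Finset.mem_univ _) h1 d
          (Finset.mem_univ _) e (Finset.mem_univ _) f (Finset.mem_univ _) h2 v trivial
      have hW := hirr (cm ⊤ a b c) (by
        intro h v hv
        refine ⟨trivial, ?_⟩
        have h1 := smulF hA h a b c v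
        have h2 : F a b c v = v := hv.2
        rw [h2] at h1
        rw [heq hD.1 (hD.1.map (σ h))]
        exact h1.symm)
      rcases hW with hW | hW
      · have h1 := F_mem_cm hM hD.1 (Finset.mem_univ a) (Finset.mem_univ b) (Finset.mem_univ c)
          (v := F d e f v) trivial
        rw [hW, AddSubgroup.mem_bot] at h1
        exact hv h1
      · have hpr : Pr (Finset.univ : Finset Ω) (⊤ : AddSubgroup V) := by
          intro x _ y _ z _ hD' w _
          rw [heq hD' hD.1]
          have h1 : w ∈ cm (⊤ : AddSubgroup V) a b c := by rw [hW]; trivial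
          exact h1.2
        obtain ⟨y, hy⟩ := pure_nine hM hpr (by omega)
        rw [htop] at hy
        rw [h9] at hup
        rw [hy] at h10 hup
        have h1 : 2 < y := by
          by_contra hlt
          have := Nat.pow_le_pow_left (show y ≤ 2 by omega) 8
          omega
        have h2 := Nat.pow_le_pow_left (show 3 ≤ y by omega) 8
        norm_num at hup
        omega
  · exact natl_of_card (by omega) hM (by rw [htop, hU]; exact hup)

theorem kill_add [Finite V] [Finite H] (hn : 9 ≤ Fintype.card Ω) (hA : Act V σ ι)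
    (hirr : ∀ W : AddSubgroup V, (∀ h : H, ∀ v ∈ W, h • v ∈ W) → W = ⊥ ∨ W = ⊤)
    (hnt : ∃ (g : alternatingGroup Ω) (v : V), g • v ≠ v)
    (h10 : 2 ^ 10 ≤ Nat.card V) (hup : Nat.card V ≤ 2 ^ (2 * (Fintype.card Ω / 2) + 2))
    {X : Subgroup H} {v : V} (hX2 : ∀ x ∈ X, x * x = 1) (hXv : ∀ x ∈ X, x • v = v)
    (hXn : ∀ h : H, h • v = v → ∀ x ∈ X, h * x * h⁻¹ ∈ X) (hXi : ∀ x ∈ X, σ x = 1 → x = 1)
    (hle : Nat.card V ≤ 4 * Nat.card X ^ 2) : False := by
  have hN := natl_univ hn hA hirr h10 hup
  have hU : (Finset.univ : Finset Ω).card = Fintype.card Ω := Finset.card_univ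
  have hM : Inv (Finset.univ : Finset Ω) (⊤ : AddSubgroup V) := inv_univ _ rfl
  have htop : Nat.card (⊤ : AddSubgroup V) = Nat.card V := AddSubgroup.card_top
  have hNt : Nt (Finset.univ : Finset Ω) (⊤ : AddSubgroup V) := by
    by_contra h
    obtain ⟨g, w, hgw⟩ := hnt
    exact hgw (not_nt h (sup_univ g) trivial)
  obtain ⟨p, hp, q, hq, r, hr, hD, w, hw, h0⟩ := hNt
  obtain ⟨v₀, hv₀, hne⟩ := NN_ne (by omega) hM hN hD hp hq hr (hM.F hp hq hr hw) (F_F hD w) h0
  have hc := card_pow_le (by omega) hM hN hD hp hq hr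
  rw [htop, hU] at hc
  have h2 : Nat.card (NN (Finset.univ : Finset Ω) (⊤ : AddSubgroup V) p q r) ≤ 2 := by
    by_contra hlt
    have h3 := Nat.pow_le_pow_left (show 3 ≤ Nat.card (NN (Finset.univ : Finset Ω) (⊤ : AddSubgroup V) p q r) by
      omega) (Fintype.card Ω - 2)
    have h4 := three_pow_lt (Fintype.card Ω - 2) (by omega)
    have h5 : 2 ^ (2 * (Fintype.card Ω / 2) + 2) ≤ 2 ^ (Fintype.card Ω - 2 + 4) :=
      Nat.pow_le_pow_right (by norm_num) (by omega)
    omega
  have hNt1 : Nt1 p q r v₀ := ⟨by omega, hN, hD, hv₀, hne, two_elts h2 hv₀ hne⟩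
  have h4 := card_le_four hNt1 hn hA hirr hX2 hXv hXn hXi
  have h5 : Nat.card X ^ 2 ≤ 4 ^ 2 := Nat.pow_le_pow_left h4 2
  omega

end Add

/-! ### The multiplicative form -/

section Mult

open Subgroup

variable {G : Type x} [Group G] {V : Type w} [CommGroup V]

/-- the additive action -/
abbrev actOf (f : G →* MulAut V) : DistribMulAction G (Additive V) where
  smul g v := Additive.ofMul (f g v.toMul)
  one_smul v := by
    show Additive.ofMul (f 1 v.toMul) = v
    rw [map_one]; rfl
  mul_smul g h v := by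
    show Additive.ofMul (f (g * h) v.toMul) = Additive.ofMul (f g (f h v.toMul))
    rw [map_mul]; rfl
  smul_zero g := by
    show Additive.ofMul (f g 1) = 0
    rw [map_one]; rfl
  smul_add g v w := by
    show Additive.ofMul (f g (v.toMul * w.toMul)) = _
    rw [map_mul]; rfl

theorem kill_nine {n : ℕ} (hn : 9 ≤ n) : Kill2.{u} (alternatingGroup (Fin n)) := by
  intro H V _ _ _ _ φ b L X a π hπ hc
  have := hc.normal
  obtain ⟨ψ, hψi, hψ⟩ := AltRk.exists_psi (n := n) (by omega)
  have hinj : Function.Injective π := AltCover.injective_of hπ.surj hπ.cent hπ.odd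
    (by rw [Fintype.card_fin]; omega) hπ.perf
  let e : L ≃* alternatingGroup (Fin n) := MulEquiv.ofBijective π ⟨hinj, hπ.surj⟩
  let ι : alternatingGroup (Fin n) →* H := L.subtype.comp e.symm.toMonoidHom
  let σ : H →* Perm (Fin n) := ψ.comp ((MulAut.congr e).toMonoidHom.comp MulAut.conjNormal)
  let iH : DistribMulAction H (Additive V) := actOf φ
  let iA : DistribMulAction (alternatingGroup (Fin n)) (Additive V) := actOf (φ.comp ι)
  have : Two (Additive V) := ⟨fun v => by
    have := hc.two v.toMul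
    rw [pow_two] at this
    exact this⟩
  have hσ : ∀ (h : H) (g : alternatingGroup (Fin n)),
      (MulAut.conjNormal (σ h) g : alternatingGroup (Fin n)) = e (MulAut.conjNormal h (e.symm g)) := by
    intro h g
    apply Subtype.ext
    rw [MulAut.conjNormal_apply]
    exact (hψ ((MulAut.congr e) (MulAut.conjNormal h)) g).symm
  have hι : ∀ g, ((e.symm g : L) : H) = ι g := fun g => rfl
  have hA : Act (Additive V) σ ι := by
    refine ⟨?_, ?_, ?_⟩
    · intro h g v
      show Additive.ofMul (φ h (φ (ι g) v.toMul)) =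
        Additive.ofMul (φ (ι (MulAut.conjNormal (σ h) g)) (φ h v.toMul))
      congr 1
      rw [← MulAut.mul_apply, ← MulAut.mul_apply, ← map_mul, ← map_mul]
      congr 2
      rw [hσ, ← hι (e (MulAut.conjNormal h (e.symm g))), e.symm_apply_apply, MulAut.conjNormal_apply, hι]
      group
    · intro g v
      rfl
    · intro g
      obtain ⟨m, rfl⟩ : ∃ m, n = m + 2 := ⟨n - 2, by omega⟩
      refine Cfsg.Agent.StandardComponent.AltAut.conj_unique (m := m) (by omega) ?_
      intro y
      have h1 := congrArg Subtype.val (hσ (ι g) y)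
      rw [MulAut.conjNormal_apply] at h1
      rw [h1]
      have h2 : MulAut.conjNormal (ι g) (e.symm y) = e.symm (g * y * g⁻¹) := by
        apply Subtype.ext
        rw [MulAut.conjNormal_apply, ← hι, map_mul, map_mul, map_inv]
        rfl
      rw [h2, e.apply_symm_apply]
      rfl
  have hirr : ∀ W : AddSubgroup (Additive V), (∀ h : H, ∀ v ∈ W, h • v ∈ W) → W = ⊥ ∨ W = ⊤ := by
    intro W hW
    let W' : Subgroup V :=
      { carrier := {x | Additive.ofMul x ∈ W}
        one_mem' := W.zero_mem
        mul_mem' := fun {x y} hx hy => W.add_mem hx hy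
        inv_mem' := fun {x} hx => W.neg_mem hx }
    rcases hc.irr W' (fun h x hx => hW h _ hx) with h | h
    · left
      rw [eq_bot_iff]
      intro v hv
      have h1 : v.toMul ∈ W' := hv
      rw [h] at h1
      exact h1
    · right
      rw [eq_top_iff]
      intro v _
      have h1 : v.toMul ∈ W' := by rw [h]; trivial
      exact h1
  have hL : L ≠ ⊥ := by
    rintro rfl
    have : Nontrivial (alternatingGroup (Fin n)) := by
      have : Nontrivial (Fin n) := Fin.nontrivial_iff_two_le.mpr (by omega)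
      exact alternatingGroup.nontrivial_of_three_le_card (by rw [Nat.card_eq_fintype_card, Fintype.card_fin]; omega)
    obtain ⟨k, hk⟩ := exists_ne (1 : alternatingGroup (Fin n))
    obtain ⟨l, rfl⟩ := hπ.surj k
    exact hk (by rw [Subsingleton.elim l 1, map_one])
  have hnt : ∃ (g : alternatingGroup (Fin n)) (v : Additive V), g • v ≠ v := by
    by_contra h
    push Not at h
    apply hc.ne_one hL
    ext l v
    have h1 : Additive.ofMul (φ (ι (e l)) v) = Additive.ofMul v := h (e l) (Additive.ofMul v)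
    rw [← hι, e.symm_apply_apply] at h1
    exact h1
  have hnt2 : Nontrivial (alternatingGroup (Fin n)) := by
    obtain ⟨g, v, hgv⟩ := hnt
    exact ⟨g, 1, fun e => hgv (by rw [e, one_smul])⟩
  have hup : Nat.card V ≤ 2 ^ (2 * (n / 2) + 2) :=
    (Conf2.bounds (n := 0) (r := n / 2) (fun _ _ _ _ _ _ _ _ _ _ _ _ _ _ => Nat.card_pos) (AltRk.rk_alt (by omega))
      (alternatingGroup.center_eq_bot (by rw [Nat.card_eq_fintype_card, Fintype.card_fin]; omega)) hnt2 hπ hc).2.2
  have hcV : Nat.card (Additive V) = Nat.card V := rfl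
  refine kill_add (V := Additive V) (by rw [Fintype.card_fin]; exact hn) hA hirr hnt ?_ ?_ (X := X)
    (v := Additive.ofMul a) (fun x hx => by rw [← pow_two]; exact hc.X_two x hx) (fun x hx => hc.X_fix x hx)
    (fun h hh x hx => hc.X_norm h hh x hx) ?_ hc.card_le
  · exact le_trans (by norm_num) hc.twelve
  · rw [Fintype.card_fin]; exact hup
  · intro x hx hx1
    have h1 : (MulAut.congr e) (MulAut.conjNormal x) = 1 := hψi (by rw [map_one]; exact hx1)
    have h2 : (MulAut.conjNormal x : MulAut L) = 1 := (MulAut.congr e).injective (by rw [h1, map_one])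
    have h3 : x ∈ X ⊓ centralizer (L : Set H) := by
      refine ⟨hx, ?_⟩
      show x ∈ centralizer (L : Set H)
      rw [mem_centralizer_iff]
      intro l hl
      have h4 := congrArg Subtype.val (DFunLike.congr_fun h2 (⟨l, hl⟩ : L))
      rw [MulAut.conjNormal_apply] at h4
      have h5 : x * l * x⁻¹ = l := h4
      rw [mul_inv_eq_iff_eq_mul] at h5
      exact h5.symm
    rw [hc.cent] at h3
    exact mem_bot.mp h3

end Mult

end Cfsg.Agent.Omega.TwoF.AltRow
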