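import Cfsg.Agent.Omega.TwoF.Bridge

/-!
# TABLE 2F: small tools for the sporadic rows (helper703)

* `center_eq_bot` : a finite simple group whose order is not a prime has trivial centre;
* `fact_two_le` : `¬ 2 ^ (e + 1) ∣ n` bounds the exponent of 2 in `n`;
* `rk_of_card` : `m_2(Aut K)` is at most the exponent of 2 in `|Aut K|`;
* `rk_of_inner`, `rk_of_index` : from `|K|` and the index of the inner automorphisms.
-/

set_option autoImplicit false

namespace Cfsg.Agent.Omega.TwoF.SimpleTool

open Subgroup

universe u v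

theorem center_eq_bot {K : Type*} [Group K] [Finite K] [IsSimpleGroup K] (h : ¬ (Nat.card K).Prime) :
    center K = ⊥ := by
  rcases (inferInstance : (center K).Normal).eq_bot_or_eq_top with h1 | h1
  · exact h1
  · exfalso
    apply h
    have h2 : ∀ a b : K, a * b = b * a := fun a b => by
      have h3 : b ∈ center K := by rw [h1]; exact mem_top _
      exact mem_center_iff.1 h3 a
    let inst : CommGroup K := { (inferInstance : Group K) with mul_comm := h2 }
    exact @IsSimpleGroup.prime_card K inst _

theorem fact_two_le {n e : ℕ} (h0 : n ≠ 0) (h : ¬ 2 ^ (e + 1) ∣ n) : n.factorization 2 ≤ e := by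
  by_contra hcon
  exact h ((Nat.prime_two.pow_dvd_iff_le_factorization h0).2 (by omega))

theorem rk_of_card {K : Type u} [Group K] [Finite K] {e : ℕ}
    (he : (Nat.card (MulAut K)).factorization 2 ≤ e) : Rk.RK.{v} K e := by
  refine Rk.rk_of_subgroup (t := 0) (m := 0) he ⊥ (by rw [pow_zero]; exact card_bot) ?_ le_rfl
  intro B hB _
  rw [le_bot_iff.1 hB, pow_zero]
  exact card_bot.le

theorem index_of_inner {K : Type u} [Group K] (hi : ∀ φ : MulAut K, φ ∈ (MulAut.conj : K →* MulAut K).range) :
    (MulAut.conj : K →* MulAut K).range.index = 1 := by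
  rw [index_eq_one, eq_top_iff]
  exact fun φ _ => hi φ

/-- all automorphisms inner -/
theorem rk_of_inner {K : Type u} [Group K] [Finite K] (hc : center K = ⊥)
    (hi : ∀ φ : MulAut K, φ ∈ (MulAut.conj : K →* MulAut K).range) {e : ℕ} (he : ¬ 2 ^ (e + 1) ∣ Nat.card K) :
    Rk.RK.{v} K e := by
  apply rk_of_card
  rw [Rk.card_mulAut hc (index_of_inner hi), one_mul]
  exact fact_two_le Nat.card_pos.ne' he

/-- the inner automorphisms have index dividing `n` -/
theorem rk_of_index {K : Type u} [Group K] [Finite K] (hc : center K = ⊥) {n : ℕ}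
    (hi : (MulAut.conj : K →* MulAut K).range.index ∣ n) {e : ℕ} (he : ¬ 2 ^ (e + 1) ∣ n * Nat.card K) :
    Rk.RK.{v} K e := by
  apply rk_of_card
  apply fact_two_le Nat.card_pos.ne'
  exact fun h => he (h.trans (Rk.card_mulAut_le hc hi))

end Cfsg.Agent.Omega.TwoF.SimpleTool
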