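import Cfsg.Agent.Omega.TwoF.Count
import Cfsg.Agent.Omega.TwoF.PermRank
import Cfsg.Agent.KFacts.LargeSheet
import Cfsg.Agent.LargeExtra.Perp

/-!
# TABLE 2F: groups with a large extraspecial 2-subgroup (helper416)

For helper756's `LargeSheet.Data Q z L π` (`C_K(z)/Q ≅ L`, `|Q| ≤ 2 ^ (2w+1)`) with `m_2(L) ≤ l`:
* `rk_of_data` : `RK K (w + 1 + l)`;
* `kill2_of_data` : `Kill2 K` if `2 ^ (3 (w + 1 + l) + 2) ≤ |K : C_K(z)|`.
-/

set_option autoImplicit false

namespace Cfsg.Agent.Omega.TwoF.LargeRk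

open Subgroup Cfsg.Agent.Co2Type.Quad Cfsg.Agent.LargeExtra
open Cfsg.Agent.KFacts.LargeSheet (Data)

universe u v

variable {K : Type v} [Group K] {Q : Subgroup K} {z : K}

theorem comm_of_el {B : Subgroup K} (h : Rk.El B) {a b : K} (ha : a ∈ B) (hb : b ∈ B) : a * b = b * a := by
  have h1 : (a * b)⁻¹ = a * b := inv_eq_of_mul_eq_one_left (h _ (mul_mem ha hb))
  have h2 : a⁻¹ = a := inv_eq_of_mul_eq_one_left (h _ ha)
  have h3 : b⁻¹ = b := inv_eq_of_mul_eq_one_left (h _ hb)
  rw [mul_inv_rev, h2, h3] at h1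
  exact h1.symm

/-- elementary abelian subgroups of an extraspecial group of order `2 ^ (2w + 1)` -/
theorem card_le_of_large [Finite K] (h : Large Q z) {w : ℕ} (hw : Nat.card Q ≤ 2 ^ (2 * w + 1)) {B : Subgroup K}
    (hB : B ≤ Q) (hBe : Rk.El B) : Nat.card B ≤ 2 ^ (w + 1) := by
  let g : B →* Multiplicative h.V :=
    { toFun := fun x => Multiplicative.ofAdd (h.pr ⟨x, hB x.2⟩)
      map_one' := by
        rw [← ofAdd_zero]
        exact congrArg _ h.pr_one
      map_mul' := fun x y => by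
        rw [← ofAdd_add]
        exact congrArg _ (h.pr_mul ⟨x, hB x.2⟩ ⟨y, hB y.2⟩) }
  have hker : Nat.card g.ker ≤ 2 := by
    have h1 : ∀ x : g.ker, ((x : B) : K) = 1 ∨ ((x : B) : K) = z := by
      intro x
      have h2 : h.pr ⟨(x : B), hB (x : B).2⟩ = 0 := x.2
      exact h.pr_eq_zero.1 h2
    classical
    have h2 : Nat.card g.ker ≤ Nat.card Bool := by
      refine Nat.card_le_card_of_injective (fun x => decide (((x : B) : K) = 1)) ?_
      intro x y hxy
      have h3 : (((x : B) : K) = 1) ↔ (((y : B) : K) = 1) := by simpa using hxy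
      apply Subtype.ext
      apply Subtype.ext
      rcases h1 x with hx | hx
      · rw [hx, h3.1 hx]
      · rcases h1 y with hy | hy
        · rw [hy, h3.2 hy]
        · rw [hx, hy]
    simpa using h2
  let W := Local.sub h B
  have hran : Nat.card g.range ≤ Nat.card W := by
    refine Nat.card_le_card_of_injective (fun x => (⟨Multiplicative.toAdd (x : Multiplicative h.V), by
      obtain ⟨b, hb⟩ := x.2
      exact ⟨⟨b, hB b.2⟩, b.2, by rw [← hb]; rfl⟩⟩ : W)) ?_
    intro x y hxy
    have h5 := congrArg (fun w : W => (w : h.V)) hxy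
    exact Subtype.ext h5
  have hiso : ∀ v ∈ W, ∀ w ∈ W, h.b v w = 0 := by
    rintro _ ⟨x, hx, rfl⟩ _ ⟨y, hy, rfl⟩
    rw [h.b_pr]
    exact comm_of_el hBe hx hy
  have h1 := Perp.card_sq_le h W hiso
  have h2 := h.card_eq
  have h3 := g.ker.card_mul_index
  rw [index_ker] at h3
  have h4 : Nat.card B ≤ 2 * Nat.card W := by
    rw [← h3]
    exact Nat.mul_le_mul hker hran
  have h5 : Nat.card B ^ 2 ≤ (2 ^ (w + 1)) ^ 2 := by
    calc Nat.card B ^ 2 ≤ (2 * Nat.card W) ^ 2 := Nat.pow_le_pow_left h4 2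
      _ = 4 * (Nat.card W * Nat.card W) := by ring
      _ ≤ 4 * Nat.card h.V := Nat.mul_le_mul_left _ h1
      _ = 2 * Nat.card Q := by rw [h2]; ring
      _ ≤ 2 * 2 ^ (2 * w + 1) := Nat.mul_le_mul_left _ hw
      _ = (2 ^ (w + 1)) ^ 2 := by ring
  exact (Nat.pow_le_pow_iff_left (by norm_num)).1 h5

section

variable {L : Type*} [Group L] {π : centralizer ({z} : Set K) →* L}

/-- elementary abelian subgroups of `C_K(z)` -/
theorem card_le_of_cent [Finite K] (D : Data Q z L π) {w l : ℕ} (hw : Nat.card Q ≤ 2 ^ (2 * w + 1))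
    (hL : ∀ B : Subgroup L, Rk.El B → Nat.card B ≤ 2 ^ l) {B : Subgroup K} (hB : B ≤ centralizer ({z} : Set K))
    (hBe : Rk.El B) : Nat.card B ≤ 2 ^ (w + 1 + l) := by
  let g : B →* L := π.comp (inclusion hB)
  have h1 := g.ker.card_mul_index
  rw [index_ker] at h1
  have hk : Nat.card g.ker ≤ 2 ^ (w + 1) := by
    have h2 : Nat.card (g.ker.map B.subtype) = Nat.card g.ker :=
      (Nat.card_congr (g.ker.equivMapOfInjective _ B.subtype_injective).toEquiv).symm
    rw [← h2]
    refine card_le_of_large D.large hw ?_ ?_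
    · rintro _ ⟨x, hx, rfl⟩
      exact (D.ker _).1 (show π (inclusion hB x) = 1 from hx)
    · rintro _ ⟨x, hx, rfl⟩
      exact hBe x x.2
  have hr : Nat.card g.range ≤ 2 ^ l := by
    apply hL
    rintro _ ⟨x, rfl⟩
    rw [← map_mul]
    have : x * x = 1 := Subtype.ext (hBe x x.2)
    rw [this, map_one]
  rw [← h1, pow_add]
  exact Nat.mul_le_mul hk hr

theorem center_eq (D : Data Q z L π) : center K = ⊥ := by
  rw [eq_bot_iff]
  intro x hx
  rw [mem_center_iff] at hx
  have h1 : x ∈ centralizer ({z} : Set K) := mem_centralizer_singleton_iff.2 (hx z).symm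
  rcases D.mem_center (c := ⟨x, h1⟩) (fun d => Subtype.ext (hx d).symm) with h | h
  · exact congrArg Subtype.val h
  · exfalso
    have h2 : x = z := congrArg Subtype.val h
    obtain ⟨n₀, -, h3, -⟩ := D.gen
    apply h3
    rw [← h2, hx n₀, mul_inv_cancel_right]

theorem rk_of_data [Finite K] [IsSimpleGroup L] (D : Data Q z L π) {w l : ℕ} (hw : Nat.card Q ≤ 2 ^ (2 * w + 1))
    (hL : ∀ B : Subgroup L, Rk.El B → Nat.card B ≤ 2 ^ l) : Rk.RK.{u} K (w + 1 + l) := by
  have : Fact (Nat.Prime 2) := ⟨Nat.prime_two⟩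
  have hc := center_eq D
  have htop : (MulAut.conj : K →* MulAut K).range = ⊤ := by
    rw [MonoidHom.range_eq_top]
    intro α
    obtain ⟨k, hk⟩ := D.inner α
    exact ⟨k, hk.symm⟩
  have hcard : Nat.card (MulAut K) = Nat.card K := by
    rw [Rk.card_mulAut hc (n := 1) (by rw [htop, index_top]), one_mul]
  obtain ⟨S₁⟩ : Nonempty (Sylow 2 (centralizer ({z} : Set K))) := inferInstance
  have hT : Nat.card ((S₁ : Subgroup (centralizer ({z} : Set K))).map (centralizer ({z} : Set K)).subtype) =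
      2 ^ (Nat.card K).factorization 2 := by
    rw [← Nat.card_congr ((S₁ : Subgroup (centralizer ({z} : Set K))).equivMapOfInjective _
      (centralizer ({z} : Set K)).subtype_injective).toEquiv, S₁.card_eq_multiplicity]
    congr 1
    rw [← (centralizer ({z} : Set K)).card_mul_index, Nat.factorization_mul Nat.card_pos.ne' index_ne_zero_of_finite,
      Finsupp.add_apply]
    have h1 : (centralizer ({z} : Set K)).index.factorization 2 = 0 :=
      Nat.factorization_eq_zero_of_not_dvd (by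
        have := D.odd
        rw [Nat.odd_iff] at this
        omega)
    rw [h1, add_zero]
  refine Rk.rk_of_subgroup (e := (Nat.card K).factorization 2) (m := w + 1 + l) (by rw [hcard])
    ((S₁ : Subgroup (centralizer ({z} : Set K))).map (centralizer ({z} : Set K)).subtype) hT ?_ (by omega)
  intro B hB hBe
  exact card_le_of_cent D hw hL (hB.trans (map_subtype_le _)) hBe

/-- **The counting kill for `LargeSheet.Data`.** -/
theorem kill2_of_data [Finite K] [IsSimpleGroup L] (D : Data Q z L π) {w l : ℕ} (hw : Nat.card Q ≤ 2 ^ (2 * w + 1))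
    (hL : ∀ B : Subgroup L, Rk.El B → Nat.card B ≤ 2 ^ l)
    (hn : 2 ^ (3 * (w + 1 + l) + 2) ≤ (centralizer ({z} : Set K)).index) : Kill2.{u} K := by
  have hc := center_eq D
  have htop : (MulAut.conj : K →* MulAut K).range = ⊤ := by
    rw [MonoidHom.range_eq_top]
    intro α
    obtain ⟨k, hk⟩ := D.inner α
    exact ⟨k, hk.symm⟩
  obtain ⟨S, -, -, hS⟩ := D.sheet.syl
  exact Count.kill2 hc (by rw [htop, index_top]; norm_num) ⟨S, hS⟩ D.large.z_ne (RowTool.toRK hc (rk_of_data D hw hL)) hn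

end

end Cfsg.Agent.Omega.TwoF.LargeRk
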