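import Cfsg.Agent.KFacts.CoTwo.RFin
import Cfsg.Agent.Omega.TwoF.LargeRk
import Cfsg.Agent.Co2Type.CardCo2

/-!
# `m_2(Co2) ≤ 13` (helper865)

The Sylow 2-subgroup `T` of `Spor.Co2` (order `2 ^ 18`), its normal extraspecial subgroup `R` (order `2 ^ 9`) and an
element of `T` whose square is not in `R`. (The exact rank is 10; the bound is enough for the row of the Baby Monster.)
-/

set_option autoImplicit false

namespace Cfsg.Agent.Omega.TwoF.CoTwoRk

open Subgroup Cfsg Cfsg.Agent.SporadicStructure.M24El Cfsg.Agent.SporadicA.GolayPerm Cfsg.Agent.Co2Type.Mono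
open Cfsg.Agent.Co2Type.TGroup Cfsg.Agent.Co2Type.TData Cfsg.Agent.Co2Type.FactsD Cfsg.Agent.Co2Type.TCard
open Cfsg.Agent.KFacts.CoTwo.MPerf Cfsg.Agent.KFacts.CoTwo.RSub Cfsg.Agent.KFacts.CoTwo.RLarge
open Cfsg.Agent.KFacts.CoTwo.RData Cfsg.Agent.KFacts.CoTwo.RFin

theorem chkSq : (L22.any fun Q => !(memL (pcomp Q Q) R16)) = true := by decide +kernel

theorem exists_sq : ∃ s ∈ T, s * s ∉ R := by
  obtain ⟨Q, hQ, h⟩ := List.any_eq_true.1 chkSq
  refine ⟨mo2 0 Q, ⟨0, Q, inE_zero, hQ, rfl⟩, ?_⟩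
  rw [mul_zero' (okP_of_mem hQ) (okP_of_mem hQ)]
  intro hR
  obtain ⟨m, Q', hm, hQ', e⟩ := mem_R_iff.1 hR
  have h1 := (mo2_injT inE_zero (mem_S32_iff.1 hm).1 (pcomp_mem hQ hQ) (mem_L22_of_R16 hQ') e).2
  rw [h1, memL_iff.2 hQ'] at h
  exact absurd h (by simp)

/-- elementary abelian subgroups of the Sylow 2-subgroup `T` -/
theorem card_le_T [Finite Spor.Co2] {B : Subgroup Spor.Co2} (hB : B ≤ T) (hBe : Rk.El B) : Nat.card B ≤ 2 ^ 13 := by
  have hn : (R.subgroupOf T).Normal := by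
    refine ⟨fun n h g => ?_⟩
    rw [mem_subgroupOf] at h ⊢
    exact conj_mem (T_le_P g.2) h
  obtain ⟨s, hs, hsR⟩ := exists_sq
  let g : B →* T ⧸ R.subgroupOf T := (QuotientGroup.mk' (R.subgroupOf T)).comp (inclusion hB)
  have h1 := g.ker.card_mul_index
  rw [index_ker] at h1
  have hk : Nat.card g.ker ≤ 2 ^ 5 := by
    have h2 : Nat.card (g.ker.map B.subtype) = Nat.card g.ker :=
      (Nat.card_congr (g.ker.equivMapOfInjective _ B.subtype_injective).toEquiv).symm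
    rw [← h2]
    refine LargeRk.card_le_of_large large (w := 4) (by rw [card_R]) ?_ ?_
    · rintro _ ⟨x, hx, rfl⟩
      have h3 : QuotientGroup.mk' (R.subgroupOf T) (inclusion hB x) = 1 := hx
      rw [← MonoidHom.mem_ker, QuotientGroup.ker_mk'] at h3
      exact h3
    · rintro _ ⟨x, hx, rfl⟩
      exact hBe x x.2
  have hq : Nat.card (T ⧸ R.subgroupOf T) = 2 ^ 9 := by
    have h4 := (R.subgroupOf T).card_mul_index
    rw [card_T, Nat.card_congr (subgroupOfEquivOfLe (R_le_T)).toEquiv, card_R] at h4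
    rw [← Subgroup.index]
    omega
  have hr : Nat.card g.range ≤ 2 ^ 8 := by
    have h5 := Subgroup.card_subgroup_dvd_card g.range
    rw [hq] at h5
    obtain ⟨k, hk9, hk⟩ := (Nat.dvd_prime_pow Nat.prime_two).1 h5
    rw [hk]
    apply Nat.pow_le_pow_right (by norm_num)
    by_contra hcon
    have h9 : k = 9 := by omega
    subst h9
    have htop : g.range = ⊤ := by
      apply Subgroup.eq_top_of_card_eq
      rw [hk, hq]
    have hm : QuotientGroup.mk' (R.subgroupOf T) ⟨s, hs⟩ ∈ g.range := by rw [htop]; exact mem_top _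
    obtain ⟨b, hb⟩ := hm
    have h6 : QuotientGroup.mk' (R.subgroupOf T) (⟨s, hs⟩ * ⟨s, hs⟩) = 1 := by
      rw [map_mul, ← hb, ← map_mul]
      have : b * b = 1 := Subtype.ext (hBe b b.2)
      rw [this, map_one]
    rw [← MonoidHom.mem_ker, QuotientGroup.ker_mk'] at h6
    exact hsR h6
  rw [← h1]
  calc Nat.card g.ker * Nat.card g.range ≤ 2 ^ 5 * 2 ^ 8 := Nat.mul_le_mul hk hr
    _ = 2 ^ 13 := by norm_num

/-- **`m_2(Co2) ≤ 13`.** -/
theorem card_le {B : Subgroup Spor.Co2} (hBe : Rk.El B) : Nat.card B ≤ 2 ^ 13 := by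
  have : Finite Spor.Co2 := Nat.finite_of_card_ne_zero (by rw [Cfsg.Agent.Co2Type.CardCo2.card_co2]; norm_num)
  have hT : IsPGroup 2 T := IsPGroup.of_card card_T
  have h1 := Rk.card_mul_le hBe hT (m := 2 ^ 13) fun C hC hCe => card_le_T hC hCe
  have h2 : (Nat.card Spor.Co2).factorization 2 ≤ 18 := by
    rw [Cfsg.Agent.Co2Type.CardCo2.card_co2]
    by_contra hcon
    have h2 : 2 ^ 19 ∣ 42305421312000 :=
      (Nat.prime_two.pow_dvd_iff_le_factorization (by norm_num)).2 (by omega)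
    norm_num at h2
  rw [card_T] at h1
  have h3 : Nat.card B * 2 ^ 18 ≤ 2 ^ 18 * 2 ^ 13 :=
    h1.trans (Nat.mul_le_mul_right _ (Nat.pow_le_pow_right (by norm_num) h2))
  omega

theorem card_le_of_equiv {L : Type*} [Group L] (e : L ≃* Spor.Co2) {B : Subgroup L} (hB : Rk.El B) :
    Nat.card B ≤ 2 ^ 13 := by
  rw [Nat.card_congr (B.equivMapOfInjective e.toMonoidHom e.injective).toEquiv]
  exact card_le (hB.map _)

end Cfsg.Agent.Omega.TwoF.CoTwoRk
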