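import Cfsg.Agent.KFacts.Baby.Row
import Cfsg.Agent.KFacts.Baby.CaseM
import Cfsg.Agent.KFacts.CoTwo.InnerB
import Cfsg.Agent.Omega.TwoF.CoTwoRk

/-!
# TABLE 2F: `RK B 25` for the Baby Monster (helper865)

`C(z)/Q ≃ Co2`, `|Q| = 2 ^ 23`, `m_2(Q) ≤ 12`, `m_2(Co2) ≤ 13`, `Out(B) = 1`.
-/

set_option autoImplicit false

namespace Cfsg.Agent.Omega.TwoF.RkB

open Subgroup Cfsg Cfsg.Agent.Co2Type.Quad Cfsg.Agent.KFacts

universe u

section

variable {K : Type*} [Group K] {Q : Subgroup K} {z : K} {L : Type*} [Group L]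

/-- elementary abelian subgroups of `C_K(z)` -/
theorem card_le_of_cent [Finite K] (h : Large Q z) {π : centralizer ({z} : Set K) →* L}
    (hπ : ∀ c, π c = 1 ↔ (c : K) ∈ Q) {w l : ℕ} (hw : Nat.card Q ≤ 2 ^ (2 * w + 1))
    (hL : ∀ B : Subgroup L, Rk.El B → Nat.card B ≤ 2 ^ l) {B : Subgroup K} (hB : B ≤ centralizer ({z} : Set K))
    (hBe : Rk.El B) : Nat.card B ≤ 2 ^ (w + 1 + l) := by
  let g : B →* L := π.comp (inclusion hB)
  have h1 := g.ker.card_mul_index
  rw [index_ker] at h1
  have hk : Nat.card g.ker ≤ 2 ^ (w + 1) := by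
    have h2 : Nat.card (g.ker.map B.subtype) = Nat.card g.ker :=
      (Nat.card_congr (g.ker.equivMapOfInjective _ B.subtype_injective).toEquiv).symm
    rw [← h2]
    refine LargeRk.card_le_of_large h hw ?_ ?_
    · rintro _ ⟨x, hx, rfl⟩
      exact (hπ _).1 (show π (inclusion hB x) = 1 from hx)
    · rintro _ ⟨x, hx, rfl⟩
      exact hBe x x.2
  have hr : Nat.card g.range ≤ 2 ^ l := by
    apply hL
    rintro _ ⟨x, rfl⟩
    rw [← map_mul]
    have : x * x = 1 := Subtype.ext (hBe x x.2)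
    rw [this, map_one]
  rw [← h1, pow_add]
  exact Nat.mul_le_mul hk hr

theorem rk_of_data [Finite K] [IsSimpleGroup K] (D : SheetInner.Data Q z L) {w l : ℕ}
    (hw : Nat.card Q ≤ 2 ^ (2 * w + 1)) (hL : ∀ B : Subgroup L, Rk.El B → Nat.card B ≤ 2 ^ l) :
    Rk.RK.{u} K (w + 1 + l) := by
  have : Fact (Nat.Prime 2) := ⟨Nat.prime_two⟩
  have hc : center K = ⊥ := by
    rcases (inferInstance : (center K).Normal).eq_bot_or_eq_top with h | h
    · exact h
    · exfalso
      obtain ⟨n₀, -, h3, -⟩ := D.gen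
      apply h3
      have h4 : n₀ ∈ center K := by rw [h]; exact mem_top _
      rw [← mem_center_iff.1 h4 z, mul_inv_cancel_right]
  have htop : (MulAut.conj : K →* MulAut K).range = ⊤ := by
    rw [MonoidHom.range_eq_top]
    intro α
    obtain ⟨k, hk⟩ := D.allInner α
    exact ⟨k, hk.symm⟩
  have hcard : Nat.card (MulAut K) = Nat.card K := by
    rw [Rk.card_mulAut hc (n := 1) (by rw [htop, index_top]), one_mul]
  obtain ⟨π, -, hπ⟩ := D.quot
  obtain ⟨S₁⟩ : Nonempty (Sylow 2 (centralizer ({z} : Set K))) := inferInstance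
  have hT : Nat.card ((S₁ : Subgroup (centralizer ({z} : Set K))).map (centralizer ({z} : Set K)).subtype) =
      2 ^ (Nat.card K).factorization 2 := by
    rw [← Nat.card_congr ((S₁ : Subgroup (centralizer ({z} : Set K))).equivMapOfInjective _
      (centralizer ({z} : Set K)).subtype_injective).toEquiv, S₁.card_eq_multiplicity]
    congr 1
    rw [← (centralizer ({z} : Set K)).card_mul_index, Nat.factorization_mul Nat.card_pos.ne' index_ne_zero_of_finite,
      Finsupp.add_apply]
    have h1 : (centralizer ({z} : Set K)).index.factorization 2 = 0 :=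
      Nat.factorization_eq_zero_of_not_dvd (by
        have := D.odd
        rw [Nat.odd_iff] at this
        omega)
    rw [h1, add_zero]
  refine Rk.rk_of_subgroup (e := (Nat.card K).factorization 2) (m := w + 1 + l) (by rw [hcard])
    ((S₁ : Subgroup (centralizer ({z} : Set K))).map (centralizer ({z} : Set K)).subtype) hT ?_ (by omega)
  intro B hB hBe
  exact card_le_of_cent D.large hπ hw hL (hB.trans (map_subtype_le _)) hBe

end

open Cfsg.Agent.BabyM Cfsg.Agent.BabyM.Model Cfsg.Agent.BabyU.ClosModel Cfsg.Agent.BabyU.ClosLane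
open Cfsg.Agent.KFacts.Baby

/-- **`RK B 25`** for the model. -/
theorem rk_model : Rk.RK.{u} Inst.M.G 25 := by
  have := A.finite_G
  have := Instance.all.simple
  obtain ⟨e⟩ := Cfsg.Agent.Schreier.CoTwoStab.exists_equiv _ GroupInst.dt_l₀
  exact rk_of_data (KFacts.Baby.Sheet.data KFacts.CoTwo.InnerB.inner KFacts.Baby.Row.fix) (w := 11) (l := 13)
    (by rw [KFacts.Baby.CaseM.card_PP]) fun B hB => CoTwoRk.card_le_of_equiv e hB

end Cfsg.Agent.Omega.TwoF.RkB
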