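import Cfsg.Agent.Omega.TwoF.WeightCover

/-!
# A Frobenius group `7² : SL₂(3)` in a simple group `K` of order divisible by 23: `LB K 24`

`Rel a b u v`: `a`, `b` commute, `a⁷ = 1`, `u`, `v` act on `⟨a, b⟩` as the matrices `(2 6; 0 4)` and `(0 6; 1 0)` over `𝔽₇`, which
generate `SL₂(3)`, acting semiregularly on the 48 nonzero vectors.
-/

set_option autoImplicit false
set_option maxRecDepth 10000
set_option linter.style.haveILetI false

universe u v w

namespace Cfsg.Agent.Omega.TwoF.FrobSeven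

open Cfsg.Agent.Omega.Lie.Heis Cfsg.Agent.Omega.TwoF.WeightCover

section

variable {K : Type*} [Group K]

structure Rel (a b x y : K) : Prop where
  a7 : a ^ 7 = 1
  ab : a * b = b * a
  xa : x * a * x⁻¹ = a ^ 2
  ya : y * a * y⁻¹ = b
  yb : y * b * y⁻¹ = a⁻¹
  xb : x * b * x⁻¹ = a⁻¹ * b ^ 4
  ne : a ≠ 1

/-- `aⁱ bʲ` -/
def ps (a b : K) (p : ℕ × ℕ) : K := a ^ p.1 * b ^ p.2

/-- the action of `x` and `y` on exponents -/
def lx (p : ℕ × ℕ) : ℕ × ℕ := (2 * p.1 + 6 * p.2, 4 * p.2)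
def ly (p : ℕ × ℕ) : ℕ × ℕ := (6 * p.2, p.1)

variable {a b x y : K}

theorem Rel.b7 (h : Rel a b x y) : b ^ 7 = 1 := by
  rw [← h.ya, conj_pow, h.a7, mul_one, mul_inv_cancel]

theorem Rel.comm (h : Rel a b x y) (i j : ℕ) : a ^ i * b ^ j = b ^ j * a ^ i :=
  ((show Commute a b from h.ab).pow_pow i j)

theorem Rel.ps_add (h : Rel a b x y) (p q : ℕ × ℕ) : ps a b (p.1 + q.1, p.2 + q.2) = ps a b p * ps a b q := by
  unfold ps
  rw [pow_add, pow_add]
  calc a ^ p.1 * a ^ q.1 * (b ^ p.2 * b ^ q.2) = a ^ p.1 * (a ^ q.1 * b ^ p.2) * b ^ q.2 := by group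
    _ = a ^ p.1 * (b ^ p.2 * a ^ q.1) * b ^ q.2 := by rw [h.comm]
    _ = a ^ p.1 * b ^ p.2 * (a ^ q.1 * b ^ q.2) := by group

theorem Rel.ps_mul (h : Rel a b x y) (c : ℕ) (p : ℕ × ℕ) : ps a b (c * p.1, c * p.2) = ps a b p ^ c := by
  unfold ps
  rw [(show Commute (a ^ p.1) (b ^ p.2) from h.comm _ _).mul_pow, ← pow_mul, ← pow_mul, mul_comm c, mul_comm c]

theorem Rel.inv_a (h : Rel a b x y) : a⁻¹ = a ^ 6 := by
  rw [inv_eq_iff_mul_eq_one, ← pow_succ']
  exact h.a7

theorem Rel.lx_spec (h : Rel a b x y) (p : ℕ × ℕ) : x * ps a b p * x⁻¹ = ps a b (lx p) := by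
  unfold ps lx
  have e1 : x * (a ^ p.1 * b ^ p.2) * x⁻¹ = (x * a * x⁻¹) ^ p.1 * (x * b * x⁻¹) ^ p.2 := by
    rw [conj_pow, conj_pow]
    group
  rw [e1, h.xa, h.xb, h.inv_a, (show Commute (a ^ 6) (b ^ 4) from h.comm _ _).mul_pow, ← pow_mul, ← pow_mul, ← pow_mul,
    pow_add, mul_assoc]

theorem Rel.ly_spec (h : Rel a b x y) (p : ℕ × ℕ) : y * ps a b p * y⁻¹ = ps a b (ly p) := by
  unfold ps ly
  have e1 : y * (a ^ p.1 * b ^ p.2) * y⁻¹ = (y * a * y⁻¹) ^ p.1 * (y * b * y⁻¹) ^ p.2 := by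
    rw [conj_pow, conj_pow]
    group
  rw [e1, h.ya, h.yb, h.inv_a, ← pow_mul, ← h.comm]

/-- exponents modulo 7 -/
theorem Rel.ps_mod (h : Rel a b x y) (p : ℕ × ℕ) : ps a b p = ps a b (p.1 % 7, p.2 % 7) := by
  unfold ps
  rw [pow_eq_pow_mod p.1 h.a7, pow_eq_pow_mod p.2 h.b7]

theorem key_irr : ∀ i < 7, ∀ j < 7, (i, j) ≠ (0, 0) → ∃ c < 7, ∃ d < 7,
    (c * i + d * (ly (i, j)).1) % 7 = 1 ∧ (c * j + d * (ly (i, j)).2) % 7 = 0 := by decide +kernel

/-- `aⁱ bʲ = 1` only for `i = j = 0` modulo 7 -/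
theorem Rel.inj (h : Rel a b x y) {p : ℕ × ℕ} (hp : ps a b p = 1) : p.1 % 7 = 0 ∧ p.2 % 7 = 0 := by
  by_contra hcon
  rw [h.ps_mod] at hp
  have h1 : (p.1 % 7, p.2 % 7) ≠ (0, 0) := fun h => hcon ⟨congrArg Prod.fst h, congrArg Prod.snd h⟩
  obtain ⟨c, -, d, -, h2, h3⟩ := key_irr _ (Nat.mod_lt _ (by norm_num)) _ (Nat.mod_lt _ (by norm_num)) h1
  set q : ℕ × ℕ := (p.1 % 7, p.2 % 7) with hq
  have h4 : ps a b (ly q) = 1 := by rw [← h.ly_spec, hp, mul_one, mul_inv_cancel]
  have h5 : ps a b (c * q.1 + d * (ly q).1, c * q.2 + d * (ly q).2) = 1 := by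
    have := h.ps_add (c * q.1, c * q.2) (d * (ly q).1, d * (ly q).2)
    rw [h.ps_mul, h.ps_mul, hp, h4, one_pow, one_pow, one_mul] at this
    exact this
  have h2' : (c * q.1 + d * (ly q).1) % 7 = 1 := h2
  have h3' : (c * q.2 + d * (ly q).2) % 7 = 0 := h3
  rw [h.ps_mod] at h5
  unfold ps at h5
  simp only [h2', h3'] at h5
  apply h.ne
  simpa using h5

/-- the group `⟨a, b⟩` -/
def Rel.A (h : Rel a b x y) : Subgroup K where
  carrier := {z | ∃ p, z = ps a b p}
  one_mem' := ⟨(0, 0), by simp [ps]⟩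
  mul_mem' := by
    rintro _ _ ⟨p, rfl⟩ ⟨q, rfl⟩
    exact ⟨_, (h.ps_add p q).symm⟩
  inv_mem' := by
    rintro _ ⟨p, rfl⟩
    refine ⟨(6 * p.1, 6 * p.2), ?_⟩
    rw [h.ps_mul, inv_eq_iff_mul_eq_one, ← pow_succ', ← h.ps_mul, h.ps_mod]
    simp [ps]

/-- the 24 words (`false = x`, `true = y`) -/
def W : List (List Bool) := [[], [false], [true], [false, false], [true, false], [false, true], [true, true],
  [true, false, false], [false, true, false], [true, true, false], [false, false, true], [true, false, true],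
  [true, true, true], [false, true, false, false], [true, true, false, false], [false, false, true, false],
  [true, false, true, false], [true, true, true, false], [false, true, false, true], [true, true, false, true],
  [false, false, true, false, false], [true, false, true, false, false], [true, true, false, true, false],
  [false, false, true, false, true]]

/-- value of a word -/
def wd (x y : K) (l : List Bool) : K := l.foldr (fun c z => (if c then y else x) * z) 1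

/-- action of a word on exponents -/
def wl (l : List Bool) (p : ℕ × ℕ) : ℕ × ℕ := l.foldr (fun c q => if c then ly q else lx q) p

theorem Rel.wd_spec (h : Rel a b x y) (l : List Bool) (p : ℕ × ℕ) :
    wd x y l * ps a b p * (wd x y l)⁻¹ = ps a b (wl l p) := by
  induction l with
  | nil => simp [wd, wl]
  | cons c l ih =>
    have e1 : wd x y (c :: l) = (if c then y else x) * wd x y l := rfl
    have e2 : wl (c :: l) p = if c then ly (wl l p) else lx (wl l p) := rfl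
    rw [e1, e2]
    have e3 : (if c then y else x) * wd x y l * ps a b p * ((if c then y else x) * wd x y l)⁻¹ =
        (if c then y else x) * (wd x y l * ps a b p * (wd x y l)⁻¹) * (if c then y else x)⁻¹ := by group
    rw [e3, ih]
    cases c
    · exact h.lx_spec _
    · exact h.ly_spec _

def chk : Bool := (List.range 24).all fun s => (List.range 24).all fun t => Nat.beq s t ||
  ((List.range 7).all fun i => (List.range 7).all fun j =>
    !(Nat.beq (((wl (W.getD s []) (i, j)).1 + 6 * (wl (W.getD t []) (i, j)).1) % 7) 0 &&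
      Nat.beq (((wl (W.getD s []) (i, j)).2 + 6 * (wl (W.getD t []) (i, j)).2) % 7) 0) ||
      (Nat.beq i 0 && Nat.beq j 0))

theorem chk_eq : chk = true := by decide +kernel

theorem key_free {s t i j : ℕ} (hs : s < 24) (ht : t < 24) (hst : s ≠ t) (hi : i < 7) (hj : j < 7)
    (h1 : ((wl (W.getD s []) (i, j)).1 + 6 * (wl (W.getD t []) (i, j)).1) % 7 = 0)
    (h2 : ((wl (W.getD s []) (i, j)).2 + 6 * (wl (W.getD t []) (i, j)).2) % 7 = 0) : i = 0 ∧ j = 0 := by
  have h := chk_eq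
  unfold chk at h
  rw [List.all_eq_true] at h
  have h3 := h s (List.mem_range.2 hs)
  rw [List.all_eq_true] at h3
  have h4 := h3 t (List.mem_range.2 ht)
  rw [Bool.or_eq_true] at h4
  rcases h4 with h4 | h4
  · exact absurd (Nat.eq_of_beq_eq_true h4) hst
  rw [List.all_eq_true] at h4
  have h5 := h4 i (List.mem_range.2 hi)
  rw [List.all_eq_true] at h5
  have h6 := h5 j (List.mem_range.2 hj)
  rw [h1, h2, Bool.or_eq_true, Bool.and_eq_true] at h6
  rcases h6 with h6 | h6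
  · exact absurd h6 (by decide)
  · exact ⟨Nat.eq_of_beq_eq_true h6.1, Nat.eq_of_beq_eq_true h6.2⟩

end

theorem orderOf_seven : orderOf (2 : ZMod 7) = 3 := by
  haveI : Fact (Nat.Prime 3) := ⟨by norm_num⟩
  exact orderOf_eq_prime (by decide) (by decide)

theorem orderOf_twentythree : orderOf (2 : ZMod 23) = 11 := by
  haveI : Fact (Nat.Prime 11) := ⟨by norm_num⟩
  exact orderOf_eq_prime (by decide) (by decide)

/-- **`LB K 24`** -/
theorem lb {K : Type u} [Group K] [Finite K] [IsSimpleGroup K] {a b x y : K} (h : Rel a b x y)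
    (h23 : 23 ∣ Nat.card K) : LB.{u, v, w} K 24 := by
  have hA : ∀ s ∈ h.A, ∀ t ∈ h.A, s * t = t * s := by
    rintro _ ⟨p, rfl⟩ _ ⟨q, rfl⟩
    rw [← h.ps_add, ← h.ps_add, add_comm, add_comm p.2]
  have hp : IsPGroup 7 h.A := by
    rintro ⟨_, p, rfl⟩
    refine ⟨1, Subtype.ext ?_⟩
    rw [pow_one]
    change ps a b p ^ 7 = 1
    rw [← h.ps_mul, h.ps_mod]
    simp [ps]
  haveI : Fact (Nat.Prime 7) := ⟨by norm_num⟩
  obtain ⟨n, hn⟩ := IsPGroup.iff_card.1 hp
  have hA1 : h.A ≠ ⊥ := by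
    intro hb
    have : a ∈ h.A := ⟨(1, 0), by simp [ps]⟩
    rw [hb] at this
    exact h.ne (Subgroup.mem_bot.1 this)
  refine LB.family (m := 24) hA (by rw [hn]; exact Odd.pow (by decide)) hA1
    (fun s : Fin 24 => wd x y (W.getD s [])) ?_ (fun _ => 0) ?_ (by simp) ?_
  · rintro s _ ⟨p, rfl⟩
    exact ⟨_, h.wd_spec _ p⟩
  · rintro s t hst _ ⟨p, rfl⟩ heq
    rw [pow_zero, pow_one, pow_one, h.ps_mod p, h.wd_spec, h.wd_spec] at heq
    set q : ℕ × ℕ := (p.1 % 7, p.2 % 7) with hq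
    have h1 : ps a b ((wl (W.getD s []) q).1 + 6 * (wl (W.getD t []) q).1,
        (wl (W.getD s []) q).2 + 6 * (wl (W.getD t []) q).2) = 1 := by
      have := h.ps_add (wl (W.getD s []) q) (6 * (wl (W.getD t []) q).1, 6 * (wl (W.getD t []) q).2)
      rw [this, h.ps_mul, heq, ← pow_succ', ← h.ps_mul, h.ps_mod]
      simp [ps]
    obtain ⟨h2, h3⟩ := h.inj h1
    obtain ⟨h4, h5⟩ := key_free s.2 t.2 (fun e => hst (Fin.ext e)) (Nat.mod_lt p.1 (by norm_num))
      (Nat.mod_lt p.2 (by norm_num)) h2 h3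
    rw [h.ps_mod p]
    have h6 : (p.1 % 7, p.2 % 7) = (0, 0) := Prod.ext h4 h5
    rw [h6]
    simp [ps]
  · intro r hr hrA
    rw [hn] at hrA
    have hr7 : r = 7 := (Nat.prime_dvd_prime_iff_eq hr (by norm_num)).1 (hr.dvd_of_dvd_pow hrA)
    subst hr7
    exact Esc.prime (p := 23) (by norm_num) (by norm_num) (by norm_num) h23 (by
      rw [orderOf_seven, orderOf_twentythree]
      decide)

end Cfsg.Agent.Omega.TwoF.FrobSeven
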