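import Cfsg.Agent.Omega.TwoF.Co1Mat
import Cfsg.Agent.Omega.TwoF.FrobSeven
import Cfsg.Agent.S0399

/-!
# TABLE 2F, row `Co₁`: every nontrivial action of an odd cover on a 2-group has `|V| ≥ 2 ^ 24`

`7² : SL₂(3) ≤ Co₁` is a Frobenius group with complement of order 24 (`FrobSeven.lb`, matrices in `Co1Mat`).
-/

set_option autoImplicit false

universe u v w

namespace Cfsg.Agent.Omega.TwoF.RowCo1LB

open Cfsg Cfsg.Agent.Omega.TwoF.Co1Mat Cfsg.Agent.CoOneType.CoEval Cfsg.Agent.Omega.TwoF.FrobSeven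
open Cfsg.Agent.Omega.Lie.Heis

abbrev K : Type := Cfsg.Spor.Co1

/-- letters in `Co₁` -/
noncomputable abbrev f (i : ℕ) : K := pr (e i)

theorem inv4 : f 4 = (f 0)⁻¹ := map_inv _ _
theorem inv5 : f 5 = (f 1)⁻¹ := map_inv _ _
theorem inv6 : f 6 = (f 2)⁻¹ := map_inv _ _
theorem inv7 : f 7 = (f 3)⁻¹ := map_inv _ _

theorem rel : Rel (f 0) (f 1) (f 2) (f 3) where
  a7 := by
    have h := eq_one_of_relB rep rel_aa
    simpa [pow_succ, mul_assoc] using h
  ab := by
    have h := eq_one_of_relB rep rel_ab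
    simp only [List.map_cons, List.map_nil, List.prod_cons, List.prod_nil, mul_one] at h
    change f 0 * (f 1 * (f 4 * f 5)) = 1 at h
    rw [inv4, inv5] at h
    calc f 0 * f 1 = f 0 * (f 1 * ((f 0)⁻¹ * (f 1)⁻¹)) * (f 1 * f 0) := by group
      _ = f 1 * f 0 := by rw [h, one_mul]
  xa := by
    have h := eq_one_of_relB rep rel_ua
    simp only [List.map_cons, List.map_nil, List.prod_cons, List.prod_nil, mul_one] at h
    change f 2 * (f 0 * (f 6 * (f 4 * f 4))) = 1 at h
    rw [inv4, inv6] at h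
    calc f 2 * f 0 * (f 2)⁻¹ = f 2 * (f 0 * ((f 2)⁻¹ * ((f 0)⁻¹ * (f 0)⁻¹))) * (f 0 * f 0) := by group
      _ = f 0 ^ 2 := by rw [h, one_mul, pow_two]
  ya := by
    have h := eq_one_of_relB rep rel_va
    simp only [List.map_cons, List.map_nil, List.prod_cons, List.prod_nil, mul_one] at h
    change f 3 * (f 0 * (f 7 * f 5)) = 1 at h
    rw [inv5, inv7] at h
    calc f 3 * f 0 * (f 3)⁻¹ = f 3 * (f 0 * ((f 3)⁻¹ * (f 1)⁻¹)) * f 1 := by group
      _ = f 1 := by rw [h, one_mul]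
  yb := by
    have h := eq_one_of_relB rep rel_vb
    simp only [List.map_cons, List.map_nil, List.prod_cons, List.prod_nil, mul_one] at h
    change f 3 * (f 1 * (f 7 * f 0)) = 1 at h
    rw [inv7] at h
    calc f 3 * f 1 * (f 3)⁻¹ = f 3 * (f 1 * ((f 3)⁻¹ * f 0)) * (f 0)⁻¹ := by group
      _ = (f 0)⁻¹ := by rw [h, one_mul]
  xb := by
    have h := eq_one_of_relB rep rel_ub
    simp only [List.map_cons, List.map_nil, List.prod_cons, List.prod_nil, mul_one] at h
    change f 2 * (f 1 * (f 6 * (f 5 * (f 5 * (f 5 * (f 5 * f 0)))))) = 1 at h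
    rw [inv5, inv6] at h
    calc f 2 * f 1 * (f 2)⁻¹ =
        f 2 * (f 1 * ((f 2)⁻¹ * ((f 1)⁻¹ * ((f 1)⁻¹ * ((f 1)⁻¹ * ((f 1)⁻¹ * f 0)))))) * ((f 0)⁻¹ * f 1 ^ 4) := by
          group
      _ = (f 0)⁻¹ * f 1 ^ 4 := by rw [h, one_mul]
  ne := by
    have h := ne_one_of_neB rep ne_a
    simpa using h

theorem simple : IsSimpleGroup K := Cfsg.Agent.S0399.result.1

theorem card_K : Nat.card K = 4157776806543360000 := Cfsg.Agent.S0399.result.2

theorem lb : LB.{0, v, w} K 24 := by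
  have := simple
  have : Finite K := Nat.finite_of_card_ne_zero (by rw [card_K]; norm_num)
  exact FrobSeven.lb rel (by rw [card_K]; norm_num)

/-- **row `Co₁`, column LB** -/
theorem lb_of_iso {L : Type u} [Group L] (h : Cfsg.Spor.IsoCo1 L) : LB.{u, v, w} L 24 := by
  obtain ⟨φ⟩ := h
  have := simple
  have : Finite K := Nat.finite_of_card_ne_zero (by rw [card_K]; norm_num)
  have : Finite L := Finite.of_equiv K φ.symm.toEquiv
  have : IsSimpleGroup L := by
    have : Nontrivial L := φ.symm.injective.nontrivial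
    exact IsSimpleGroup.isSimpleGroup_of_surjective φ.symm.toMonoidHom φ.symm.surjective
  have hr : Rel (φ.symm (f 0)) (φ.symm (f 1)) (φ.symm (f 2)) (φ.symm (f 3)) := by
    have r := rel
    constructor
    · rw [← map_pow, r.a7, map_one]
    · rw [← map_mul, r.ab, map_mul]
    · rw [← map_mul, ← map_inv, ← map_mul, r.xa, map_pow]
    · rw [← map_mul, ← map_inv, ← map_mul, r.ya]
    · rw [← map_mul, ← map_inv, ← map_mul, r.yb, map_inv]
    · rw [← map_mul, ← map_inv, ← map_mul, r.xb, map_mul, map_inv, map_pow]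
    · intro h1
      exact r.ne (φ.symm.injective (h1.trans (map_one φ.symm).symm))
  exact FrobSeven.lb hr (by rw [Nat.card_congr φ.toEquiv, card_K]; norm_num)

end Cfsg.Agent.Omega.TwoF.RowCo1LB
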