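import Cfsg.Agent.Omega.TwoF.Defs
import Cfsg.Agent.Omega.TwoF.WeightV

/-!
# TABLE 2F: the lower bound for self-dual modules from one prime (helper834)

`LBs.prime`: `p` an odd prime divisor of `|K|`, `-1` not a power of `2` modulo `p`: `|V| ≥ 2 ^ (2 ord_p(2))` for every
nontrivial module with an invariant nondegenerate alternating form of every odd cover.
-/

set_option autoImplicit false

namespace Cfsg.Agent.Omega.TwoF

open Subgroup

universe u v

/-- the image of a nontrivial action of an odd cover of a simple group has order divisible by the order of the group -/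
theorem OddCover.card_dvd_range {L : Type*} {K : Type*} [Group L] [Group K] [IsSimpleGroup K] {π : L →* K}
    (h : OddCover π) {M : Type*} [Group M] {φ : L →* M} (hφ : φ ≠ 1) : Nat.card K ∣ Nat.card φ.range := by
  have hn : (φ.ker.map π).Normal := Subgroup.Normal.map inferInstance π h.surj
  have hle : φ.ker ≤ π.ker := by
    rcases hn.eq_bot_or_eq_top with h1 | h1
    · exact (Subgroup.map_eq_bot_iff _).1 h1
    · exfalso
      apply hφ
      have h2 : commutator L ≤ φ.ker := by
        rw [commutator_def, commutator_le]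
        intro a _ b _
        have key : ∀ a : L, ∃ n ∈ φ.ker, ∃ z ∈ center L, a = n * z := by
          intro a
          have h3 : π a ∈ φ.ker.map π := by rw [h1]; exact mem_top _
          obtain ⟨n, hn, hna⟩ := h3
          refine ⟨n, hn, n⁻¹ * a, h.cent ?_, by group⟩
          rw [MonoidHom.mem_ker, map_mul, map_inv, hna, inv_mul_cancel]
        obtain ⟨n, hn, z, hz, rfl⟩ := key a
        obtain ⟨m, hm, y, hy, rfl⟩ := key b
        rw [MonoidHom.mem_ker] at hn hm ⊢
        have h4 : φ z * φ y = φ y * φ z := by rw [← map_mul, ← map_mul, mem_center_iff.1 hy z]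
        rw [map_commutatorElement, commutatorElement_def, map_mul, map_mul, hn, hm, one_mul, one_mul, h4]
        group
      ext x
      have h5 : x ∈ φ.ker := h2 (by rw [h.perf]; exact mem_top _)
      exact MonoidHom.mem_ker.1 h5
  -- the induced map `φ.range → K`
  have h3 : Nat.card K ∣ Nat.card (L ⧸ φ.ker) :=
    Subgroup.card_dvd_of_surjective (QuotientGroup.lift φ.ker π hle)
      (QuotientGroup.lift_surjective_of_surjective φ.ker π h.surj hle)
  rwa [Nat.card_congr (QuotientGroup.quotientKerEquivRange φ).toEquiv] at h3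

/-- **One prime, self-dual modules.** -/
theorem LBs.prime {K : Type v} [Group K] [IsSimpleGroup K] {p m : ℕ} (hp : p.Prime) (hp2 : p ≠ 2)
    (hpK : p ∣ Nat.card K) (hneg : ∀ j : ℕ, (2 : ZMod p) ^ j ≠ -1) (hm : m ≤ 2 * orderOf (2 : ZMod p)) :
    LBs.{u} K m := by
  intro L _ _ π hπ V _ _ φ b hb hi h2 h1
  have : Fact p.Prime := ⟨hp⟩
  have h3 : p ∣ Nat.card φ.range := hpK.trans (hπ.card_dvd_range h1)
  have hfin : Finite φ.range := Finite.of_surjective _ φ.rangeRestrict_surjective
  obtain ⟨e, he⟩ := exists_prime_orderOf_dvd_card' p h3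
  have hsd : Weight.SelfDual 2 (φ.range.subtype : φ.range →* MulAut V) := by
    refine ⟨b, hb.add_left, hb.add_right, hb.nondeg, ?_⟩
    rintro ⟨_, g, rfl⟩ x y
    exact hi g x y
  have h4 := Weight.pow_two_orderOf_le (ℓ := 2) (φ := (φ.range.subtype : φ.range →* MulAut V)) h2 hsd
    (n := p) (r := p) (k := 0) (by rw [zero_add, pow_one]) hp hp2 (e := e) (by rw [← he]; exact pow_orderOf_eq_one e)
    (by
      rw [pow_zero, pow_one]
      intro h5
      have h6 : e = 1 := Subtype.ext h5
      rw [h6, orderOf_one] at he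
      exact hp.ne_one he.symm)
    (by exact_mod_cast hneg)
  exact (Nat.pow_le_pow_right two_pos (by exact_mod_cast hm)).trans h4

/-- `-1` is not a power of `2` modulo `23` -/
theorem neg_23 (j : ℕ) : (2 : ZMod 23) ^ j ≠ -1 := by
  have h11 : (2 : ZMod 23) ^ 11 = 1 := by decide
  rw [← Nat.div_add_mod j 11, pow_add, pow_mul, h11, one_pow, one_mul]
  have h := Nat.mod_lt j (by norm_num : 0 < 11)
  interval_cases j % 11 <;> decide

theorem orderOf_23 : orderOf (2 : ZMod 23) = 11 := by
  have : Fact (Nat.Prime 11) := ⟨by norm_num⟩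
  exact orderOf_eq_prime (by decide) (by decide)

/-- **`23` divides `|K|`**: self-dual modules of dimension at least `22`. -/
theorem LBs.of_23 {K : Type v} [Group K] [IsSimpleGroup K] (h : 23 ∣ Nat.card K) : LBs.{u} K 22 :=
  LBs.prime (p := 23) (by norm_num) (by norm_num) h neg_23 (by rw [orderOf_23])

end Cfsg.Agent.Omega.TwoF
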