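import Cfsg.Agent.Omega.KFacts
import Cfsg.Agent.Omega.TwoF.LBsPrime
import Cfsg.Agent.Omega.CoTwoK.RankCo2
import Cfsg.Agent.KFacts.CoTwo.Main

/-!
# TABLE 2F: the row `Co2` (helper902)

`|V| ≥ 2 ^ 22` for self-dual modules (the prime 23, helper834), `m_2(Aut Co2) ≤ 10`.
-/

set_option autoImplicit false

namespace Cfsg.Agent.Omega.TwoF.RowCo2

open Subgroup Cfsg

universe u

theorem center_eq : center Spor.Co2 = ⊥ := by
  have := Cfsg.Agent.Schreier.CoTwoStab.isSimpleGroup
  rcases (inferInstance : (center Spor.Co2).Normal).eq_bot_or_eq_top with h1 | h1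
  · exact h1
  · exfalso
    apply Cfsg.Agent.Schreier.CoTwoStab.not_comm
    refine ⟨⟨fun x y => ?_⟩⟩
    have h2 : y ∈ center Spor.Co2 := by rw [h1]; exact mem_top y
    exact mem_center_iff.1 h2 x

/-- **`m_2(Aut Co2) ≤ 10`** -/
theorem rk : RK Spor.Co2 10 := by
  have := Cfsg.Agent.Schreier.CoTwoStab.finite
  intro A hA
  have hinj : Function.Injective (MulAut.conj : Spor.Co2 →* MulAut Spor.Co2) := by
    rw [injective_iff_map_eq_one]
    intro g hg
    rw [← mem_bot, ← center_eq, mem_center_iff]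
    intro x
    have h2 := DFunLike.congr_fun hg x
    simp only [MulAut.conj_apply, MulAut.one_apply] at h2
    exact (mul_inv_eq_iff_eq_mul.1 h2).symm
  have h1 : (A.comap (MulAut.conj : Spor.Co2 →* MulAut Spor.Co2)).map MulAut.conj = A := by
    rw [Subgroup.map_comap_eq, Cfsg.Agent.KFacts.CoTwo.Main.range_conj, top_inf_eq]
  rw [← h1, Nat.card_congr (Subgroup.equivMapOfInjective _ _ hinj).toEquiv.symm]
  apply Cfsg.Agent.Omega.CoTwoK.RankCo2.card_le
  intro a ha
  apply hinj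
  rw [map_mul, map_one, ← pow_two]
  exact hA _ ha

/-- **the field `co2` of `KFacts.Rows2`** -/
theorem co2 (K : Type u) [Group K] (h : Spor.IsoCo2 K) : KFacts.Tight.{u} K 22 10 := by
  obtain ⟨e⟩ := h
  have := Cfsg.Agent.Schreier.CoTwoStab.isSimpleGroup
  refine ⟨Or.inr (LBs.equiv e (LBs.of_23 ?_)), RK.equiv e rk, rfl⟩
  rw [Cfsg.Agent.Schreier.CoTwoStab.card]
  norm_num

theorem row (K : Type u) [Group K] (h : Spor.IsoCo2 K) : KFacts.Tight.{u} K 22 10 := co2 K h

end Cfsg.Agent.Omega.TwoF.RowCo2
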