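import Cfsg.Agent.Omega.TwoF.ChevHeis
import Cfsg.Agent.S1054

/-!
# `E₆(q)`, `q` odd: the Heisenberg bound `2 q ^ 10`
-/

set_option autoImplicit false

universe u v w

namespace Cfsg.Agent.Omega.TwoF.E6Odd

open Cfsg.Lie Cfsg.Agent.Omega.Lie.Heis Cfsg.Agent.Omega.TwoF.ChevHeis

/-- the pairs `(α, β, m)`, `α + β` the highest root -/
def prs : List (ℕ × ℕ × ℤ) :=
  [(70, 46, -1), (47, 69, -1), (48, 68, 1), (49, 67, -1), (50, 66, 1), (51, 65, -1), (52, 64, 1),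
   (63, 53, -1), (62, 54, 1), (61, 55, -1)]

/-- decompositions of roots -/
def ex : List (ℕ × ℕ × ℕ × ℕ × ℤ) :=
  [(71, 71, 46, 70, 1), (70, 70, 25, 71, 1), (47, 47, 2, 71, 1), (48, 48, 3, 71, -1),
   (49, 49, 4, 71, 1), (50, 50, 5, 71, -1), (51, 51, 6, 71, 1), (52, 52, 7, 71, -1),
   (63, 63, 18, 71, 1), (62, 62, 17, 71, -1), (61, 61, 16, 71, 1)]

theorem chk_eq : chk chevE6 71 1 prs ex = true := by decide +kernel

/-- **`LB` for `E₆(q)`, `q` odd.** -/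
theorem lb (F : Type u) [Field F] [Finite F] (h2 : (2 : F) ≠ 0) :
    LB.{u, v, w} (chevE6.group F) (2 * Nat.card F ^ 10) := by
  have := (Cfsg.Agent.S1054.result (F := F) chevE6 (by simp)).1
  exact lb_of_chk (by simp [Cfsg.Agent.ChevalleyStructure.Elts.InList]) F h2 chk_eq

end Cfsg.Agent.Omega.TwoF.E6Odd
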