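import Cfsg.Agent.Omega.TwoF.ChevHeis
import Cfsg.Agent.S1054

/-!
# `E₇(q)`, `q` odd: the Heisenberg bound `2 q ^ 16`
-/

set_option autoImplicit false

universe u v w

namespace Cfsg.Agent.Omega.TwoF.E7Odd

open Cfsg.Lie Cfsg.Agent.Omega.Lie.Heis Cfsg.Agent.Omega.TwoF.ChevHeis

/-- the pairs `(α, β, m)`, `α + β` the highest root -/
def prs : List (ℕ × ℕ × ℤ) :=
  [(124, 93, -1), (94, 123, -1), (95, 122, 1), (96, 121, -1), (97, 120, 1), (98, 119, -1),
   (99, 118, -1), (100, 117, 1), (101, 116, -1), (102, 115, 1), (103, 114, -1), (104, 113, 1),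
   (105, 112, -1), (106, 111, -1), (107, 110, 1), (108, 109, -1)]

/-- decompositions of roots -/
def ex : List (ℕ × ℕ × ℕ × ℕ × ℤ) :=
  [(125, 125, 93, 124, 1), (124, 124, 32, 125, 1), (94, 94, 2, 125, 1), (95, 95, 3, 125, -1),
   (96, 96, 4, 125, 1), (97, 97, 5, 125, -1), (98, 98, 6, 125, 1), (99, 99, 7, 125, 1),
   (100, 100, 8, 125, -1), (101, 101, 9, 125, 1), (102, 102, 10, 125, -1), (103, 103, 11, 125, 1),
   (104, 104, 12, 125, -1), (105, 105, 13, 125, 1), (106, 106, 14, 125, 1), (107, 107, 15, 125, -1),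
   (108, 108, 16, 125, 1)]

theorem chk_eq : chk chevE7 125 0 prs ex = true := by decide +kernel

/-- **`LB` for `E₇(q)`, `q` odd.** -/
theorem lb (F : Type u) [Field F] [Finite F] (h2 : (2 : F) ≠ 0) :
    LB.{u, v, w} (chevE7.group F) (2 * Nat.card F ^ 16) := by
  have := (Cfsg.Agent.S1054.result (F := F) chevE7 (by simp)).1
  exact lb_of_chk (by simp [Cfsg.Agent.ChevalleyStructure.Elts.InList]) F h2 chk_eq

end Cfsg.Agent.Omega.TwoF.E7Odd
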