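import Cfsg.Agent.Omega.TwoF.ChevHeis
import Cfsg.Agent.S1054

/-!
# `F₄(q)`, `q` odd: the Heisenberg bound `2 q ^ 7`
-/

set_option autoImplicit false

universe u v w

namespace Cfsg.Agent.Omega.TwoF.F4Odd

open Cfsg.Lie Cfsg.Agent.Omega.Lie.Heis Cfsg.Agent.Omega.TwoF.ChevHeis

/-- the pairs `(α, β, m)`, `α + β` the highest root -/
def prs : List (ℕ × ℕ × ℤ) :=
  [(46, 24, -1), (26, 45, 1), (29, 44, 2), (31, 43, -1), (42, 32, -1), (36, 40, 2), (38, 39, -2)]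

/-- decompositions of roots -/
def ex : List (ℕ × ℕ × ℕ × ℕ × ℤ) :=
  [(47, 47, 24, 46, 1), (46, 46, 23, 47, 1), (26, 46, 13, 36, -2), (26, 26, 2, 47, -1),
   (26, 31, 10, 39, 2), (26, 42, 10, 39, 2), (29, 29, 10, 40, -1), (31, 46, 14, 38, -2),
   (31, 31, 4, 47, 1), (31, 42, 12, 40, 2), (42, 46, 33, 38, 2), (42, 42, 15, 47, 1),
   (36, 36, 10, 44, -1), (38, 38, 12, 44, -1)]

theorem chk_eq : chk chevF4 47 3 prs ex = true := by decide +kernel

/-- **`LB` for `F₄(q)`, `q` odd.** -/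
theorem lb (F : Type u) [Field F] [Finite F] (h2 : (2 : F) ≠ 0) :
    LB.{u, v, w} (chevF4.group F) (2 * Nat.card F ^ 7) := by
  have := (Cfsg.Agent.S1054.result (F := F) chevF4 (by simp)).1
  exact lb_of_chk (by simp [Cfsg.Agent.ChevalleyStructure.Elts.InList]) F h2 chk_eq

end Cfsg.Agent.Omega.TwoF.F4Odd
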