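import Cfsg.Agent.Omega.Lie.HeisOdd
import Cfsg.Agent.ChevalleyStructure.Elts
import Cfsg.Agent.S1025
import Cfsg.Agent.S1032

/-!
# The Heisenberg bound for Chevalley groups over fields of odd order

`D` one of the tabulated Chevalley data, `ρ` a root, `prs` a list of pairs `(α, β, m)` of roots with `α + β = ρ`.
`chk D ρ i0 prs ex = true` is a finite check; it implies `LB (D.group F) (2 * |F| ^ prs.length)` for every finite
field of odd order for which `D.group F` is simple (`lb_of_chk`).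
-/

set_option autoImplicit false
set_option linter.style.haveILetI false

universe u u' v w

namespace Cfsg.Agent.Omega.TwoF.ChevHeis

open Cfsg.Lie Cfsg.Lie.ChevalleyDatum Cfsg.Agent.ChevalleyStructure Cfsg.Agent.ChevalleyStructure.Elts
  Cfsg.Agent.Omega.Lie.Heis Cfsg.Agent.Omega.Lie.HeisF

section defs

variable (D : ChevalleyDatum)

/-- the root groups of `r` and `s` commute -/
def cm (r s : ℕ) : Bool := r == s || (s != D.neg r && (D.commTerms r s).isEmpty)

/-- some `h_i(-1)` inverts one of the root groups and centralises the other -/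
def sp (r s : ℕ) : Bool := (List.range D.rank).any fun i => (D.cartan i r % 2 == 0) != (D.cartan i s % 2 == 0)

/-- `[X_β, X_γ] = X_r` with constant `m = ± 1, ± 2` -/
def br (β γ r : ℕ) (m : ℤ) : Bool := Nat.blt β D.nroots && (Nat.blt γ D.nroots && (γ != β && (γ != D.neg β &&
  (decide (D.commTerms β γ = [(r, m, 1, 1)]) && (m == 1 || m == -1 || m == 2 || m == -2)))))

/-- lifts commute, separated case -/
def l1 (r s : ℕ) : Bool := cm D r s && sp D r s

/-- lifts commute -/
def l2 (ex : List (ℕ × ℕ × ℕ × ℕ × ℤ)) (r s : ℕ) : Bool :=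
  l1 D r s || ex.any fun x => x.1 == r && (x.2.1 == s && (br D x.2.2.1 x.2.2.2.1 r x.2.2.2.2 &&
    (l1 D x.2.2.1 s && l1 D x.2.2.2.1 s)))

/-- the check for one pair -/
def chk1 (ρ i0 : ℕ) (ex : List (ℕ × ℕ × ℕ × ℕ × ℤ)) (p : ℕ × ℕ × ℤ) : Bool :=
  br D p.1 p.2.1 ρ p.2.2 && (D.cartan i0 p.1 % 2 != 0 && (D.cartan i0 p.2.1 % 2 == 0 &&
    (cm D ρ p.1 && (cm D ρ p.2.1 && (l2 D ex p.1 ρ && l2 D ex p.1 p.1)))))

/-- the check for two pairs -/
def chk2 (ex : List (ℕ × ℕ × ℕ × ℕ × ℤ)) (p q : ℕ × ℕ × ℤ) : Bool :=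
  cm D p.1 q.1 && (cm D p.2.1 q.1 && (cm D q.2.1 p.1 && (l2 D ex p.1 q.1 || l2 D ex q.1 p.1)))

/-- all pairs of a list -/
def pw {α : Type*} (f : α → α → Bool) : List α → Bool
  | [] => true
  | x :: l => l.all (f x) && pw f l

/-- the check -/
def chk (ρ i0 : ℕ) (prs : List (ℕ × ℕ × ℤ)) (ex : List (ℕ × ℕ × ℕ × ℕ × ℤ)) : Bool :=
  Nat.blt ρ D.nroots && (Nat.blt i0 D.rank && (D.cartan i0 ρ % 2 != 0 && (l2 D ex ρ ρ &&
    (prs.all (chk1 D ρ i0 ex) && pw (chk2 D ex) prs))))

end defs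

theorem pw_get {α : Type*} {f : α → α → Bool} {l : List α} (h : pw f l = true) :
    ∀ i j : Fin l.length, i < j → f (l.get i) (l.get j) = true := by
  have h1 : l.Pairwise fun x y => f x y = true := by
    induction l with
    | nil => exact List.Pairwise.nil
    | cons x l ih =>
      simp only [pw, Bool.and_eq_true] at h
      exact List.Pairwise.cons (fun y hy => List.all_eq_true.1 h.1 y hy) (ih h.2)
  exact List.pairwise_iff_get.1 h1

section elts

variable {D : ChevalleyDatum} (hD : InList D) {F : Type u} [Field F]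

/-- the root elements in the Chevalley group -/
def xK (r : ℕ) (t : F) : D.group F := ⟨xG hD r t, xG_mem_group hD r t⟩

/-- the involutions of the torus -/
def tK (F : Type u) [Field F] (i : ℕ) : D.group F := ⟨hG hD (D.simple i) (-1), hG_mem_group hD _ _⟩

theorem xK_add (r : ℕ) (t u : F) : xK hD r (t + u) = xK hD r t * xK hD r u :=
  Subtype.ext (xG_add hD r t u).symm

theorem xK_inv (r : ℕ) (t : F) : (xK hD r t)⁻¹ = xK hD r (-t) := Subtype.ext (xG_inv hD r t)

theorem xK_zero (r : ℕ) : xK hD r (0 : F) = 1 := Subtype.ext (xG_zero hD r)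

theorem xK_comm_self (r : ℕ) (t u : F) : xK hD r t * xK hD r u = xK hD r u * xK hD r t := by
  rw [← xK_add, ← xK_add, add_comm]

theorem tK_conj {i s : ℕ} (hi : i < D.rank) (hs : s < D.nroots) (t : F) :
    tK hD F i * xK hD s t * (tK hD F i)⁻¹ = xK hD s ((-1) ^ (D.cartan i s) * t) := by
  rw [mul_inv_eq_iff_eq_mul]
  apply Subtype.ext
  apply Units.ext
  show D.hMat F (D.simple i) (-1) * D.x F s t = _
  exact S1032.result D hD i s hi hs (-1) (neg_ne_zero.2 one_ne_zero) t

theorem tK_odd {i s : ℕ} (hi : i < D.rank) (hs : s < D.nroots) (h : (D.cartan i s % 2 != 0) = true) (t : F) :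
    tK hD F i * xK hD s t * (tK hD F i)⁻¹ = (xK hD s t)⁻¹ := by
  have h1 : Odd (D.cartan i s) := by
    rw [Int.odd_iff]
    have h2 : D.cartan i s % 2 ≠ 0 := by simpa using h
    omega
  rw [tK_conj hD hi hs, h1.neg_one_zpow, neg_one_mul, xK_inv]

theorem tK_even {i s : ℕ} (hi : i < D.rank) (hs : s < D.nroots) (h : (D.cartan i s % 2 == 0) = true) (t : F) :
    tK hD F i * xK hD s t * (tK hD F i)⁻¹ = xK hD s t := by
  have h1 : Even (D.cartan i s) := by
    rw [Int.even_iff]
    simpa using h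
  rw [tK_conj hD hi hs, h1.neg_one_zpow, one_mul]

theorem xK_word {r s : ℕ} (hr : r < D.nroots) (hs : s < D.nroots) (hrs : s ≠ r) (hneg : s ≠ D.neg r) (t u : F) :
    xK hD s u * xK hD r t = xK hD r t * xK hD s u *
      ⟨wordG hD (D.commWord F r s t u), wordG_mem_group hD _⟩ := by
  apply Subtype.ext
  apply Units.ext
  show D.x F s u * D.x F r t = D.x F r t * D.x F s u * ((wordG hD (D.commWord F r s t u) : GL D.Idx F) :
    Matrix D.Idx D.Idx F)
  rw [coe_wordG]
  exact S1025.result D hD r s hr hs hrs hneg t u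

theorem xK_commute {r s : ℕ} (hr : r < D.nroots) (hs : s < D.nroots) (h : cm D r s = true) (t u : F) :
    xK hD r t * xK hD s u = xK hD s u * xK hD r t := by
  simp only [cm, Bool.or_eq_true, Bool.and_eq_true, beq_iff_eq, bne_iff_ne, List.isEmpty_iff] at h
  by_cases hrs : r = s
  · subst hrs; exact xK_comm_self hD r t u
  · obtain ⟨h1, h2⟩ := h.resolve_left hrs
    have h3 := xK_word hD hr hs (Ne.symm hrs) h1 t u
    have h4 : D.commWord F r s t u = [] := by
      show (D.commTerms r s).map _ = []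
      rw [h2, List.map_nil]
    have h5 : (⟨wordG hD (D.commWord F r s t u), wordG_mem_group hD _⟩ : D.group F) = 1 := by
      apply Subtype.ext
      show wordG hD (D.commWord F r s t u) = 1
      rw [h4]; rfl
    rw [h5, mul_one] at h3
    exact h3.symm

theorem br_lt {β γ r : ℕ} {m : ℤ} (h : br D β γ r m = true) : β < D.nroots ∧ γ < D.nroots := by
  simp only [br, Bool.and_eq_true, Nat.blt_eq] at h
  exact ⟨h.1, h.2.1⟩

theorem br_ne (h2 : (2 : F) ≠ 0) {β γ r : ℕ} {m : ℤ} (h : br D β γ r m = true) : (m : F) ≠ 0 := by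
  simp only [br, Bool.and_eq_true, Bool.or_eq_true, beq_iff_eq] at h
  rcases h.2.2.2.2.2 with ((h | h) | h) | h
  · rw [h]; simp
  · rw [h]; simp
  · rw [h]; simpa using h2
  · rw [h]; simpa using h2

theorem xK_br {β γ r : ℕ} {m : ℤ} (h : br D β γ r m = true) (t u : F) :
    xK hD γ u * xK hD β t = xK hD β t * xK hD γ u * xK hD r (-(m * t * u)) := by
  simp only [br, Bool.and_eq_true, Nat.blt_eq, bne_iff_ne, decide_eq_true_eq] at h
  obtain ⟨hβ, hγ, h1, h2, h3, -⟩ := h
  have h4 := xK_word hD hβ hγ h1 h2 t u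
  have h5 : (⟨wordG hD (D.commWord F β γ t u), wordG_mem_group hD _⟩ : D.group F) = xK hD r (-(m * t * u)) := by
    apply Subtype.ext
    show wordG hD ((D.commTerms β γ).map fun c => (c.1, (c.2.1 : F) * (-t) ^ c.2.2.1 * u ^ c.2.2.2)) =
      xG hD r (-(m * t * u))
    rw [h3]
    simp only [List.map_cons, List.map_nil, wordG_cons, wordG_nil, mul_one, pow_one]
    congr 1
    ring
  rw [h5] at h4
  exact h4

theorem lc_l1 {r s : ℕ} (hr : r < D.nroots) (hs : s < D.nroots) (h : l1 D r s = true) (t u : F) :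
    LC.{u, v} (xK hD r t) (xK hD s u) := by
  simp only [l1, Bool.and_eq_true] at h
  obtain ⟨h1, h2⟩ := h
  obtain ⟨i, hi, h3⟩ := List.any_eq_true.1 h2
  rw [List.mem_range] at hi
  have hc := xK_commute hD hr hs h1 t u
  rcases Bool.eq_false_or_eq_true (D.cartan i r % 2 == 0) with h4 | h4
  · have h5 : (D.cartan i s % 2 != 0) = true := by
      rw [h4] at h3
      simpa using h3
    exact (LC.of_inv hc.symm (tK_odd hD hi hs h5 u) (tK_even hD hi hr h4 t)).symm
  · have h5 : (D.cartan i s % 2 == 0) = true := by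
      rw [h4] at h3
      simpa using h3
    have h6 : (D.cartan i r % 2 != 0) = true := by
      simpa using h4
    exact LC.of_inv hc (tK_odd hD hi hr h6 t) (tK_even hD hi hs h5 u)

theorem lc_br (h2 : (2 : F) ≠ 0) {β γ r s : ℕ} {m : ℤ} (hb : br D β γ r m = true) (hs : s < D.nroots)
    (h1 : l1 D β s = true) (h1' : l1 D γ s = true) (t u : F) : LC.{u, v} (xK hD r t) (xK hD s u) := by
  rw [← mem_cenLC]
  have h3 := xK_br hD hb (-((m : F)⁻¹ * t)) 1
  have h4 : -((m : F) * -((m : F)⁻¹ * t) * 1) = t := by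
    have := br_ne h2 hb
    field_simp
  rw [h4] at h3
  obtain ⟨hβ, hγ⟩ := br_lt hb
  have h5 : xK hD β (-((m : F)⁻¹ * t)) ∈ cenLC.{u, v} (xK hD s u) := lc_l1 hD hβ hs h1 _ _
  have h6 : xK hD γ (1 : F) ∈ cenLC.{u, v} (xK hD s u) := lc_l1 hD hγ hs h1' _ _
  have h7 : xK hD r t = (xK hD β (-((m : F)⁻¹ * t)) * xK hD γ 1)⁻¹ * (xK hD γ 1 * xK hD β (-((m : F)⁻¹ * t))) := by
    rw [h3]; group
  rw [h7]
  exact mul_mem (inv_mem (mul_mem h5 h6)) (mul_mem h6 h5)

theorem lc_l2 (h2 : (2 : F) ≠ 0) {ex : List (ℕ × ℕ × ℕ × ℕ × ℤ)} {r s : ℕ} (hr : r < D.nroots)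
    (hs : s < D.nroots) (h : l2 D ex r s = true) (t u : F) : LC.{u, v} (xK hD r t) (xK hD s u) := by
  simp only [l2, Bool.or_eq_true, List.any_eq_true, Bool.and_eq_true, beq_iff_eq] at h
  rcases h with h | ⟨x, -, -, -, h3, h4, h5⟩
  · exact lc_l1 hD hr hs h t u
  · exact lc_br hD h2 h3 hs h4 h5 t u

end elts

theorem two_le_order {r : ℕ} (hr : r.Prime) (hr2 : r ≠ 2) : 2 ≤ orderOf (2 : ZMod r) := by
  haveI : Fact r.Prime := ⟨hr⟩
  have h3 : 2 < r := lt_of_le_of_ne hr.two_le (Ne.symm hr2)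
  have h1 : orderOf (2 : ZMod r) ≠ 0 := by
    intro h
    have h2 : (2 : ZMod r) ≠ 0 := by
      intro h0
      have := (ZMod.natCast_eq_zero_iff 2 r).1 (by exact_mod_cast h0)
      exact absurd (Nat.le_of_dvd (by norm_num) this) (by omega)
    exact (orderOf_pos_iff.2 (isOfFinOrder_iff_pow_eq_one.2
      ⟨r - 1, by omega, ZMod.pow_card_sub_one_eq_one h2⟩)).ne' h
  have h2 : orderOf (2 : ZMod r) ≠ 1 := by
    intro h
    have h0 := orderOf_eq_one_iff.1 h
    have h4 : (1 : ZMod r) = 0 := by linear_combination h0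
    exact one_ne_zero h4
  omega

/-- **The Heisenberg row of a Chevalley group.** -/
theorem lb_of_chk {D : ChevalleyDatum} (hD : InList D) (F : Type u) [Field F] [Finite F] (h2 : (2 : F) ≠ 0)
    [IsSimpleGroup (D.group F)] {ρ i0 : ℕ} {prs : List (ℕ × ℕ × ℤ)} {ex : List (ℕ × ℕ × ℕ × ℕ × ℤ)}
    (h : chk D ρ i0 prs ex = true) : LB.{u, v, w} (D.group F) (2 * Nat.card F ^ prs.length) := by
  obtain ⟨r, hrc⟩ := CharP.exists F
  have hr : r.Prime := (CharP.char_is_prime_or_zero F r).resolve_right (CharP.char_ne_zero_of_finite F r)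
  haveI : Fact r.Prime := ⟨hr⟩
  have hr2 : r ≠ 2 := by
    rintro rfl
    exact h2 (by exact_mod_cast CharP.cast_eq_zero F 2)
  simp only [chk, Bool.and_eq_true, Nat.blt_eq, List.all_eq_true] at h
  obtain ⟨hρ, hi0, hρo, hρρ, h1, hpw⟩ := h
  have hget := pw_get hpw
  have hp : ∀ j : Fin prs.length, chk1 D ρ i0 ex (prs.get j) = true := fun j => h1 _ (prs.get_mem j)
  simp only [chk1, Bool.and_eq_true] at hp
  have hlt : ∀ j, (prs.get j).1 < D.nroots ∧ (prs.get j).2.1 < D.nroots := fun j => br_lt (hp j).1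
  have hAA0 : ∀ i j, i < j → chk2 D ex (prs.get i) (prs.get j) = true := hget
  simp only [chk2, Bool.and_eq_true, Bool.or_eq_true] at hAA0
  have hAAc : ∀ i j, cm D (prs.get i).1 (prs.get j).1 = true ∨ cm D (prs.get j).1 (prs.get i).1 = true := by
    intro i j
    rcases lt_trichotomy i j with h | h | h
    · exact Or.inl (hAA0 i j h).1
    · subst h; left; simp [cm]
    · exact Or.inr (hAA0 j i h).1
  have hBA : ∀ i j, i ≠ j → cm D (prs.get i).2.1 (prs.get j).1 = true := by
    intro i j hij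
    rcases lt_or_gt_of_ne hij with h | h
    · exact (hAA0 i j h).2.1
    · exact (hAA0 j i h).2.2.1
  have hconj : ∀ (j : Fin prs.length) (t u : F), xK hD (prs.get j).2.1 t * xK hD (prs.get j).1 u *
      (xK hD (prs.get j).2.1 t)⁻¹ = xK hD (prs.get j).1 u * xK hD ρ (-((prs.get j).2.2 : F) * t * u) := by
    intro j t u
    have e1 := xK_commute hD hρ (hlt j).2 (hp j).2.2.2.2.1 (-(((prs.get j).2.2 : F) * u * t)) t
    have e2 : -((prs.get j).2.2 : F) * t * u = -(((prs.get j).2.2 : F) * u * t) := by ring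
    rw [mul_inv_eq_iff_eq_mul, xK_br hD (hp j).1, e2, mul_assoc (xK hD (prs.get j).1 u),
      mul_assoc (xK hD (prs.get j).1 u), e1]
  have hFH : FH r prs.length (xK hD ρ (F := F)) (fun j => xK hD (prs.get j).1) (fun j => xK hD (prs.get j).2.1)
      (fun j => -((prs.get j).2.2 : F)) := by
    refine ⟨xK_add hD ρ, fun j t => ?_, fun j t u => ?_, fun j t u => ?_, fun i j t u => ?_, fun i j hij t u => ?_,
      hconj, fun j => neg_ne_zero.2 (br_ne h2 (hp j).1)⟩
    · have h3 : ∀ n : ℕ, xK hD (prs.get j).1 t ^ n = xK hD (prs.get j).1 ((n : F) * t) := by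
        intro n
        induction n with
        | zero => rw [pow_zero, Nat.cast_zero, zero_mul, xK_zero]
        | succ n ih => rw [pow_succ, ih, ← xK_add]; congr 1; push_cast; ring
      rw [h3, CharP.cast_eq_zero, zero_mul, xK_zero]
    · exact xK_commute hD hρ (hlt j).1 (hp j).2.2.2.1 t u
    · exact xK_commute hD hρ (hlt j).2 (hp j).2.2.2.2.1 t u
    · rcases hAAc i j with h | h
      · exact xK_commute hD (hlt i).1 (hlt j).1 h t u
      · exact (xK_commute hD (hlt j).1 (hlt i).1 h u t).symm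
    · exact xK_commute hD (hlt i).2 (hlt j).1 (hBA i j hij) t u
  have h5 := LB.fh.{u, v, w, u} hr2 hFH (s := tK hD F i0) (fun t => tK_odd hD hi0 hρ hρo t)
    (fun j t => tK_odd hD hi0 (hlt j).1 (hp j).2.1 t) (fun j t => tK_even hD hi0 (hlt j).2 (hp j).2.2.1 t)
    (fun t u => lc_l2 hD h2 hρ hρ hρρ t u)
    (fun j t u => (lc_l2 hD h2 (hlt j).1 hρ (hp j).2.2.2.2.2.1 u t).symm)
    (fun i j t u => by
      rcases lt_trichotomy i j with h | h | h
      · rcases (hAA0 i j h).2.2.2 with h' | h'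
        · exact lc_l2 hD h2 (hlt i).1 (hlt j).1 h' t u
        · exact (lc_l2 hD h2 (hlt j).1 (hlt i).1 h' u t).symm
      · subst h
        exact lc_l2 hD h2 (hlt i).1 (hlt i).1 (hp i).2.2.2.2.2.2 t u
      · rcases (hAA0 j i h).2.2.2 with h' | h'
        · exact (lc_l2 hD h2 (hlt j).1 (hlt i).1 h' u t).symm
        · exact lc_l2 hD h2 (hlt i).1 (hlt j).1 h' t u)
    ⟨1, fun h => one_ne_zero ((xG_eq_one_iff hD hρ (1 : F)).1 (congrArg Subtype.val h))⟩
  intro L _ _ π hπ hc ho hL V _ _ hV φ hφ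
  refine le_trans (Nat.pow_le_pow_right (by norm_num) ?_) (h5 L π hπ hc ho hL V hV φ hφ)
  exact Nat.mul_le_mul_right _ (two_le_order hr hr2)

theorem LB.of_equiv {K : Type u} {K' : Type u'} [Group K] [Group K'] (e : K ≃* K') {m : ℕ} (h : LB.{u, v, w} K m) :
    LB.{u', v, w} K' m := by
  intro L _ _ π hπ hc ho hL V _ _ hV φ hφ
  have hk : (e.symm.toMonoidHom.comp π).ker = π.ker := by
    ext x
    rw [MonoidHom.mem_ker, MonoidHom.mem_ker]
    exact e.symm.map_eq_one_iff
  refine h L (e.symm.toMonoidHom.comp π) (e.symm.surjective.comp hπ) (by rw [hk]; exact hc) (by rw [hk]; exact ho)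
    hL V hV φ hφ

end Cfsg.Agent.Omega.TwoF.ChevHeis
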