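import Cfsg.Agent.Omega.TwoF.Rk
import Cfsg.Agent.Omega.TwoF.ChevHeis
import Cfsg.Agent.ChevalleyStructure.Reach
import Cfsg.Agent.S1031

/-!
# A crude upper bound for the 2-rank of the automorphism group

* `card_aut_of_gen`: `K` generated by `d` elements, `|K| ≤ 2 ^ k`: `|Aut K| ≤ 2 ^ (d * k)`;
* `exists_gen`: the Chevalley group `D.group F` is generated by `2 * rank * e` elements, `|F| = p ^ e`;
* `card_aut_chev`: `|Aut (D.group F)| ≤ 2 ^ (2 * rank * dim * (|F| - 1))` if `|D.group F| ≤ |F| ^ dim`, `|F|` odd.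
-/

set_option autoImplicit false
set_option linter.style.haveILetI false

universe u v w

namespace Cfsg.Agent.Omega.TwoF.RkGen

open Cfsg.Agent.Omega.TwoF.Rk

section gen

variable {K : Type u} [Group K] [Finite K]

theorem card_mulAut_le (S : Finset K) (hS : Subgroup.closure (S : Set K) = ⊤) :
    Nat.card (MulAut K) ≤ Nat.card K ^ S.card := by
  have hinj : Function.Injective (fun (f : MulAut K) (s : S) => f (s : K)) := by
    intro f g hfg
    have h1 : f.toMonoidHom = g.toMonoidHom := by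
      apply MonoidHom.eq_of_eqOn_dense hS
      intro s hs
      exact congrFun hfg ⟨s, hs⟩
    exact MulEquiv.ext fun x => DFunLike.congr_fun h1 x
  have h1 := Nat.card_le_card_of_injective _ hinj
  have h2 : Nat.card S = S.card := by rw [Nat.card_eq_fintype_card, Fintype.card_coe]
  rwa [Nat.card_fun, h2] at h1

theorem card_aut_of_gen {d k : ℕ} (S : Finset K) (hS : Subgroup.closure (S : Set K) = ⊤) (hd : S.card ≤ d)
    (hk : Nat.card K ≤ 2 ^ k) : Nat.card (MulAut K) ≤ 2 ^ (d * k) := by
  have hpos : 0 < Nat.card K := Nat.card_pos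
  calc Nat.card (MulAut K) ≤ Nat.card K ^ S.card := card_mulAut_le S hS
    _ ≤ Nat.card K ^ d := Nat.pow_le_pow_right hpos hd
    _ ≤ (2 ^ k) ^ d := Nat.pow_le_pow_left hk d
    _ = 2 ^ (d * k) := by rw [← pow_mul, mul_comm]

theorem rk_of_card_aut {a : ℕ} (h : Nat.card (MulAut K) ≤ 2 ^ a) : RK.{v} K a := by
  intro X _ _ N _ ⟨f⟩ hc A _
  have h1 : Nat.card A ≤ Nat.card X := Nat.card_le_card_of_injective _ Subtype.val_injective
  have h2 : Nat.card X ≤ Nat.card (MulAut K) := Nat.le_of_dvd Nat.card_pos (card_dvd N f hc)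
  exact h1.trans (h2.trans h)

end gen

theorem sq_mul_le {p : ℕ} (hp : 3 ≤ p) (e : ℕ) : e ^ 2 * (p - 1) + 1 ≤ p ^ e := by
  obtain ⟨m, rfl⟩ : ∃ m, p = m + 3 := ⟨p - 3, by omega⟩
  have h0 : m + 3 - 1 = m + 2 := by omega
  rw [h0]
  induction e with
  | zero => simp
  | succ e ih =>
    rcases Nat.eq_zero_or_pos e with he | he
    · subst he; simp
    · obtain ⟨k, rfl⟩ : ∃ k, e = k + 1 := ⟨e - 1, by omega⟩
      have h1 : ((k + 1) ^ 2 * (m + 2) + 1) * (m + 3) =
          ((k + 1 + 1) ^ 2 * (m + 2) + 1) + (m + 2) * (k + 1) * (k * m + 2 * k + m) := by ring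
      have h2 := Nat.mul_le_mul_right (m + 3) ih
      rw [pow_succ (m + 3) (k + 1)]
      exact (Nat.le.intro h1.symm).trans h2

theorem mem_of_basis {K : Type u} [Group K] {F : Type v} [AddCommGroup F] {p : ℕ} [Fact p.Prime]
    [Module (ZMod p) F] {ι : Type w} (b : Module.Basis ι (ZMod p) F) {x : F → K}
    (hx : ∀ t u, x (t + u) = x t * x u) {H : Subgroup K} (h : ∀ i, x (b i) ∈ H) (t : F) : x t ∈ H := by
  let T : Submodule (ZMod p) F :=
    { carrier := {t | x t ∈ H}
      zero_mem' := by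
        show x 0 ∈ H
        rw [Cfsg.Agent.Omega.Lie.HeisF.X_zero hx]
        exact one_mem H
      add_mem' := fun {a c} ha hc => by
        show x (a + c) ∈ H
        rw [hx]
        exact mul_mem ha hc
      smul_mem' := fun c a ha => by
        show x (c • a) ∈ H
        rw [Cfsg.Agent.Omega.Lie.HeisF.X_smul hx]
        exact pow_mem ha _ }
  have h1 : Submodule.span (ZMod p) (Set.range b) ≤ T := by
    rw [Submodule.span_le]
    rintro _ ⟨i, rfl⟩
    exact h i
  rw [b.span_eq] at h1
  exact h1 Submodule.mem_top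

section chev

open Cfsg.Lie Cfsg.Lie.ChevalleyDatum Cfsg.Agent.ChevalleyStructure Cfsg.Agent.ChevalleyStructure.Elts
  Cfsg.Agent.Omega.TwoF.ChevHeis

variable {D : ChevalleyDatum} (hD : InList D) {F : Type u} [Field F]

/-- A subgroup containing the root groups of the fundamental roots and their negatives is everything. -/
theorem eq_top_of_simple {H : Subgroup (D.group F)} (h1 : ∀ i < D.rank, ∀ t : F, xK hD (D.simple i) t ∈ H)
    (h2 : ∀ i < D.rank, ∀ t : F, xK hD (D.neg (D.simple i)) t ∈ H) : H = ⊤ := by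
  have hall : ∀ s < D.nroots, ∀ t : F, xK hD s t ∈ H := by
    refine Reach.reach hD (fun s => ∀ t : F, xK hD s t ∈ H) h1 ?_
    intro i hi s hs hP t
    obtain ⟨η, hη, hc⟩ := Cfsg.Agent.S1031.result (F := F) D hD i s hi hs
    have hn : (⟨nG hD (D.simple i) 1, nG_mem_group hD _ _⟩ : D.group F) ∈ H := by
      have h3 : (⟨nG hD (D.simple i) 1, nG_mem_group hD _ _⟩ : D.group F) =
          xK hD (D.simple i) 1 * (xK hD (D.neg (D.simple i)) (-1⁻¹) * xK hD (D.simple i) 1) := by
        apply Subtype.ext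
        show nG hD (D.simple i) 1 = xG hD (D.simple i) 1 * (xG hD (D.neg (D.simple i)) (-1⁻¹) * xG hD (D.simple i) 1)
        rw [nG_def]
      rw [h3]
      exact mul_mem (h1 i hi 1) (mul_mem (h2 i hi _) (h1 i hi 1))
    have h4 : (⟨nG hD (D.simple i) 1, nG_mem_group hD _ _⟩ : D.group F) * xK hD s ((η : F) * t) =
        xK hD (D.reflectRoot i s) t * ⟨nG hD (D.simple i) 1, nG_mem_group hD _ _⟩ := by
      apply Subtype.ext
      apply Units.ext
      have h5 := hc ((η : F) * t)
      have h6 : (η : F) * ((η : F) * t) = t := by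
        rcases hη with rfl | rfl <;> simp
      rw [h6] at h5
      exact h5
    have h7 : xK hD (D.reflectRoot i s) t = (⟨nG hD (D.simple i) 1, nG_mem_group hD _ _⟩ : D.group F) *
        xK hD s ((η : F) * t) * (⟨nG hD (D.simple i) 1, nG_mem_group hD _ _⟩ : D.group F)⁻¹ := by
      rw [h4]; group
    rw [h7]
    exact mul_mem (mul_mem hn (hP _)) (inv_mem hn)
  have h8 : D.group F ≤ H.map (D.group F).subtype := by
    rw [group_le_iff hD]
    intro r hr t
    exact ⟨xK hD r t, hall r hr t, rfl⟩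
  rw [eq_top_iff]
  rintro g -
  obtain ⟨g', hg', he⟩ := h8 g.2
  have : g' = g := Subtype.ext he
  rwa [← this]

include hD in
theorem exists_gen [Finite F] {p : ℕ} [Fact p.Prime] [Algebra (ZMod p) F] : ∃ S : Finset (D.group F),
    Subgroup.closure (S : Set (D.group F)) = ⊤ ∧ S.card ≤ 2 * D.rank * Module.finrank (ZMod p) F := by
  classical
  haveI : Module.Finite (ZMod p) F := Module.Finite.of_finite
  let b := Module.finBasis (ZMod p) F
  let f : (Fin D.rank × Bool) × Fin (Module.finrank (ZMod p) F) → D.group F := fun a =>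
    xK hD (if a.1.2 then D.simple a.1.1 else D.neg (D.simple a.1.1)) (b a.2)
  refine ⟨Finset.univ.image f, ?_, ?_⟩
  · have hf : ∀ a, f a ∈ Subgroup.closure ((Finset.univ.image f : Finset (D.group F)) : Set (D.group F)) :=
      fun a => Subgroup.subset_closure (by simp)
    apply eq_top_of_simple hD
    · intro i hi
      exact mem_of_basis b (xK_add hD _) fun j => hf ((⟨i, hi⟩, true), j)
    · intro i hi
      exact mem_of_basis b (xK_add hD _) fun j => hf ((⟨i, hi⟩, false), j)
  · refine Finset.card_image_le.trans ?_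
    rw [Finset.card_univ, Fintype.card_prod, Fintype.card_prod, Fintype.card_fin, Fintype.card_bool,
      Fintype.card_fin, mul_comm D.rank 2]

/-- the numerical estimate -/
theorem card_aut_le_of_gen {K : Type v} [Group K] [Finite K] {p e m n : ℕ} (hp3 : 3 ≤ p)
    (S : Finset K) (hS : Subgroup.closure (S : Set K) = ⊤) (hSc : S.card ≤ m * e)
    (hn : Nat.card K ≤ (p ^ e) ^ n) : Nat.card (MulAut K) ≤ 2 ^ (m * n * (p ^ e - 1)) := by
  have hk : Nat.card K ≤ 2 ^ ((p - 1) * (e * n)) := by
    refine hn.trans ?_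
    rw [← pow_mul, pow_mul 2]
    apply Nat.pow_le_pow_left
    have := Nat.lt_two_pow_self (n := p - 1)
    omega
  refine (card_aut_of_gen S hS hSc hk).trans (Nat.pow_le_pow_right (by norm_num) ?_)
  have h4 := sq_mul_le hp3 e
  have h5 : e ^ 2 * (p - 1) ≤ p ^ e - 1 := by omega
  calc m * e * ((p - 1) * (e * n)) = m * n * (e ^ 2 * (p - 1)) := by ring
    _ ≤ _ := Nat.mul_le_mul_left _ h5

include hD in
/-- **The automorphism group of a Chevalley group.** -/
theorem card_aut_chev [Finite F] (h2 : (2 : F) ≠ 0) {n : ℕ} (hn : Nat.card (D.group F) ≤ Nat.card F ^ n) :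
    Nat.card (MulAut (D.group F)) ≤ 2 ^ (2 * D.rank * n * (Nat.card F - 1)) := by
  obtain ⟨p, hpc⟩ := CharP.exists F
  have hp : p.Prime := (CharP.char_is_prime_or_zero F p).resolve_right (CharP.char_ne_zero_of_finite F p)
  haveI : Fact p.Prime := ⟨hp⟩
  have hp2 : p ≠ 2 := by
    rintro rfl
    exact h2 (by exact_mod_cast CharP.cast_eq_zero F 2)
  have hp3 : 3 ≤ p := lt_of_le_of_ne hp.two_le (Ne.symm hp2)
  letI : Algebra (ZMod p) F := ZMod.algebra F p
  haveI : Module.Finite (ZMod p) F := Module.Finite.of_finite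
  have hcard : Nat.card F = p ^ Module.finrank (ZMod p) F := by
    rw [Module.natCard_eq_pow_finrank (K := ZMod p) (V := F), Nat.card_zmod]
  obtain ⟨S, hS, hSc⟩ := exists_gen hD (F := F) (p := p)
  rw [hcard] at hn ⊢
  exact card_aut_le_of_gen hp3 S hS hSc hn

end chev

end Cfsg.Agent.Omega.TwoF.RkGen
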