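import Cfsg.Agent.Omega.EH3.Row
import Cfsg.Agent.Omega.TwoF.Bridge
import Cfsg.Agent.Omega.TwoF.RkGen
import Cfsg.Agent.Omega.TwoF.F4Odd
import Cfsg.Agent.Omega.TwoF.E6Odd
import Cfsg.Agent.Omega.TwoF.E7Odd
import Cfsg.Agent.Omega.TwoF.E8Odd
import Cfsg.Agent.S1062
import Cfsg.Agent.S1063
import Cfsg.Agent.S1064
import Cfsg.Agent.S1065
import Cfsg.Prelude.Def_LieTypeChar

/-!
# TABLE 2F: the rows `F₄(q)`, `E₆(q)`, `E₇(q)`, `E₈(q)`, `q` odd

`LB`: `2 q ^ 7`, `2 q ^ 10`, `2 q ^ 16`, `2 q ^ 28` (Heisenberg bound, all odd covers);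
`RK`: `416 (q - 1)`, `936 (q - 1)`, `1862 (q - 1)`, `3968 (q - 1)` (`|Aut K| ≤ |K| ^ d`).
-/

set_option autoImplicit false

universe u v

namespace Cfsg.Agent.Omega.TwoF.RowExc

open Cfsg Cfsg.Lie Cfsg.Agent.Omega.TwoF Cfsg.Agent.Omega.EH3 Cfsg.Agent.Omega.TwoF.ChevHeis

theorem center_bot {K : Type u} [Group K] (h : IsSimpleGroup K ∧ ¬ IsMulCommutative K) : Subgroup.center K = ⊥ := by
  have := h.1
  refine ((inferInstance : (Subgroup.center K).Normal).eq_bot_or_eq_top).resolve_right fun h1 => h.2 ?_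
  exact ⟨⟨fun a b => (Subgroup.mem_center_iff.1 (h1 ▸ Subgroup.mem_top a) b).symm⟩⟩

theorem rk_of_aut {K : Type u} [Group K] [Finite K] {a : ℕ} (h : Nat.card (MulAut K) ≤ 2 ^ a) : TwoF.RK K a := by
  intro A _
  exact (Nat.card_le_card_of_injective _ Subtype.val_injective).trans h

theorem three_le {F : Type v} [Field F] [Finite F] (h2 : (2 : F) ≠ 0) : 3 ≤ Nat.card F := by
  have h1 : 1 < Nat.card F := Finite.one_lt_card
  by_contra hcon
  have h3 : Nat.card F = 2 := by omega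
  have : Fintype F := Fintype.ofFinite F
  have h4 : ((Fintype.card F : ℕ) : F) = 0 := Nat.cast_card_eq_zero F
  rw [← Nat.card_eq_fintype_card, h3] at h4
  exact h2 (by exact_mod_cast h4)

theorem pow_sub_le (q k : ℕ) : q ^ k - 1 ≤ q ^ k := Nat.sub_le _ _

theorem card_F4 (F : Type v) [Field F] [Finite F] : Nat.card (chevF4.group F) ≤ Nat.card F ^ 52 := by
  have : Fintype F := Fintype.ofFinite F
  rw [Cfsg.Agent.S1062.result (F := F) rfl, ← Nat.card_eq_fintype_card]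
  generalize Nat.card F = q
  calc q ^ 24 * (q ^ 2 - 1) * (q ^ 6 - 1) * (q ^ 8 - 1) * (q ^ 12 - 1) ≤
      q ^ 24 * q ^ 2 * q ^ 6 * q ^ 8 * q ^ 12 := by
        gcongr <;> exact pow_sub_le _ _
    _ = q ^ 52 := by ring

theorem card_E6 (F : Type v) [Field F] [Finite F] : Nat.card (chevE6.group F) ≤ Nat.card F ^ 78 := by
  have : Fintype F := Fintype.ofFinite F
  have h := Cfsg.Agent.S1063.result (F := F) rfl
  rw [← Nat.card_eq_fintype_card] at h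
  generalize Nat.card F = q at h ⊢
  have hg : 1 ≤ Nat.gcd 3 (q - 1) := Nat.gcd_pos_of_pos_left _ (by norm_num)
  calc Nat.card (chevE6.group F) ≤ Nat.gcd 3 (q - 1) * Nat.card (chevE6.group F) := Nat.le_mul_of_pos_left _ hg
    _ = q ^ 36 * (q ^ 2 - 1) * (q ^ 5 - 1) * (q ^ 6 - 1) * (q ^ 8 - 1) * (q ^ 9 - 1) * (q ^ 12 - 1) := h
    _ ≤ q ^ 36 * q ^ 2 * q ^ 5 * q ^ 6 * q ^ 8 * q ^ 9 * q ^ 12 := by
        gcongr <;> exact pow_sub_le _ _
    _ = q ^ 78 := by ring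

theorem card_E7 (F : Type v) [Field F] [Finite F] : Nat.card (chevE7.group F) ≤ Nat.card F ^ 133 := by
  have : Fintype F := Fintype.ofFinite F
  have h := Cfsg.Agent.S1064.result (F := F) rfl
  rw [← Nat.card_eq_fintype_card] at h
  generalize Nat.card F = q at h ⊢
  have hg : 1 ≤ Nat.gcd 2 (q - 1) := Nat.gcd_pos_of_pos_left _ (by norm_num)
  calc Nat.card (chevE7.group F) ≤ Nat.gcd 2 (q - 1) * Nat.card (chevE7.group F) := Nat.le_mul_of_pos_left _ hg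
    _ = q ^ 63 * (q ^ 2 - 1) * (q ^ 6 - 1) * (q ^ 8 - 1) * (q ^ 10 - 1) * (q ^ 12 - 1) * (q ^ 14 - 1) *
      (q ^ 18 - 1) := h
    _ ≤ q ^ 63 * q ^ 2 * q ^ 6 * q ^ 8 * q ^ 10 * q ^ 12 * q ^ 14 * q ^ 18 := by
        gcongr <;> exact pow_sub_le _ _
    _ = q ^ 133 := by ring

theorem card_E8 (F : Type v) [Field F] [Finite F] : Nat.card (chevE8.group F) ≤ Nat.card F ^ 248 := by
  have : Fintype F := Fintype.ofFinite F
  rw [Cfsg.Agent.S1065.result (F := F) rfl, ← Nat.card_eq_fintype_card]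
  generalize Nat.card F = q
  calc q ^ 120 * (q ^ 2 - 1) * (q ^ 8 - 1) * (q ^ 12 - 1) * (q ^ 14 - 1) * (q ^ 18 - 1) * (q ^ 20 - 1) *
      (q ^ 24 - 1) * (q ^ 30 - 1) ≤ q ^ 120 * q ^ 2 * q ^ 8 * q ^ 12 * q ^ 14 * q ^ 18 * q ^ 20 * q ^ 24 * q ^ 30 := by
        gcongr <;> exact pow_sub_le _ _
    _ = q ^ 248 := by ring

/-- the inequality `2 c (q - 1) + 2 < 2 q ^ (k + 1)` if `c < 3 ^ k` -/
theorem num {q c k : ℕ} (hq : 3 ≤ q) (hc : c < 3 ^ k) : 2 * (c * (q - 1)) + 2 < 2 * q ^ (k + 1) := by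
  obtain ⟨m, rfl⟩ : ∃ m, q = m + 3 := ⟨q - 3, by omega⟩
  have h0 : m + 3 - 1 = m + 2 := by omega
  have h1 : (3 : ℕ) ^ k ≤ (m + 3) ^ k := Nat.pow_le_pow_left (by omega) k
  have h3 := Nat.mul_le_mul_right (m + 2) (Nat.succ_le_of_lt (hc.trans_le h1))
  rw [h0, pow_succ]
  nlinarith [h3, Nat.zero_le ((m + 3) ^ k)]

/-- **`Dead2` from the Heisenberg bound and the crude rank bound.** -/
theorem dead_of {D : ChevalleyDatum} (hD : ChevalleyStructure.Elts.InList D) {F : Type v} [Field F] [Finite F]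
    (h2 : (2 : F) ≠ 0) {n k : ℕ} (hn : Nat.card (D.group F) ≤ Nat.card F ^ n)
    (hlb : Lie.Heis.LB.{v, u, u} (D.group F) (2 * Nat.card F ^ (k + 1))) (hc : 2 * D.rank * n < 3 ^ k)
    (hs : IsSimpleGroup (D.group F) ∧ ¬ IsMulCommutative (D.group F)) : RowEH3.{u} (D.group F) := by
  have := hs.1
  refine RowEH3.of_dead (center_bot hs) (Dead2.of_lb (LB.of_heis hlb)
    (rk_of_aut (RkGen.card_aut_chev hD h2 hn)) ?_)
  exact num (three_le h2) hc

theorem row_F4 {F : Type v} [Field F] [Finite F] (h2 : (2 : F) ≠ 0) : RowEH3.{u} (chevF4.group F) :=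
  dead_of (by simp) h2 (card_F4 F) (F4Odd.lb F h2) (by decide) (Cfsg.Agent.S1054.result (F := F) chevF4 (by simp))

theorem row_E6 {F : Type v} [Field F] [Finite F] (h2 : (2 : F) ≠ 0) : RowEH3.{u} (chevE6.group F) :=
  dead_of (by simp) h2 (card_E6 F) (E6Odd.lb F h2) (by decide) (Cfsg.Agent.S1054.result (F := F) chevE6 (by simp))

theorem row_E7 {F : Type v} [Field F] [Finite F] (h2 : (2 : F) ≠ 0) : RowEH3.{u} (chevE7.group F) :=
  dead_of (by simp) h2 (card_E7 F) (E7Odd.lb F h2) (by decide) (Cfsg.Agent.S1054.result (F := F) chevE7 (by simp))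

theorem row_E8 {F : Type v} [Field F] [Finite F] (h2 : (2 : F) ≠ 0) : RowEH3.{u} (chevE8.group F) :=
  dead_of (by simp) h2 (card_E8 F) (E8Odd.lb F h2) (by decide) (Cfsg.Agent.S1054.result (F := F) chevE8 (by simp))

theorem two_ne {p : ℕ} (hp : p.Prime) (hp2 : p ≠ 2) (F : Type v) [Field F] [CharP F p] : (2 : F) ≠ 0 := by
  intro h
  have h1 : ((2 : ℕ) : F) = 0 := by exact_mod_cast h
  rw [CharP.cast_eq_zero_iff F p] at h1
  exact hp2 ((Nat.prime_dvd_prime_iff_eq hp Nat.prime_two).1 h1)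

/-- **The row `chev`**, from the row of `G₂(q)`. -/
theorem chev_of_G2 (hG2 : ∀ (F : Type) [Field F] [Fintype F], (2 : F) ≠ 0 → RowEH3.{u} (chevG2.group F))
    (K : Type u) [Group K] (h : ∃ p : ℕ, p.Prime ∧ p ≠ 2 ∧ IsExceptionalChevChar p K) : RowEH3.{u} K := by
  obtain ⟨p, hp, hp2, F, _, _, _, h⟩ := h
  have h2 : (2 : F) ≠ 0 := two_ne hp hp2 F
  rcases h with ⟨-, ⟨e⟩⟩ | ⟨⟨e⟩⟩ | ⟨⟨e⟩⟩ | ⟨⟨e⟩⟩ | ⟨⟨e⟩⟩
  · exact (hG2 F h2).equiv e
  · exact (row_F4 h2).equiv e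
  · exact (row_E6 h2).equiv e
  · exact (row_E7 h2).equiv e
  · exact (row_E8 h2).equiv e

end Cfsg.Agent.Omega.TwoF.RowExc
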