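import Cfsg.Agent.Omega.TwoF.RowFiLB
import Cfsg.Agent.Omega.TwoF.SimpleTool
import Cfsg.Agent.Omega.TwoF.RowTool
import Cfsg.Agent.Omega.KFacts
import Cfsg.Agent.Fischer.Fi22Order
import Cfsg.Agent.Fischer.Fi23Simple
import Cfsg.Agent.Fischer.Fi24Index
import Cfsg.Agent.Fischer.Fi24Spider
import Cfsg.Agent.R08.FiTwentyFour
import Cfsg.Agent.OddHalf.Table.OutFi22
import Cfsg.Agent.KFacts.FiTTh.Has
import Cfsg.Agent.KFacts.FiTF.FrameF

/-!
# TABLE 2F: the rows `Fi22`, `Fi23`, `Fi24'` (helper703; `LB` by helper871)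

`|V| ≥ 2 ^ 54` (`RowFiLB`) and `m_2(Aut K) ≤ v_2 |Aut K| ≤ 22`.
-/

set_option autoImplicit false

namespace Cfsg.Agent.Omega.TwoF.RowFi

open Subgroup
open Cfsg.Spor (Fi22 Fi23 Fi24')

universe u v w

/-! ### Tools -/

/-- if the product of two outer automorphisms is inner then `|Out|` divides 2 -/
theorem index_dvd_two {A : Type*} [Group A] (I : Subgroup A) (h : ∀ a b : A, a ∉ I → b ∉ I → a * b ∈ I) :
    I.index ∣ 2 := by
  by_cases hI : I = ⊤
  · rw [hI, index_top]
    exact one_dvd _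
  · obtain ⟨a, ha⟩ : ∃ a, a ∉ I := by
      by_contra hcon
      push Not at hcon
      exact hI (eq_top_iff.2 fun x _ => hcon x)
    have h2 : I.index = 2 := by
      rw [index_eq_two_iff]
      refine ⟨a, fun b => ?_⟩
      by_cases hb : b ∈ I
      · exact Or.inr ⟨hb, fun h3 => ha ((I.mul_mem_cancel_left hb).1 h3)⟩
      · exact Or.inl ⟨h b a hb ha, hb⟩
    rw [h2]

/-- not commutative -/
theorem not_comm {K : Type*} [Group K] [Finite K] [IsSimpleGroup K] (h : ¬ (Nat.card K).Prime) :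
    ¬ ∀ a b : K, a * b = b * a := by
  intro h1
  have h2 := SimpleTool.center_eq_bot h
  have h3 : center K = ⊤ := eq_top_iff.2 fun x _ => mem_center_iff.2 fun y => h1 y x
  exact bot_ne_top (h2.symm.trans h3)

/-! ### `Fi22` -/

theorem isFi22 : Cfsg.IsFi22 Fi22 := ⟨Cfsg.Agent.Fischer.Fi22Order.isSimple, Cfsg.Agent.Fischer.Fi22Order.card_fi22⟩

theorem card_fi22 : Nat.card Fi22 = 64561751654400 := isFi22.2

theorem finite_fi22 : Finite Fi22 := Nat.finite_of_card_ne_zero (by rw [card_fi22]; norm_num)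

theorem center_fi22 : center Fi22 = ⊥ := by
  have := isFi22.1
  have := finite_fi22
  exact SimpleTool.center_eq_bot (by rw [card_fi22]; norm_num)

theorem index_fi22 : (MulAut.conj : Fi22 →* MulAut Fi22).range.index ∣ 2 := by
  apply index_dvd_two
  intro α β hα hβ
  obtain ⟨x, hx⟩ := Cfsg.Agent.OddHalf.Table.OutFi22.mul_outer α β (fun x hx => hα ⟨x, hx.symm⟩)
    (fun x hx => hβ ⟨x, hx.symm⟩)
  exact ⟨x, hx.symm⟩

/-- **RK** -/
theorem rk_fi22 : Rk.RK.{v} Fi22 18 := by
  have := finite_fi22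
  exact SimpleTool.rk_of_index center_fi22 index_fi22 (by rw [card_fi22]; norm_num)

theorem dead_fi22 : Dead2.{u} Fi22 := by
  have := isFi22.1
  have := finite_fi22
  exact RowTool.dead center_fi22 (RowFiLB.lb_fi22 (not_comm (by rw [card_fi22]; norm_num))) rk_fi22 (by norm_num)

/-- **Row `Fi22` of TABLE 2F.** -/
theorem row_fi22 : KFacts.KillRow.{u} @Cfsg.Spor.IsoFi22 := by
  rintro K _ ⟨e⟩
  have := isFi22.1
  exact (dead_fi22.kill center_fi22 inferInstance).equiv e

/-! ### `Fi23` -/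

theorem isFi23 : Cfsg.IsFi23 Fi23 := Cfsg.Agent.Fischer.Fi23Simple.isFi23

theorem card_fi23 : Nat.card Fi23 = 4089470473293004800 := isFi23.2

theorem finite_fi23 : Finite Fi23 := Nat.finite_of_card_ne_zero (by rw [card_fi23]; norm_num)

theorem center_fi23 : center Fi23 = ⊥ := by
  have := isFi23.1
  have := finite_fi23
  exact SimpleTool.center_eq_bot (by rw [card_fi23]; norm_num)

/-- **RK** -/
theorem rk_fi23 : Rk.RK.{v} Fi23 18 := by
  have := finite_fi23
  refine SimpleTool.rk_of_inner center_fi23 (fun φ => ?_) (by rw [card_fi23]; norm_num)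
  obtain ⟨g, hg⟩ := Cfsg.Agent.KFacts.FiTTh.Has.inn φ
  exact ⟨g, hg.symm⟩

theorem dead_fi23 : Dead2.{u} Fi23 := by
  have := isFi23.1
  have := finite_fi23
  exact RowTool.dead center_fi23 (RowFiLB.lb_fi23 (not_comm (by rw [card_fi23]; norm_num))) rk_fi23 (by norm_num)

/-- **Row `Fi23` of TABLE 2F.** -/
theorem row_fi23 : KFacts.KillRow.{u} @Cfsg.Spor.IsoFi23 := by
  rintro K _ ⟨e⟩
  have := isFi23.1
  exact (dead_fi23.kill center_fi23 inferInstance).equiv e

/-! ### `Fi24'` -/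

theorem isFi24 : Cfsg.IsFi24' Fi24' := Cfsg.Agent.R08.FiTwentyFour.isFi24'

theorem card_fi24 : Nat.card Fi24' = 1255205709190661721292800 := isFi24.2

theorem finite_fi24 : Finite Fi24' := Nat.finite_of_card_ne_zero (by rw [card_fi24]; norm_num)

theorem center_fi24 : center Fi24' = ⊥ := by
  have := isFi24.1
  have := finite_fi24
  exact SimpleTool.center_eq_bot (by rw [card_fi24]; norm_num)

/-- **RK** -/
theorem rk_fi24 : Rk.RK.{v} Fi24' 22 := by
  have := finite_fi24
  exact SimpleTool.rk_of_index center_fi24 Cfsg.Agent.KFacts.FiTF.out (by rw [card_fi24]; norm_num)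

/-- the spider relation -/
theorem spider : Cfsg.Agent.Fischer.Derived.ev (fun i => RowFiLB.gx (RowFiLB.nd i))
    Cfsg.Agent.Fischer.Derived.spider ^ 10 = 1 := by
  have h := Cfsg.Agent.Fischer.Fi24Spider.s_eq_one
    (Cfsg.Agent.Fischer.Fi24RepOrb.index_and_suborbits Cfsg.Agent.Fischer.Fi24Index.index_le.2
      Cfsg.Agent.Fischer.Fi24Index.index_le.1).2.1
  have h8 : Cfsg.Agent.Fischer.Fi24Spider.s8 = fun i => RowFiLB.gx (RowFiLB.nd i) := by
    funext i
    fin_cases i <;> rfl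
  unfold Cfsg.Agent.Fischer.Fi24Spider.s Cfsg.Agent.Fischer.Fi24Spider.t Cfsg.Agent.Fischer.Fi24Spider.sp at h
  rw [h8] at h
  exact h

theorem dead_fi24 : Dead2.{u} Fi24' := by
  have := isFi24.1
  have := finite_fi24
  exact RowTool.dead center_fi24 (RowFiLB.lb_fi24 spider) rk_fi24 (by norm_num)

/-- **Row `Fi24'` of TABLE 2F.** -/
theorem row_fi24 : KFacts.KillRow.{u} @Cfsg.Spor.IsoFi24' := by
  rintro K _ ⟨e⟩
  have := isFi24.1
  exact (dead_fi24.kill center_fi24 inferInstance).equiv e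

end Cfsg.Agent.Omega.TwoF.RowFi
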