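import Cfsg.Agent.Omega.Lie.HeisOdd
import Cfsg.Agent.S1025
import Cfsg.Agent.S1032
import Cfsg.Agent.ChevalleyStructure.Elts

/-!
# The lower bound for `G₂(q)`, `q` odd (TABLE 2F)

The unipotent radical `⟨X_b, X_{3a+b}, X_{3a+2b}⟩` of the long root `SL₃(q)` is a Heisenberg configuration over `F`:
`LB (G₂(q)) (ord_p(2) * q)` in all odd covers.
-/

set_option autoImplicit false

namespace Cfsg.Agent.Omega.TwoF.GTwoLB

open Cfsg Cfsg.Lie Cfsg.Agent.ChevalleyStructure Cfsg.Agent.ChevalleyStructure.Elts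
  Cfsg.Agent.Omega.Lie.HeisF Cfsg.Agent.Omega.Lie

universe u v w

variable {F : Type u} [Field F]

theorem inG2 : InList chevG2 := by simp

/-- root elements -/
noncomputable def X (r : ℕ) (t : F) : ↥(chevG2.group F) := ⟨xG inG2 r t, xG_mem_group inG2 r t⟩

theorem X_add (r : ℕ) (t u : F) : X r (t + u) = X r t * X r u := Subtype.ext (xG_add inG2 r t u).symm

theorem X_zero (r : ℕ) : X r (0 : F) = 1 := Subtype.ext (xG_zero inG2 r)

theorem X_neg (r : ℕ) (t : F) : X r (-t) = (X r t)⁻¹ := by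
  rw [eq_inv_iff_mul_eq_one, ← X_add, neg_add_cancel, X_zero]

theorem X_eq_one {r : ℕ} (hr : r < 12) {t : F} : X r t = 1 ↔ t = 0 := by
  constructor
  · intro h
    exact (xG_eq_one_iff inG2 (r := r) hr t).1 (congrArg Subtype.val h)
  · rintro rfl
    exact X_zero r

theorem X_pow (r n : ℕ) (t : F) : X r t ^ n = X r (n * t) := by
  induction n with
  | zero => rw [pow_zero, Nat.cast_zero, zero_mul, X_zero]
  | succ n ih => rw [pow_succ, ih, ← X_add]; congr 1; push_cast; ring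

theorem X_comm (r : ℕ) (t u : F) : X r t * X r u = X r u * X r t := by
  rw [← X_add, ← X_add, add_comm]

/-- commuting root elements -/
theorem rel0 {r s : ℕ} (hr : r < 12) (hs : s < 12) (hrs : s ≠ r) (hneg : s ≠ chevG2.neg r)
    (h : chevG2.commTerms r s = []) (t u : F) : X s u * X r t = X r t * X s u := by
  apply Subtype.ext
  refine Units.ext ?_
  show chevG2.x F s u * chevG2.x F r t = chevG2.x F r t * chevG2.x F s u
  have h1 := S1025.result (F := F) chevG2 inG2 r s hr hs hrs hneg t u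
  rw [ChevalleyDatum.commWord, h] at h1
  rw [h1]
  show _ * chevG2.wordMat F [] = _
  rw [wordMat_nil, mul_one]

/-- the commutator of two root elements in one root group -/
theorem rel1 {r s k : ℕ} {c : ℤ} (hr : r < 12) (hs : s < 12) (hrs : s ≠ r) (hneg : s ≠ chevG2.neg r)
    (h : chevG2.commTerms r s = [(k, c, 1, 1)]) (t u : F) :
    X s u * X r t = X r t * X s u * X k ((c : F) * (-t) * u) := by
  apply Subtype.ext
  refine Units.ext ?_
  show chevG2.x F s u * chevG2.x F r t = chevG2.x F r t * chevG2.x F s u * chevG2.x F k ((c : F) * (-t) * u)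
  have h1 := S1025.result (F := F) chevG2 inG2 r s hr hs hrs hneg t u
  rw [ChevalleyDatum.commWord, h] at h1
  rw [h1]
  show _ * chevG2.wordMat F [(k, (c : F) * (-t) ^ 1 * u ^ 1)] = _
  rw [wordMat_cons, wordMat_nil, mul_one, pow_one, pow_one]

/-- the elements `h_p(c)` of the torus -/
noncomputable def H (i : ℕ) (c : F) : ↥(chevG2.group F) :=
  ⟨hG inG2 (chevG2.simple i) c, hG_mem_group inG2 _ _⟩

theorem H_conj {i s : ℕ} (hi : i < 2) (hs : s < 12) {c : F} (hc : c ≠ 0) (t : F) :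
    H i c * X s t * (H i c)⁻¹ = X s (c ^ (chevG2.cartan i s) * t) := by
  rw [mul_inv_eq_iff_eq_mul]
  apply Subtype.ext
  refine Units.ext ?_
  show ((hG inG2 (chevG2.simple i) c * xG inG2 s t : GL chevG2.Idx F) : Matrix chevG2.Idx chevG2.Idx F) =
    ((xG inG2 s (c ^ (chevG2.cartan i s) * t) * hG inG2 (chevG2.simple i) c : GL chevG2.Idx F) :
      Matrix chevG2.Idx chevG2.Idx F)
  rw [Units.val_mul, Units.val_mul, coe_xG, coe_xG, coe_hG]
  exact S1032.result (F := F) chevG2 inG2 i s hi hs c hc t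

/-- the elements `h_p(-1)` of the torus -/
noncomputable def T (F : Type u) [Field F] (i : ℕ) : ↥(chevG2.group F) := H i (-1)

theorem T_conj {i s : ℕ} (hi : i < 2) (hs : s < 12) (t : F) :
    T F i * X s t * (T F i)⁻¹ = X s ((-1) ^ (chevG2.cartan i s) * t) :=
  H_conj hi hs (neg_ne_zero.2 one_ne_zero) t

theorem T_inv {i s : ℕ} (hi : i < 2) (hs : s < 12) (h : Odd (chevG2.cartan i s)) (t : F) :
    T F i * X s t * (T F i)⁻¹ = (X s t)⁻¹ := by
  rw [T_conj hi hs, h.neg_one_zpow, neg_one_mul, X_neg]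

theorem T_fix {i s : ℕ} (hi : i < 2) (hs : s < 12) (h : Even (chevG2.cartan i s)) (t : F) :
    T F i * X s t * (T F i)⁻¹ = X s t := by
  rw [T_conj hi hs, h.neg_one_zpow, one_mul]

/-! ### The Heisenberg configuration: `X 11`, `X 6`, `X 10` -/

theorem c11_6 (t u : F) : X 11 t * X 6 u = X 6 u * X 11 t :=
  rel0 (r := 6) (s := 11) (by norm_num) (by norm_num) (by decide) (by decide) (by decide +kernel) u t

theorem c11_10 (t u : F) : X 11 t * X 10 u = X 10 u * X 11 t :=
  rel0 (r := 10) (s := 11) (by norm_num) (by norm_num) (by decide) (by decide) (by decide +kernel) u t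

theorem c1_6 (t u : F) : X 1 t * X 6 u = X 6 u * X 1 t :=
  rel0 (r := 6) (s := 1) (by norm_num) (by norm_num) (by decide) (by decide) (by decide +kernel) u t

/-- `[x_10(t), x_6(u)] = x_11(-t u)` -/
theorem conj10_6 (t u : F) : X 10 t * X 6 u * (X 10 t)⁻¹ = X 6 u * X 11 (-1 * t * u) := by
  have h := rel1 (r := 10) (s := 6) (k := 11) (c := -1) (by norm_num) (by norm_num) (by decide) (by decide)
    (by decide +kernel) t u
  rw [mul_inv_eq_iff_eq_mul, mul_assoc, c11_10, ← mul_assoc, h]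
  rw [mul_assoc (X 10 t * X 6 u), ← X_add]
  have e : ((-1 : ℤ) : F) * -t * u + -1 * t * u = 0 := by push_cast; ring
  rw [e, X_zero, mul_one]

/-- `[x_11, x_1] = x_6` -/
theorem comm11_1 (t : F) : X 6 t = (X 11 t)⁻¹ * (X 1 1)⁻¹ * X 11 t * X 1 1 := by
  have h := rel1 (r := 1) (s := 11) (k := 6) (c := -1) (by norm_num) (by norm_num) (by decide) (by decide)
    (by decide +kernel) (1 : F) t
  have e : ((-1 : ℤ) : F) * -1 * t = t := by push_cast; ring
  rw [e] at h
  rw [show (X 11 t)⁻¹ * (X 1 1)⁻¹ * X 11 t * X 1 1 = (X 11 t)⁻¹ * (X 1 1)⁻¹ * (X 11 t * X 1 1) by group, h]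
  group

/-- `x_11` is a commutator of `x_10` and `x_6` -/
theorem comm10_6 (t : F) : X 11 t = (X 6 1)⁻¹ * (X 10 (-t) * X 6 1 * (X 10 (-t))⁻¹) := by
  rw [conj10_6, inv_mul_cancel_left]
  congr 1
  ring

section LC

theorem lc11_6 (t u : F) : LC.{u, v} (X 11 t) (X 6 u) :=
  LC.of_inv (s := T F 1) (c11_6 t u) (T_inv (by norm_num) (by norm_num) (by decide) t)
    (T_fix (by norm_num) (by norm_num) (by decide) u)

theorem lc11_10 (t u : F) : LC.{u, v} (X 11 t) (X 10 u) :=
  LC.symm (LC.of_inv (s := T F 0) (c11_10 t u).symm (T_inv (by norm_num) (by norm_num) (by decide) u)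
    (T_fix (by norm_num) (by norm_num) (by decide) t))

theorem lc1_6 (t u : F) : LC.{u, v} (X 1 t) (X 6 u) :=
  LC.of_inv (s := T F 1) (c1_6 t u) (T_inv (by norm_num) (by norm_num) (by decide) t)
    (T_fix (by norm_num) (by norm_num) (by decide) u)

theorem lc11_11 (t u : F) : LC.{u, v} (X 11 t) (X 11 u) := by
  have h6 : ∀ s : F, X 6 s ∈ cenLC.{u, v} (X 11 u) := fun s => mem_cenLC.2 (lc11_6 u s).symm
  have h10 : ∀ s : F, X 10 s ∈ cenLC.{u, v} (X 11 u) := fun s => mem_cenLC.2 (lc11_10 u s).symm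
  rw [← mem_cenLC, comm10_6 t]
  exact mul_mem (inv_mem (h6 1)) (mul_mem (mul_mem (h10 _) (h6 1)) (inv_mem (h10 _)))

theorem lc6_6 (t u : F) : LC.{u, v} (X 6 t) (X 6 u) := by
  have h11 : ∀ s : F, X 11 s ∈ cenLC.{u, v} (X 6 u) := fun s => mem_cenLC.2 (lc11_6 s u)
  have h1 : ∀ s : F, X 1 s ∈ cenLC.{u, v} (X 6 u) := fun s => mem_cenLC.2 (lc1_6 s u)
  rw [← mem_cenLC, comm11_1 t]
  exact mul_mem (mul_mem (mul_mem (inv_mem (h11 _)) (inv_mem (h1 _))) (h11 _)) (h1 _)

end LC

/-- **The lower bound** `ord_p(2) q` for `G₂(q)` in all odd covers. -/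
theorem lb [Finite F] {p : ℕ} [Fact p.Prime] [CharP F p] (hp2 : p ≠ 2) [IsSimpleGroup ↥(chevG2.group F)] :
    Heis.LB.{u, v, w} ↥(chevG2.group F) (orderOf (2 : ZMod p) * Nat.card F) := by
  have hH : FH p 1 (X (F := F) 11) (fun _ => X 6) (fun _ => X 10) (fun _ => (-1 : F)) :=
    { add := X_add 11
      A_pow := fun _ t => by rw [X_pow, CharP.cast_eq_zero, zero_mul, X_zero]
      XA := fun _ t u => c11_6 t u
      XB := fun _ t u => c11_10 t u
      AA := fun _ _ t u => X_comm 6 t u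
      BA := fun i j hij => absurd (Subsingleton.elim i j) hij
      conj := fun _ t u => conj10_6 t u
      c_ne := fun _ => neg_ne_zero.2 one_ne_zero }
  have h := LB.fh.{u, v, w} hp2 hH (s := T F 0 * T F 1)
    (fun t => by
      have e : T F 0 * T F 1 * X 11 t * (T F 0 * T F 1)⁻¹ = T F 0 * (T F 1 * X 11 t * (T F 1)⁻¹) * (T F 0)⁻¹ := by
        group
      rw [e, T_inv (by norm_num) (by norm_num) (by decide), ← X_neg, T_fix (by norm_num) (by norm_num) (by decide)])
    (fun _ t => by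
      have e : T F 0 * T F 1 * X 6 t * (T F 0 * T F 1)⁻¹ = T F 0 * (T F 1 * X 6 t * (T F 1)⁻¹) * (T F 0)⁻¹ := by
        group
      show T F 0 * T F 1 * X 6 t * (T F 0 * T F 1)⁻¹ = (X 6 t)⁻¹
      rw [e, T_fix (by norm_num) (by norm_num) (by decide), T_inv (by norm_num) (by norm_num) (by decide)])
    (fun _ t => by
      have e : T F 0 * T F 1 * X 10 t * (T F 0 * T F 1)⁻¹ = T F 0 * (T F 1 * X 10 t * (T F 1)⁻¹) * (T F 0)⁻¹ := by
        group
      show T F 0 * T F 1 * X 10 t * (T F 0 * T F 1)⁻¹ = X 10 t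
      rw [e, T_inv (by norm_num) (by norm_num) (by decide), ← X_neg,
        T_inv (by norm_num) (by norm_num) (by decide), ← X_neg, neg_neg])
    lc11_11 (fun _ => lc11_6) (fun _ _ => lc6_6) ⟨1, fun h => one_ne_zero ((X_eq_one (by norm_num)).1 h)⟩
  rwa [pow_one] at h

end Cfsg.Agent.Omega.TwoF.GTwoLB
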