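import Cfsg.Agent.Omega.TwoF.GTwoInn
import Cfsg.Agent.Omega.TwoF.GTwoOut
import Cfsg.Agent.Omega.TwoF.Bridge
import Cfsg.Agent.ClassificationK.GTwoSylow
import Cfsg.Agent.S1055
import Cfsg.Agent.S1059

/-!
# TABLE 2F: the groups `G₂(q)`, `q` odd

`RK 4` if the field is prime (inner part 3, outer part 1), `RK 6` in general; `LB (ord_p(2) q)`, so `LB 18` if the
field is not prime.
-/

set_option autoImplicit false

namespace Cfsg.Agent.Omega.TwoF.RowGTwo

open Cfsg Cfsg.Lie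

universe u v

theorem two_ne {F : Type*} [Field F] {p : ℕ} [CharP F p] (hp : p.Prime) (hp2 : p ≠ 2) : (2 : F) ≠ 0 := by
  intro h
  have h3 : ((2 : ℕ) : F) = 0 := by exact_mod_cast h
  rw [CharP.cast_eq_zero_iff F p] at h3
  exact hp2 ((Nat.prime_dvd_prime_iff_eq hp Nat.prime_two).1 h3)

theorem two_le_order {p : ℕ} (hp : p.Prime) (hp2 : p ≠ 2) : 2 ≤ orderOf (2 : ZMod p) := by
  haveI : Fact p.Prime := ⟨hp⟩
  have h2 : (2 : ZMod p) ≠ 0 := two_ne hp hp2
  have h4 : 0 < orderOf (2 : ZMod p) := by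
    rw [orderOf_pos_iff, isOfFinOrder_iff_pow_eq_one]
    exact ⟨p - 1, by have := hp.two_le; omega, ZMod.pow_card_sub_one_eq_one h2⟩
  have h5 : orderOf (2 : ZMod p) ≠ 1 := by
    intro h
    rw [orderOf_eq_one_iff] at h
    have h6 : (1 : ZMod p) = 0 := by
      have : (2 : ZMod p) = 1 + 1 := by norm_num
      rw [this] at h
      simpa using h
    exact one_ne_zero h6
  omega

/-- in a field with more than `p` elements there are at least `p²` -/
theorem card_cases {F : Type*} [Field F] [Fintype F] {p : ℕ} [CharP F p] (hp2 : p ≠ 2) :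
    (∀ σ : RingAut F, σ = 1) ∨ 9 ≤ Fintype.card F := by
  obtain ⟨n, hp, hn⟩ := FiniteField.card F p
  have h3 : 3 ≤ p := by
    have := hp.two_le
    omega
  by_cases h1 : (n : ℕ) = 1
  · left
    apply Out.ringAut_eq_one
    rw [Nat.card_eq_fintype_card, hn, h1, pow_one]
    exact hp
  · right
    have h4 : 2 ≤ (n : ℕ) := by
      have := n.pos
      omega
    rw [hn]
    calc 9 = 3 ^ 2 := by norm_num
      _ ≤ p ^ 2 := Nat.pow_le_pow_left h3 2
      _ ≤ p ^ (n : ℕ) := Nat.pow_le_pow_right (by omega) h4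

section

variable {F : Type v} [Field F]

theorem simple' (h2 : (2 : F) ≠ 0) : IsSimpleGroup ↥(chevG2.group F) ∧ ¬ IsMulCommutative ↥(chevG2.group F) := by
  refine S1055.result ⟨-1, neg_ne_zero.2 one_ne_zero, fun h => h2 ?_⟩
  have : (2 : F) = 1 - (-1) := by ring
  rw [this, h, sub_self]

theorem center_eq_bot (h2 : (2 : F) ≠ 0) : Subgroup.center ↥(chevG2.group F) = ⊥ := by
  obtain ⟨h1, h3⟩ := simple' h2
  rcases h1.eq_bot_or_eq_top_of_normal (Subgroup.center ↥(chevG2.group F)) inferInstance with h | h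
  · exact h
  · exact absurd ⟨⟨fun a b => (Subgroup.mem_center_iff.1 (h ▸ Subgroup.mem_top a : a ∈ Subgroup.center _) b).symm⟩⟩ h3

variable [Fintype F]

theorem odd_card {p : ℕ} [CharP F p] (hp2 : p ≠ 2) : Odd (Fintype.card F) := by
  obtain ⟨n, hp, hn⟩ := FiniteField.card F p
  rw [hn]
  exact (hp.odd_of_ne_two hp2).pow

/-- the inner part -/
theorem card_le (hF : Odd (Fintype.card F)) (E : Subgroup ↥(chevG2.group F)) (hE : ∀ x ∈ E, x * x = 1) :
    Nat.card E ≤ 2 ^ 3 := by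
  have : Finite ↥(chevG2.group F) := inferInstance
  refine GTwoInn.card_le_of_sylow' (fun P => ?_) E hE
  obtain ⟨k, -, h⟩ := ClassificationK.GTwoSylow.exists_equiv hF (S1059.result rfl) P
  exact ⟨2 * 2 ^ k, by positivity, h⟩

/-- the column RK -/
theorem rk {p : ℕ} [CharP F p] (hp : p.Prime) (hp2 : p ≠ 2) :
    RK ↥(chevG2.group F) 6 ∧ ((∀ σ : RingAut F, σ = 1) → RK ↥(chevG2.group F) 4) := by
  have h2 : (2 : F) ≠ 0 := two_ne hp hp2
  have hs := (simple' h2).1
  have h := GTwoOut.outRk (F := F) h2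
  have hi := card_le (F := F) (odd_card hp2)
  exact ⟨Out.rk_of_out hi (center_eq_bot h2) h.1, fun hσ => Out.rk_of_out hi (center_eq_bot h2) (h.2 hσ)⟩

/-- **the groups `G₂(q)`**, `q` odd. -/
theorem dead2 {p : ℕ} [Fact p.Prime] [CharP F p] (hp2 : p ≠ 2) : Dead2.{u, v} ↥(chevG2.group F) := by
  have hp : p.Prime := Fact.out
  have h2 : (2 : F) ≠ 0 := two_ne hp hp2
  have hs := (simple' h2).1
  obtain ⟨hr6, hr4⟩ := rk (F := F) hp hp2
  rcases card_cases (F := F) (p := p) hp2 with h5 | h5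
  · exact Dead2.of_rk (hr4 h5)
  · refine Dead2.of_lb (LB.of_heis (GTwoLB.lb.{v, u, u} (F := F) (p := p) hp2)) hr6 ?_
    have ho := two_le_order hp hp2
    rw [Nat.card_eq_fintype_card]
    calc 2 * 6 + 2 < 2 * 9 := by norm_num
      _ ≤ orderOf (2 : ZMod p) * Fintype.card F := Nat.mul_le_mul ho h5

theorem kill2 {p : ℕ} [Fact p.Prime] [CharP F p] (hp2 : p ≠ 2) : Kill2.{u, v} ↥(chevG2.group F) := by
  have h2 : (2 : F) ≠ 0 := two_ne (p := p) Fact.out hp2
  have hs := (simple' h2).1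
  exact (dead2 (p := p) hp2).kill (center_eq_bot h2) hs.toNontrivial

end

/-- **the row `G₂(q)`**, `q` odd, for any isomorphic copy. -/
theorem kill {K : Type u} [Group K] {F : Type} [Field F] [Fintype F] {p : ℕ} [CharP F p] (hp : p.Prime) (hp2 : p ≠ 2)
    (e : Nonempty (K ≃* ↥(chevG2.group F))) : Kill2.{u} K := by
  have : Fact p.Prime := ⟨hp⟩
  obtain ⟨e⟩ := e
  exact (kill2.{u, 0} (F := F) (p := p) hp2).equiv e

end Cfsg.Agent.Omega.TwoF.RowGTwo
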