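import Cfsg.Agent.Omega.TwoF.HN5.Heis
import Cfsg.Agent.Omega.TwoF.Bridge
import Cfsg.Agent.KFacts.HN.Sheet
import Cfsg.Agent.S1701

set_option autoImplicit false

/-!
# TABLE 2F, row `HN` (helper473)

`LB 36` through an explicit `5^{1+4}` (`Omega.TwoF.HN5`), `RK 16` through the order of the automorphism group.
-/

namespace Cfsg.Agent.Omega.TwoF.RowHN

open Cfsg.Agent.HN.P1408

universe u v w

theorem orderOf_two_five : orderOf (2 : ZMod 5) = 4 := by
  refine orderOf_eq_prime_pow (p := 2) (n := 1) ?_ ?_ <;> decide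

theorem orderOf_two_nineteen : orderOf (2 : ZMod 19) = 18 := by
  refine orderOf_eq_of_pow_and_pow_div_prime (by norm_num) (by decide) ?_
  intro p hp hd
  have h1 : p ∈ Nat.divisors 18 := Nat.mem_divisors.2 ⟨hd, by norm_num⟩
  have h2 : Nat.divisors 18 = {1, 2, 3, 6, 9, 18} := by decide
  rw [h2] at h1
  simp only [Finset.mem_insert, Finset.mem_singleton] at h1
  rcases h1 with rfl | rfl | rfl | rfl | rfl | rfl
  · exact absurd hp (by norm_num)
  · decide
  · decide
  · exact absurd hp (by norm_num)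
  · exact absurd hp (by norm_num)
  · exact absurd hp (by norm_num)

theorem finite_HN : Finite Cfsg.Spor.HN :=
  Nat.finite_of_card_ne_zero (by rw [Cfsg.Agent.S1701.result.2]; norm_num)

theorem lb : Lie.Heis.LB.{0, v, w} Cfsg.Spor.HN 36 := by
  have hs := Cfsg.Agent.S1701.result.1
  have := finite_HN
  refine Lie.Heis.LB.heis (heis hs) (by norm_num) z_ne' (p := 19) (by norm_num) (by norm_num) ?_ ?_ ?_
  · rw [Cfsg.Agent.S1701.result.2]; norm_num
  · rw [orderOf_two_five]; norm_num
  · rw [orderOf_two_five, orderOf_two_nineteen]; decide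

theorem center_eq_bot : Subgroup.center Cfsg.Spor.HN = ⊥ := by
  have hs := Cfsg.Agent.S1701.result.1
  rcases (inferInstance : (Subgroup.center Cfsg.Spor.HN).Normal).eq_bot_or_eq_top with h1 | h1
  · exact h1
  · exfalso
    have h2 : ∀ a c : Cfsg.Spor.HN, a * c = c * a := by
      intro a c
      have h3 : c ∈ Subgroup.center Cfsg.Spor.HN := by rw [h1]; exact Subgroup.mem_top _
      exact Subgroup.mem_center_iff.1 h3 a
    have h3 := st hs
    rw [h2 sE, mul_inv_cancel_right, eq_comm, mul_eq_left] at h3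
    exact z_ne' h3

theorem rk : Rk.RK.{v} Cfsg.Spor.HN 16 := by
  have := finite_HN
  refine Rk.rk_of_elt (e := 15) (k := 0) ?_ 1 (by rw [orderOf_one, pow_zero]) (by norm_num)
  have hc : Nat.card Cfsg.Spor.HN = 2 ^ 14 * 16664484375 := by
    rw [Cfsg.Agent.S1701.result.2]
    norm_num
  rcases Cfsg.Agent.KFacts.HN.out_index with h | h
  · have h1 := Rk.card_mulAut center_eq_bot h
    rw [h1, hc, one_mul, Nat.factorization_mul (by norm_num) (by norm_num),
      Nat.Prime.factorization_pow Nat.prime_two, Finsupp.add_apply, Finsupp.single_eq_same,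
      Nat.factorization_eq_zero_of_not_dvd (by norm_num)]
    norm_num
  · have h1 := Rk.card_mulAut center_eq_bot h
    have h2 : (2 * (2 ^ 14 * 16664484375) : ℕ) = 2 ^ 15 * 16664484375 := by norm_num
    rw [h1, hc, h2, Nat.factorization_mul (by norm_num) (by norm_num),
      Nat.Prime.factorization_pow Nat.prime_two, Finsupp.add_apply, Finsupp.single_eq_same,
      Nat.factorization_eq_zero_of_not_dvd (by norm_num)]

theorem dead : Dead2.{u} Cfsg.Spor.HN :=
  have := finite_HN
  Dead2.of_lb (LB.of_heis lb) (RK.of_rk center_eq_bot rk) (by norm_num)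

/-- **the row `HN` of TABLE 2F** -/
theorem row (K : Type u) [Group K] (h : Cfsg.Spor.IsoHN K) : Kill2.{u} K := by
  obtain ⟨e⟩ := h
  have hs := Cfsg.Agent.S1701.result.1
  exact (dead.kill center_eq_bot inferInstance).equiv e

end Cfsg.Agent.Omega.TwoF.RowHN
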