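import Cfsg.Prelude.Def_Sporadic
import Cfsg.Agent.Omega.Lie.HeisCover

/-!
# Degree lower bounds for the small sporadic groups, all perfect covers with odd kernel

`LB K m`: every nontrivial action of a finite perfect central extension of `K` with odd kernel on a finite abelian
`2`-group `V` has `|V| ≥ 2 ^ m`. Here from one prime divisor `p` of `|K|`: `m = ord_p(2)`.
-/

set_option autoImplicit false
set_option linter.style.haveILetI false

universe u v w

namespace Cfsg.Agent.Omega.TwoF

open Cfsg.Agent.Omega.Lie.Heis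

/-- `2 ^ k ≠ 1` for `0 < k < m` in `ZMod p`, by computation: `m ≤ ord_p(2)`. -/
theorem le_orderOf_two {p m : ℕ} [NeZero p] (hfin : IsOfFinOrder (2 : ZMod p))
    (h : ∀ k < m, 0 < k → (2 : ZMod p) ^ k ≠ 1) : m ≤ orderOf (2 : ZMod p) := by
  by_contra hlt
  push Not at hlt
  exact h _ hlt (orderOf_pos_iff.2 hfin) (pow_orderOf_eq_one _)

theorem ord_11 : 10 ≤ orderOf (2 : ZMod 11) :=
  le_orderOf_two (isOfFinOrder_iff_pow_eq_one.2 ⟨10, by norm_num, by decide⟩) (by decide)

theorem ord_23 : 11 ≤ orderOf (2 : ZMod 23) :=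
  le_orderOf_two (isOfFinOrder_iff_pow_eq_one.2 ⟨11, by norm_num, by decide⟩) (by decide)

theorem ord_19 : 18 ≤ orderOf (2 : ZMod 19) :=
  le_orderOf_two (isOfFinOrder_iff_pow_eq_one.2 ⟨18, by norm_num, by decide⟩) (by decide)

theorem finite_of_card {K : Type u} {n : ℕ} (h : Nat.card K = n) (hn : n ≠ 0) : Finite K :=
  Nat.finite_of_card_ne_zero (h ▸ hn)

theorem lb_M11 {K : Type u} [Group K] (h : Cfsg.IsM11 K) : LB.{u, v, w} K 10 := by
  haveI := h.1
  haveI := finite_of_card h.2 (by norm_num)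
  exact LB.prime (p := 11) (by norm_num) (by norm_num) (by rw [h.2]; norm_num) ord_11

theorem lb_M12 {K : Type u} [Group K] (h : Cfsg.IsM12 K) : LB.{u, v, w} K 10 := by
  haveI := h.1
  haveI := finite_of_card h.2 (by norm_num)
  exact LB.prime (p := 11) (by norm_num) (by norm_num) (by rw [h.2]; norm_num) ord_11

theorem lb_M22 {K : Type u} [Group K] (h : Cfsg.IsM22 K) : LB.{u, v, w} K 10 := by
  haveI := h.1
  haveI := finite_of_card h.2 (by norm_num)
  exact LB.prime (p := 11) (by norm_num) (by norm_num) (by rw [h.2]; norm_num) ord_11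

theorem lb_M23 {K : Type u} [Group K] (h : Cfsg.IsM23 K) : LB.{u, v, w} K 11 := by
  haveI := h.1
  haveI := finite_of_card h.2 (by norm_num)
  exact LB.prime (p := 23) (by norm_num) (by norm_num) (by rw [h.2]; norm_num) ord_23

theorem lb_J1 {K : Type u} [Group K] (h : Cfsg.IsJ1 K) : LB.{u, v, w} K 18 := by
  haveI := h.1
  haveI := finite_of_card h.2 (by norm_num)
  exact LB.prime (p := 19) (by norm_num) (by norm_num) (by rw [h.2]; norm_num) ord_19

theorem lb_J3 {K : Type u} [Group K] (h : Cfsg.IsJ3 K) : LB.{u, v, w} K 18 := by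
  haveI := h.1
  haveI := finite_of_card h.2 (by norm_num)
  exact LB.prime (p := 19) (by norm_num) (by norm_num) (by rw [h.2]; norm_num) ord_19

end Cfsg.Agent.Omega.TwoF
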