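import Cfsg.Agent.Omega.TwoF.RowTool
import Cfsg.Agent.Omega.TwoF.SmallSporLB
import Cfsg.Agent.Omega.KFacts
import Cfsg.Agent.TypeM.OutLyFin
import Cfsg.Agent.S1702

/-!
# TABLE 2F: the row Ly (helper900)

`|V| ≥ 2 ^ 66` (the prime 67), `m_2(Aut Ly) ≤ 9` (`|Aut Ly|₂ = 2 ^ 8`).
-/

set_option autoImplicit false
set_option maxRecDepth 100000

namespace Cfsg.Agent.Omega.TwoF.RowLy

open Subgroup
open Cfsg.Spor (Ly IsoLy)

universe u v

theorem ord67 : 66 ≤ orderOf (2 : ZMod 67) :=
  le_orderOf_two (isOfFinOrder_iff_pow_eq_one.2 ⟨66, by norm_num, by decide +kernel⟩) (by decide +kernel)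

theorem isLy : Cfsg.IsLy Ly := Cfsg.Agent.S1702.result

theorem card_eq : Nat.card Ly = 51765179004000000 := isLy.2

theorem finite : Finite Ly := Nat.finite_of_card_ne_zero (by rw [card_eq]; norm_num)

/-- **LB**: `|V| ≥ 2 ^ 66`. -/
theorem lb : Cfsg.Agent.Omega.Lie.Heis.LB.{0, u, v} Ly 66 := by
  have := isLy.1
  have := finite
  exact Cfsg.Agent.Omega.Lie.Heis.LB.prime (p := 67) (by norm_num) (by norm_num) (by rw [card_eq]; norm_num) ord67

theorem center_eq : center Ly = ⊥ := by
  have hs := isLy.1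
  have hfin := finite
  rcases (inferInstance : (center Ly).Normal).eq_bot_or_eq_top with h | h
  · exact h
  · exfalso
    have hcomm : ∀ a b : Ly, a * b = b * a := fun a b => by
      have h1 : b ∈ center Ly := h ▸ mem_top b
      exact mem_center_iff.1 h1 a
    let _ : CommGroup Ly := { (inferInstance : Group Ly) with mul_comm := hcomm }
    have hp : (Nat.card Ly).Prime := IsSimpleGroup.prime_card
    rw [card_eq] at hp
    exact absurd hp (by norm_num)

theorem range_eq : (MulAut.conj : Ly →* MulAut Ly).range = ⊤ := by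
  rw [eq_top_iff]
  intro α _
  exact Cfsg.Agent.TypeM.OutLyFin.inner_ly α

theorem card_mulAut : Nat.card (MulAut Ly) = 51765179004000000 := by
  rw [Rk.card_mulAut (n := 1) center_eq (by rw [range_eq, index_top]), one_mul, card_eq]

/-- **RK**: `m_2(Aut Ly) ≤ 9`. -/
theorem rk : Rk.RK.{u} Ly 9 := by
  have hfin := finite
  refine Rk.rk_of_elt (e := 8) (k := 0) ?_ (1 : Ly) (by rw [orderOf_one, pow_zero]) (by norm_num)
  rw [card_mulAut]
  by_contra hcon
  have h1 : 2 ^ 9 ∣ 51765179004000000 :=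
    (Nat.prime_two.pow_dvd_iff_le_factorization (by norm_num)).2 (by omega)
  norm_num at h1

theorem dead2 : Dead2.{u} Ly := by
  have := finite
  exact RowTool.dead center_eq lb rk (by norm_num)

/-- **Row Ly of TABLE 2F.** -/
theorem row : KFacts.KillRow.{u} @Cfsg.Spor.IsoLy := by
  rintro K _ ⟨e⟩
  have := isLy.1
  exact (dead2.kill center_eq inferInstance).equiv e

end Cfsg.Agent.Omega.TwoF.RowLy
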