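import Cfsg.Agent.Omega.TwoF.LargeRk
import Cfsg.Agent.Omega.KFacts
import Cfsg.Agent.KFacts.MonsterE
import Cfsg.Agent.KFacts.Co1.YBig
import Cfsg.Agent.MonsterX.InstanceFinal
import Cfsg.Agent.MonsterP.Equiv

/-!
# TABLE 2F: the row M (helper416)

`m_2(Co1) ≤ 17` (an extraspecial subgroup of order `2 ^ 9`), so `m_2(M) ≤ 30`, and
`|M : C(z)| = 5791748068511982636944259375 ≥ 2 ^ 92`: the counting kill.
-/

set_option autoImplicit false

namespace Cfsg.Agent.Omega.TwoF.RowM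

open Subgroup
open Cfsg.Spor (Co1)
open Cfsg.Agent.MonsterX.Model Cfsg.Agent.MonsterX.MainSimple Cfsg.Agent.MonsterX.MainBasic

universe u

theorem card_Co1 : Nat.card Co1 = 4157776806543360000 := Cfsg.Agent.S0399.result.2

theorem finite_Co1 : Finite Co1 := Nat.finite_of_card_ne_zero (by rw [card_Co1]; norm_num)

theorem factorization_Co1 : (Nat.card Co1).factorization 2 ≤ 21 := by
  rw [card_Co1]
  by_contra hcon
  have h1 : 2 ^ 22 ∣ 4157776806543360000 :=
    (Nat.prime_two.pow_dvd_iff_le_factorization (by norm_num)).2 (by omega)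
  norm_num at h1

/-- `m_2(Co1) ≤ 17` -/
theorem card_le_Co1 (B : Subgroup Co1) (hB : Rk.El B) : Nat.card B ≤ 2 ^ 17 := by
  have := finite_Co1
  have : Fact (Nat.Prime 2) := ⟨Nat.prime_two⟩
  obtain ⟨o, ho⟩ := Cfsg.Agent.CoOneType.ClosingCo1.exists_octad
  have hl := Cfsg.Agent.KFacts.Co1.InCo1.large ho
  have hc : Nat.card (Cfsg.Agent.KFacts.Co1.InCo1.RCo1 o) = 2 ^ (2 * 4 + 1) := by
    rw [Cfsg.Agent.KFacts.Co1.YBig.card_R ho]
    norm_num
  have h1 := Rk.card_mul_le hB (IsPGroup.of_card hc) (m := 2 ^ (4 + 1))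
    fun A hA hAe => LargeRk.card_le_of_large hl hc.le hA hAe
  rw [hc] at h1
  have h2 : 2 ^ (Nat.card Co1).factorization 2 ≤ 2 ^ 21 := Nat.pow_le_pow_right (by norm_num) factorization_Co1
  have h3 : Nat.card B * 2 ^ (2 * 4 + 1) ≤ 2 ^ 21 * 2 ^ (4 + 1) := h1.trans (Nat.mul_le_mul_right _ h2)
  norm_num at h3 ⊢
  omega

/-- the order of `C_K(z)` -/
theorem card_cent {K : Type*} [Group K] {Q : Subgroup K} {z : K} {L : Type*} [Group L]
    {π : centralizer ({z} : Set K) →* L} (D : Cfsg.Agent.KFacts.LargeSheet.Data Q z L π) :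
    Nat.card (centralizer ({z} : Set K)) = Nat.card Q * Nat.card L := by
  have h1 := π.ker.card_mul_index
  rw [index_ker, MonoidHom.range_eq_top.2 D.surj, card_top] at h1
  rw [← h1]
  congr 1
  refine Nat.card_congr ⟨fun x => ⟨x, (D.ker _).1 x.2⟩, fun q => ⟨⟨q, mem_centralizer_singleton_iff.2
    (D.large.comm_z q q.2)⟩, (D.ker _).2 q.2⟩, fun x => rfl, fun q => rfl⟩

variable {W : Type} [AddCommGroup W] [Module ℚ W] {M : MData W}

theorem kill2_model (hG : MGroup M Co1) (hR : MRep M) (hL : MLat M) (hO : MOrbit M) (hT : MTrans M) :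
    Kill2.{u} M.G := by
  have hfin := G_finite hO
  have hco := Cfsg.Agent.KFacts.MonsterE.simple_Co1
  obtain ⟨π, D⟩ := Cfsg.Agent.KFacts.MonsterE.data_model hG hR hL hO hT
  have hcard := Cfsg.Agent.MonsterX.MainOrder.card_G hG hR hL hO
  have hQ : Nat.card (M.Q.subgroupOf M.G) = 2 ^ 25 := by
    rw [← hG.Q_card]
    exact Nat.card_congr (subgroupOfEquivOfLe (hG.Q_le.trans C_le)).toEquiv
  refine LargeRk.kill2_of_data D (w := 12) (l := 17) hQ.le card_le_Co1 ?_
  have h1 := (centralizer ({zG hG} : Set M.G)).card_mul_index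
  rw [hcard, card_cent D, hQ, card_Co1] at h1
  have h2 : (centralizer ({zG hG} : Set M.G)).index = 5791748068511982636944259375 := by omega
  rw [h2]
  norm_num

/-- **Row M of TABLE 2F.** -/
theorem row : KFacts.KillRow.{u} @Cfsg.Spor.IsoM := by
  rintro K _ ⟨e⟩
  obtain ⟨f⟩ := Cfsg.Agent.MonsterP.Equiv.equiv
  exact (kill2_model Cfsg.Agent.MonsterX.Instance.mGroup Cfsg.Agent.MonsterX.Instance.mRep
    Cfsg.Agent.MonsterX.Instance.mLat Cfsg.Agent.MonsterX.InstanceFinal.mOrbit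
    Cfsg.Agent.MonsterX.Instance.mTrans).equiv (e.trans f)

end Cfsg.Agent.Omega.TwoF.RowM
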