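import Cfsg.Agent.Omega.TwoF.MathieuRK
import Cfsg.Agent.Omega.TwoF.Bridge
import Cfsg.Agent.Omega.KFacts

/-!
# TABLE 2F: the row M11
-/

set_option autoImplicit false

namespace Cfsg.Agent.Omega.TwoF.RowM11

open Subgroup Cfsg

universe u

theorem facts {K : Type u} [Group K] (h : Spor.IsoM11 K) :
    Finite K ∧ IsSimpleGroup K ∧ center K = ⊥ ∧ Nontrivial K := by
  obtain ⟨e⟩ := h
  have hs0 : IsSimpleGroup Spor.M11 := isM11.1
  have hs : IsSimpleGroup K := e.isSimpleGroup
  have hc : Nat.card K = 7920 := (Nat.card_congr e.toEquiv).trans isM11.2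
  have hfin : Finite K := Nat.finite_of_card_ne_zero (by rw [hc]; norm_num)
  exact ⟨hfin, hs, Cfsg.Agent.OddHalf.Table.OutBasic.center_eq_bot (by rw [hc]; norm_num), inferInstance⟩

theorem dead {K : Type u} [Group K] (h : Spor.IsoM11 K) : Dead2.{u} K := by
  obtain ⟨hfin, -, hc, -⟩ := facts h
  exact Dead2.of_rk ((RK.of_rk hc (rk_M11 h)).mono (by norm_num))

/-- **The row `M11`.** -/
theorem row : KFacts.KillRow.{u} @Spor.IsoM11 := by
  intro K _ h
  obtain ⟨-, -, hc, hn⟩ := facts h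
  exact (dead h).kill hc hn

end Cfsg.Agent.Omega.TwoF.RowM11
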