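import Cfsg.Agent.Omega.TwoF.LBsPrime
import Cfsg.Agent.Omega.TwoF.RowTool
import Cfsg.Agent.KFacts.M24Two.Out
import Cfsg.Agent.SporadicA.M24Trans
import Cfsg.Agent.S0365
import Cfsg.Prelude.Def_Classification2

/-!
# TABLE 2F: the row `M24` (helper834)

`|V| ≥ 2 ^ 22` for self-dual modules (the prime 23), `m_2(Aut M24) ≤ 8` (`|Aut M24|₂ = 2 ^ 10`, an element of
order 8).
-/

set_option autoImplicit false

namespace Cfsg.Agent.Omega.TwoF.RowM24

open Subgroup Cfsg
open Cfsg.Agent.KFacts.M24Pair.Letters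

universe u v w

/-- an element of order 8 -/
noncomputable def g8 : M24 := ev [7, 9, 17]

theorem g8_pow (n : ℕ) : g8 ^ n = ev (List.replicate n [7, 9, 17]).flatten := by
  induction n with
  | zero => rw [List.replicate_zero, List.flatten_nil, ev_nil, pow_zero]
  | succ n ih => rw [List.replicate_succ, List.flatten_cons, ev_append, ← ih, pow_succ', g8]

theorem orderOf_g8 : orderOf g8 = 2 ^ 3 := by
  have : Fact (Nat.Prime 2) := ⟨Nat.prime_two⟩
  apply orderOf_eq_prime_pow (n := 2)
  · rw [g8_pow, ← ev_nil]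
    exact wne (by decide +kernel)
  · rw [g8_pow, ← ev_nil]
    exact weq (by decide +kernel)

theorem center_eq : center M24 = ⊥ := by
  have := Cfsg.Agent.S0365.result
  rcases (inferInstance : (center M24).Normal).eq_bot_or_eq_top with h1 | h1
  · exact h1
  · exfalso
    have hc : ∀ x y : M24, x * y = y * x := fun x y => by
      have h2 : y ∈ center M24 := by rw [h1]; exact mem_top y
      exact mem_center_iff.1 h2 x
    let : CommGroup M24 := { (inferInstance : Group M24) with mul_comm := hc }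
    have h3 : (Nat.card M24).Prime := IsSimpleGroup.prime_card
    rw [Cfsg.Agent.SporadicA.M24Trans.card_M24] at h3
    norm_num at h3

theorem card_mulAut : Nat.card (MulAut M24) = 244823040 := by
  have h := Rk.card_mulAut center_eq (n := 1) (by
    rw [index_eq_one, eq_top_iff]
    intro α _
    obtain ⟨k, hk⟩ := Cfsg.Agent.KFacts.M24Two.Out.exists_conj α
    exact ⟨k, hk.symm⟩)
  rw [h, Cfsg.Agent.SporadicA.M24Trans.card_M24, one_mul]

/-- **RK**: `m_2(Aut M24) ≤ 8`. -/
theorem rk : Rk.RK.{u} M24 8 := by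
  refine Rk.rk_of_elt (e := 10) (k := 3) ?_ g8 orderOf_g8 (by norm_num)
  rw [card_mulAut]
  by_contra hcon
  have h1 : 2 ^ 11 ∣ 244823040 :=
    (Nat.prime_two.pow_dvd_iff_le_factorization (by norm_num)).2 (by omega)
  norm_num at h1

/-- **LBs**: `|V| ≥ 2 ^ 22` for self-dual modules. -/
theorem lbs : LBs.{u} M24 22 := by
  have := Cfsg.Agent.S0365.result
  refine LBs.of_23 ?_
  rw [Cfsg.Agent.SporadicA.M24Trans.card_M24]
  norm_num

theorem dead2 : Dead2.{u} M24 := ⟨22, 8, lbs, RowTool.toRK center_eq rk, Or.inl (by norm_num)⟩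

/-- **the row `M24` of TABLE 2F** -/
theorem row (K : Type u) [Group K] (h : Spor.IsoM24 K) : Kill2.{u} K := by
  obtain ⟨e⟩ := h
  have := Cfsg.Agent.S0365.result
  exact (dead2.{u}.kill center_eq inferInstance).equiv e

end Cfsg.Agent.Omega.TwoF.RowM24
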