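import Cfsg.Agent.Omega.TwoF.RowON
import Cfsg.Agent.Omega.KFacts
import Cfsg.Agent.KFacts.ON.Aut

/-!
# TABLE 2F: the row O'N, closed (helper416; the automorphism group by helper60)
-/

set_option autoImplicit false

namespace Cfsg.Agent.Omega.TwoF.RowON

open Cfsg.Spor (ON IsoON)

universe u

/-- **Row O'N of TABLE 2F.** -/
theorem row : KFacts.KillRow.{u} @Cfsg.Spor.IsoON := by
  rintro K _ ⟨e⟩
  have hON := Cfsg.Agent.KFacts.ON.Cent.hON
  have := hON.1
  have := finite hON
  exact ((dead2 hON Cfsg.Agent.KFacts.ON.Aut.out).kill (center_eq hON) inferInstance).equiv e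

end Cfsg.Agent.Omega.TwoF.RowON
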