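import Cfsg.Agent.Omega.TwoF.OTie

/-!
# The lower bound for three indices over the field with three elements

`Dat` with `I = Fin 3`, `|F| = 3` and an element `ρ` permuting the indices cyclically. In an odd cover either the
three lifts of `z` agree, or they differ by a central element `χ` of order `3`, and `V` is the product of the three
`C_V(ζ i)`, on each of which two Heisenberg pairs act: `|V| ≥ 2 ^ 54` in both cases.
-/

set_option autoImplicit false
set_option linter.unusedSectionVars false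

universe u v w

namespace Cfsg.Agent.Omega.TwoF.OLift

open Subgroup Cfsg.Agent.Omega.Lie.FHeis Cfsg.Agent.Omega.Lie.Heis

section norm

variable {V : Type*} [CommGroup V]

/-- The norm `v ↦ v * α v * α² v`. -/
def nrm (α : MulAut V) (v : V) : V := v * α v * α (α v)

theorem nrm_mul (α : MulAut V) (v w : V) : nrm α (v * w) = nrm α v * nrm α w := by
  unfold nrm
  rw [map_mul, map_mul, mul_mul_mul_comm v w, mul_mul_mul_comm]

theorem nrm_fix {α : MulAut V} (h3 : α ^ 3 = 1) (v : V) : α (nrm α v) = nrm α v := by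
  have h : α (α (α v)) = v := by
    have := DFunLike.congr_fun h3 v
    simpa [pow_succ, MulAut.mul_apply] using this
  unfold nrm
  rw [map_mul, map_mul, h, mul_comm, mul_assoc]

/-- The fixed points. -/
def fixS (α : MulAut V) : Subgroup V where
  carrier := {v | α v = v}
  one_mem' := map_one _
  mul_mem' := fun {a b} ha hb => by
    show α (a * b) = a * b
    rw [map_mul, show α a = a from ha, show α b = b from hb]
  inv_mem' := fun {a} ha => by
    show α a⁻¹ = a⁻¹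
    rw [map_inv, show α a = a from ha]

theorem mem_fixS {α : MulAut V} {v : V} : v ∈ fixS α ↔ α v = v := Iff.rfl

/-- The data: `c` fixed point free of order 3, `α₁ = c α₀`, `α₂ = c α₁`. -/
structure Tri (c α₀ α₁ α₂ : MulAut V) : Prop where
  c3 : c ^ 3 = 1
  a3 : α₀ ^ 3 = 1
  ca : c * α₀ = α₀ * c
  e1 : α₁ = c * α₀
  e2 : α₂ = c * α₁
  free : ∀ v, c v = v → v = 1
  cube : ∀ v : V, v ^ 3 = 1 → v = 1

namespace Tri

variable {c α₀ α₁ α₂ : MulAut V}

theorem e0 (t : Tri c α₀ α₁ α₂) : α₀ = c * α₂ := by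
  rw [t.e2, t.e1, ← mul_assoc, ← mul_assoc]
  have : c * c * c = 1 := by rw [← t.c3, pow_succ, pow_two]
  rw [this, one_mul]

theorem rot (t : Tri c α₀ α₁ α₂) : Tri c α₁ α₂ α₀ := by
  have h : Commute c α₀ := t.ca
  refine ⟨t.c3, ?_, ?_, t.e2, t.e0, t.free, t.cube⟩
  · rw [t.e1, h.mul_pow, t.c3, t.a3, one_mul]
  · rw [t.e1]
    exact ((Commute.refl c).mul_right h).eq

/-- If `α w = d w` with `d` fixed point free, `d ^ 3 = 1`, then the norm is trivial. -/
theorem nrm_eq_one {α d : MulAut V} (hd : d ^ 3 = 1) (hf : ∀ v, d v = v → v = 1) (hc : α * d = d * α) {w : V}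
    (hw : α w = d w) : nrm α w = 1 := by
  have h1 : nrm α w = nrm d w := by
    unfold nrm
    have : α (d w) = d (α w) := by
      rw [← MulAut.mul_apply, hc, MulAut.mul_apply]
    rw [hw, this, hw]
  rw [h1]
  exact hf _ (nrm_fix hd w)

theorem inv3 (t : Tri c α₀ α₁ α₂) : (c⁻¹) ^ 3 = 1 := by rw [inv_pow, t.c3, inv_one]

theorem free' (t : Tri c α₀ α₁ α₂) (v : V) (h : c⁻¹ v = v) : v = 1 := by
  apply t.free
  conv_lhs => rw [← h]
  exact MulAut.apply_inv_self _ c v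

theorem nrm_one (t : Tri c α₀ α₁ α₂) {v : V} (hv : α₁ v = v) : nrm α₀ v = 1 := by
  have hc : Commute α₀ c := (show Commute c α₀ from t.ca).symm
  refine nrm_eq_one t.inv3 t.free' hc.inv_right.eq ?_
  rw [t.e1, MulAut.mul_apply] at hv
  conv_rhs => rw [← hv]
  rw [MulAut.inv_apply_self]

theorem nrm_two (t : Tri c α₀ α₁ α₂) {v : V} (hv : α₂ v = v) : nrm α₀ v = 1 := by
  have hc : Commute α₀ c := (show Commute c α₀ from t.ca).symm
  refine nrm_eq_one t.c3 t.free hc.eq ?_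
  conv_lhs => rw [t.e0, MulAut.mul_apply, hv]

theorem nrm_self {v : V} (hv : α₀ v = v) : nrm α₀ v = v ^ 3 := by
  unfold nrm
  rw [hv, hv, pow_succ, pow_two]

theorem eq_one (t : Tri c α₀ α₁ α₂) {a b d : V} (ha : α₀ a = a) (hb : α₁ b = b) (hd : α₂ d = d)
    (h : a * b * d = 1) : a = 1 := by
  have h1 := congrArg (nrm α₀) h
  rw [nrm_mul, nrm_mul, t.nrm_one hb, t.nrm_two hd, nrm_self ha, mul_one, mul_one] at h1
  apply t.cube
  rw [h1]
  simp [nrm]

/-- `|C(α₀)| |C(α₁)| |C(α₂)| ≤ |V|`. -/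
theorem card_le (t : Tri c α₀ α₁ α₂) [Finite V] :
    Nat.card (fixS α₀) * Nat.card (fixS α₁) * Nat.card (fixS α₂) ≤ Nat.card V := by
  rw [← Nat.card_prod, ← Nat.card_prod]
  refine Nat.card_le_card_of_injective
    (fun p : (fixS α₀ × fixS α₁) × fixS α₂ => (p.1.1 : V) * p.1.2 * p.2) ?_
  rintro ⟨⟨a, b⟩, d⟩ ⟨⟨a', b'⟩, d'⟩ h
  change (a : V) * b * d = (a' : V) * b' * d' at h
  have key : ((a'⁻¹ * a : fixS α₀) : V) * ((b'⁻¹ * b : fixS α₁) : V) * ((d'⁻¹ * d : fixS α₂) : V) = 1 := by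
    push_cast
    have : ((a' : V)⁻¹ * a) * ((b' : V)⁻¹ * b) * ((d' : V)⁻¹ * d) = (a' * b' * d' : V)⁻¹ * (a * b * d) := by
      apply Additive.ofMul.injective
      simp only [ofMul_mul, ofMul_inv]
      abel
    rw [this, h, inv_mul_cancel]
  have h1 := t.eq_one (a'⁻¹ * a).2 (b'⁻¹ * b).2 (d'⁻¹ * d).2 key
  have h2 := t.rot.eq_one (b'⁻¹ * b).2 (d'⁻¹ * d).2 (a'⁻¹ * a).2 (by rw [← key]; rw [mul_comm, mul_assoc])
  have h3 := t.rot.rot.eq_one (d'⁻¹ * d).2 (a'⁻¹ * a).2 (b'⁻¹ * b).2 (by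
    rw [← key, mul_assoc, mul_comm])
  have e1 : a = a' := by
    have : a'⁻¹ * a = 1 := Subtype.ext h1
    exact (inv_mul_eq_one.1 this).symm
  have e2 : b = b' := by
    have : b'⁻¹ * b = 1 := Subtype.ext h2
    exact (inv_mul_eq_one.1 this).symm
  have e3 : d = d' := by
    have : d'⁻¹ * d = 1 := Subtype.ext h3
    exact (inv_mul_eq_one.1 this).symm
  rw [e1, e2, e3]

/-- One of the three fixed point groups is nontrivial. -/
theorem exists_ne (t : Tri c α₀ α₁ α₂) {v : V} (hv : v ≠ 1) : fixS α₀ ≠ ⊥ ∨ fixS α₁ ≠ ⊥ ∨ fixS α₂ ≠ ⊥ := by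
  by_contra hcon
  push Not at hcon
  obtain ⟨h0, h1, h2⟩ := hcon
  have n0 : nrm α₀ v = 1 := by
    have : nrm α₀ v ∈ fixS α₀ := nrm_fix t.a3 v
    rw [h0] at this
    exact Subgroup.mem_bot.1 this
  have n1 : nrm α₁ v = 1 := by
    have : nrm α₁ v ∈ fixS α₁ := nrm_fix t.rot.a3 v
    rw [h1] at this
    exact Subgroup.mem_bot.1 this
  have n2 : nrm α₂ v = 1 := by
    have : nrm α₂ v ∈ fixS α₂ := nrm_fix t.rot.rot.a3 v
    rw [h2] at this
    exact Subgroup.mem_bot.1 this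
  have m1 : nrm c (α₀ v) = 1 := t.free _ (nrm_fix t.c3 _)
  have m2 : nrm c (α₀ (α₀ v)) = 1 := t.free _ (nrm_fix t.c3 _)
  have c3 : ∀ w, c (c (c w)) = w := fun w => by
    have := DFunLike.congr_fun t.c3 w
    simpa [pow_succ, MulAut.mul_apply] using this
  have ca : ∀ w, α₀ (c w) = c (α₀ w) := fun w => by
    rw [← MulAut.mul_apply, ← t.ca, MulAut.mul_apply]
  have a1 : ∀ w, α₁ w = c (α₀ w) := fun w => by rw [t.e1, MulAut.mul_apply]
  have a2 : ∀ w, α₂ w = c (c (α₀ w)) := fun w => by rw [t.e2, t.e1, MulAut.mul_apply, MulAut.mul_apply]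
  apply hv
  apply t.cube
  unfold nrm at n0 n1 n2 m1 m2
  rw [a1, a1, ca] at n1
  rw [a2, a2, ca, ca, c3] at n2
  have h : v ^ 3 * ((α₀ v * c (α₀ v) * c (c (α₀ v))) * (α₀ (α₀ v) * c (α₀ (α₀ v)) * c (c (α₀ (α₀ v))))) =
      (v * α₀ v * α₀ (α₀ v)) * (v * c (α₀ v) * c (c (α₀ (α₀ v)))) * (v * c (c (α₀ v)) * c (α₀ (α₀ v))) := by
    generalize α₀ v = A
    generalize α₀ A = B
    generalize c A = C
    generalize c C = D
    generalize c B = E
    generalize c E = G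
    rw [pow_succ, pow_two]
    apply Additive.ofMul.injective
    simp only [ofMul_mul]
    abel
  rw [n0, n1, n2, m1, m2] at h
  simpa using h

end Tri

end norm

theorem orderOf_two_three : orderOf (2 : ZMod 3) = 2 := by
  have : Fact (Nat.Prime 2) := ⟨Nat.prime_two⟩
  exact orderOf_eq_prime (by decide) (by decide)

section

variable {F : Type*} [Field F]

/-- Cyclic permutation of the coordinates. -/
def rot (p : Fin 3 → F) : Fin 3 → F := fun i => p (i - 1)

theorem rot_single (i : Fin 3) (s : F) : rot (Pi.single i s) = Pi.single (i + 1) s := by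
  funext j
  unfold rot
  by_cases h : j = i + 1
  · subst h
    rw [add_sub_cancel_right, Pi.single_eq_same, Pi.single_eq_same]
  · rw [Pi.single_eq_of_ne h, Pi.single_eq_of_ne]
    intro h'
    apply h
    rw [← h', sub_add_cancel]

variable {L K : Type*} [Group L] [Group K] {π : L →* K} {z : F → K} {x y : (Fin 3 → F) → K} {g : K} {γ : L}
  {X Y : (Fin 3 → F) → L}

/-- The lift of `ρ` permutes the `zi`. -/
theorem Cov.zi_rot (c : Cov π z x y g γ X Y) {T : L} (hT : π T * g = g * π T)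
    (hx : ∀ p, π T * x p * (π T)⁻¹ = x (rot p)) (hy : ∀ p, π T * y p * (π T)⁻¹ = y (rot p)) (i : Fin 3) (s : F) :
    T * Cov.zi X Y i s * T⁻¹ = Cov.zi X Y (i + 1) s := by
  have e1 := c.conjX hT (hx (Pi.single i s))
  have e2 := c.conjY hT (hy (Pi.single i 1))
  rw [rot_single] at e1 e2
  calc T * Cov.zi X Y i s * T⁻¹ = (T * Y (Pi.single i 1) * T⁻¹) * (T * X (Pi.single i s) * T⁻¹) *
        (T * Y (Pi.single i 1) * T⁻¹)⁻¹ * (T * X (Pi.single i s) * T⁻¹)⁻¹ := by unfold Cov.zi bet; group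
    _ = Cov.zi X Y (i + 1) s := by rw [e1, e2]; rfl

/-- **The case `|F| = 3`, three indices.** -/
theorem lb_three {K : Type u} [Group K] [IsSimpleGroup K] {F : Type*} [Field F] [CharP F 3]
    (hF : Nat.card F = 3) {z : F → K} {x y : (Fin 3 → F) → K} {g : K}
    (d : Dat z x y g) (hz : z 1 ≠ 1) {ρ : K} (hρ : ρ * g = g * ρ) (hx : ∀ p, ρ * x p * ρ⁻¹ = x (rot p))
    (hy : ∀ p, ρ * y p * ρ⁻¹ = y (rot p)) :
    Lie.Heis.LB.{u, v, w} K 54 := by
  have hfin : Finite F := Nat.finite_of_card_ne_zero (by rw [hF]; norm_num)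
  have : Fact (Nat.Prime 3) := ⟨Nat.prime_three⟩
  have h3 : (3 : F) = 0 := by exact_mod_cast CharP.cast_eq_zero F 3
  apply LB.of_irr
  intro L _ _ π hπ hc ho hL V _ _ h2 φ hφ hirr
  obtain ⟨γ, X, Y, c⟩ := d.exists_cov (π := π) ⟨hL, hπ, hc, ho⟩
  obtain ⟨T, hT⟩ := hπ ρ
  have hrot := c.zi_rot (T := T) (by rw [hT]; exact hρ) (by rw [hT]; exact hx) (by rw [hT]; exact hy)
  -- the elements `ζ i`
  set ζ : Fin 3 → L := fun i => Cov.zi X Y i 1 with hζ
  have hζ1 : ∀ i, ζ i ≠ 1 := by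
    intro i h
    apply hz
    rw [← c.map_zi i 1, show Cov.zi X Y i 1 = 1 from h, map_one]
  have hζ3 : ∀ i, ζ i ^ 3 = 1 := by
    intro i
    rw [add_pow' (c.zi_add i)]
    have : ((3 : ℕ) : F) * 1 = 0 := by rw [mul_one]; exact_mod_cast h3
    rw [this, add_zero' (c.zi_add i)]
  have hζT : ∀ i, T * ζ i * T⁻¹ = ζ (i + 1) := fun i => hrot i 1
  set χ : L := ζ 1 * (ζ 0)⁻¹ with hχ
  have hχk : χ ∈ π.ker := by
    rw [MonoidHom.mem_ker, hχ, map_mul, map_inv, c.map_zi, c.map_zi, mul_inv_cancel]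
  have hχc : ∀ l, l * χ = χ * l := ker_comm c.odd hχk
  have e1 : ζ 1 = χ * ζ 0 := by rw [hχ]; group
  have e2 : ζ 2 = χ * ζ 1 := by
    have h4 : T * χ * T⁻¹ = χ := by rw [hχc]; group
    have h5 : T * χ * T⁻¹ = ζ 2 * (ζ 1)⁻¹ := by
      have h6 : T * χ * T⁻¹ = (T * ζ 1 * T⁻¹) * (T * ζ 0 * T⁻¹)⁻¹ := by rw [hχ]; group
      rw [h6, hζT, hζT]; rfl
    rw [← h4, h5]; group
  have e0 : ζ 0 = χ * ζ 2 := by
    have h4 : T * (ζ 2 * (ζ 1)⁻¹) * T⁻¹ = ζ 0 * (ζ 2)⁻¹ := by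
      have h6 : T * (ζ 2 * (ζ 1)⁻¹) * T⁻¹ = (T * ζ 2 * T⁻¹) * (T * ζ 1 * T⁻¹)⁻¹ := by group
      rw [h6, hζT, hζT]; rfl
    have h5 : ζ 2 * (ζ 1)⁻¹ = χ := by rw [e2]; group
    rw [h5] at h4
    have h6 : T * χ * T⁻¹ = χ := by rw [hχc]; group
    rw [← h6, h4]; group
  by_cases hχ1 : χ = 1
  · -- the lifts agree
    have hF3 : ∀ a : F, a = 0 ∨ a = 1 ∨ a = -1 := by
      intro a
      have := Fintype.ofFinite F
      have h4 : a ^ 3 = a := by
        have := FiniteField.pow_card a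
        rwa [← Nat.card_eq_fintype_card, hF] at this
      have h5 : a * ((a - 1) * (a + 1)) = 0 := by linear_combination h4
      rcases mul_eq_zero.1 h5 with h6 | h6
      · exact Or.inl h6
      · rcases mul_eq_zero.1 h6 with h7 | h7
        · exact Or.inr (Or.inl (sub_eq_zero.1 h7))
        · exact Or.inr (Or.inr (eq_neg_of_add_eq_zero_left h7))
    have hall : ∀ i, ζ i = ζ 0 := by
      intro i
      rw [hχ1, one_mul] at e1 e2
      fin_cases i
      · rfl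
      · exact e1
      · exact e2.trans e1
    have hzz : ∀ i s, Cov.zi X Y i s = Cov.zi X Y 0 s := by
      intro i s
      rcases hF3 s with rfl | rfl | rfl
      · rw [add_zero' (c.zi_add i), add_zero' (c.zi_add 0)]
      · exact hall i
      · rw [c.zi_neg, c.zi_neg]
        exact congrArg _ (hall i)
    have h' := c.fheis 0 hzz
    have h6 := Lie.HeisLift.two_pow_le (p := 3) (by norm_num) h' φ h2
      ⟨1, fun h => hζ1 0 (hφ (h.trans (map_one φ).symm))⟩
    rw [orderOf_two_three, hF, Nat.card_eq_fintype_card, Fintype.card_fin] at h6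
    exact h6
  -- the three lifts differ
  have hχ3 : χ ^ 3 = 1 := by
    have h4 : ζ 0 = χ * (χ * (χ * ζ 0)) := by
      conv_lhs => rw [e0, e2, e1]
    have h5 : χ * (χ * χ) = 1 := by
      have : χ * (χ * χ) * ζ 0 = ζ 0 := by
        conv_rhs => rw [h4]
        group
      exact mul_eq_right.1 this
    rw [← h5, pow_succ, pow_two, mul_assoc]
  have hfree : ∀ v, φ χ v = v → v = 1 := fun v hv =>
    hirr.free (hc hχk) (fun h => hχ1 (hφ (h.trans (map_one φ).symm))) hv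
  have hcube : ∀ v : V, v ^ 3 = 1 → v = 1 := by
    intro v hv
    obtain ⟨k, hk⟩ := h2 v
    have h4 : orderOf v ∣ 3 := orderOf_dvd_of_pow_eq_one hv
    have h5 : orderOf v ∣ 2 ^ k := orderOf_dvd_of_pow_eq_one hk
    have h6 : Nat.Coprime 3 (2 ^ k) := Nat.Coprime.pow_right _ (by norm_num)
    exact orderOf_eq_one_iff.1 (Nat.eq_one_of_dvd_coprimes h6 h4 h5)
  have tri : Tri (φ χ) (φ (ζ 0)) (φ (ζ 1)) (φ (ζ 2)) :=
    ⟨by rw [← map_pow, hχ3, map_one], by rw [← map_pow, hζ3, map_one], by rw [← map_mul, ← map_mul, hχc],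
      by rw [← map_mul, ← e1], by rw [← map_mul, ← e2], hfree, hcube⟩
  -- the fixed point groups are conjugate
  have hmv : ∀ i, ∀ v, φ (ζ i) v = v → φ (ζ (i + 1)) (φ T v) = φ T v := by
    intro i v hv
    rw [← hζT, map_mul, map_mul, map_inv, MulAut.mul_apply, MulAut.mul_apply, MulAut.inv_apply_self, hv]
  have hcard : ∀ i, Nat.card (fixS (φ (ζ i))) ≤ Nat.card (fixS (φ (ζ (i + 1)))) := by
    intro i
    refine Nat.card_le_card_of_injective
      (fun v : fixS (φ (ζ i)) => (⟨φ T v, hmv i v v.2⟩ : fixS (φ (ζ (i + 1))))) ?_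
    intro v w hvw
    exact Subtype.ext ((φ T).injective (congrArg Subtype.val hvw))
  have c01 := hcard 0
  have c12 := hcard 1
  have c20 := hcard 2
  change Nat.card (fixS (φ (ζ 0))) ≤ Nat.card (fixS (φ (ζ 1))) at c01
  change Nat.card (fixS (φ (ζ 1))) ≤ Nat.card (fixS (φ (ζ 2))) at c12
  change Nat.card (fixS (φ (ζ 2))) ≤ Nat.card (fixS (φ (ζ 0))) at c20
  have c0 : Nat.card (fixS (φ (ζ 0))) = Nat.card (fixS (φ (ζ 2))) := le_antisymm (c01.trans c12) c20
  have c1 : Nat.card (fixS (φ (ζ 1))) = Nat.card (fixS (φ (ζ 2))) := le_antisymm c12 (c20.trans c01)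
  obtain ⟨v₀, hv₀⟩ : ∃ v : V, v ≠ 1 := by
    by_contra hcon
    push Not at hcon
    apply hζ1 0
    apply hφ
    ext v
    rw [hcon v, map_one, map_one]
  have hne : fixS (φ (ζ 2)) ≠ ⊥ := by
    intro hb
    have h4 : Nat.card (fixS (φ (ζ 2))) = 1 := by rw [hb]; exact Nat.card_unique
    rcases tri.exists_ne hv₀ with h5 | h5 | h5
    · exact h5 (Subgroup.card_eq_one.1 (c0.trans h4))
    · exact h5 (Subgroup.card_eq_one.1 (c1.trans h4))
    · exact h5 hb
  -- the Heisenberg configuration on the fixed points of `ζ 2`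
  set U : Subgroup V := fixS (φ (ζ 2)) with hU
  let C : Subgroup L := Subgroup.centralizer {ζ 2}
  have hinv : ∀ k : C, ∀ v ∈ U, (φ.comp C.subtype) k v ∈ U := by
    intro k v hv
    show φ (ζ 2) (φ k v) = φ k v
    have h4 : (k : L) * ζ 2 = ζ 2 * k := (Subgroup.mem_centralizer_singleton_iff.1 k.2)
    rw [← MulAut.mul_apply, ← map_mul, ← h4, map_mul, MulAut.mul_apply, show φ (ζ 2) v = v from hv]
  let ψ : C →* MulAut U := resAct (φ.comp C.subtype) U hinv
  have hψ : ∀ (k : C) (v : U), (ψ k v : V) = φ k v := fun k v => rfl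
  have memX : ∀ p, X p ∈ C := fun p =>
    Subgroup.mem_centralizer_singleton_iff.2 (c.comm_X (c.map_zi 2 1) p).symm
  have memY : ∀ p, Y p ∈ C := fun p =>
    Subgroup.mem_centralizer_singleton_iff.2 (c.comm_Y (c.map_zi 2 1) p).symm
  have memZ : ∀ i s, Cov.zi X Y i s ∈ C := fun i s =>
    Subgroup.mem_centralizer_singleton_iff.2 (c.zi_comm i 2 s 1)
  have hprod : (ζ 1)⁻¹ = ζ 2 * ζ 0 := by
    have h4 : ζ 1 * (ζ 2 * ζ 0) = 1 := by
      have h5 : ζ 1 * (ζ 2 * ζ 0) = χ ^ 3 * ζ 0 ^ 3 := by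
        have hc0 : Commute (ζ 0) χ := hχc _
        rw [e2, e1]
        calc χ * ζ 0 * (χ * (χ * ζ 0) * ζ 0) = χ * (ζ 0 * χ) * (χ * ζ 0 * ζ 0) := by group
          _ = χ * (χ * ζ 0) * (χ * ζ 0 * ζ 0) := by rw [hc0.eq]
          _ = χ * χ * (ζ 0 * χ) * ζ 0 * ζ 0 := by group
          _ = χ * χ * (χ * ζ 0) * ζ 0 * ζ 0 := by rw [hc0.eq]
          _ = χ ^ 3 * ζ 0 ^ 3 := by simp only [pow_succ, pow_zero, one_mul, mul_assoc]
      rw [h5, hχ3, hζ3, one_mul]
    exact inv_eq_of_mul_eq_one_right h4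
  have hψ2 : ψ ⟨ζ 2, memZ 2 1⟩ = 1 := by
    ext v
    rw [hψ]
    exact v.2
  have hψ1 : ψ ⟨Cov.zi X Y 1 (-1), memZ 1 (-1)⟩ = ψ ⟨ζ 0, memZ 0 1⟩ := by
    have h4 : (⟨Cov.zi X Y 1 (-1), memZ 1 (-1)⟩ : C) = ⟨ζ 2, memZ 2 1⟩ * ⟨ζ 0, memZ 0 1⟩ := by
      apply Subtype.ext
      show Cov.zi X Y 1 (-1) = ζ 2 * ζ 0
      rw [c.zi_neg, ← hprod]
    rw [h4, map_mul, hψ2, one_mul]
  have hheis : Heis 3 2 (ψ ⟨ζ 0, memZ 0 1⟩)
      ![ψ ⟨X (Pi.single 0 1), memX _⟩, ψ ⟨X (Pi.single 1 1), memX _⟩]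
      ![ψ ⟨Y (Pi.single 0 1), memY _⟩, ψ ⟨Y (Pi.single 1 (-1)), memY _⟩] := by
    have hX3 : ∀ i, X (Pi.single i 1) ^ 3 = 1 := by
      intro i
      have h4 := add_pow' (f := fun s : F => X (Pi.single i s)) (fun s t => by
        rw [Pi.single_add, c.X_add]) 1 3
      have h5 : ((3 : ℕ) : F) * 1 = 0 := by rw [mul_one]; exact_mod_cast h3
      rw [h5, Pi.single_zero, c.liftX.zero c.odd c.dat.halfX] at h4
      exact h4
    have hzX : ∀ p, ζ 0 * X p = X p * ζ 0 := fun p => c.comm_X (c.map_zi 0 1) p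
    have hzY : ∀ p, ζ 0 * Y p = Y p * ζ 0 := fun p => c.comm_Y (c.map_zi 0 1) p
    refine ⟨Nat.prime_three, ?_, ?_, ?_, ?_, ?_, ?_, ?_⟩
    · rw [← map_pow]
      have : (⟨ζ 0, memZ 0 1⟩ : C) ^ 3 = 1 := Subtype.ext (hζ3 0)
      rw [this, map_one]
    · intro i
      fin_cases i
      · show ψ _ ^ 3 = 1
        rw [← map_pow]
        have : (⟨X (Pi.single 0 1), memX _⟩ : C) ^ 3 = 1 := Subtype.ext (hX3 0)
        rw [this, map_one]
      · show ψ _ ^ 3 = 1
        rw [← map_pow]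
        have : (⟨X (Pi.single 1 1), memX _⟩ : C) ^ 3 = 1 := Subtype.ext (hX3 1)
        rw [this, map_one]
    · intro i
      fin_cases i
      · show ψ _ * ψ _ = ψ _ * ψ _
        rw [← map_mul, ← map_mul]
        exact congrArg ψ (Subtype.ext (hzX _))
      · show ψ _ * ψ _ = ψ _ * ψ _
        rw [← map_mul, ← map_mul]
        exact congrArg ψ (Subtype.ext (hzX _))
    · intro i
      fin_cases i
      · show ψ _ * ψ _ = ψ _ * ψ _
        rw [← map_mul, ← map_mul]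
        exact congrArg ψ (Subtype.ext (hzY _))
      · show ψ _ * ψ _ = ψ _ * ψ _
        rw [← map_mul, ← map_mul]
        exact congrArg ψ (Subtype.ext (hzY _))
    · intro i j
      have hXX : ∀ p q, ψ ⟨X p, memX p⟩ * ψ ⟨X q, memX q⟩ = ψ ⟨X q, memX q⟩ * ψ ⟨X p, memX p⟩ := by
        intro p q
        rw [← map_mul, ← map_mul]
        exact congrArg ψ (Subtype.ext (c.X_comm p q))
      fin_cases i <;> fin_cases j <;> exact hXX _ _
    · intro i j hij
      have hYX : ∀ i j : Fin 3, i ≠ j → ∀ s t, ψ ⟨Y (Pi.single i s), memY _⟩ * ψ ⟨X (Pi.single j t), memX _⟩ =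
          ψ ⟨X (Pi.single j t), memX _⟩ * ψ ⟨Y (Pi.single i s), memY _⟩ := by
        intro i j hij s t
        rw [← map_mul, ← map_mul]
        have h1 := c.bet_off hij.symm t s
        unfold bet at h1
        exact congrArg ψ (Subtype.ext (mul_inv_eq_iff_eq_mul.1 (mul_inv_eq_one.1 h1)))
      fin_cases i <;> fin_cases j
      · exact absurd rfl hij
      · exact hYX 0 1 (by decide) _ _
      · exact hYX 1 0 (by decide) _ _
      · exact absurd rfl hij
    · intro i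
      have hcj : ∀ (i : Fin 3) (t : F), ψ ⟨Y (Pi.single i t), memY _⟩ * ψ ⟨X (Pi.single i 1), memX _⟩ *
          (ψ ⟨Y (Pi.single i t), memY _⟩)⁻¹ = ψ ⟨X (Pi.single i 1), memX _⟩ * ψ ⟨Cov.zi X Y i t, memZ i t⟩ := by
        intro i t
        rw [← map_inv, ← map_mul, ← map_mul, ← map_mul]
        refine congrArg ψ (Subtype.ext ?_)
        show Y (Pi.single i t) * X (Pi.single i 1) * (Y (Pi.single i t))⁻¹ = X (Pi.single i 1) * Cov.zi X Y i t
        rw [c.bet_conj', c.bet_same, one_mul]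
      fin_cases i
      · exact hcj 0 1
      · have h4 := hcj 1 (-1)
        rw [hψ1] at h4
        exact h4
  have hψ0 : ψ ⟨ζ 0, memZ 0 1⟩ ≠ 1 := by
    intro h4
    apply hne
    rw [eq_bot_iff]
    intro v hv
    rw [Subgroup.mem_bot]
    have h5 : φ (ζ 0) v = v := by
      have := congrArg Subtype.val (DFunLike.congr_fun h4 ⟨v, hv⟩)
      exact this
    apply hfree
    -- `ζ 0 = χ ζ 2`
    rw [e0, map_mul, MulAut.mul_apply, show φ (ζ 2) v = v from hv] at h5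
    exact h5
  have hU2 : IsPGroup 2 U := h2.to_subgroup U
  have h18 := hheis.two_pow_le_mulAut (MonoidHom.id (MulAut U)) hU2 (by norm_num) hψ0
  rw [orderOf_two_three] at h18
  have h54 := tri.card_le
  rw [c0, c1] at h54
  calc 2 ^ 54 = 2 ^ (2 * 3 ^ 2) * 2 ^ (2 * 3 ^ 2) * 2 ^ (2 * 3 ^ 2) := by norm_num
    _ ≤ Nat.card U * Nat.card U * Nat.card U := Nat.mul_le_mul (Nat.mul_le_mul h18 h18) h18
    _ ≤ Nat.card V := h54

end

end Cfsg.Agent.Omega.TwoF.OLift
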