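import Cfsg.Agent.Omega.TwoF.OrthFrame
import Cfsg.Agent.Omega.TwoF.OThree
import Cfsg.Agent.Omega.TwoF.Bridge

/-!
# LB column of the orthogonal rows of TABLE 2F

`lb_all`: `Q` nondegenerate in dimension `n ≥ 7` over a finite field of odd order `q`, characteristic `p`:
`LB (PΩ(Q)) (ord_p(2) * q ^ (n - 4))`, all odd covers, no exception.
`lb_odd`, `lb_plus`, `lb_minus`: the groups of the list.
-/

set_option autoImplicit false
set_option linter.unusedSectionVars false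

universe u v w

namespace Cfsg.Agent.Omega.TwoF.OrthEl

open QuadraticMap Matrix Module
open Cfsg.Agent.ClassicalGeometry.Reflection Cfsg.Agent.ClassicalGeometry.Eichler
open Cfsg.Agent.ClassicalGeometry.SiegelGen Cfsg.Agent.ClassicalGeometry.SpinorSign
open Cfsg.Agent.ClassicalGeometry.GenReflections (act act_apply act_mul act_one act_isometry act_polar act_ext
  act_reflIso act_inv_eq)
open Cfsg.Agent.Omega.TwoF.OLift

variable {ι : Type} [Fintype ι] [DecidableEq ι] {F : Type*} [Field F] {Q : QuadraticForm F (ι → F)}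

theorem two_ne {p : ℕ} [Fact p.Prime] [CharP F p] (hp2 : p ≠ 2) : (2 : F) ≠ 0 := by
  intro h
  have h1 : ((2 : ℕ) : F) = 0 := by exact_mod_cast h
  rw [CharP.cast_eq_zero_iff F p] at h1
  exact hp2 ((Nat.prime_dvd_prime_iff_eq Fact.out Nat.prime_two).1 h1)

theorem vec_three (b : Fin 3 → ι → F) (p : Fin 3 → F) : vec b p = p 0 • b 0 + p 1 • b 1 + p 2 • b 2 := by
  rw [vec, Fin.sum_univ_three]

/-- The reflection in `v - w` exchanges `v` and `w` (orthogonal, same norm). -/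
theorem refl_swap {v w : ι → F} (h2 : (2 : F) ≠ 0) (hv : Q v ≠ 0) (hvw : Q v = Q w) (ho : polar (⇑Q) v w = 0) :
    ∃ h : Q (v - w) ≠ 0, Q (v - w) = 2 * Q v ∧ act Q (reflIso Q (v - w) h) v = w ∧
      act Q (reflIso Q (v - w) h) w = v := by
  have h1 : Q (v - w) = 2 * Q v := by
    rw [sub_eq_add_neg, map_add', QuadraticMap.map_neg, QuadraticMap.polar_neg_right, ho, ← hvw]
    ring
  have h3 : Q (v - w) ≠ 0 := by rw [h1]; exact mul_ne_zero h2 hv
  refine ⟨h3, h1, ?_, ?_⟩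
  · rw [act_reflIso, h1, QuadraticMap.polar_sub_left, polar_self', polar_comm (⇑Q) w v, ho]
    have : (2 * Q v)⁻¹ * (2 * Q v - 0) = 1 := by rw [sub_zero]; exact inv_mul_cancel₀ (mul_ne_zero h2 hv)
    rw [this, one_smul]; abel
  · rw [act_reflIso, h1, QuadraticMap.polar_sub_left, polar_self', ho, ← hvw]
    have : (2 * Q v)⁻¹ * (0 - 2 * Q v) = -1 := by
      rw [zero_sub, mul_neg, inv_mul_cancel₀ (mul_ne_zero h2 hv)]
    rw [this, neg_one_smul]; abel

/-- The cyclic permutation of three vectors of the same norm. -/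
theorem Frame.exists_rot {e f e' f' : ι → F} {b : Fin 3 → ι → F} (H : Frame Q e f e' f' b) (h2 : (2 : F) ≠ 0)
    (hQ : (polarBilin Q).Nondegenerate) (hb : ∀ i, Q (b i) = Q (b 0)) :
    ∃ ρ : Cfsg.Omega F (⇑Q), ρ * H.gO h2 hQ = H.gO h2 hQ * ρ ∧ (∀ p, ρ * H.xO h2 hQ p * ρ⁻¹ = H.xO h2 hQ (rot p)) ∧
      (∀ p, ρ * H.yO h2 hQ p * ρ⁻¹ = H.yO h2 hQ (rot p)) := by
  obtain ⟨n01, q01, s0, s1⟩ := refl_swap (Q := Q) h2 (H.nz 0) (by rw [hb 1]) (H.orth 0 1 (by decide))
  obtain ⟨n12, q12, t1, t2⟩ := refl_swap (Q := Q) h2 (H.nz 1) (by rw [hb 1, hb 2]) (H.orth 1 2 (by decide))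
  have s2 : act Q (reflIso Q (b 0 - b 1) n01) (b 2) = b 2 := by
    apply refl_fix
    rw [QuadraticMap.polar_sub_left, H.orth 0 2 (by decide), H.orth 1 2 (by decide), sub_zero]
  have t0 : act Q (reflIso Q (b 1 - b 2) n12) (b 0) = b 0 := by
    apply refl_fix
    rw [QuadraticMap.polar_sub_left, H.orth 1 0 (by decide), H.orth 2 0 (by decide), sub_zero]
  have hmem : reflIso Q (b 0 - b 1) n01 * reflIso Q (b 1 - b 2) n12 ∈ Cfsg.Omega F (⇑Q) :=
    refl_mul_mem h2 hQ n01 n12 (by rw [q01, q12, hb 1]; exact ⟨_, rfl⟩)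
  set ρ := reflIso Q (b 0 - b 1) n01 * reflIso Q (b 1 - b 2) n12 with hρ
  have r0 : act Q ρ (b 0) = b 1 := by rw [hρ, act_mul, t0, s0]
  have r1 : act Q ρ (b 1) = b 2 := by rw [hρ, act_mul, t1, s2]
  have r2 : act Q ρ (b 2) = b 0 := by rw [hρ, act_mul, t2, s1]
  have horth : ∀ v : ι → F, (∀ i, polar (⇑Q) v (b i) = 0) → act Q ρ v = v := by
    intro v hv
    have e12 : act Q (reflIso Q (b 1 - b 2) n12) v = v :=
      refl_fix _ (by rw [polar_comm, QuadraticMap.polar_sub_right, hv, hv, sub_zero])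
    have e01 : act Q (reflIso Q (b 0 - b 1) n01) v = v :=
      refl_fix _ (by rw [polar_comm, QuadraticMap.polar_sub_right, hv, hv, sub_zero])
    rw [hρ, act_mul, e12, e01]
  have re := horth e H.eb
  have re' := horth e' H.eb'
  have rv : ∀ p, act Q ρ (vec b p) = vec b (rot p) := by
    intro p
    rw [vec_three, vec_three, map_add, map_add, map_smul, map_smul, map_smul, r0, r1, r2]
    show p 0 • b 1 + p 1 • b 2 + p 2 • b 0 = p 2 • b 0 + p 0 • b 1 + p 1 • b 2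
    abel
  have rd : ∀ p, dual Q b (rot p) = rot (dual Q b p) := by
    intro p
    funext i
    simp only [dual, rot, hb i, hb (i - 1)]
  refine ⟨⟨ρ, hmem⟩, Subtype.ext ?_, fun p => Subtype.ext (H.x_conj_one ρ re (rv p)),
    fun p => Subtype.ext (H.y_conj_one ρ re' (by rw [rv, rd]))⟩
  have hcomm : ∀ i j (h : Q (b i - b j) ≠ 0), reflIso Q (b i - b j) h * H.t (-1) = H.t (-1) * reflIso Q (b i - b j) h :=
    fun i j h => H.t_refl_comm (-1) h
      (by rw [QuadraticMap.polar_sub_right, H.eb, H.eb, sub_zero])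
      (by rw [QuadraticMap.polar_sub_right, H.fb, H.fb, sub_zero])
      (by rw [QuadraticMap.polar_sub_right, H.eb', H.eb', sub_zero])
      (by rw [QuadraticMap.polar_sub_right, H.fb', H.fb', sub_zero])
  show ρ * H.t (-1) = H.t (-1) * ρ
  rw [hρ, mul_assoc, hcomm 1 2, ← mul_assoc, hcomm 0 1, mul_assoc]

/-- **The lower bound for `PΩ(Q)`**, `n ≥ 7`, `q` odd. -/
theorem lb_all [Finite F] {p : ℕ} [Fact p.Prime] [CharP F p] (hp2 : p ≠ 2) (Q : QuadraticForm F (ι → F))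
    (hQ : (polarBilin Q).Nondegenerate) (hn : 7 ≤ Fintype.card ι) :
    Lie.Heis.LB.{_, v, w} (Cfsg.POmega F (⇑Q)) (orderOf (2 : ZMod p) * Nat.card F ^ (Fintype.card ι - 4)) := by
  by_cases h73 : Fintype.card ι ≠ 7 ∨ Nat.card F ≠ 3
  · exact lb_pomega hp2 Q hQ hn h73
  push Not at h73
  obtain ⟨h7, hF⟩ := h73
  have h2 : (2 : F) ≠ 0 := two_ne hp2
  have : IsSimpleGroup (Cfsg.POmega F (⇑Q)) :=
    Cfsg.Agent.LieClassical.OrthFinite.isSimpleGroup_POmega (fun x hx => hQ.1 x fun y => hx y) (by omega)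
  have hp3 : p = 3 := by
    have := Fintype.ofFinite F
    obtain ⟨n, hn⟩ := FiniteField.card F p
    rw [← Nat.card_eq_fintype_card, hF] at hn
    have h5 : p ∣ 3 := by rw [hn.2]; exact dvd_pow_self p n.ne_zero
    exact (Nat.prime_dvd_prime_iff_eq Fact.out Nat.prime_three).1 h5
  subst hp3
  obtain ⟨m, e, f, e', f', b, H, hm⟩ := exists_frame_aux h2 Q hQ (by omega)
  by_cases h4 : 4 ≤ m
  · -- impossible, but the general argument applies
    have hsep : SepCond Q b := fun i j _ => by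
      obtain ⟨r, h3, h5, h6⟩ := H.exists_off h2 (by rwa [Fintype.card_fin]) i j (Q (b i))
      exact ⟨r, h3, h5, by rw [h6]; exact H.nz i, by rw [h6]; exact ⟨_, rfl⟩⟩
    have d := (H.dat h2 hQ 3 hsep).map (QuotientGroup.mk' (Subgroup.center (Cfsg.Omega F (⇑Q))))
    have hz : ∃ s : F, QuotientGroup.mk' (Subgroup.center (Cfsg.Omega F (⇑Q))) (H.zO h2 hQ s) ≠ 1 := by
      refine ⟨1, fun h => ?_⟩
      exact H.z_not_central h2 hQ ⟨0, by omega⟩ one_ne_zero ((QuotientGroup.eq_one_iff _).1 h)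
    have ht := fun i => (H.tie_all h2 hQ (by
      rw [Fintype.card_fin]
      exact Or.inl h4) i ⟨0, by omega⟩).map (QuotientGroup.mk' (Subgroup.center (Cfsg.Omega F (⇑Q))))
    have h3 := lb_of_dat.{_, v, w} hp2 d hz ⟨0, by omega⟩ ht
    rw [Nat.card_eq_fintype_card (α := Fin m), Fintype.card_fin] at h3
    exact h3.mono (Nat.mul_le_mul_left _ (Nat.pow_le_pow_right Nat.card_pos (by omega)))
  have hm3 : m = 3 := by omega
  subst hm3
  obtain ⟨c, H', hc⟩ := exists_frame_three h2 H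
  have hsq : ∀ a : F, a ≠ 0 → a ^ 2 = 1 := by
    intro a ha
    have := Fintype.ofFinite F
    have h5 := FiniteField.pow_card_sub_one_eq_one a ha
    rwa [← Nat.card_eq_fintype_card, hF] at h5
  have hceq : ∀ i, Q (c i) = Q (c 0) := by
    intro i
    obtain ⟨t, ht⟩ := hc i 0
    have ht0 : t ≠ 0 := by
      rintro rfl
      rw [mul_zero] at ht
      exact (mul_ne_zero (H'.nz i) (H'.nz 0)) ht
    have h5 : Q (c i) * Q (c 0) = 1 := by rw [ht, ← pow_two]; exact hsq t ht0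
    have h6 : Q (c 0) * Q (c 0) = 1 := by rw [← pow_two]; exact hsq _ (H'.nz 0)
    exact mul_right_cancel₀ (H'.nz 0) (h5.trans h6.symm)
  have hsep : SepCond Q c := fun i j hij => by
    obtain ⟨k, hki, hkj⟩ : ∃ k : Fin 3, k ≠ i ∧ k ≠ j := by
      revert i j; decide
    refine ⟨Pi.single k 1, Pi.single_eq_of_ne hki.symm _, Pi.single_eq_of_ne hkj.symm _, ?_, ?_⟩
    · rw [vec_single, one_smul]; exact H'.nz k
    · rw [vec_single, one_smul]; exact hc i k
  have d := (H'.dat h2 hQ 3 hsep).map (QuotientGroup.mk' (Subgroup.center (Cfsg.Omega F (⇑Q))))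
  obtain ⟨ρ, hρ, hρx, hρy⟩ := H'.exists_rot h2 hQ hceq
  set κ := QuotientGroup.mk' (Subgroup.center (Cfsg.Omega F (⇑Q)))
  have h54 := lb_three.{_, v, w} hF d (fun h => H'.z_not_central h2 hQ 0 one_ne_zero ((QuotientGroup.eq_one_iff _).1 h))
    (ρ := κ ρ) (by rw [← map_mul, ← map_mul, hρ]) (fun p => by rw [← map_inv, ← map_mul, ← map_mul, hρx])
    (fun p => by rw [← map_inv, ← map_mul, ← map_mul, hρy])
  have e54 : orderOf (2 : ZMod 3) * Nat.card F ^ (Fintype.card ι - 4) = 54 := by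
    rw [orderOf_two_three, hF, h7]; norm_num
  rw [e54]
  exact h54

section rows

open Cfsg.Agent.LieClassical Cfsg.Agent.LieClassical.OrthCore

theorem nondeg_polarBilin {Q : QuadraticForm F (ι → F)} (h : Nondeg Q) : (polarBilin Q).Nondegenerate :=
  ⟨fun x hx => h x fun y => hx y, fun x hx => h x fun y => by
    have := hx y
    rw [polarBilin_apply_apply, polar_comm] at this
    exact this⟩

variable {F : Type} [Field F] [Finite F] {p : ℕ} [Fact p.Prime] [CharP F p]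

/-- **LB, row `PΩ_{2m+1}(q)`**, `q` odd, `m ≥ 3`. -/
theorem lb_odd (hp2 : p ≠ 2) (m : ℕ) (hm : 3 ≤ m) :
    TwoF.LB.{u, 0} (Cfsg.POmega F (Cfsg.quadFormOdd m F)) (orderOf (2 : ZMod p) * Nat.card F ^ (2 * m - 3)) := by
  have h2 : (2 : F) ≠ 0 := two_ne hp2
  have hc : Fintype.card (Unit ⊕ (Fin m ⊕ Fin m)) = 2 * m + 1 := by
    rw [Fintype.card_sum, Fintype.card_sum, Fintype.card_fin, Fintype.card_unit]; omega
  have h := lb_all.{u, u} hp2 (OrthForms.oddForm m F) (nondeg_polarBilin (OrthForms.nondeg_oddForm m F h2))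
    (by rw [hc]; omega)
  rw [hc, show 2 * m + 1 - 4 = 2 * m - 3 by omega] at h
  rw [OrthForms.coe_oddForm] at h
  exact LB.of_heis h

/-- **LB, row `PΩ⁺_{2m}(q)`**, `q` odd, `m ≥ 4`. -/
theorem lb_plus (hp2 : p ≠ 2) (m : ℕ) (hm : 4 ≤ m) :
    TwoF.LB.{u, 0} (Cfsg.POmega F (Cfsg.quadFormPlus m F)) (orderOf (2 : ZMod p) * Nat.card F ^ (2 * m - 4)) := by
  have hc : Fintype.card (Fin m ⊕ Fin m) = 2 * m := by
    rw [Fintype.card_sum, Fintype.card_fin]; omega
  have h := lb_all.{u, u} hp2 (OrthForms.plusForm m F) (nondeg_polarBilin (OrthForms.nondeg_plusForm m F))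
    (by rw [hc]; omega)
  rw [hc] at h
  rw [OrthForms.coe_plusForm] at h
  exact LB.of_heis h

/-- **LB, row `PΩ⁻_{2m}(q)`**, `q` odd, `m ≥ 4`. -/
theorem lb_minus (hp2 : p ≠ 2) (m : ℕ) (hm : 4 ≤ m) (a b : F)
    (hab : ∀ z₁ z₂ : F, z₁ ^ 2 + a * z₁ * z₂ + b * z₂ ^ 2 = 0 → z₁ = 0 ∧ z₂ = 0) :
    TwoF.LB.{u, 0} (Cfsg.POmega F (Cfsg.quadFormMinus (m - 1) F a b))
      (orderOf (2 : ZMod p) * Nat.card F ^ (2 * m - 4)) := by
  have hc : Fintype.card ((Fin (m - 1) ⊕ Fin (m - 1)) ⊕ Fin 2) = 2 * m := by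
    rw [Fintype.card_sum, Fintype.card_sum, Fintype.card_fin, Fintype.card_fin]; omega
  have h := lb_all.{u, u} hp2 (OrthForms.minusForm (m - 1) F a b)
    (nondeg_polarBilin (OrthForms.nondeg_minusForm (m - 1) F a b hab)) (by rw [hc]; omega)
  rw [hc] at h
  rw [OrthForms.coe_minusForm] at h
  exact LB.of_heis h

end rows

end Cfsg.Agent.Omega.TwoF.OrthEl
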