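import Cfsg.Agent.Omega.TwoF.RowPOm
import Cfsg.Agent.Omega.TwoF.OrthRow
import Cfsg.Agent.Omega.EH3.Row

/-!
# TABLE 2F: the rows `PΩ_{2m+1}(q)`, `PΩ⁺_{2m}(q)`, `PΩ⁻_{2m}(q)`, `q` odd

Lower bounds: `OrthRow` (helper238); ranks: `RkPOm`.  `omOdd`, `omPlus`, `omMinus` are the fields of
`KFacts.Rows2`.
-/

set_option autoImplicit false

namespace Cfsg.Agent.Omega.TwoF.RowOrth

open Cfsg

universe u

theorem two_le_orderOf {p : ℕ} (hp : p.Prime) (hp2 : p ≠ 2) : 2 ≤ orderOf (2 : ZMod p) := by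
  have : Fact p.Prime := ⟨hp⟩
  have h2 : (2 : ZMod p) ≠ 0 := by
    intro h
    have h1 : ((2 : ℕ) : ZMod p) = 0 := by exact_mod_cast h
    rw [CharP.cast_eq_zero_iff (ZMod p) p] at h1
    exact hp2 ((Nat.prime_dvd_prime_iff_eq hp Nat.prime_two).1 h1)
  have h0 : 0 < orderOf (2 : ZMod p) := by
    have hf : IsOfFinOrder (Units.mk0 (2 : ZMod p) h2) := isOfFinOrder_of_finite _
    have h3 : orderOf (2 : ZMod p) = orderOf (Units.mk0 (2 : ZMod p) h2) := by
      rw [← orderOf_units, Units.val_mk0]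
    rw [h3]
    exact hf.orderOf_pos
  have h1 : orderOf (2 : ZMod p) ≠ 1 := by
    intro h
    rw [orderOf_eq_one_iff] at h
    have h4 : (1 : ZMod p) = 0 := by
      calc (1 : ZMod p) = 2 - 1 := by norm_num
        _ = 0 := by rw [h, sub_self]
    exact one_ne_zero h4
  omega

theorem three_le_card {F : Type*} [Field F] [Finite F] {p : ℕ} [CharP F p] (hp : p.Prime) (hp2 : p ≠ 2) :
    3 ≤ Nat.card F := by
  have hF := Fintype.ofFinite F
  obtain ⟨n, -, hn⟩ := FiniteField.card F p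
  rw [Nat.card_eq_fintype_card, hn]
  have h3 : 3 ≤ p := by
    have := hp.two_le
    omega
  calc 3 ≤ p := h3
    _ = p ^ 1 := (pow_one p).symm
    _ ≤ p ^ (n : ℕ) := Nat.pow_le_pow_right (by omega) n.pos

theorem bound {F : Type*} [Field F] [Finite F] {p : ℕ} [CharP F p] (hp : p.Prime) (hp2 : p ≠ 2) (k : ℕ) :
    2 * 3 ^ k ≤ orderOf (2 : ZMod p) * Nat.card F ^ k :=
  Nat.mul_le_mul (two_le_orderOf hp hp2) (Nat.pow_le_pow_left (three_le_card (F := F) hp hp2) k)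

theorem exists_char {F : Type*} [Field F] [Finite F] (h2 : (2 : F) ≠ 0) :
    ∃ p : ℕ, CharP F p ∧ p.Prime ∧ p ≠ 2 := by
  obtain ⟨p, hp⟩ := CharP.exists F
  have hp' : p.Prime := (CharP.char_is_prime_or_zero F p).resolve_right
    (fun h0 => by subst h0; exact CharP.char_ne_zero_of_finite F 0 rfl)
  refine ⟨p, hp, hp', ?_⟩
  rintro rfl
  exact h2 (by exact_mod_cast CharP.cast_eq_zero F 2)

theorem lbOdd : RowPOm.LBOdd.{u} := by
  intro F _ _ m h2 hm
  obtain ⟨p, hc, hp, hp2⟩ := exists_char h2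
  have : Fact p.Prime := ⟨hp⟩
  exact (OrthEl.lb_odd.{u} hp2 m hm).mono (bound (F := F) hp hp2 _)

theorem lbPlus : RowPOm.LBPlus.{u} := by
  intro F _ _ m h2 hm
  obtain ⟨p, hc, hp, hp2⟩ := exists_char h2
  have : Fact p.Prime := ⟨hp⟩
  exact (OrthEl.lb_plus.{u} hp2 m hm).mono (bound (F := F) hp hp2 _)

theorem lbMinus : RowPOm.LBMinus.{u} := by
  intro F _ _ m a b h2 hm hab
  obtain ⟨p, hc, hp, hp2⟩ := exists_char h2
  have : Fact p.Prime := ⟨hp⟩
  exact (OrthEl.lb_minus.{u} hp2 m hm a b hab).mono (bound (F := F) hp hp2 _)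

/-- row `PΩ_{2m+1}(q)`, `q` odd -/
theorem kill_omOdd : KFacts.KillRow.{u} fun K _ => KFacts.OddChar @Cfsg.IsPOmegaOddChar K :=
  fun K _ h => RowPOm.omOdd lbOdd K h

/-- row `PΩ⁺_{2m}(q)`, `q` odd -/
theorem kill_omPlus : KFacts.KillRow.{u} fun K _ => KFacts.OddChar @Cfsg.IsPOmegaPlusChar K :=
  fun K _ h => RowPOm.omPlus lbPlus K h

/-- row `PΩ⁻_{2m}(q)`, `q` odd -/
theorem kill_omMinus : KFacts.KillRow.{u} fun K _ => KFacts.OddChar @Cfsg.IsPOmegaMinusChar K :=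
  fun K _ h => RowPOm.omMinus lbMinus K h

/-- **the field `omOdd` of `KFacts.Rows2`.** -/
theorem omOdd : KFacts.Row.{u} fun K _ => KFacts.OddChar @Cfsg.IsPOmegaOddChar K := kill_omOdd.toRow

/-- **the field `omPlus` of `KFacts.Rows2`.** -/
theorem omPlus : KFacts.Row.{u} fun K _ => KFacts.OddChar @Cfsg.IsPOmegaPlusChar K := kill_omPlus.toRow

/-- **the field `omMinus` of `KFacts.Rows2`.** -/
theorem omMinus : KFacts.Row.{u} fun K _ => KFacts.OddChar @Cfsg.IsPOmegaMinusChar K := kill_omMinus.toRow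

end Cfsg.Agent.Omega.TwoF.RowOrth
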