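import Cfsg.Agent.Omega.TwoF.RowJ1
import Cfsg.Agent.Omega.Lie.PairRee

/-!
# TABLE 2F: the small Ree groups

The Sylow 2-subgroups are elementary abelian of order 8 and involutory automorphisms are inner: the 2-rank of the
automorphism group is 3.
-/

set_option autoImplicit false

namespace Cfsg.Agent.Omega.TwoF.RowRee

open Subgroup Cfsg

universe u

theorem facts {F : Type} [Field F] [Fintype F] {m : ℕ} (hm : 1 ≤ m) (hF : Fintype.card F = 3 ^ (2 * m + 1)) :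
    center ↥(Cfsg.Lie.twistedG2 F (3 ^ m)) = ⊥ ∧ Nontrivial ↥(Cfsg.Lie.twistedG2 F (3 ^ m)) ∧
      RK ↥(Cfsg.Lie.twistedG2 F (3 ^ m)) 3 := by
  have hfin := Lie.PairRee.finite_ree hm hF
  obtain ⟨hs, hc⟩ := Cfsg.Agent.S1073.result hm hF
  obtain ⟨a, haH, ha1, ha2⟩ := Cfsg.Agent.S1157.exists_involution hF
  obtain ⟨-, hS⟩ := Cfsg.Agent.S1152.result hF a haH ha1 ha2
  have hZ : center ↥(Cfsg.Lie.twistedG2 F (3 ^ m)) = ⊥ := by
    rcases (Subgroup.instNormalCenter (G := ↥(Cfsg.Lie.twistedG2 F (3 ^ m)))).eq_bot_or_eq_top with h1 | h1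
    · exact h1
    · exact absurd ⟨⟨fun a b => by
        have : a ∈ center ↥(Cfsg.Lie.twistedG2 F (3 ^ m)) := by rw [h1]; exact mem_top a
        exact (mem_center_iff.1 this b).symm⟩⟩ hc
  refine ⟨hZ, inferInstance, RowJ1.rk_of_syl ?_ hZ hS⟩
  by_contra hcon
  push Not at hcon
  exact hc ⟨⟨hcon⟩⟩

/-- **The row `²G₂(q)`.** -/
theorem row : KFacts.KillRow.{u} @Cfsg.Lie.IsoRee := by
  rintro K _ ⟨F, _, _, m, hm, hF, ⟨e⟩⟩
  obtain ⟨h1, h2, h3⟩ := facts hm hF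
  exact ((Dead2.of_rk (h3.mono (by norm_num))).kill h1 h2).equiv e

end Cfsg.Agent.Omega.TwoF.RowRee
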