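import Cfsg.Agent.Omega.TwoF.RowTool
import Cfsg.Agent.Omega.TwoF.SmallSporLB
import Cfsg.Agent.Omega.KFacts
import Cfsg.Agent.OddHalf.Table.OutRu

/-!
# TABLE 2F: the row Ru (helper900)

`|V| ≥ 2 ^ 28` (the prime 29), `m_2(Aut Ru) ≤ 11` (`|Aut Ru|₂ = 2 ^ 14`, an element of order 16).
-/

set_option autoImplicit false
set_option maxRecDepth 100000

namespace Cfsg.Agent.Omega.TwoF.RowRu

open Subgroup
open Cfsg.Agent.SporadicB Cfsg.Agent.OddHalf.Table.OutRu

universe u v

theorem ord29 : 28 ≤ orderOf (2 : ZMod 29) :=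
  le_orderOf_two (isOfFinOrder_iff_pow_eq_one.2 ⟨28, by norm_num, by decide +kernel⟩) (by decide +kernel)

theorem card_eq : Nat.card RuOrder.H = 145926144000 := RuOrder.card_H

theorem simple : IsSimpleGroup RuOrder.H := RuSimple.isSimpleGroup_H

/-- **LB**: `|V| ≥ 2 ^ 28`. -/
theorem lb : Cfsg.Agent.Omega.Lie.Heis.LB.{0, u, v} RuOrder.H 28 := by
  have := simple
  exact Cfsg.Agent.Omega.Lie.Heis.LB.prime (p := 29) (by norm_num) (by norm_num) (by rw [card_eq]; norm_num) ord29

theorem center_eq : center RuOrder.H = ⊥ := by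
  have hs := simple
  rcases (inferInstance : (center RuOrder.H).Normal).eq_bot_or_eq_top with h | h
  · exact h
  · exfalso
    have hcomm : ∀ a b : RuOrder.H, a * b = b * a := fun a b => by
      have h1 : b ∈ center RuOrder.H := h ▸ mem_top b
      exact mem_center_iff.1 h1 a
    let _ : CommGroup RuOrder.H := { (inferInstance : Group RuOrder.H) with mul_comm := hcomm }
    have hp : (Nat.card RuOrder.H).Prime := IsSimpleGroup.prime_card
    rw [card_eq] at hp
    exact absurd hp (by norm_num)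

theorem range_eq : (MulAut.conj : RuOrder.H →* MulAut RuOrder.H).range = ⊤ := by
  rw [eq_top_iff]
  intro α _
  obtain ⟨g, hg⟩ := inner α
  exact ⟨g, hg.symm⟩

theorem card_mulAut : Nat.card (MulAut RuOrder.H) = 145926144000 := by
  rw [Rk.card_mulAut (n := 1) center_eq (by rw [range_eq, index_top]), one_mul, card_eq]

theorem g_pow : eqw (rep 16 [4, 0, 0, 2]) [] = true := by decide +kernel

theorem g_pow8 : Nat.beq (ev (rep 8 [4, 0, 0, 2]) 0) (ev [] 0) = false := by decide +kernel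

theorem orderOf_g : orderOf (W [4, 0, 0, 2]) = 2 ^ 4 := by
  apply orderOf_eq_prime_pow (n := 3)
  · rw [show 2 ^ 3 = 8 by norm_num, ← W_rep, ← W_nil]
    exact ne_of_ev g_pow8
  · rw [show 2 ^ (3 + 1) = 16 by norm_num, ← W_rep, eqw_sound g_pow, W_nil]

/-- **RK**: `m_2(Aut Ru) ≤ 11`. -/
theorem rk : Rk.RK.{u} RuOrder.H 11 := by
  refine Rk.rk_of_elt (e := 14) (k := 4) ?_ (W [4, 0, 0, 2]) orderOf_g (by norm_num)
  rw [card_mulAut]
  by_contra hcon
  have h1 : 2 ^ 15 ∣ 145926144000 :=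
    (Nat.prime_two.pow_dvd_iff_le_factorization (by norm_num)).2 (by omega)
  norm_num at h1

theorem dead2 : Dead2.{u} RuOrder.H := RowTool.dead center_eq lb rk (by norm_num)

/-- **Row Ru of TABLE 2F.** -/
theorem row : KFacts.KillRow.{u} @Cfsg.Spor.IsoRu := by
  rintro K _ ⟨e⟩
  have := simple
  exact (dead2.kill center_eq inferInstance).equiv (e.trans Cfsg.Agent.RuLat.Main.equiv)

end Cfsg.Agent.Omega.TwoF.RowRu
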