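import Cfsg.Agent.Omega.Lie.HeisCover
import Cfsg.Agent.Omega.TwoF.Orb

/-!
# The bound 22 from a group `3 ^ 5 : 11` (helper411)

`LB.golay` : `x` of order 11 acts on the elementary abelian group `⟨e, e^x, ...⟩` of order `3 ^ 5` with characteristic
polynomial `y ^ 5 = 1 + 2 y ^ 2 + y ^ 3 + 2 y ^ 4`; in every odd central extension (3 may divide the centre) the preimage
is abelian, so nontrivial modules in characteristic 2 have dimension at least `2 * 11`.
-/

set_option autoImplicit false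

namespace Cfsg.Agent.Omega.TwoF.Golay

open Subgroup Cfsg.Agent.Omega.Lie.Heis

universe u v w

/-- the conjugates `x ^ k e x ^ (-k)` -/
def cjp {L : Type*} [Group L] (x e : L) (k : ℕ) : L := x ^ k * e * (x ^ k)⁻¹

theorem cjp_zero {L : Type*} [Group L] (x e : L) : cjp x e 0 = e := by simp [cjp]

theorem conj_cjp {L : Type*} [Group L] (x e : L) (j k : ℕ) : x ^ j * cjp x e k * (x ^ j)⁻¹ = cjp x e (j + k) := by
  rw [cjp, cjp, pow_add]
  group

theorem conj_cjp_one {L : Type*} [Group L] (x e : L) (k : ℕ) : x * cjp x e k * x⁻¹ = cjp x e (k + 1) := by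
  have := conj_cjp x e 1 k
  rwa [pow_one, add_comm] at this

theorem map_cjp {L K : Type*} [Group L] [Group K] (π : L →* K) (x e : L) (k : ℕ) :
    π (cjp x e k) = cjp (π x) (π e) k := by
  rw [cjp, cjp, map_mul, map_mul, map_inv, map_pow]

theorem solve {A : Type*} [AddCommGroup A] {c1 c2 c3 c4 : A} (h1 : c4 = -c1 + (c1 + c1) + c2 + (c3 + c3))
    (h2 : c3 = -c2 + (0 + 0) + c1 + (c2 + c2)) (h3 : c2 = -c3 + (-c1 + -c1) + 0 + (c1 + c1))
    (h4 : c1 = -c4 + (-c2 + -c2) + -c1 + (0 + 0)) (h5 : c2 + c2 + c2 = 0) : c1 = 0 ∧ c2 = 0 ∧ c3 = 0 ∧ c4 = 0 := by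
  have e3 : c3 = -c2 := by
    have : c2 = -c3 := by
      calc c2 = -c3 + (-c1 + -c1) + 0 + (c1 + c1) := h3
        _ = -c3 := by abel
    rw [this, neg_neg]
  have e1 : c1 = -(c2 + c2) := by
    have : c1 = c3 - c2 := by
      calc c1 = (-c2 + (0 + 0) + c1 + (c2 + c2)) - c2 := by abel
        _ = c3 - c2 := by rw [← h2]
    rw [this, e3]; abel
  have e4 : c4 = 0 := by
    calc c4 = -c1 + (c1 + c1) + c2 + (c3 + c3) := h1
      _ = -(c2 + c2 + c2) := by rw [e1, e3]; abel
      _ = 0 := by rw [h5, neg_zero]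
  have e2 : c2 + c2 = 0 := by
    have : c1 = -(c2 + c2) - c1 := by
      calc c1 = -c4 + (-c2 + -c2) + -c1 + (0 + 0) := h4
        _ = -(c2 + c2) - c1 := by rw [e4]; abel
    rw [e1, sub_self] at this
    exact neg_eq_zero.1 this
  have e0 : c2 = 0 := by
    calc c2 = (c2 + c2 + c2) - (c2 + c2) := by abel
      _ = 0 := by rw [h5, e2, sub_zero]
  refine ⟨by rw [e1, e0]; simp, e0, by rw [e3, e0, neg_zero], e4⟩

section

variable {L : Type*} [Group L]

/-- the commutator -/
def cm (a b : L) : L := a * b * a⁻¹ * b⁻¹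

theorem cm_eq_one {a b : L} : cm a b = 1 ↔ a * b = b * a := by
  rw [cm, mul_inv_eq_one, mul_inv_eq_iff_eq_mul]

theorem cm_mul {a b c : L} (h : cm a c ∈ center L) : cm a (b * c) = cm a b * cm a c := by
  have h1 : cm a (b * c) = a * b * a⁻¹ * cm a c * b⁻¹ := by rw [cm, cm]; group
  rw [h1, mul_assoc _ (cm a c), ← mem_center_iff.1 h b⁻¹, ← mul_assoc, ← cm]

theorem cm_central {a z : L} (h : z ∈ center L) : cm a z = 1 := cm_eq_one.2 (mem_center_iff.1 h a)

theorem cm_inv {a b : L} : cm b a = (cm a b)⁻¹ := by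
  rw [cm, cm]; group

theorem cm_conj {a b g : L} (h : cm a b ∈ center L) : cm (g * a * g⁻¹) (g * b * g⁻¹) = cm a b := by
  have h1 : cm (g * a * g⁻¹) (g * b * g⁻¹) = g * cm a b * g⁻¹ := by rw [cm, cm]; group
  rw [h1, mem_center_iff.1 h g, mul_inv_cancel_right]

theorem cm_self {a : L} : cm a a = 1 := cm_eq_one.2 rfl

/-- **The preimage is abelian.** -/
theorem comm_four {Z : Subgroup L} (hZ : Z ≤ center L) {x e z : L} (h3 : e ^ 3 ∈ Z) (hz : z ∈ Z)
    (hc : ∀ k, k ≤ 4 → cm e (cjp x e k) ∈ Z)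
    (h5 : cjp x e 5 = z * (e * (cjp x e 2 * cjp x e 2) * cjp x e 3 * (cjp x e 4 * cjp x e 4))) :
    ∀ k, k ≤ 4 → cm e (cjp x e k) = 1 := by
  -- central values
  have hd : ∀ j k, k ≤ 4 → cm (cjp x e j) (cjp x e (j + k)) = cm e (cjp x e k) := by
    intro j k hk
    rw [← conj_cjp x e j k, cjp]
    exact cm_conj (hZ (hc k hk))
  have hd' : ∀ j k, k ≤ 4 → cm (cjp x e (j + k)) (cjp x e j) = (cm e (cjp x e k))⁻¹ := by
    intro j k hk
    rw [cm_inv, hd j k hk]
  have hcen : ∀ i j, i ≤ 4 → j ≤ 4 → cm (cjp x e i) (cjp x e j) ∈ center L := by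
    intro i j hi hj
    rcases le_total i j with h | h
    · obtain ⟨k, rfl⟩ := Nat.exists_eq_add_of_le h
      rw [hd i k (by omega)]
      exact hZ (hc k (by omega))
    · obtain ⟨k, rfl⟩ := Nat.exists_eq_add_of_le h
      rw [hd' j k (by omega)]
      exact inv_mem (hZ (hc k (by omega)))
  -- the relation
  have hr : ∀ j, j ≤ 4 → cm (cjp x e j) (cjp x e 5) = cm (cjp x e j) e *
      (cm (cjp x e j) (cjp x e 2) * cm (cjp x e j) (cjp x e 2)) * cm (cjp x e j) (cjp x e 3) *
      (cm (cjp x e j) (cjp x e 4) * cm (cjp x e j) (cjp x e 4)) := by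
    intro j hj
    have h2 := hcen j 2 hj (by norm_num)
    have h3' := hcen j 3 hj (by norm_num)
    have h4 := hcen j 4 hj (by norm_num)
    rw [h5, cm_mul (b := z), cm_central (hZ hz), one_mul]
    · rw [cm_mul (b := e * _ * _), cm_mul (b := e * _), cm_mul (b := e), cm_mul h2, cm_mul h4]
      · rw [cm_mul h2]; exact mul_mem h2 h2
      · exact h3'
      · rw [cm_mul h4]; exact mul_mem h4 h4
    · have h0 := hcen j 0 hj (by norm_num)
      rw [cjp_zero] at h0
      rw [cm_mul (b := e * _ * _), cm_mul (b := e * _), cm_mul (b := e), cm_mul h2, cm_mul h4]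
      · exact mul_mem (mul_mem (mul_mem h0 (mul_mem h2 h2)) h3') (mul_mem h4 h4)
      · rw [cm_mul h2]; exact mul_mem h2 h2
      · exact h3'
      · rw [cm_mul h4]; exact mul_mem h4 h4
  -- values in the centre
  let _ : CommGroup (center L) :=
    { (inferInstance : Group (center L)) with mul_comm := fun a b => Subtype.ext (mem_center_iff.1 b.2 a) }
  let c : ℕ → Additive (center L) := fun k => if h : k ≤ 4 then Additive.ofMul ⟨cm e (cjp x e k), hZ (hc k h)⟩ else 0
  have hval : ∀ k (hk : k ≤ 4), ((c k).toMul : L) = cm e (cjp x e k) := by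
    intro k hk
    simp only [c, dif_pos hk]
    rfl
  have hv : ∀ i k, k ≤ 4 → cm (cjp x e i) (cjp x e (i + k)) = ((c k).toMul : center L) := fun i k hk =>
    (hd i k hk).trans (hval k hk).symm
  have hv' : ∀ i k, k ≤ 4 → cm (cjp x e (i + k)) (cjp x e i) = ((-(c k)).toMul : center L) := fun i k hk =>
    (hd' i k hk).trans (congrArg (fun g => g⁻¹) (hval k hk).symm)
  have h00 : ∀ i, cm (cjp x e i) (cjp x e i) = ((0 : Additive (center L)).toMul : center L) := fun i => cm_self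
  have he : ∀ k, k ≤ 4 → cm (cjp x e k) e = ((-(c k)).toMul : center L) := by
    intro k hk
    have := hv' 0 k hk
    rwa [zero_add, cjp_zero] at this
  have inj : ∀ a b : Additive (center L), ((a.toMul : center L) : L) = (b.toMul : center L) → a = b := fun a b h =>
    Additive.toMul.injective (Subtype.ext h)
  have key : c 1 = 0 ∧ c 2 = 0 ∧ c 3 = 0 ∧ c 4 = 0 := by
    have k1 := hr 1 (by norm_num)
    rw [hv 1 4 (by norm_num), he 1 (by norm_num), hv 1 1 (by norm_num), hv 1 2 (by norm_num),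
      hv 1 3 (by norm_num)] at k1
    have k2 := hr 2 (by norm_num)
    rw [hv 2 3 (by norm_num), he 2 (by norm_num), h00 2, hv 2 1 (by norm_num), hv 2 2 (by norm_num)] at k2
    have k3 := hr 3 (by norm_num)
    rw [hv 3 2 (by norm_num), he 3 (by norm_num), hv' 2 1 (by norm_num), h00 3, hv 3 1 (by norm_num)] at k3
    have k4 := hr 4 (by norm_num)
    rw [hv 4 1 (by norm_num), he 4 (by norm_num), hv' 2 2 (by norm_num), hv' 3 1 (by norm_num), h00 4] at k4
    refine solve (c1 := c 1) (c2 := c 2) (c3 := c 3) (c4 := c 4) (inj _ _ k1) (inj _ _ k2) (inj _ _ k3) (inj _ _ k4)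
      (inj _ _ ?_)
    show ((c 2).toMul : L) * ((c 2).toMul : L) * ((c 2).toMul : L) = 1
    rw [hval 2 (by norm_num)]
    have c0 := hZ (hc 2 (by norm_num))
    have c1 : cm (cjp x e 2) e ∈ center L := by
      rw [cm_inv]; exact inv_mem c0
    have h1 : cm (cjp x e 2) (e ^ 3) = 1 := cm_central (hZ h3)
    rw [pow_succ, pow_two, cm_mul c1, cm_mul c1] at h1
    have h2 : cm e (cjp x e 2) = (cm (cjp x e 2) e)⁻¹ := cm_inv
    rw [h2, ← mul_inv_rev, ← mul_inv_rev, ← mul_assoc, h1, inv_one]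
  intro k hk
  have h0 : ∀ a : Additive (center L), a = 0 → ((a.toMul : center L) : L) = 1 := by
    rintro a rfl; rfl
  interval_cases k
  · rw [cjp_zero, cm_self]
  · rw [← hval 1 (by norm_num)]; exact h0 _ key.1
  · rw [← hval 2 (by norm_num)]; exact h0 _ key.2.1
  · rw [← hval 3 (by norm_num)]; exact h0 _ key.2.2.1
  · rw [← hval 4 (by norm_num)]; exact h0 _ key.2.2.2

/-- all conjugates commute with `e` -/
theorem comm_all {Z : Subgroup L} (hZ : Z ≤ center L) {x e z : L} (h3 : e ^ 3 ∈ Z) (hz : z ∈ Z)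
    (hc : ∀ k, k ≤ 4 → cm e (cjp x e k) ∈ Z)
    (h5 : cjp x e 5 = z * (e * (cjp x e 2 * cjp x e 2) * cjp x e 3 * (cjp x e 4 * cjp x e 4))) (k : ℕ) :
    Commute e (cjp x e k) := by
  induction k using Nat.strong_induction_on with
  | _ k ih =>
    rcases lt_or_ge k 5 with hk | hk
    · exact cm_eq_one.1 (comm_four hZ h3 hz hc h5 k (by omega))
    · obtain ⟨i, rfl⟩ := Nat.exists_eq_add_of_le' hk
      have h1 : cjp x e (i + 5) = (x ^ i * z * (x ^ i)⁻¹) * (cjp x e i * (cjp x e (i + 2) * cjp x e (i + 2)) *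
          cjp x e (i + 3) * (cjp x e (i + 4) * cjp x e (i + 4))) := by
        rw [← conj_cjp x e i 5, h5, ← conj_cjp x e i 2, ← conj_cjp x e i 3, ← conj_cjp x e i 4,
          show cjp x e i = x ^ i * e * (x ^ i)⁻¹ from rfl]
        group
      have hz' : Commute e (x ^ i * z * (x ^ i)⁻¹) := by
        have h2 : x ^ i * z * (x ^ i)⁻¹ = z := by
          rw [mem_center_iff.1 (hZ hz) (x ^ i), mul_inv_cancel_right]
        rw [h2]
        exact mem_center_iff.1 (hZ hz) e
      rw [h1]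
      have e2 := ih (i + 2) (by omega)
      have e3 := ih (i + 3) (by omega)
      have e4 := ih (i + 4) (by omega)
      exact hz'.mul_right ((((ih i (by omega)).mul_right (e2.mul_right e2)).mul_right e3).mul_right (e4.mul_right e4))

end

theorem comm_ij {L : Type*} [Group L] {x e : L} (h : ∀ k, Commute e (cjp x e k)) (i j : ℕ) :
    cjp x e i * cjp x e j = cjp x e j * cjp x e i := by
  have key : ∀ i k, cjp x e i * cjp x e (i + k) = cjp x e (i + k) * cjp x e i := by
    intro i k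
    rw [← conj_cjp x e i k, show cjp x e i = x ^ i * e * (x ^ i)⁻¹ from rfl]
    have := (h k).eq
    calc x ^ i * e * (x ^ i)⁻¹ * (x ^ i * cjp x e k * (x ^ i)⁻¹) = x ^ i * (e * cjp x e k) * (x ^ i)⁻¹ := by group
      _ = x ^ i * (cjp x e k * e) * (x ^ i)⁻¹ := by rw [this]
      _ = _ := by group
  rcases le_total i j with hij | hij
  · obtain ⟨k, rfl⟩ := Nat.exists_eq_add_of_le hij
    exact key i k
  · obtain ⟨k, rfl⟩ := Nat.exists_eq_add_of_le hij
    exact (key j k).symm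

/-- a preimage of 3-power order -/
theorem exists_pow_lift {L K : Type*} [Group L] [Finite L] [Group K] {π : L →* K} (hπ : Function.Surjective π) {e : K}
    (he : e ^ 3 = 1) : ∃ (e' : L) (a : ℕ), π e' = e ∧ e' ^ (3 ^ a) = 1 := by
  obtain ⟨b, rfl⟩ := hπ e
  obtain ⟨a, m, hm, hab⟩ := Nat.exists_eq_pow_mul_and_not_dvd (orderOf_pos b).ne' 3 (by norm_num)
  refine ⟨b ^ (m * m), a, ?_, ?_⟩
  · have h1 : m * m % 3 = 1 := by
      have : m % 3 = 1 ∨ m % 3 = 2 := by omega
      rcases this with h | h <;> rw [Nat.mul_mod, h]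
    obtain ⟨k, hk⟩ : ∃ k, m * m = 3 * k + 1 := ⟨m * m / 3, by omega⟩
    rw [map_pow, hk, pow_add, pow_mul, he, one_pow, one_mul, pow_one]
  · rw [← pow_mul, show m * m * 3 ^ a = (3 ^ a * m) * m by ring, ← hab, pow_mul, pow_orderOf_eq_one, one_pow]

theorem order_two_three : 2 ≤ orderOf (2 : ZMod 3) := by
  have : orderOf (2 : ZMod 3) = 2 := orderOf_eq_prime (by decide) (by decide)
  rw [this]

/-- **The bound 22**: `⟨e, e^x, …⟩` elementary abelian of order `3 ^ 5`, `x` of order 11. -/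
theorem LB.golay {K : Type u} [Group K] [IsSimpleGroup K] {x e : K} (hx : x ^ 11 = 1) (he : e ^ 3 = 1)
    (h1 : ∀ k, k ≤ 4 → e * cjp x e k = cjp x e k * e)
    (h5 : cjp x e 5 = e * (cjp x e 2 * cjp x e 2) * cjp x e 3 * (cjp x e 4 * cjp x e 4))
    (hne : x * e ≠ e * x) : LB.{u, v, w} K 22 := by
  apply LB.of_irr
  intro L _ _ π hπ hc _ _ V _ _ h2 φ hφ _
  have _ : Fact (Nat.Prime 2) := ⟨Nat.prime_two⟩
  have _ : Fact (Nat.Prime 3) := ⟨Nat.prime_three⟩
  obtain ⟨x', rfl⟩ := hπ x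
  obtain ⟨e', a, rfl, hea⟩ := exists_pow_lift hπ he
  have hk3 : e' ^ 3 ∈ π.ker := by rw [MonoidHom.mem_ker, map_pow, he]
  have hck : ∀ k, k ≤ 4 → cm e' (cjp x' e' k) ∈ π.ker := by
    intro k hk
    rw [MonoidHom.mem_ker, cm, map_mul, map_mul, map_mul, map_inv, map_inv, map_cjp, h1 k hk]
    group
  set y := e' * (cjp x' e' 2 * cjp x' e' 2) * cjp x' e' 3 * (cjp x' e' 4 * cjp x' e' 4) with hy
  have hz : cjp x' e' 5 * y⁻¹ ∈ π.ker := by
    rw [MonoidHom.mem_ker, map_mul, map_inv, map_cjp, h5, hy]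
    simp only [map_mul, map_cjp]
    group
  have hall := comm_all hc hk3 hz hck (by rw [← hy, inv_mul_cancel_right])
  -- the abelian group
  have hcc : ∀ s ∈ Set.range (cjp x' e'), ∀ t ∈ Set.range (cjp x' e'), s * t = t * s := by
    rintro _ ⟨i, rfl⟩ _ ⟨j, rfl⟩
    exact comm_ij hall i j
  let A : Subgroup L := closure (Set.range (cjp x' e'))
  have hA : ∀ s ∈ A, ∀ t ∈ A, s * t = t * s := by
    intro s hs t ht
    have := isMulCommutative_closure hcc
    exact congrArg Subtype.val (mul_comm' (⟨s, hs⟩ : A) ⟨t, ht⟩)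
  have hpow : ∀ s ∈ A, s ^ (3 ^ a) = 1 := by
    intro s hs
    refine closure_induction (p := fun s _ => s ^ (3 ^ a) = 1) ?_ ?_ ?_ ?_ hs
    · rintro _ ⟨k, rfl⟩
      rw [cjp, conj_pow, hea, mul_one, mul_inv_cancel]
    · exact one_pow _
    · intro s t hs ht h1 h2
      rw [(show Commute s t from hA s hs t ht).mul_pow, h1, h2, one_mul]
    · intro s _ h1
      rw [inv_pow, h1, inv_one]
  have hAP : IsPGroup 3 A := fun s => ⟨a, Subtype.ext (hpow s s.2)⟩
  obtain ⟨n, hn⟩ := IsPGroup.iff_card.1 hAP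
  have hr3 : ∀ r, r.Prime → r ∣ Nat.card A → r = 3 := by
    intro r hr hrA
    rw [hn] at hrA
    exact (Nat.prime_dvd_prime_iff_eq hr Nat.prime_three).1 (hr.dvd_of_dvd_pow hrA)
  have h10 := Orb.frob_card (ℓ := 2) (φ := φ) (m := 2) h2 (p := 11) (by norm_num) (A := A) hA
    (fun h => absurd (hr3 2 Nat.prime_two h) (by norm_num)) (fun r hr hrA => by
      obtain rfl := hr3 r hr hrA
      exact ⟨by norm_num, by norm_num, order_two_three⟩) (x := x') (fun b _ => by
      have h3 : x' ^ 11 ∈ π.ker := by rw [MonoidHom.mem_ker, map_pow, hx]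
      exact (mem_center_iff.1 (hc h3) b).symm) (fun s hs => by
      refine closure_induction (p := fun s _ => x' * s * x'⁻¹ ∈ A) ?_ ?_ ?_ ?_ hs
      · rintro _ ⟨k, rfl⟩
        rw [conj_cjp_one]
        exact subset_closure ⟨k + 1, rfl⟩
      · rw [mul_one, mul_inv_cancel]
        exact one_mem A
      · intro s t _ _ h1 h2
        have : x' * (s * t) * x'⁻¹ = (x' * s * x'⁻¹) * (x' * t * x'⁻¹) := by group
        rw [this]
        exact mul_mem h1 h2
      · intro s _ h1
        have : x' * s⁻¹ * x'⁻¹ = (x' * s * x'⁻¹)⁻¹ := by group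
        rw [this]
        exact inv_mem h1) ⟨e', subset_closure ⟨0, cjp_zero _ _⟩, fun h => hne (by
      have h3 := hφ h
      rw [mul_inv_eq_iff_eq_mul] at h3
      rw [← map_mul, h3, map_mul])⟩
  exact h10

end Cfsg.Agent.Omega.TwoF.Golay
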