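import Cfsg.Agent.Omega.TwoF.Tits
import Cfsg.Agent.Omega.TwoF.TitsAut
import Cfsg.Agent.Omega.TwoF.RowTool
import Cfsg.Agent.Omega.EH3.Row

/-!
# TABLE 2F: the row of the Tits group (helper415)

`lb : LB K 24`, `rk : RK K 9` (an element of order 16, `|Aut K|₂ = 2^12`), `dead : Dead2 K`, `row : RowEH3 K`.
-/

set_option autoImplicit false
set_option maxRecDepth 100000

namespace Cfsg.Agent.Omega.TwoF.RowTits

open Subgroup Cfsg.Agent.ChevalleyStructure.Tits.Pack Cfsg.Agent.ChevalleyStructure.Tits.Data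
  Cfsg.Agent.ChevalleyStructure.Tits.Cert
  Cfsg.Agent.ChevalleyStructure.Tits.Sat Cfsg.Agent.ChevalleyStructure.Tits.Final
  Cfsg.Agent.ChevalleyStructure.Tits.Mat Cfsg.Agent.ChevalleyStructure.Tits.Order
  Cfsg.Agent.ChevalleyStructure.Tits.Main
open Cfsg.Agent.Omega.TwoF.Tits
open scoped MatrixGroups

universe u v

/-- a word of order 16 -/
def wg : List ℕ := [8, 1, 5]

theorem wg_pow (n : ℕ) : wH wg ^ n = wH (List.replicate n wg).flatten := (wH_rep wg n).symm

theorem pow16 : wH wg ^ 16 = 1 := by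
  rw [wg_pow]
  exact rel (v := []) (by decide +kernel)

theorem pow8 : wH wg ^ 8 ≠ 1 := by
  intro h
  rw [wg_pow] at h
  have h1 : ((wH (List.replicate 8 wg).flatten : H0) : GL I52 (ZMod 2)) = 1 := by rw [h]; rfl
  have h2 := coe_wH (l := (List.replicate 8 wg).flatten) (by decide)
  have h3 := not_mem_of_chk (ws := []) (O := [1]) (w := (List.replicate 8 wg).flatten) (by decide +kernel)
    (by intro v hv; exact absurd hv (List.not_mem_nil)) (by decide)
  apply h3
  rw [← h2, h1]
  exact Subgroup.one_mem _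

theorem exists_sixteen : ∃ g : C, orderOf g = 2 ^ 4 := by
  have : Fact (Nat.Prime 2) := ⟨Nat.prime_two⟩
  refine ⟨⟨wH wg, wH_mem (by decide +kernel)⟩, ?_⟩
  refine orderOf_eq_prime_pow (p := 2) (n := 3) (fun h => pow8 ?_) (Subtype.ext pow16)
  have h1 := congrArg (fun q : C => (q : H0)) h
  exact h1

theorem sixteen_aux (T : Subgroup (GL I52 (ZMod 2))) (hT : T = H0) : ∃ g : commutator T, orderOf g = 2 ^ 4 := by
  subst hT
  exact exists_sixteen

theorem sixteen_of {G K : Type*} [Group G] [Group K] (T : Subgroup G) (h : ∃ g : commutator T, orderOf g = 2 ^ 4)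
    (e : K ≃* commutator T) : ∃ g : K, orderOf g = 2 ^ 4 := by
  obtain ⟨g, hg⟩ := h
  exact ⟨e.symm g, by rw [MulEquiv.orderOf_eq]; exact hg⟩

theorem lb_of {G : Type*} {K : Type v} [Group G] [Group K] (T : Subgroup G) (h : LB.{u} (commutator T) 24)
    (e : K ≃* commutator T) : LB.{u} K 24 := h.equiv e

section Row

variable {K : Type v} [Group K] (h : Cfsg.Lie.IsoTits K)

include h

theorem sixteen : ∃ g : K, orderOf g = 2 ^ 4 := by
  obtain ⟨T, hT, ⟨e⟩⟩ := TitsAut.exists_equiv h
  exact sixteen_of T (sixteen_aux T hT) e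

/-- **the lower bound** -/
theorem lb : LB.{u} K 24 := by
  obtain ⟨T, hT, ⟨e⟩⟩ := TitsAut.exists_equiv h
  exact lb_of T (lb_aux T hT) e

theorem factorization : (Nat.card (MulAut K)).factorization 2 ≤ 12 := by
  have := TitsAut.finite_iso h
  by_contra hcon
  apply TitsAut.not_dvd_iso h
  exact (Nat.prime_two.pow_dvd_iff_le_factorization Nat.card_pos.ne').2 (by omega)

/-- the 2-rank of the automorphism group, in the form of `Rk` -/
theorem rk' : Rk.RK.{u} K 9 := by
  have := TitsAut.finite_iso h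
  obtain ⟨g, hg⟩ := sixteen h
  exact Rk.rk_of_elt (factorization h) g hg (by norm_num)

/-- **the 2-rank of the automorphism group is at most 9** -/
theorem rk : RK K 9 := by
  have := TitsAut.finite_iso h
  exact RowTool.toRK (TitsAut.center_iso h) (rk' h)

/-- **the row of the Tits group** -/
theorem dead : Dead2.{u} K := Dead2.of_lb (lb h) (rk h) (by norm_num)

theorem kill : Kill2.{u} K := by
  have := TitsAut.simple_iso h
  exact (dead h).kill (TitsAut.center_iso h) inferInstance

theorem row : EH3.RowEH3.{u} K := by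
  have := TitsAut.simple_iso h
  exact EH3.RowEH3.of_dead (TitsAut.center_iso h) (dead h)

end Row

end Cfsg.Agent.Omega.TwoF.RowTits
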