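import Cfsg.Agent.Omega.Lie.HeisOdd

/-!
# Commuting lifts: commutators, conjugates, root groups over a field

`LC g g'` : all lifts of `g` and `g'` to central extensions with kernel of odd order commute.
* `LC.conj` : invariance under conjugation;
* `LC.of_comm` : `g = [h, y]` with `h, y` commuting with `g'`;
* `LC.of_field` : the elements `x a` of a root group over a field `F` with more than four elements on which all
  multiplications of `F` are induced.
-/

set_option autoImplicit false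

universe u v w

namespace Cfsg.Agent.Omega.TwoF.LCTools

open Cfsg.Agent.Omega.Lie.HeisF

variable {K : Type u} [Group K]

/-- Commuting elements modulo a central subgroup: the commutator is central. -/
theorem comm_eq {L : Type v} [Group L] {π : L →* K} (hπ : Cov π) {a b a' b' : L} (ha : π a = π a') (hb : π b = π b') :
    a * b * a⁻¹ * b⁻¹ = a' * b' * a'⁻¹ * b'⁻¹ := by
  have h1 : π (a'⁻¹ * a) = 1 := by rw [map_mul, map_inv, ha, inv_mul_cancel]
  have h2 : π (b'⁻¹ * b) = 1 := by rw [map_mul, map_inv, hb, inv_mul_cancel]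
  set z := a'⁻¹ * a with hz
  set w := b'⁻¹ * b with hw
  have e1 : a = a' * z := by rw [hz]; group
  have e2 : b = b' * w := by rw [hw]; group
  rw [e1, e2]
  calc a' * z * (b' * w) * (a' * z)⁻¹ * (b' * w)⁻¹
      = a' * (z * b') * w * z⁻¹ * a'⁻¹ * w⁻¹ * b'⁻¹ := by group
    _ = a' * (b' * z) * w * z⁻¹ * a'⁻¹ * w⁻¹ * b'⁻¹ := by rw [hπ.comm h1]
    _ = a' * b' * (z * w) * z⁻¹ * a'⁻¹ * w⁻¹ * b'⁻¹ := by group
    _ = a' * b' * (w * z) * z⁻¹ * a'⁻¹ * w⁻¹ * b'⁻¹ := by rw [← hπ.comm h1]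
    _ = a' * b' * (w * a'⁻¹) * w⁻¹ * b'⁻¹ := by group
    _ = a' * b' * (a'⁻¹ * w) * w⁻¹ * b'⁻¹ := by rw [hπ.comm h2]
    _ = a' * b' * a'⁻¹ * b'⁻¹ := by group

/-- It suffices to consider one pair of lifts. -/
theorem mul_comm_of_lifts {L : Type v} [Group L] {π : L →* K} (hπ : Cov π) {a b a' b' : L} (ha : π a = π a')
    (hb : π b = π b') (h : a' * b' = b' * a') : a * b = b * a := by
  have h1 := comm_eq hπ ha hb
  have h2 : a' * b' * a'⁻¹ * b'⁻¹ = 1 := by rw [h]; group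
  rw [h2] at h1
  calc a * b = (a * b * a⁻¹ * b⁻¹) * (b * a) := by group
    _ = b * a := by rw [h1, one_mul]

theorem conj {g g' : K} (h : LC.{u, v} g g') (k : K) : LC.{u, v} (k * g * k⁻¹) (k * g' * k⁻¹) := by
  intro L _ π hπ a b ha hb
  obtain ⟨κ, hκ⟩ := hπ.surj k
  have h1 := h L π hπ (κ⁻¹ * a * κ) (κ⁻¹ * b * κ) (by rw [map_mul, map_mul, map_inv, hκ, ha]; group)
    (by rw [map_mul, map_mul, map_inv, hκ, hb]; group)
  calc a * b = κ * ((κ⁻¹ * a * κ) * (κ⁻¹ * b * κ)) * κ⁻¹ := by group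
    _ = κ * ((κ⁻¹ * b * κ) * (κ⁻¹ * a * κ)) * κ⁻¹ := by rw [h1]
    _ = b * a := by group

/-- **Commutators of elements commuting with `g'`.** -/
theorem of_comm {g' h y : K} (h1 : h * g' = g' * h) (h2 : y * g' = g' * y) :
    LC.{u, v} (h * y * h⁻¹ * y⁻¹) g' := by
  intro L _ π hπ a b ha hb
  obtain ⟨η, hη⟩ := hπ.surj h
  obtain ⟨υ, hυ⟩ := hπ.surj y
  refine mul_comm_of_lifts hπ (a' := η * υ * η⁻¹ * υ⁻¹) (b' := b)
    (by rw [ha, map_mul, map_mul, map_mul, map_inv, map_inv, hη, hυ]) rfl ?_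
  have e1 : π (b * η * b⁻¹) = π η := by
    rw [map_mul, map_mul, map_inv, hη, hb, ← h1, mul_inv_cancel_right]
  have e2 : π (b * υ * b⁻¹) = π υ := by
    rw [map_mul, map_mul, map_inv, hυ, hb, ← h2, mul_inv_cancel_right]
  have e3 := comm_eq hπ e1 e2
  have e4 : b * (η * υ * η⁻¹ * υ⁻¹) * b⁻¹ = η * υ * η⁻¹ * υ⁻¹ := by
    refine Eq.trans ?_ e3
    group
  exact (mul_inv_eq_iff_eq_mul.1 e4).symm

/-- `u, w` with `u, w, u + w, u² + u w + w² ≠ 0`. -/
theorem exists_params (F : Type w) [Field F] [Finite F] (hF : 4 < Nat.card F) :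
    ∃ t : F, t ≠ 0 ∧ t + 1 ≠ 0 ∧ t ^ 2 + t + 1 ≠ 0 := by
  classical
  have := Fintype.ofFinite F
  let P : Polynomial F := Polynomial.X * (Polynomial.X + 1) * (Polynomial.X ^ 2 + Polynomial.X + 1)
  have hd : P.natDegree ≤ 4 := by
    show (Polynomial.X * (Polynomial.X + 1) * (Polynomial.X ^ 2 + Polynomial.X + 1) : Polynomial F).natDegree ≤ 4
    compute_degree
  have hP : P ≠ 0 := by
    have h1 : (Polynomial.X : Polynomial F) ≠ 0 := Polynomial.X_ne_zero
    have h2 : (Polynomial.X + 1 : Polynomial F) ≠ 0 := by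
      have := Polynomial.X_add_C_ne_zero (1 : F)
      simpa using this
    have h3 : (Polynomial.X ^ 2 + Polynomial.X + 1 : Polynomial F) ≠ 0 := by
      intro h
      have := congrArg (fun p : Polynomial F => p.coeff 2) h
      simp [Polynomial.coeff_X, Polynomial.coeff_one] at this
    exact mul_ne_zero (mul_ne_zero h1 h2) h3
  obtain ⟨t, ht⟩ : ∃ t, P.eval t ≠ 0 := by
    by_contra hcon
    push Not at hcon
    apply hP
    apply Polynomial.eq_zero_of_natDegree_lt_card_of_eval_eq_zero P (f := fun t : F => t) (fun a b h => h) hcon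
    rw [← Nat.card_eq_fintype_card]
    omega
  have e : P.eval t = t * (t + 1) * (t ^ 2 + t + 1) := by simp [P]
  rw [e] at ht
  exact ⟨t, left_ne_zero_of_mul (left_ne_zero_of_mul ht), right_ne_zero_of_mul (left_ne_zero_of_mul ht),
    right_ne_zero_of_mul ht⟩

/-- **The elements of a root group over a field with more than four elements.** -/
theorem of_field {F : Type w} [Field F] [Finite F] (hF : 4 < Nat.card F) {x : F → K}
    (hx : ∀ a b, x (a + b) = x a * x b) (hm : ∀ c : F, c ≠ 0 → ∃ g : K, ∀ a, g * x a * g⁻¹ = x (c * a)) (a b : F) :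
    LC.{u, v} (x a) (x b) := by
  obtain ⟨t, ht0, ht1, ht2⟩ := exists_params F hF
  intro L _ π hπ a' b' ha' hb'
  have hs : ∀ a, ∃ l, π l = x a := fun a => hπ.surj (x a)
  choose s hs using hs
  let c : F → F → L := fun a b => s a * s b * (s a)⁻¹ * (s b)⁻¹
  have hc1 : ∀ a b, π (c a b) = 1 := by
    intro a b
    show π (s a * s b * (s a)⁻¹ * (s b)⁻¹) = 1
    rw [map_mul, map_mul, map_mul, map_inv, map_inv, hs, hs, ← hx, add_comm, hx]; group
  have hcen : ∀ a b (l : L), l * c a b = c a b * l := fun a b l => hπ.comm (hc1 a b) l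
  have key : ∀ a b (l m : L), π l = x a → π m = x b → l * m * l⁻¹ * m⁻¹ = c a b := fun a b l m hl hm =>
    comm_eq hπ (by rw [hl, hs]) (by rw [hm, hs])
  have hadd1 : ∀ a a' b, c (a + a') b = c a b * c a' b := by
    intro a a' b
    rw [← key (a + a') b (s a * s a') (s b) (by rw [map_mul, hs, hs, hx]) (hs b)]
    calc s a * s a' * s b * (s a * s a')⁻¹ * (s b)⁻¹
        = s a * (s a' * s b * (s a')⁻¹ * (s b)⁻¹) * (s b * (s a)⁻¹ * (s b)⁻¹) := by group
      _ = (s a' * s b * (s a')⁻¹ * (s b)⁻¹) * s a * (s b * (s a)⁻¹ * (s b)⁻¹) := by rw [hcen a' b (s a)]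
      _ = c a' b * c a b := by
        show _ = (s a' * s b * (s a')⁻¹ * (s b)⁻¹) * (s a * s b * (s a)⁻¹ * (s b)⁻¹)
        group
      _ = c a b * c a' b := (hcen a b (c a' b))
  have hadd2 : ∀ a b b', c a (b + b') = c a b * c a b' := by
    intro a b b'
    rw [← key a (b + b') (s a) (s b * s b') (hs a) (by rw [map_mul, hs, hs, hx])]
    calc s a * (s b * s b') * (s a)⁻¹ * (s b * s b')⁻¹
        = (s a * s b * (s a)⁻¹ * (s b)⁻¹) * (s b * (s a * s b' * (s a)⁻¹ * (s b')⁻¹) * (s b)⁻¹) := by group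
      _ = c a b * (s b * c a b' * (s b)⁻¹) := rfl
      _ = c a b * c a b' := by rw [hcen a b' (s b), mul_inv_cancel_right]
  have hinv : ∀ r : F, r ≠ 0 → ∀ a b, c (r * a) (r * b) = c a b := by
    intro r hr a b
    obtain ⟨g, hg⟩ := hm r hr
    obtain ⟨γ, rfl⟩ := hπ.surj g
    rw [← key (r * a) (r * b) (γ * s a * γ⁻¹) (γ * s b * γ⁻¹)
      (by rw [map_mul, map_mul, map_inv, hs, hg]) (by rw [map_mul, map_mul, map_inv, hs, hg])]
    have e : γ * s a * γ⁻¹ * (γ * s b * γ⁻¹) * (γ * s a * γ⁻¹)⁻¹ * (γ * s b * γ⁻¹)⁻¹ = γ * c a b * γ⁻¹ := by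
      show _ = γ * (s a * s b * (s a)⁻¹ * (s b)⁻¹) * γ⁻¹
      group
    rw [e, hcen a b γ, mul_inv_cancel_right]
  have hmul : ∀ r : F, r ≠ 0 → ∀ a b, c (r * a) b = c a (r⁻¹ * b) := by
    intro r hr a b
    have h1 := hinv r hr a (r⁻¹ * b)
    rwa [mul_inv_cancel_left₀ hr] at h1
  -- `c a (κ b) = 1`
  have hneg : ∀ a b, c a (-b) = (c a b)⁻¹ := by
    intro a b
    have h1 := hadd2 a b (-b)
    have h0 : c a 0 = 1 := by
      have := hadd2 a 0 0
      rw [add_zero] at this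
      exact (mul_eq_left (a := c a 0)).1 this.symm
    rw [add_neg_cancel, h0] at h1
    exact (inv_eq_of_mul_eq_one_right h1.symm).symm
  have hk : ∀ b, c a ((1 + t⁻¹ - (t + 1)⁻¹) * b) = 1 := by
    intro b
    have h1 : c ((t + 1) * a) b = c a ((t + 1)⁻¹ * b) := hmul _ ht1 a b
    have h2 : c ((t + 1) * a) b = c a (t⁻¹ * b) * c a b := by
      rw [add_mul, one_mul, hadd1, hmul t ht0]
    have h3 : (1 + t⁻¹ - (t + 1)⁻¹) * b = (t⁻¹ * b + b) + -((t + 1)⁻¹ * b) := by ring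
    rw [h3, hadd2, hadd2, hneg, ← h1, h2, mul_inv_cancel]
  have hκ : 1 + t⁻¹ - (t + 1)⁻¹ ≠ 0 := by
    have e : 1 + t⁻¹ - (t + 1)⁻¹ = (t ^ 2 + t + 1) / (t * (t + 1)) := by field_simp; ring
    rw [e]
    exact div_ne_zero ht2 (mul_ne_zero ht0 ht1)
  have hfin : c a b = 1 := by
    have h1 := hk ((1 + t⁻¹ - (t + 1)⁻¹)⁻¹ * b)
    rwa [mul_inv_cancel_left₀ hκ] at h1
  have h1 := key a b a' b' ha' hb'
  rw [hfin] at h1
  calc a' * b' = (a' * b' * a'⁻¹ * b'⁻¹) * (b' * a') := by group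
    _ = b' * a' := by rw [h1, one_mul]

end Cfsg.Agent.Omega.TwoF.LCTools
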