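import Cfsg.Agent.KFacts.Mult.D4Base
import Cfsg.Agent.Omega.TwoF.LCTools

/-!
# TABLE 2F, row ³D₄(q), `q` odd, column LB: `2 q⁴ ≥ 162`

`U` contains the group `Q = X_0 X_2 X_3 X_4 X_5` of type `q^{1+8}`; four hyperbolic pairs over `F_q` are given by
the long roots `0, 4` and by dual bases of `F_{q³}` over `F_q` for the short roots `2, 3`.
-/

set_option autoImplicit false
set_option linter.unusedSectionVars false

universe u v w

namespace Cfsg.Agent.Omega.TwoF.TwD4LB

open Cfsg.Lie Subgroup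
open Cfsg.Agent.Schreier.ThreeD4
open Cfsg.Agent.ChevalleyStructure.D4Fixed (sig coe_sig fix mem_fix twisted_le_fix twisted_induction)
open Cfsg.Agent.ChevalleyStructure.D4Cols (xU coe_xU wU)
open Cfsg.Agent.ChevalleyStructure
open Cfsg.Agent.ChevalleyStructure.D4Comm
open Cfsg.Agent.ChevalleyStructure.D4CommTab
open Cfsg.Agent.ChevalleyStructure.D4Pos
open Cfsg.Agent.ChevalleyStructure.D4NCheck
open Cfsg.Agent.ChevalleyStructure.D4NConj (nR nR_def nG nG_conj nG_def hR hR_def nR_eq nR_inv xG_inv torG torG_conj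
  torG_mul torG_one chi chi_def chi_ne_zero dv_def hR_eq_torG)
open Cfsg.Agent.ChevalleyStructure.SparseHDiag (cartanRS)
open Cfsg.Agent.ChevalleyStructure.TwistedU
open Cfsg.Agent.ChevalleyStructure.D4U
open Cfsg.Agent.ChevalleyStructure.D4RGD
open Cfsg.Agent.ChevalleyStructure.D4Twisted
open Cfsg.Agent.KFacts.Mult.D4Base
open Cfsg.Agent.Omega.Lie.HeisF
open scoped commutatorElement

/-! ### Commutators -/

section Comm

variable {K : Type u} [Field K] {φ : K →+* K}

theorem commute_RS {l m : List ℕ} (h : (l.all fun r => m.all fun s => okc [] r s) = true) {x y : GL chevD4.Idx K}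
    (hx : x ∈ RS K l) (hy : y ∈ RS K m) : x * y = y * x := by
  have h1 := comm_RS (K := K) (l := l) (m := m) (l' := []) (by simp) (by simp) h hx hy
  have h2 : RS K [] = ⊥ := by
    rw [eq_bot_iff]
    refine rspan_le xG fun s hs t => ?_
    exact absurd hs (by simp)
  rw [h2, mem_bot, commutatorElement_eq_one_iff_mul_comm] at h1
  exact h1

/-- the roots of the relative root groups -/
def Rt : Fin 6 → List ℕ
  | 0 => [14]
  | 1 => [18, 13, 12]
  | 2 => [19, 16, 15]
  | 3 => [21, 17, 20]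
  | 4 => [22]
  | 5 => [23]

theorem xx_mem_Rt (i : Fin 6) (a : K) : xx φ i a ∈ RS K (Rt i) := by
  fin_cases i
  · exact xG_mem_RS (by decide) _
  · show D4Fixed.X φ a ∈ RS K _
    unfold D4Fixed.X
    rw [xU_eq, xU_eq, xU_eq]
    exact mul_mem (mul_mem (xG_mem_RS (by decide) _) (xG_mem_RS (by decide) _)) (xG_mem_RS (by decide) _)
  · exact mul_mem (mul_mem (xG_mem_RS (by decide) _) (xG_mem_RS (by decide) _)) (xG_mem_RS (by decide) _)
  · exact mul_mem (mul_mem (xG_mem_RS (by decide) _) (xG_mem_RS (by decide) _)) (xG_mem_RS (by decide) _)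
  · exact xG_mem_RS (by decide) _
  · exact xG_mem_RS (by decide) _

theorem xx_comm {i j : Fin 6} (h : ((Rt i).all fun r => (Rt j).all fun s => okc [] r s) = true) (a b : K) :
    xx φ i a * xx φ j b = xx φ j b * xx φ i a :=
  commute_RS h (xx_mem_Rt i a) (xx_mem_Rt j b)

theorem xcm {r s k : ℕ} {e : ℤ} (hr : 12 ≤ r) (hr' : r < 24) (hs : 12 ≤ s) (hs' : s < 24) (hne : s ≠ r)
    (hc : cm r s = some (k, e)) (t u : K) :
    (xG r t : GL chevD4.Idx K) * xG s u = xG k ((e : K) * (t * u)) * (xG s u * xG r t) := by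
  have h := xG_comm (F := K) hr hr' hs hs' hne t u
  unfold cval at h
  rw [hc] at h
  change ⁅(xG r t : GL chevD4.Idx K), xG s u⁆ = xG k ((e : K) * (t * u)) at h
  rw [← h, commutatorElement_def]
  group

theorem comm_three {G : Type*} [Group G] {a1 a2 a3 b1 b2 b3 z1 z2 z3 : G}
    (h12 : a1 * b2 = z1 * (b2 * a1)) (h23 : a2 * b3 = z2 * (b3 * a2)) (h31 : a3 * b1 = z3 * (b1 * a3))
    (c11 : a1 * b1 = b1 * a1) (c13 : a1 * b3 = b3 * a1) (c21 : a2 * b1 = b1 * a2) (c22 : a2 * b2 = b2 * a2)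
    (c32 : a3 * b2 = b2 * a3) (c33 : a3 * b3 = b3 * a3) (d1 : b1 * z1 = z1 * b1) (d2 : b1 * z2 = z2 * b1)
    (d2' : b2 * z2 = z2 * b2) (e3 : a2 * z3 = z3 * a2) (e3' : a1 * z3 = z3 * a1) (e2 : a1 * z2 = z2 * a1) :
    a1 * a2 * a3 * (b1 * b2 * b3) = z3 * z2 * z1 * (b1 * b2 * b3 * (a1 * a2 * a3)) := by
  have s3 : a3 * (b1 * b2 * b3) = z3 * (b1 * b2 * b3) * a3 := by
    calc a3 * (b1 * b2 * b3) = (a3 * b1) * b2 * b3 := by group
      _ = z3 * b1 * (a3 * b2) * b3 := by rw [h31]; group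
      _ = z3 * b1 * b2 * (a3 * b3) := by rw [c32]; group
      _ = _ := by rw [c33]; group
  have s2 : a2 * (b1 * b2 * b3) = z2 * (b1 * b2 * b3) * a2 := by
    calc a2 * (b1 * b2 * b3) = (a2 * b1) * b2 * b3 := by group
      _ = b1 * (a2 * b2) * b3 := by rw [c21]; group
      _ = b1 * b2 * (a2 * b3) := by rw [c22]; group
      _ = b1 * (b2 * z2) * b3 * a2 := by rw [h23]; group
      _ = (b1 * z2) * b2 * b3 * a2 := by rw [d2']; group
      _ = _ := by rw [d2]; group
  have s1 : a1 * (b1 * b2 * b3) = z1 * (b1 * b2 * b3) * a1 := by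
    calc a1 * (b1 * b2 * b3) = (a1 * b1) * b2 * b3 := by group
      _ = b1 * (a1 * b2) * b3 := by rw [c11]; group
      _ = (b1 * z1) * b2 * (a1 * b3) := by rw [h12]; group
      _ = _ := by rw [d1, c13]; group
  calc a1 * a2 * a3 * (b1 * b2 * b3) = a1 * a2 * (a3 * (b1 * b2 * b3)) := by group
    _ = a1 * (a2 * z3) * (b1 * b2 * b3) * a3 := by rw [s3]; group
    _ = (a1 * z3) * (a2 * (b1 * b2 * b3)) * a3 := by rw [e3]; group
    _ = z3 * (a1 * z2) * (b1 * b2 * b3) * a2 * a3 := by rw [e3', s2]; group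
    _ = z3 * z2 * (a1 * (b1 * b2 * b3)) * a2 * a3 := by rw [e2]; group
    _ = _ := by rw [s1]; group

/-- the trace form -/
def T (φ : K →+* K) (c d : K) : K := c * φ d + φ c * φ (φ d) + φ (φ c) * d

theorem comm23 (c d : K) : xx φ 2 c * xx φ 3 d = xx φ 5 (T φ c d) * (xx φ 3 d * xx φ 2 c) := by
  show xG 19 c * xG 16 (-φ c) * xG 15 (-φ (φ c)) * (xG 21 d * xG 17 (-φ d) * xG 20 (φ (φ d))) =
    xG 23 (T φ c d) * (xG 21 d * xG 17 (-φ d) * xG 20 (φ (φ d)) * (xG 19 c * xG 16 (-φ c) * xG 15 (-φ (φ c))))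
  have h12 := xcm (K := K) (r := 19) (s := 17) (k := 23) (e := -1) (by norm_num) (by norm_num) (by norm_num)
    (by norm_num) (by norm_num) (by decide +kernel) c (-φ d)
  have h23 := xcm (K := K) (r := 16) (s := 20) (k := 23) (e := -1) (by norm_num) (by norm_num) (by norm_num)
    (by norm_num) (by norm_num) (by decide +kernel) (-φ c) (φ (φ d))
  have h31 := xcm (K := K) (r := 15) (s := 21) (k := 23) (e := -1) (by norm_num) (by norm_num) (by norm_num)
    (by norm_num) (by norm_num) (by decide +kernel) (-φ (φ c)) d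
  rw [comm_three h12 h23 h31 (xG_commute (by decide +kernel) _ _).eq (xG_commute (by decide +kernel) _ _).eq
    (xG_commute (by decide +kernel) _ _).eq (xG_commute (by decide +kernel) _ _).eq
    (xG_commute (by decide +kernel) _ _).eq (xG_commute (by decide +kernel) _ _).eq
    (xG_commute (by decide +kernel) _ _).eq (xG_commute (by decide +kernel) _ _).eq
    (xG_commute (by decide +kernel) _ _).eq (xG_commute (by decide +kernel) _ _).eq
    (xG_commute (by decide +kernel) _ _).eq (xG_commute (by decide +kernel) _ _).eq, ← xG_add, ← xG_add]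
  congr 2
  unfold T
  push_cast
  ring

theorem comm04 (a e : K) : xx φ 0 a * xx φ 4 e = xx φ 5 (a * e) * (xx φ 4 e * xx φ 0 a) := by
  have h := xcm (K := K) (r := 14) (s := 22) (k := 23) (e := 1) (by norm_num) (by norm_num) (by norm_num)
    (by norm_num) (by norm_num) (by decide +kernel) a e
  rw [Int.cast_one, one_mul] at h
  exact h

theorem xx_pow (i : Fin 6) (a : K) (n : ℕ) : xx φ i a ^ n = xx φ i (n * a) := by
  induction n with
  | zero => rw [pow_zero, Nat.cast_zero, zero_mul, xx_zero]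
  | succ n ih => rw [pow_succ, ih, ← xx_add, Nat.cast_succ, add_mul, one_mul]

/-- conjugation by `h_{14}(-1)` -/
theorem hneg_conj (i : Fin 6) (a : K) :
    hR 14 (-1 : K) * xx φ i a * (hR 14 (-1 : K))⁻¹ = if i = 0 ∨ i = 3 then xx φ i a else xx φ i (-a) := by
  have h0 : (-1 : K) ≠ 0 := neg_ne_zero.2 one_ne_zero
  have key : ∀ {r : ℕ} (hr : r < 24) {c : ℤ}, cartanRS chevD4 14 r = c → ∀ u : K,
      hR 14 (-1 : K) * xG r u * (hR 14 (-1 : K))⁻¹ = xG r ((-1) ^ c * u) := by
    intro r hr c hc u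
    have h := hR_conj (r := 14) (s := r) (by norm_num) hr (Units.mk0 _ h0) u
    rw [hc] at h
    simpa using h
  have cc : ∀ (g a b c : GL chevD4.Idx K), g * (a * b * c) * g⁻¹ = (g * a * g⁻¹) * (g * b * g⁻¹) * (g * c * g⁻¹) := by
    intro g a b c; group
  have e14 := key (r := 14) (by norm_num) (c := 2) (by decide +kernel)
  have e18 := key (r := 18) (by norm_num) (c := -1) (by decide +kernel)
  have e13 := key (r := 13) (by norm_num) (c := -1) (by decide +kernel)
  have e12 := key (r := 12) (by norm_num) (c := -1) (by decide +kernel)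
  have e19 := key (r := 19) (by norm_num) (c := 1) (by decide +kernel)
  have e16 := key (r := 16) (by norm_num) (c := 1) (by decide +kernel)
  have e15 := key (r := 15) (by norm_num) (c := 1) (by decide +kernel)
  have e21 := key (r := 21) (by norm_num) (c := 0) (by decide +kernel)
  have e17 := key (r := 17) (by norm_num) (c := 0) (by decide +kernel)
  have e20 := key (r := 20) (by norm_num) (c := 0) (by decide +kernel)
  have e22 := key (r := 22) (by norm_num) (c := -1) (by decide +kernel)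
  have e23 := key (r := 23) (by norm_num) (c := 1) (by decide +kernel)
  have f2 : ((-1 : K)) ^ (2 : ℤ) = 1 := by norm_num
  have f1 : ((-1 : K)) ^ (-1 : ℤ) = -1 := by norm_num
  simp only [f2, f1, zpow_one, zpow_zero, one_mul, neg_mul] at e14 e18 e13 e12 e19 e16 e15 e21 e17 e20 e22 e23
  fin_cases i
  · exact e14 a
  · show hR 14 (-1 : K) * D4Fixed.X φ a * (hR 14 (-1 : K))⁻¹ = D4Fixed.X φ (-a)
    unfold D4Fixed.X
    rw [xU_eq, xU_eq, xU_eq, xU_eq, xU_eq, xU_eq, cc, e18, e13, e12, map_neg, map_neg]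
  · show hR 14 (-1 : K) * Cc φ a * (hR 14 (-1 : K))⁻¹ = Cc φ (-a)
    unfold Cc
    rw [cc, e19, e16, e15, map_neg, map_neg]
  · show hR 14 (-1 : K) * Dd φ a * (hR 14 (-1 : K))⁻¹ = Dd φ a
    unfold Dd
    rw [cc, e21, e17, e20]
  · exact e22 a
  · exact e23 a

end Comm

/-! ### The fields -/

section FieldPart

variable {K : Type u} [Field K] [Fintype K] {φ : K →+* K} {q : ℕ}

/-- the field `F_q` -/
abbrev Fq (φ : K →+* K) : Subfield K := RingHom.eqLocusField φ (RingHom.id K)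

theorem fq (t : Fq φ) : φ t = t := t.2

theorem mem_fq {t : K} : t ∈ Fq φ ↔ φ t = t := Iff.rfl

theorem card_fq (hq : 1 < q) (hK : Fintype.card K = q ^ 3) (hφ : ∀ x, φ x = x ^ q) : Nat.card (Fq φ) = q := by
  have h1 := D4H1.card_fixed hq hK hφ
  have h2 : Nat.card (Fq φ)ˣ = Nat.card {b : Kˣ // φ b = b} := by
    refine Nat.card_congr ⟨fun x => ⟨Units.map ((Fq φ).subtype : Fq φ →* K) x, fq (x : Fq φ)⟩,
      fun b => ⟨⟨b.1, b.2⟩, ⟨((b.1⁻¹ : Kˣ) : K), by
        show φ ((b.1⁻¹ : Kˣ) : K) = _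
        rw [Units.val_inv_eq_inv_val, map_inv₀, b.2]; rfl⟩, Subtype.ext (Units.mul_inv _), Subtype.ext (Units.inv_mul _)⟩,
      fun x => Units.ext (Subtype.ext rfl), fun b => Subtype.ext (Units.ext rfl)⟩
  rw [Nat.card_units] at h2
  have h3 : 0 < Nat.card (Fq φ) := Nat.card_pos
  omega

theorem finrank_fq (hq : 1 < q) (hK : Fintype.card K = q ^ 3) (hφ : ∀ x, φ x = x ^ q) :
    Module.finrank (Fq φ) K = 3 := by
  have h1 : Nat.card K = Nat.card (Fq φ) ^ Module.finrank (Fq φ) K := Module.natCard_eq_pow_finrank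
  rw [card_fq hq hK hφ, Nat.card_eq_fintype_card, hK] at h1
  exact (Nat.pow_right_injective hq h1).symm

theorem trace_fix (hK3 : ∀ t : K, φ (φ (φ t)) = t) (x : K) : φ (x + φ x + φ (φ x)) = x + φ x + φ (φ x) := by
  rw [map_add, map_add, hK3]; ring

theorem exists_trace_ne (hq : 1 < q) (hK : Fintype.card K = q ^ 3) (hφ : ∀ x, φ x = x ^ q) :
    ∃ y : K, y + φ y + φ (φ y) ≠ 0 := by
  by_contra hcon
  push Not at hcon
  let P : Polynomial K := Polynomial.X + Polynomial.X ^ q + Polynomial.X ^ (q * q)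
  have hqq : q < q * q := by nlinarith
  have hd : P.natDegree ≤ q * q := by
    refine (Polynomial.natDegree_add_le _ _).trans (max_le ((Polynomial.natDegree_add_le _ _).trans (max_le ?_ ?_)) ?_)
    · rw [Polynomial.natDegree_X]; omega
    · rw [Polynomial.natDegree_X_pow]; omega
    · rw [Polynomial.natDegree_X_pow]
  have hP : P = 0 := by
    apply Polynomial.eq_zero_of_natDegree_lt_card_of_eval_eq_zero P (f := fun t : K => t) (fun a b h => h)
    · intro y
      have h := hcon y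
      rw [hφ, hφ, ← pow_mul] at h
      simpa [P] using h
    · rw [hK]
      have : q * q < q ^ 3 := by
        rw [pow_succ, pow_two]
        nlinarith
      omega
  have h1 : P.coeff 1 = 1 := by
    show (Polynomial.X + Polynomial.X ^ q + Polynomial.X ^ (q * q) : Polynomial K).coeff 1 = 1
    rw [Polynomial.coeff_add, Polynomial.coeff_add, Polynomial.coeff_X_one, Polynomial.coeff_X_pow,
      Polynomial.coeff_X_pow, if_neg (by omega), if_neg (by omega), add_zero, add_zero]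
  rw [hP, Polynomial.coeff_zero] at h1
  exact zero_ne_one h1

/-- dual bases for the trace form -/
theorem exists_dual (hq : 1 < q) (hK : Fintype.card K = q ^ 3) (hφ : ∀ x, φ x = x ^ q)
    (hK3 : ∀ t : K, φ (φ (φ t)) = t) :
    ∃ a b : Fin 3 → K, ∀ i j, T φ (a i) (b j) = if i = j then 1 else 0 := by
  classical
  let Tl : K →ₗ[Fq φ] Fq φ :=
    { toFun := fun x => ⟨x + φ x + φ (φ x), trace_fix hK3 x⟩
      map_add' := fun x y => Subtype.ext (by
        show x + y + φ (x + y) + φ (φ (x + y)) = (x + φ x + φ (φ x)) + (y + φ y + φ (φ y))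
        simp only [map_add]; ring)
      map_smul' := fun c x => Subtype.ext (by
        show (c : K) * x + φ ((c : K) * x) + φ (φ ((c : K) * x)) = (c : K) * (x + φ x + φ (φ x))
        simp only [map_mul, fq]; ring) }
  have hTl : ∀ x, ((Tl x : Fq φ) : K) = x + φ x + φ (φ x) := fun x => rfl
  let Bf : LinearMap.BilinForm (Fq φ) K := LinearMap.mk₂ (Fq φ) (fun x y => Tl (x * y))
    (fun x y z => by rw [add_mul, map_add]) (fun c x y => by rw [smul_mul_assoc, map_smul])
    (fun x y z => by rw [mul_add, map_add]) (fun c x y => by rw [mul_smul_comm, map_smul])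
  have hBf : ∀ x y, Bf x y = Tl (x * y) := fun x y => rfl
  obtain ⟨y0, hy0⟩ := exists_trace_ne hq hK hφ
  have hy0' : Tl y0 ≠ 0 := fun h => hy0 (by rw [← hTl, h]; rfl)
  have hnd : Bf.Nondegenerate := by
    constructor
    · intro x hx
      by_contra hx0
      apply hy0'
      have := hx (x⁻¹ * y0)
      rwa [hBf, ← mul_assoc, mul_inv_cancel₀ hx0, one_mul] at this
    · intro x hx
      by_contra hx0
      apply hy0'
      have := hx (y0 * x⁻¹)
      rwa [hBf, mul_assoc, inv_mul_cancel₀ hx0, mul_one] at this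
  let b : Module.Basis (Fin 3) (Fq φ) K := Module.finBasisOfFinrankEq (Fq φ) K (finrank_fq hq hK hφ)
  let b' : Fin 3 → K := fun i => Bf.dualBasis hnd b i
  have hbb : ∀ i j, Tl (b' i * b j) = if i = j then 1 else 0 := by
    intro i j
    have := LinearMap.BilinForm.apply_dualBasis_left hnd b i j
    rw [hBf] at this
    rw [this]
    simp only [eq_comm]
  refine ⟨fun i => b i, fun j => φ (φ (b' j)), fun i j => ?_⟩
  have h := congrArg (fun x : Fq φ => (x : K)) (hbb j i)
  simp only [hTl, map_mul] at h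
  show b i * φ (φ (φ (b' j))) + φ (b i) * φ (φ (φ (φ (b' j)))) + φ (φ (b i)) * φ (φ (b' j)) = _
  simp only [hK3]
  have e : b i * b' j + φ (b i) * φ (b' j) + φ (φ (b i)) * φ (φ (b' j)) =
      b' j * b i + φ (b' j) * φ (b i) + φ (φ (b' j)) * φ (φ (b i)) := by ring
  rw [e, h]
  by_cases hij : i = j
  · subst hij; simp
  · rw [if_neg hij, if_neg (fun h => hij h.symm)]; rfl

/-- An element of `F_q` which is a square in `F_{q³}` is a square in `F_q`. -/
theorem fix_of_sq (hK3 : ∀ t : K, φ (φ (φ t)) = t) (h2 : (2 : K) ≠ 0) {x : K} (h : φ (x * x) = x * x) : φ x = x := by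
  rw [map_mul] at h
  rcases mul_self_eq_mul_self_iff.1 h with h1 | h1
  · exact h1
  · have h3 := hK3 x
    rw [h1, map_neg, h1, neg_neg, h1] at h3
    have h4 : (2 : K) * x = 0 := by linear_combination -h3
    rcases mul_eq_zero.1 h4 with h5 | h5
    · exact absurd h5 h2
    · rw [h5, map_zero]

/-- All elements are products of an element of `F_q` and a square. -/
theorem exists_sq (hK3 : ∀ t : K, φ (φ (φ t)) = t) (h2 : (2 : K) ≠ 0) {c : K} (hc : c ≠ 0) :
    ∃ s m : K, φ s = s ∧ s ≠ 0 ∧ m ≠ 0 ∧ s * (m * m) = c := by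
  classical
  by_cases hcs : IsSquare c
  · obtain ⟨m, rfl⟩ := hcs
    refine ⟨1, m, map_one φ, one_ne_zero, fun h => hc (by rw [h, mul_zero]), one_mul _⟩
  · have hF2 : ringChar (Fq φ) ≠ 2 := by
      intro h
      apply h2
      have h3 : ((2 : ℕ) : Fq φ) = 0 := by rw [← h]; exact ringChar.Nat.cast_ringChar
      have h4 : (((2 : ℕ) : Fq φ) : K) = 0 := by rw [h3]; rfl
      have h5 : (((2 : ℕ) : Fq φ) : K) = ((2 : ℕ) : K) := map_natCast (Fq φ).subtype 2
      rw [h5] at h4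
      exact_mod_cast h4
    have hK2 : ringChar K ≠ 2 := by
      intro h
      apply h2
      have h3 : ((2 : ℕ) : K) = 0 := by rw [← h]; exact ringChar.Nat.cast_ringChar
      exact_mod_cast h3
    obtain ⟨s0, hs0⟩ := FiniteField.exists_nonsquare hF2
    have hs1 : ¬ IsSquare (s0 : K) := by
      rintro ⟨r, hr⟩
      have hr' : φ r = r := fix_of_sq hK3 h2 (by rw [← hr]; exact fq s0)
      exact hs0 ⟨⟨r, hr'⟩, Subtype.ext hr⟩
    have hs00 : (s0 : K) ≠ 0 := fun h => hs1 (by rw [h]; exact ⟨0, by rw [mul_zero]⟩)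
    have h3 : quadraticChar K (c * s0) = 1 := by
      rw [map_mul, (quadraticChar_neg_one_iff_not_isSquare (F := K)).2 hcs,
        (quadraticChar_neg_one_iff_not_isSquare (F := K)).2 hs1]
      norm_num
    obtain ⟨r, hr⟩ := (quadraticChar_one_iff_isSquare (mul_ne_zero hc hs00)).1 h3
    refine ⟨(s0 : K)⁻¹, r, by rw [map_inv₀, fq], inv_ne_zero hs00, ?_, ?_⟩
    · rintro rfl
      rw [mul_zero] at hr
      exact mul_ne_zero hc hs00 hr
    · rw [← hr]
      field_simp

end FieldPart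

/-! ### The configuration -/

section Main

variable {K : Type u} [Field K] [Fintype K] {φ : K →+* K} {q : ℕ}

/-- Frobenius data -/
structure Fr (φ : K →+* K) (q : ℕ) : Prop where
  one_lt : 1 < q
  card : Fintype.card K = q ^ 3
  two : (2 : K) ≠ 0
  three : ∀ t : K, φ (φ (φ t)) = t
  pow : ∀ x, φ x = x ^ q
  le : twistedD4 K q ≤ fix φ

/-- the relative root elements as elements of the group -/
noncomputable def gx (H : Fr φ q) (i : Fin 6) (a : K) (h : dm φ i a) : ↥(twistedD4 K q) :=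
  ⟨xx φ i a, xx_mem H.three H.pow H.le h⟩

/-- long root elements -/
noncomputable def lg (H : Fr φ q) (i : Fin 6) (t : Fq φ) : ↥(twistedD4 K q) := gx H i t fun _ => fq t

theorem dm2 (a : K) : dm φ 2 a := fun h => by rcases h with h | h | h <;> exact absurd h (by decide)

theorem dm3 (a : K) : dm φ 3 a := fun h => by rcases h with h | h | h <;> exact absurd h (by decide)

/-- short root elements -/
noncomputable def s2 (H : Fr φ q) (a : K) : ↥(twistedD4 K q) := gx H 2 a (dm2 a)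

noncomputable def s3 (H : Fr φ q) (a : K) : ↥(twistedD4 K q) := gx H 3 a (dm3 a)

variable (H : Fr φ q)

include H

theorem gx_comm {i j : Fin 6} (h : ((Rt i).all fun r => (Rt j).all fun s => okc [] r s) = true) {a b : K}
    (ha : dm φ i a) (hb : dm φ j b) : gx H i a ha * gx H j b hb = gx H j b hb * gx H i a ha :=
  Subtype.ext (xx_comm h a b)

theorem lg_add (i : Fin 6) (t u : Fq φ) : lg H i (t + u) = lg H i t * lg H i u := Subtype.ext (xx_add φ i t u)

theorem s2_add (a b : K) : s2 H (a + b) = s2 H a * s2 H b := Subtype.ext (xx_add φ 2 a b)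

theorem s3_add (a b : K) : s3 H (a + b) = s3 H a * s3 H b := Subtype.ext (xx_add φ 3 a b)

theorem lg_neg (i : Fin 6) (t : Fq φ) : lg H i (-t) = (lg H i t)⁻¹ := Subtype.ext (xx_neg φ i t)

theorem s2_neg (a : K) : s2 H (-a) = (s2 H a)⁻¹ := Subtype.ext (xx_neg φ 2 a)

theorem gx_pow {p : ℕ} [CharP K p] (i : Fin 6) (a : K) (h : dm φ i a) : gx H i a h ^ p = 1 := by
  apply Subtype.ext
  show xx φ i a ^ p = 1
  rw [xx_pow, CharP.cast_eq_zero, zero_mul, xx_zero]

/-! #### Torus elements -/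

/-- `h_{14}(-1)`: inverts `1, 2, 4, 5`, centralises `0, 3` -/
noncomputable def t2 (H : Fr φ q) : ↥(twistedD4 K q) := ⟨hR 14 (-1), h14_mem H.pow (by rw [map_neg, map_one])⟩

theorem t2_inv {i : Fin 6} (hi : ¬ (i = 0 ∨ i = 3)) {a : K} (h : dm φ i a) :
    t2 H * gx H i a h * (t2 H)⁻¹ = (gx H i a h)⁻¹ := by
  apply Subtype.ext
  show hR 14 (-1 : K) * xx φ i a * (hR 14 (-1 : K))⁻¹ = (xx φ i a)⁻¹
  rw [hneg_conj, if_neg hi, xx_neg]

theorem t2_cen {i : Fin 6} (hi : i = 0 ∨ i = 3) {a : K} (h : dm φ i a) :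
    t2 H * gx H i a h * (t2 H)⁻¹ = gx H i a h := by
  apply Subtype.ext
  show hR 14 (-1 : K) * xx φ i a * (hR 14 (-1 : K))⁻¹ = xx φ i a
  rw [hneg_conj, if_pos hi]

/-- the torus -/
theorem exists_tor {s m : K} (hs : φ s = s) (hs0 : s ≠ 0) (hm0 : m ≠ 0) :
    ∃ g : ↥(twistedD4 K q), ∀ (i : Fin 6) (a : K), (g : GL chevD4.Idx K) * xx φ i a * (g : GL chevD4.Idx K)⁻¹ =
      xx φ i (ch φ s (m * m) i * a) := by
  obtain ⟨h, hG, -, hc⟩ := exists_torus H.three H.pow hs hs0 hm0
  exact ⟨⟨h, hG⟩, hc⟩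

/-- an involution centralising `1, 5` and inverting `0, 2, 3, 4` -/
theorem exists_t1 : ∃ g : ↥(twistedD4 K q), (∀ t, g * lg H 5 t * g⁻¹ = lg H 5 t) ∧
    (∀ t, g * lg H 0 t * g⁻¹ = (lg H 0 t)⁻¹) ∧ (∀ t, g * lg H 4 t * g⁻¹ = (lg H 4 t)⁻¹) ∧
    (∀ t, g * s2 H t * g⁻¹ = (s2 H t)⁻¹) ∧ ∀ t, g * s3 H t * g⁻¹ = (s3 H t)⁻¹ := by
  obtain ⟨g, hg⟩ := exists_tor H (s := -1) (m := 1) (by rw [map_neg, map_one]) (neg_ne_zero.2 one_ne_zero) one_ne_zero
  refine ⟨g, fun t => Subtype.ext ?_, fun t => Subtype.ext ?_, fun t => Subtype.ext ?_, fun t => Subtype.ext ?_,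
    fun t => Subtype.ext ?_⟩
  · refine (hg 5 (t : K)).trans ?_
    show xx φ 5 _ = xx φ 5 (t : K)
    congr 1
    show (-1 : K) * -1 * (1 * 1 * φ (1 * 1) * φ (φ (1 * 1))) * t = t
    simp
  · refine (hg 0 (t : K)).trans ?_
    show xx φ 0 _ = (xx φ 0 (t : K))⁻¹
    rw [← xx_neg]
    congr 1
    show (-1 : K) * t = -t
    ring
  · refine (hg 4 (t : K)).trans ?_
    show xx φ 4 _ = (xx φ 4 (t : K))⁻¹
    rw [← xx_neg]
    congr 1
    show (-1 : K) * (1 * 1 * φ (1 * 1) * φ (φ (1 * 1))) * t = -t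
    simp
  · refine (hg 2 t).trans ?_
    show xx φ 2 _ = (xx φ 2 t)⁻¹
    rw [← xx_neg]
    congr 1
    show (-1 : K) * (1 * 1) * t = -t
    ring
  · refine (hg 3 t).trans ?_
    show xx φ 3 _ = (xx φ 3 t)⁻¹
    rw [← xx_neg]
    congr 1
    show (-1 : K) * (1 * 1 * φ (1 * 1)) * t = -t
    simp

/-- all multiplications on the root group `2` -/
theorem exists_mul2 {c : K} (hc : c ≠ 0) : ∃ g : ↥(twistedD4 K q), ∀ a, g * s2 H a * g⁻¹ = s2 H (c * a) := by
  obtain ⟨s, m, hs, hs0, hm0, rfl⟩ := exists_sq H.three H.two hc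
  obtain ⟨g, hg⟩ := exists_tor H hs hs0 hm0
  exact ⟨g, fun a => Subtype.ext (hg 2 a)⟩

/-- an element of the torus centralising the root group `4` and acting as a multiplication `≠ 1` on `2` -/
theorem exists_h24 : ∃ (g : ↥(twistedD4 K q)) (ν : K), ν ≠ 1 ∧ (∀ a, g * s2 H a * g⁻¹ = s2 H (ν * a)) ∧
    ∀ t, g * lg H 4 t * g⁻¹ = lg H 4 t := by
  obtain ⟨m, hm⟩ : ∃ m : K, φ m ≠ m := by
    by_contra hcon
    push Not at hcon
    have h1 := card_fq H.one_lt H.card H.pow
    have h2 : Nat.card (Fq φ) = Nat.card K :=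
      Nat.card_congr ⟨fun x => (x : K), fun x => ⟨x, hcon x⟩, fun _ => rfl, fun _ => rfl⟩
    rw [h1, Nat.card_eq_fintype_card, H.card] at h2
    have h3 : q ^ 1 < q ^ 3 := Nat.pow_lt_pow_right H.one_lt (by norm_num)
    rw [pow_one] at h3
    omega
  have hm0 : m ≠ 0 := by rintro rfl; exact hm (map_zero φ)
  have h1 : φ m ≠ 0 := (map_ne_zero φ).2 hm0
  have h2 : φ (φ m) ≠ 0 := (map_ne_zero φ).2 h1
  set N : K := m * φ m * φ (φ m) with hN
  have hN0 : N ≠ 0 := mul_ne_zero (mul_ne_zero hm0 h1) h2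
  have hNf : φ N = N := by rw [hN, map_mul, map_mul, H.three]; ring
  obtain ⟨g, hg⟩ := exists_tor H (s := (N * N)⁻¹) (m := m) (by rw [map_inv₀, map_mul, hNf])
    (inv_ne_zero (mul_ne_zero hN0 hN0)) hm0
  refine ⟨g, (N * N)⁻¹ * (m * m), ?_, fun a => Subtype.ext (hg 2 a), fun t => Subtype.ext ?_⟩
  · intro h
    have h3 : m * m = N * N := by
      field_simp at h
      linear_combination h
    apply hm
    rcases mul_self_eq_mul_self_iff.1 h3 with h4 | h4
    · rw [h4, hNf]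
    · rw [h4, map_neg, hNf]
  · refine (hg 4 (t : K)).trans ?_
    show xx φ 4 _ = xx φ 4 (t : K)
    congr 1
    show (N * N)⁻¹ * (m * m * φ (m * m) * φ (φ (m * m))) * t = t
    have e : m * m * φ (m * m) * φ (φ (m * m)) = N * N := by
      rw [hN, map_mul, map_mul]; ring
    rw [e, inv_mul_cancel₀ (mul_ne_zero hN0 hN0), one_mul]

/-! #### Commuting lifts -/

theorem lc05 (t u : Fq φ) : LC.{u, v} (lg H 0 t) (lg H 5 u) := by
  obtain ⟨g, h5, h0, -, -, -⟩ := exists_t1 H
  exact LC.of_inv (gx_comm H (by decide +kernel) _ _) (h0 t) (h5 u)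

theorem lc45 (t u : Fq φ) : LC.{u, v} (lg H 4 t) (lg H 5 u) := by
  obtain ⟨g, h5, -, h4, -, -⟩ := exists_t1 H
  exact LC.of_inv (gx_comm H (by decide +kernel) _ _) (h4 t) (h5 u)

theorem lc25 (a : K) (u : Fq φ) : LC.{u, v} (s2 H a) (lg H 5 u) := by
  obtain ⟨g, h5, -, -, h2, -⟩ := exists_t1 H
  exact LC.of_inv (gx_comm H (by decide +kernel) _ _) (h2 a) (h5 u)

theorem lg04 (t u : Fq φ) : lg H 0 t * lg H 4 u = lg H 5 (t * u) * (lg H 4 u * lg H 0 t) :=
  Subtype.ext (comm04 (φ := φ) (t : K) (u : K))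

theorem lc55 (t u : Fq φ) : LC.{u, v} (lg H 5 t) (lg H 5 u) := by
  have e : lg H 5 t = lg H 0 t * lg H 4 1 * (lg H 0 t)⁻¹ * (lg H 4 1)⁻¹ := by
    rw [lg04 H t 1, mul_one]; group
  rw [← mem_cenLC, e]
  exact mul_mem (mul_mem (mul_mem (mem_cenLC.2 (lc05 H t u)) (mem_cenLC.2 (lc45 H 1 u)))
    (inv_mem (mem_cenLC.2 (lc05 H t u)))) (inv_mem (mem_cenLC.2 (lc45 H 1 u)))

theorem lc44 (t u : Fq φ) : LC.{u, v} (lg H 4 t) (lg H 4 u) := by
  -- `n_a` moves `5` to `4`
  obtain ⟨ε, hε, hn⟩ : ∃ ε : Fq φ, ε * ε = 1 ∧ ∀ t, (⟨na K, na_mem H.pow⟩ : ↥(twistedD4 K q)) * lg H 5 t *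
      (⟨na K, na_mem H.pow⟩ : ↥(twistedD4 K q))⁻¹ = lg H 4 (ε * t) := by
    have h := fun t : K => nG_conj (F := K) (i := 1) (s := 23) (by norm_num) (by norm_num) t
    have hr : rfl' 1 23 = 22 := by decide +kernel
    rw [hr] at h
    rcases D4NConj.eta_cases (i := 1) (s := 23) (by norm_num) (by norm_num) with h1 | h1
    · refine ⟨1, by norm_num, fun t => Subtype.ext ?_⟩
      refine (h t).trans ?_
      rw [h1]
      show xG 22 _ = xG 22 (((1 : Fq φ) * t : Fq φ) : K)
      rw [Int.cast_one, one_mul, one_mul]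
    · refine ⟨-1, by norm_num, fun t => Subtype.ext ?_⟩
      refine (h t).trans ?_
      rw [h1]
      show xG 22 _ = xG 22 (((-1 : Fq φ) * t : Fq φ) : K)
      push_cast
      rfl
  have e : ∀ t, lg H 4 t = (⟨na K, na_mem H.pow⟩ : ↥(twistedD4 K q)) * lg H 5 (ε * t) *
      (⟨na K, na_mem H.pow⟩ : ↥(twistedD4 K q))⁻¹ := by
    intro t
    rw [hn, ← mul_assoc, hε, one_mul]
  rw [e t, e u]
  exact LCTools.conj (lc55 H _ _) _

theorem lc22 (hc : 4 < Nat.card K) (a b : K) : LC.{u, v} (s2 H a) (s2 H b) :=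
  LCTools.of_field hc (s2_add H) (fun _ h => exists_mul2 H h) a b

theorem lc24 (a : K) (t : Fq φ) : LC.{u, v} (s2 H a) (lg H 4 t) := by
  obtain ⟨g, ν, hν, h2, h4⟩ := exists_h24 H
  have hν' : ν - 1 ≠ 0 := sub_ne_zero.2 hν
  have e : s2 H a = g * s2 H (a / (ν - 1)) * g⁻¹ * (s2 H (a / (ν - 1)))⁻¹ := by
    rw [h2, ← s2_neg, ← s2_add]
    congr 1
    field_simp
    ring
  rw [e]
  refine LCTools.of_comm ?_ (gx_comm H (by decide +kernel) _ _)
  rw [← mul_inv_eq_iff_eq_mul]
  exact h4 t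

/-! #### The hyperbolic pairs -/

/-- the elements inverted by `t2` -/
noncomputable def AA (a : Fin 3 → K) : Fin 4 → Fq φ → ↥(twistedD4 K q) :=
  Fin.cases (lg H 4) fun j u => s2 H (a j * u)

/-- the elements centralised by `t2` -/
noncomputable def BB (b : Fin 3 → K) : Fin 4 → Fq φ → ↥(twistedD4 K q) :=
  Fin.cases (lg H 0) fun j u => s3 H (b j * u)

omit H in
/-- the coefficients -/
def cc : Fin 4 → Fq φ := Fin.cases 1 fun _ => -1

theorem AA_zero (a : Fin 3 → K) (u : Fq φ) : AA H a 0 u = lg H 4 u := rfl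

theorem AA_succ (a : Fin 3 → K) (j : Fin 3) (u : Fq φ) : AA H a j.succ u = s2 H (a j * u) := rfl

theorem BB_zero (b : Fin 3 → K) (u : Fq φ) : BB H b 0 u = lg H 0 u := rfl

theorem BB_succ (b : Fin 3 → K) (j : Fin 3) (u : Fq φ) : BB H b j.succ u = s3 H (b j * u) := rfl

theorem s32 (b a : K) (t : Fq φ) (ht : T φ a b = t) : s3 H b * s2 H a = s2 H a * s3 H b * lg H 5 (-t) := by
  have h1 : s2 H a * s3 H b = lg H 5 t * (s3 H b * s2 H a) := by
    apply Subtype.ext
    have := comm23 (φ := φ) a b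
    rw [ht] at this
    exact this
  have h2 : s3 H b * s2 H a = lg H 5 (-t) * (s2 H a * s3 H b) := by
    rw [h1, lg_neg, inv_mul_cancel_left]
  have h3 : lg H 5 (-t) * s2 H a = s2 H a * lg H 5 (-t) := gx_comm H (i := 5) (j := 2) (by decide +kernel) _ _
  have h4 : lg H 5 (-t) * s3 H b = s3 H b * lg H 5 (-t) := gx_comm H (i := 5) (j := 3) (by decide +kernel) _ _
  rw [h2, ← mul_assoc, h3, mul_assoc, h4, mul_assoc]

theorem fh {p : ℕ} [CharP K p] {a b : Fin 3 → K} (hab : ∀ i j, T φ (a i) (b j) = if i = j then 1 else 0) :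
    FH p 4 (lg H 5) (AA H a) (BB H b) (cc (φ := φ)) := by
  have hT : ∀ i j (t u : Fq φ), T φ (a i * u) (b j * t) = if i = j then (u : K) * t else 0 := by
    intro i j t u
    have h := hab i j
    unfold T at h ⊢
    simp only [map_mul, fq]
    have e : a i * u * (φ (b j) * t) + φ (a i) * u * (φ (φ (b j)) * t) + φ (φ (a i)) * u * (b j * t) =
        (a i * φ (b j) + φ (a i) * φ (φ (b j)) + φ (φ (a i)) * b j) * (u * t) := by ring
    rw [e, h]
    split_ifs <;> simp
  refine ⟨lg_add H 5, ?_, ?_, ?_, ?_, ?_, ?_, ?_⟩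
  · intro j t
    refine Fin.cases ?_ (fun j => ?_) j
    · exact gx_pow H 4 (t : K) fun _ => fq t
    · exact gx_pow H 2 _ (dm2 _)
  · intro j t u
    refine Fin.cases ?_ (fun j => ?_) j
    · exact gx_comm H (i := 5) (j := 4) (by decide +kernel) (fun _ => fq t) (fun _ => fq u)
    · exact gx_comm H (i := 5) (j := 2) (by decide +kernel) (fun _ => fq t) (dm2 _)
  · intro j t u
    refine Fin.cases ?_ (fun j => ?_) j
    · exact gx_comm H (i := 5) (j := 0) (by decide +kernel) (fun _ => fq t) (fun _ => fq u)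
    · exact gx_comm H (i := 5) (j := 3) (by decide +kernel) (fun _ => fq t) (dm3 _)
  · intro i j t u
    refine Fin.cases ?_ (fun i => ?_) i <;> refine Fin.cases ?_ (fun j => ?_) j
    · exact gx_comm H (i := 4) (j := 4) (by decide +kernel) (fun _ => fq t) (fun _ => fq u)
    · exact gx_comm H (i := 4) (j := 2) (by decide +kernel) (fun _ => fq t) (dm2 _)
    · exact gx_comm H (i := 2) (j := 4) (by decide +kernel) (dm2 _) (fun _ => fq u)
    · exact gx_comm H (i := 2) (j := 2) (by decide +kernel) (dm2 _) (dm2 _)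
  · intro i j
    refine Fin.cases ?_ (fun i => ?_) i <;> refine Fin.cases ?_ (fun j => ?_) j
    · intro h; exact absurd rfl h
    · intro _ t u
      exact gx_comm H (i := 0) (j := 2) (by decide +kernel) (fun _ => fq t) (dm2 _)
    · intro _ t u
      exact gx_comm H (i := 3) (j := 4) (by decide +kernel) (dm3 _) (fun _ => fq u)
    · intro hij t u
      have hij' : ¬ j = i := fun h => hij (by rw [h])
      have h1 : T φ (a j * u) (b i * t) = ((0 : Fq φ) : K) := by rw [hT, if_neg hij']; rfl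
      have h2 := s32 H (b i * t) (a j * u) 0 h1
      have h3 : lg H 5 (-(0 : Fq φ)) = 1 := by
        rw [neg_zero]
        exact Subtype.ext (xx_zero φ 5)
      rw [h3, mul_one] at h2
      exact h2
  · intro j t u
    refine Fin.cases ?_ (fun j => ?_) j
    · show lg H 0 t * lg H 4 u * (lg H 0 t)⁻¹ = lg H 4 u * lg H 5 (1 * t * u)
      have h3 : lg H 5 (t * u) * lg H 4 u = lg H 4 u * lg H 5 (t * u) := gx_comm H (by decide +kernel) _ _
      rw [lg04, one_mul, ← h3]
      group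
    · show s3 H (b j * t) * s2 H (a j * u) * (s3 H (b j * t))⁻¹ = s2 H (a j * u) * lg H 5 (-1 * t * u)
      have h1 : T φ (a j * u) (b j * t) = ((u * t : Fq φ) : K) := by rw [hT, if_pos rfl]; rfl
      have h4 : lg H 5 (-(u * t)) * s3 H (b j * t) = s3 H (b j * t) * lg H 5 (-(u * t)) :=
        gx_comm H (i := 5) (j := 3) (by decide +kernel) _ _
      have e : (-1 : Fq φ) * t * u = -(u * t) := by ring
      rw [s32 H _ _ (u * t) h1, e, mul_assoc (s2 H _), ← h4]
      group
  · intro j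
    refine Fin.cases ?_ (fun j => ?_) j
    · exact one_ne_zero
    · exact neg_ne_zero.2 one_ne_zero

omit [Fintype K] H in
theorem two_le_orderOf {p : ℕ} (hp : p.Prime) (hp2 : p ≠ 2) : 2 ≤ orderOf (2 : ZMod p) := by
  have : Fact p.Prime := ⟨hp⟩
  have h2 : (2 : ZMod p) ≠ 0 := by
    intro h
    have h1 : ((2 : ℕ) : ZMod p) = 0 := by exact_mod_cast h
    rw [ZMod.natCast_eq_zero_iff] at h1
    exact hp2 ((Nat.prime_dvd_prime_iff_eq hp Nat.prime_two).1 h1)
  have h3 : orderOf (2 : ZMod p) ≠ 1 := by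
    rw [Ne, orderOf_eq_one_iff]
    intro h
    have h4 : (1 : ZMod p) = 0 := by linear_combination h
    exact one_ne_zero h4
  have h4 : 0 < orderOf (2 : ZMod p) := by
    have := orderOf_pos (Units.mk0 (2 : ZMod p) h2)
    rwa [← orderOf_units, Units.val_mk0] at this
  omega

/-- **LB of ³D₄(q)** in coordinates. -/
theorem lb_aux {p : ℕ} (hp : p.Prime) [CharP K p] (hp2 : p ≠ 2) (hs : IsSimpleGroup ↥(twistedD4 K q)) :
    Lie.Heis.LB.{u, v, w} ↥(twistedD4 K q) (orderOf (2 : ZMod p) * Nat.card (Fq φ) ^ 4) := by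
  have : Fact p.Prime := ⟨hp⟩
  have : CharP (Fq φ) p := (RingHom.charP_iff (Fq φ).subtype (Fq φ).subtype_injective p).2 inferInstance
  obtain ⟨a, b, hab⟩ := exists_dual H.one_lt H.card H.pow H.three
  have h3 : 3 ≤ q := by
    have h1 := card_fq H.one_lt H.card H.pow
    have h2 : p ∣ Nat.card (Fq φ) := by
      let _ : Fintype (Fq φ) := Fintype.ofFinite _
      have := FiniteField.cast_card_eq_zero (Fq φ)
      rw [← Nat.card_eq_fintype_card] at this
      exact (CharP.cast_eq_zero_iff (Fq φ) p _).1 this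
    rw [h1] at h2
    have h4 := Nat.le_of_dvd (by have := H.one_lt; omega) h2
    have h5 := hp.two_le
    omega
  have hc : 4 < Nat.card K := by
    rw [Nat.card_eq_fintype_card, H.card]
    calc 4 < 3 ^ 3 := by norm_num
      _ ≤ q ^ 3 := Nat.pow_le_pow_left h3 3
  refine LB.fh hp2 (fh H hab) (s := t2 H) (fun t => t2_inv H (by decide) _) (fun j t => ?_) (fun j t => ?_)
    (fun t u => lc55 H t u) (fun j t u => ?_) (fun i j t u => ?_) ⟨1, ?_⟩
  · refine Fin.cases ?_ (fun j => ?_) j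
    · exact t2_inv H (i := 4) (by decide) (fun _ => fq t)
    · exact t2_inv H (i := 2) (by decide) (dm2 _)
  · refine Fin.cases ?_ (fun j => ?_) j
    · exact t2_cen H (i := 0) (by decide) (fun _ => fq t)
    · exact t2_cen H (i := 3) (by decide) (dm3 _)
  · refine Fin.cases ?_ (fun j => ?_) j
    · exact (lc45 H u t).symm
    · exact (lc25 H _ t).symm
  · refine Fin.cases ?_ (fun i => ?_) i <;> refine Fin.cases ?_ (fun j => ?_) j
    · exact lc44 H t u
    · exact (lc24 H _ t).symm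
    · exact lc24 H _ u
    · exact lc22 H hc _ _
  · intro h
    have h1 : xx φ 5 (1 : K) = 1 := congrArg Subtype.val h
    have h2 : (xG 23 (1 : K) : GL chevD4.Idx K) = 1 := h1
    rw [xG_eq_one_iff (by norm_num)] at h2
    exact one_ne_zero h2

end Main

/-- **LB of ³D₄(q)**, `q` odd: `|V| ≥ 2 ^ 162` for every nontrivial action of an odd cover. -/
theorem lb {K : Type u} [Field K] [Fintype K] {q : ℕ} (hq : IsPrimePow q) (hK : Fintype.card K = q ^ 3)
    (h2 : (2 : K) ≠ 0) (hs : IsSimpleGroup ↥(twistedD4 K q)) : Lie.Heis.LB.{u, v, w} ↥(twistedD4 K q) 162 := by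
  obtain ⟨φ, hφ⟩ := D4Fixed.exists_frob hq hK
  have H : Fr φ q := ⟨hq.one_lt, hK, h2, phi3 hK hφ, hφ, twisted_le_fix hK hφ⟩
  obtain ⟨p, hp⟩ := CharP.exists K
  have hpp := CharP.char_is_prime K p
  have hp2 : p ≠ 2 := by
    rintro rfl
    apply h2
    exact_mod_cast CharP.cast_eq_zero K 2
  refine (lb_aux H hpp hp2 hs).mono ?_
  have h3 : 3 ≤ q := by
    obtain ⟨r, k, hr, hk, rfl⟩ := (isPrimePow_nat_iff _).1 hq
    have h4 : r = p := by
      have h5 : ((Fintype.card K : ℕ) : K) = 0 := FiniteField.cast_card_eq_zero K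
      rw [hK, CharP.cast_eq_zero_iff K p, ← pow_mul] at h5
      exact ((Nat.prime_dvd_prime_iff_eq hpp hr).1 (hpp.dvd_of_dvd_pow h5)).symm
    subst h4
    have h6 := hr.two_le
    have h7 : r ^ 1 ≤ r ^ k := Nat.pow_le_pow_right (by omega) hk
    rw [pow_one] at h7
    omega
  rw [card_fq H.one_lt H.card H.pow]
  calc 162 = 2 * 3 ^ 4 := by norm_num
    _ ≤ orderOf (2 : ZMod p) * q ^ 4 := Nat.mul_le_mul (two_le_orderOf hpp hp2) (Nat.pow_le_pow_left h3 4)

end Cfsg.Agent.Omega.TwoF.TwD4LB
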