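import Mathlib
import Cfsg.Agent.Schreier.BNUse

/-!
# Rigidity of automorphisms of groups with a (B, N)-pair (TABLE 2F, outer part)

`Out.eq_one`: `K` finite with a (B, N)-pair with nodes `V s` (`U` a `p`-group normal in `B`, `core B = 1`), `D` an
`l`-group of automorphisms of `K`, `l ≠ p`, fixing `U`, `B`, all minimal parabolics and acting trivially on all
sections `U/V s`: then `D = 1`.
-/

set_option autoImplicit false

namespace Cfsg.Agent.Omega.TwoF.Out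

open Cfsg.Agent.Schreier.Basic Cfsg.Agent.Schreier.Tools Cfsg.Agent.Schreier.BNSch

variable {K : Type*} [Group K]

/-! ### The covering criterion -/

/-- If every element of the generating family `X` satisfies `x ∈ C_K(φ) B x'`-covering then `φ = 1`. -/
theorem eq_one_of_cover (B : Subgroup K) (hcore : B.normalCore = ⊥) (X : Set K)
    (hgen : Subgroup.closure X = ⊤) (φ : MulAut K) (hB : ∀ b ∈ B, φ b ∈ B)
    (h : ∀ b ∈ B, ∀ x ∈ X, ∃ m, φ m = m ∧ m⁻¹ * (b * x) ∈ B)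
    (h' : ∀ b ∈ B, ∀ x ∈ X, ∃ m, φ m = m ∧ m⁻¹ * (b * x⁻¹) ∈ B) : φ = 1 := by
  have key : ∀ g : K, ∃ m, φ m = m ∧ m⁻¹ * g ∈ B := by
    intro g
    have hg : g ∈ Subgroup.closure X := by rw [hgen]; trivial
    induction hg using Subgroup.closure_induction_right with
    | one => exact ⟨1, map_one φ, by simp⟩
    | mul_right y _ x hx ih =>
      obtain ⟨m, hm, hb⟩ := ih
      obtain ⟨m', hm', hb'⟩ := h _ hb x hx
      refine ⟨m * m', by rw [map_mul, hm, hm'], ?_⟩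
      have : (m * m')⁻¹ * (y * x) = m'⁻¹ * (m⁻¹ * y * x) := by group
      rw [this]
      exact hb'
    | mul_inv_cancel y _ x hx ih =>
      obtain ⟨m, hm, hb⟩ := ih
      obtain ⟨m', hm', hb'⟩ := h' _ hb x hx
      refine ⟨m * m', by rw [map_mul, hm, hm'], ?_⟩
      have : (m * m')⁻¹ * (y * x⁻¹) = m'⁻¹ * (m⁻¹ * y * x⁻¹) := by group
      rw [this]
      exact hb'
  have key2 : ∀ g : K, g⁻¹ * φ g ∈ B := by
    intro g
    obtain ⟨m, hm, hb⟩ := key g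
    have h1 : g = m * (m⁻¹ * g) := by group
    have h2 : g⁻¹ * φ g = (m⁻¹ * g)⁻¹ * φ (m⁻¹ * g) := by
      rw [map_mul, map_inv, hm]
      group
    rw [h2]
    exact mul_mem (inv_mem hb) (hB _ hb)
  apply MulEquiv.ext
  intro g
  have h3 : g⁻¹ * φ g ∈ B.normalCore := by
    rw [Subgroup.normalCore]
    show ∀ x : K, x * (g⁻¹ * φ g) * x⁻¹ ∈ B
    intro x
    have h4 := mul_mem (key2 (g * x⁻¹)) (inv_mem (key2 x⁻¹))
    have h5 : (g * x⁻¹)⁻¹ * φ (g * x⁻¹) * ((x⁻¹)⁻¹ * φ x⁻¹)⁻¹ = x * (g⁻¹ * φ g) * x⁻¹ := by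
      rw [map_mul]
      group
    rwa [h5] at h4
  rw [hcore, Subgroup.mem_bot, inv_mul_eq_one] at h3
  exact h3.symm

/-! ### Fixed points in cosets -/

/-- An `l`-group of automorphisms which maps the coset `x V` to itself, `|V|` prime to `l`, has a fixed point there. -/
theorem exists_fixed [Finite K] {l : ℕ} [Fact l.Prime] (D : Subgroup (MulAut K)) (hD : IsPGroup l D) (V : Subgroup K)
    (hV : Inv D V) (hl : ¬ l ∣ Nat.card V) (x : K) (hx : ∀ φ ∈ D, x⁻¹ * φ x ∈ V) :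
    ∃ m, (∀ φ ∈ D, φ m = m) ∧ m⁻¹ * x ∈ V := by
  classical
  -- the action of `D` on `V` by `v ↦ x⁻¹ φ (x v)`
  let act : MulAction D V :=
    { smul := fun φ v => ⟨x⁻¹ * (φ : MulAut K) (x * v), by
        rw [map_mul, ← mul_assoc]
        exact mul_mem (hx φ φ.2) (hV.apply_mem φ.2 v.2)⟩
      one_smul := fun v => by
        apply Subtype.ext
        show x⁻¹ * (1 : MulAut K) (x * v) = v
        simp
      mul_smul := fun φ ψ v => by
        apply Subtype.ext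
        show x⁻¹ * ((φ : MulAut K) * (ψ : MulAut K)) (x * v) = x⁻¹ * (φ : MulAut K) (x * (x⁻¹ * (ψ : MulAut K) (x * v)))
        rw [MulAut.mul_apply, mul_inv_cancel_left] }
  have h1 := hD.card_modEq_card_fixedPoints V
  have h2 : (MulAction.fixedPoints D V).Nonempty := by
    by_contra hcon
    rw [Set.not_nonempty_iff_eq_empty] at hcon
    rw [hcon] at h1
    have h3 : Nat.card (∅ : Set V) = 0 := by simp
    rw [h3] at h1
    exact hl ((Nat.modEq_zero_iff_dvd).1 h1)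
  obtain ⟨v, hv⟩ := h2
  refine ⟨x * v, fun φ hφ => ?_, ?_⟩
  · have h3 := congrArg Subtype.val (hv ⟨φ, hφ⟩)
    have h4 : x⁻¹ * φ (x * v) = v := h3
    rw [inv_mul_eq_iff_eq_mul] at h4
    exact h4
  · have : (x * (v : K))⁻¹ * x = (v : K)⁻¹ := by group
    rw [this]
    exact inv_mem v.2

/-- A homomorphism from an `l`-group to a group of order prime to `l` is trivial. -/
theorem hom_eq_one_of_coprime {A C : Type*} [Group A] [Group C] [Finite C] {l : ℕ} (hA : IsPGroup l A)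
    [hl : Fact l.Prime] (hC : ¬ l ∣ Nat.card C) (f : A →* C) (a : A) : f a = 1 := by
  obtain ⟨k, hk⟩ := hA a
  have h1 : f a ^ l ^ k = 1 := by rw [← map_pow, hk, map_one]
  have h2 : orderOf (f a) ∣ l ^ k := orderOf_dvd_of_pow_eq_one h1
  have h3 : orderOf (f a) ∣ Nat.card C := orderOf_dvd_natCard _
  have h4 : Nat.Coprime (l ^ k) (Nat.card C) := Nat.Coprime.pow_left _ ((Nat.Prime.coprime_iff_not_dvd hl.out).2 hC)
  have h5 := Nat.dvd_gcd h2 h3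
  rw [h4] at h5
  rw [← orderOf_eq_one_iff]
  exact Nat.dvd_one.1 h5

/-! ### The minimal parabolic -/

section node

variable [Finite K] {P : Cfsg.BNPair K} {U V : Subgroup K} {s : K} {l : ℕ} [hl : Fact l.Prime]

/-- `D` fixes the coset `s B`. -/
theorem coset_fix (hN : Node P U s V) (hs : s ∈ P.S) (hUB : U ≤ P.B) (hlU : ¬ l ∣ Nat.card U)
    (hUN : ∀ b ∈ P.B, ∃ u ∈ U, u⁻¹ * b ∈ P.N) {D : Subgroup (MulAut K)} (hD : IsPGroup l D)
    (hB : Inv D P.B) (hP : Inv D (P.parabolic {s}))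
    (hT : TrMod D U V) {φ : MulAut K} (hφ : φ ∈ D) : s⁻¹ * φ s ∈ P.B := by
  classical
  have hex : ∀ ψ : D, ∃ u ∈ U, ∃ b ∈ P.B, (ψ : MulAut K) s = u * s * b := by
    intro ψ
    apply exists_of_mem_parabolic P hUB hUN hs (hP.apply_mem ψ.2 (mem_parabolic_self P s))
    rw [hB.apply_mem_iff ψ.2]
    exact not_mem_B P hs
  choose u hu b hb hub using hex
  have hVn : (V.subgroupOf U).Normal := by
    constructor
    intro v hv x
    rw [Subgroup.mem_subgroupOf] at hv ⊢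
    exact hN.conj_B _ (hUB x.2) _ hv
  -- uniqueness of `u ψ` modulo `V`
  have huniq : ∀ x ∈ U, ∀ y ∈ U, ∀ c ∈ P.B, ∀ d ∈ P.B, x * s * c = y * s * d → x⁻¹ * y ∈ V := by
    intro x hx y hy c hc d hd h
    apply hN.stab _ (mul_mem (inv_mem hx) hy)
    have : s⁻¹ * (x⁻¹ * y) * s = c * d⁻¹ := by
      have h1 : y = x * s * c * d⁻¹ * s⁻¹ := by
        rw [h]; group
      rw [h1]; group
    rw [this]
    exact mul_mem hc (inv_mem hd)
  let f : D →* U ⧸ V.subgroupOf U :=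
    MonoidHom.mk' (fun ψ => (QuotientGroup.mk (⟨(u ψ)⁻¹, inv_mem (hu ψ)⟩ : U) : U ⧸ V.subgroupOf U)) (by
      intro ψ χ
      rw [← QuotientGroup.mk_mul, QuotientGroup.eq, Subgroup.mem_subgroupOf]
      show ((u (ψ * χ))⁻¹)⁻¹ * ((u ψ)⁻¹ * (u χ)⁻¹) ∈ V
      have h1 : ((ψ * χ : D) : MulAut K) s = (ψ : MulAut K) (u χ) * u ψ * s * (b ψ * (ψ : MulAut K) (b χ)) := by
        show (ψ : MulAut K) ((χ : MulAut K) s) = _
        rw [hub χ, map_mul, map_mul, hub ψ]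
        group
      have h2 : (u (ψ * χ))⁻¹ * ((ψ : MulAut K) (u χ) * u ψ) ∈ V := by
        apply huniq _ (hu _) _ (mul_mem _ (hu ψ)) _ (hb (ψ * χ)) _ (mul_mem (hb ψ) (hB.apply_mem ψ.2 (hb χ)))
        · rw [← hub, h1]
        · have := mul_mem (hu χ) (hN.le (hT ψ ψ.2 (u χ) (hu χ)))
          simpa using this
      -- `φ (u χ) = u χ * v`
      have h3 : (u χ)⁻¹ * (ψ : MulAut K) (u χ) ∈ V := hT ψ ψ.2 (u χ) (hu χ)
      set v := (u χ)⁻¹ * (ψ : MulAut K) (u χ) with hv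
      have h4 : (ψ : MulAut K) (u χ) = u χ * v := by rw [hv]; group
      rw [h4] at h2
      set w := (u (ψ * χ))⁻¹ * (u χ * v * u ψ) with hw
      have h5 : ((u (ψ * χ))⁻¹)⁻¹ * ((u ψ)⁻¹ * (u χ)⁻¹) = (u χ * v * (u χ)⁻¹) * ((u χ * u ψ) * w⁻¹ * (u χ * u ψ)⁻¹) := by
        rw [hw]; group
      rw [h5]
      refine mul_mem (hN.conj_B _ (hUB (hu χ)) _ h3) (hN.conj_B _ (mul_mem (hUB (hu χ)) (hUB (hu ψ))) _ (inv_mem h2)))
  have hcard : ¬ l ∣ Nat.card (U ⧸ V.subgroupOf U) := fun h => hlU (h.trans (Subgroup.card_quotient_dvd_card _))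
  have h1 := hom_eq_one_of_coprime hD hcard f ⟨φ, hφ⟩
  have h2 : (u ⟨φ, hφ⟩)⁻¹ ∈ V := by
    have h3 : (QuotientGroup.mk (⟨(u ⟨φ, hφ⟩)⁻¹, inv_mem (hu ⟨φ, hφ⟩)⟩ : U) : U ⧸ V.subgroupOf U) = 1 := h1
    rw [QuotientGroup.eq_one_iff, Subgroup.mem_subgroupOf] at h3
    exact h3
  have h3 : φ s = u ⟨φ, hφ⟩ * s * b ⟨φ, hφ⟩ := hub ⟨φ, hφ⟩
  rw [h3]
  have h4 : s⁻¹ * (u ⟨φ, hφ⟩ * s * b ⟨φ, hφ⟩) = (s⁻¹ * u ⟨φ, hφ⟩ * s) * b ⟨φ, hφ⟩ := by group
  rw [h4]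
  exact mul_mem (hUB (hN.le (hN.conj_s _ (by simpa using inv_mem h2)))) (hb _)

/-- `D` fixes every coset `g B`, `g ∈ P_s`. -/
theorem coset_fix' (hN : Node P U s V) (hs : s ∈ P.S) (hUB : U ≤ P.B) (hlU : ¬ l ∣ Nat.card U)
    (hUN : ∀ b ∈ P.B, ∃ u ∈ U, u⁻¹ * b ∈ P.N) {D : Subgroup (MulAut K)} (hD : IsPGroup l D)
    (hB : Inv D P.B) (hP : Inv D (P.parabolic {s}))
    (hT : TrMod D U V) {φ : MulAut K} (hφ : φ ∈ D) {g : K} (hg : g ∈ P.parabolic {s}) : g⁻¹ * φ g ∈ P.B := by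
  by_cases hgB : g ∈ P.B
  · exact mul_mem (inv_mem hgB) (hB.apply_mem hφ hgB)
  · obtain ⟨u, hu, b, hb, rfl⟩ := exists_of_mem_parabolic P hUB hUN hs hg hgB
    have h1 := coset_fix hN hs hUB hlU hUN hD hB hP hT hφ
    have h2 := hT φ hφ u hu
    have h3 : (u * s * b)⁻¹ * φ (u * s * b) =
        b⁻¹ * (s⁻¹ * (u⁻¹ * φ u) * s) * (s⁻¹ * φ s) * φ b := by
      rw [map_mul, map_mul]; group
    rw [h3]
    exact mul_mem (mul_mem (mul_mem (inv_mem hb) (hUB (hN.le (hN.conj_s _ h2)))) h1) (hB.apply_mem hφ hb)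

/-- The fixed points of `D` cover the minimal parabolic modulo `B`. -/
theorem cover (hN : Node P U s V) (hs : s ∈ P.S) (hUB : U ≤ P.B) (hlU : ¬ l ∣ Nat.card U)
    (hBU : ∀ b ∈ P.B, ∀ u ∈ U, b * u * b⁻¹ ∈ U)
    (hUN : ∀ b ∈ P.B, ∃ u ∈ U, u⁻¹ * b ∈ P.N) {D : Subgroup (MulAut K)} (hD : IsPGroup l D)
    (hU : Inv D U) (hB : Inv D P.B) (hP : Inv D (P.parabolic {s}))
    (hT : TrMod D U V) {g : K} (hg : g ∈ P.parabolic {s}) : ∃ m, (∀ φ ∈ D, φ m = m) ∧ m⁻¹ * g ∈ P.B := by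
  have hV : Inv D V := hN.inv hUB hU hB hP
  have hlV : ¬ l ∣ Nat.card V := fun h => hlU (h.trans (Subgroup.card_dvd_of_le hN.le))
  have hVn : ∀ {x : K}, x ∈ P.parabolic {s} → ∀ v ∈ V, x⁻¹ * v * x ∈ V := fun hx v hv => hN.conj_mem hx hv
  have hsP := mem_parabolic_self P s
  have hBP := B_le_parabolic P {s}
  have hfix : ∀ {x : K}, x ∈ P.parabolic {s} → ∀ φ ∈ D, x⁻¹ * φ x ∈ P.B := fun hx φ hφ =>
    coset_fix' hN hs hUB hlU hUN hD hB hP hT hφ hx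
  -- the points of `U`
  have hcU : ∀ u ∈ U, ∃ m, (∀ φ ∈ D, φ m = m) ∧ m⁻¹ * u ∈ V := fun u hu =>
    exists_fixed D hD V hV hlV u fun φ hφ => hT φ hφ u hu
  -- elements of `V` are in the stabiliser of `s B`
  have hVs : ∀ v ∈ V, s⁻¹ * v * s ∈ P.B := fun v hv => hUB (hN.le (hN.conj_s v hv))
  -- a fixed element in `s B`
  obtain ⟨u₀, hu₀, hu₀V⟩ := hN.ne
  have hstab' : ∀ u ∈ U, s * u * s⁻¹ ∈ P.B → u ∈ V := by
    intro u hu h
    apply hN.stab u hu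
    have h1 := P.sq_mem s hs
    have h2 : s⁻¹ * u * s = (s * s)⁻¹ * (s * u * s⁻¹) * (s * s) := by group
    rw [h2]
    exact mul_mem (mul_mem (inv_mem h1) h) h1
  have hms : ∃ m, (∀ φ ∈ D, φ m = m) ∧ m⁻¹ * s ∈ P.B := by
    have hxP : s * u₀ * s⁻¹ ∈ P.parabolic {s} := mul_mem (mul_mem hsP (hBP (hUB hu₀))) (inv_mem hsP)
    obtain ⟨m, hm, hmx⟩ := exists_fixed D hD V hV hlV (s * u₀ * s⁻¹) (by
      intro φ hφ
      have h1 := hfix hxP φ hφ
      -- `x⁻¹ φ x = s w s⁻¹`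
      have h2 := hfix hsP φ hφ
      set b := s⁻¹ * φ s with hb
      have h3 : φ s = s * b := by rw [hb]; group
      set w := u₀⁻¹ * (b * φ u₀ * b⁻¹) with hw
      have h4 : (s * u₀ * s⁻¹)⁻¹ * φ (s * u₀ * s⁻¹) = s * w * s⁻¹ := by
        rw [map_mul, map_mul, map_inv, h3, hw]; group
      have hwU : w ∈ U := mul_mem (inv_mem hu₀) (hBU _ h2 _ (hU.apply_mem hφ hu₀))
      rw [h4] at h1 ⊢
      have h5 := hstab' w hwU h1
      have h6 := hVn (inv_mem hsP) w h5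
      rwa [inv_inv] at h6)
    -- `m ∉ B`
    have hmB : m ∉ P.B := by
      intro h
      apply hu₀V
      apply hstab' u₀ hu₀
      have : s * u₀ * s⁻¹ = m * (m⁻¹ * (s * u₀ * s⁻¹)) := by group
      rw [this]
      exact mul_mem h (hUB (hN.le hmx))
    have hmP : m ∈ P.parabolic {s} := by
      have : m = s * u₀ * s⁻¹ * (m⁻¹ * (s * u₀ * s⁻¹))⁻¹ := by group
      rw [this]
      exact mul_mem hxP (inv_mem (hBP (hUB (hN.le hmx))))
    obtain ⟨u, hu, b, hb, hub⟩ := exists_of_mem_parabolic P hUB hUN hs hmP hmB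
    obtain ⟨m', hm', hmu⟩ := hcU u hu
    refine ⟨m'⁻¹ * m, fun φ hφ => by rw [map_mul, map_inv, hm' φ hφ, hm φ hφ], ?_⟩
    have h1 : (m'⁻¹ * m)⁻¹ * s = b⁻¹ * (s⁻¹ * (m'⁻¹ * u) * s)⁻¹ := by
      rw [hub]; group
    rw [h1]
    exact mul_mem (inv_mem hb) (inv_mem (hVs _ hmu))
  obtain ⟨ms, hms, hmsB⟩ := hms
  by_cases hgB : g ∈ P.B
  · exact ⟨1, fun φ _ => map_one φ, by simpa using hgB⟩
  · obtain ⟨u, hu, b, hb, rfl⟩ := exists_of_mem_parabolic P hUB hUN hs hg hgB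
    obtain ⟨m, hm, hmu⟩ := hcU u hu
    refine ⟨m * ms, fun φ hφ => by rw [map_mul, hm φ hφ, hms φ hφ], ?_⟩
    have h1 : (m * ms)⁻¹ * (u * s * b) = (ms⁻¹ * s) * (s⁻¹ * (m⁻¹ * u) * s) * b := by group
    rw [h1]
    exact mul_mem (mul_mem hmsB (hVs _ hmu)) hb

end node

/-- **Rigidity.** -/
theorem eq_one [Finite K] (P : Cfsg.BNPair K) (U : Subgroup K) {l : ℕ} [Fact l.Prime] (hcore : P.B.normalCore = ⊥)
    (hUB : U ≤ P.B) (hBU : ∀ b ∈ P.B, ∀ u ∈ U, b * u * b⁻¹ ∈ U)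
    (hUN : ∀ b ∈ P.B, ∃ u ∈ U, u⁻¹ * b ∈ P.N) (hlU : ¬ l ∣ Nat.card U) (V : K → Subgroup K)
    (hV : ∀ s ∈ P.S, Node P U s (V s)) {D : Subgroup (MulAut K)} (hD : IsPGroup l D) (hU : Inv D U)
    (hB : Inv D P.B) (hP : ∀ s ∈ P.S, Inv D (P.parabolic {s})) (hT : ∀ s ∈ P.S, TrMod D U (V s)) : D = ⊥ := by
  rw [eq_bot_iff]
  intro φ hφ
  rw [Subgroup.mem_bot]
  refine eq_one_of_cover P.B hcore ((P.B : Set K) ∪ P.S) ?_ φ (fun b hb => hB.apply_mem hφ hb) ?_ ?_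
  · rw [Subgroup.closure_union, Subgroup.closure_eq]
    exact sup_closure_eq_top P
  · rintro b hb x (hx | hx)
    · exact ⟨1, map_one φ, by simpa using mul_mem hb hx⟩
    · obtain ⟨m, hm, h⟩ := cover (hV x hx) hx hUB hlU hBU hUN hD hU hB (hP x hx) (hT x hx)
        (mul_mem (B_le_parabolic P _ hb) (mem_parabolic_self P x))
      exact ⟨m, hm φ hφ, h⟩
  · rintro b hb x (hx | hx)
    · exact ⟨1, map_one φ, by simpa using mul_mem hb (inv_mem hx)⟩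
    · obtain ⟨m, hm, h⟩ := cover (hV x hx) hx hUB hlU hBU hUN hD hU hB (hP x hx) (hT x hx)
        (mul_mem (B_le_parabolic P _ hb) (inv_mem (mem_parabolic_self P x)))
      exact ⟨m, hm φ hφ, h⟩

end Cfsg.Agent.Omega.TwoF.Out
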