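import Mathlib
import Cfsg.Agent.Omega.TwoF.Out

/-!
# The outer part of the 2-rank of `Aut K`, `K` with a (B, N)-pair in odd characteristic (TABLE 2F)

`OutRk K c`: `|A : A ∩ Inn K| ≤ 2 ^ c` for every elementary abelian 2-group `A` of automorphisms of `K`.

`outRk`: `OutRk K (∑ n s + v)`, `v` the exponent of `2` in `|S|!`, when at every node `s` the group of automorphisms
fixing `U`, `B`, `P_s` acts on `U/V_s` with a chain of `n s` cyclic factors (`NodeRk`).
-/

set_option autoImplicit false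

namespace Cfsg.Agent.Omega.TwoF.Out

open Cfsg.Agent.Schreier.Basic Cfsg.Agent.Schreier.Tools Cfsg.Agent.Schreier.BNSch
  Cfsg.Agent.Schreier.SylowCrit

open scoped Pointwise

universe u

/-- `|A : A ∩ Inn K| ≤ 2 ^ c` for all elementary abelian 2-groups `A` of automorphisms of `K`. -/
def OutRk (K : Type*) [Group K] (c : ℕ) : Prop :=
  ∀ A : Subgroup (MulAut K), (∀ a ∈ A, a * a = 1) →
    Nat.card A ≤ 2 ^ c * Nat.card (A ⊓ (MulAut.conj : K →* MulAut K).range : Subgroup (MulAut K))

theorem OutRk.mono {K : Type*} [Group K] {c d : ℕ} (h : OutRk K c) (hcd : c ≤ d) : OutRk K d :=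
  fun A hA => (h A hA).trans (Nat.mul_le_mul_right _ (Nat.pow_le_pow_right (by norm_num) hcd))

/-! ### Chains with cyclic factors -/

section chain

variable {Γ : Type*} [Group Γ]

/-- `D'` is the end of a chain of `n` cyclic steps below `D`. -/
inductive Cyc : ℕ → Subgroup Γ → Subgroup Γ → Prop
  | refl (D : Subgroup Γ) : Cyc 0 D D
  | step {n : ℕ} {D D' D'' : Subgroup Γ} (hle : D' ≤ D) (h : ∃ d₀ ∈ D, ∀ d ∈ D, ∃ k : ℤ, d₀ ^ k * d ∈ D')
      (hc : Cyc n D' D'') : Cyc (n + 1) D D''

theorem Cyc.le {n : ℕ} {D D' : Subgroup Γ} (h : Cyc n D D') : D' ≤ D := by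
  induction h with
  | refl D => exact le_rfl
  | step hle _ _ ih => exact ih.trans hle

theorem Cyc.trans {n m : ℕ} {D D' D'' : Subgroup Γ} (h : Cyc n D D') (h' : Cyc m D' D'') : Cyc (n + m) D D'' := by
  induction h with
  | refl D => simpa using h'
  | @step n D D₁ D₂ hle hd _ ih =>
    have := Cyc.step hle hd (ih h')
    rwa [show n + 1 + m = n + m + 1 by omega]

/-- A cyclic step given by a homomorphism to a cyclic group. -/
theorem Cyc.of_hom {C : Type*} [Group C] [IsCyclic C] {D D' : Subgroup Γ} (hle : D' ≤ D) (f : D →* C)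
    (hf : ∀ d (hd : d ∈ D), f ⟨d, hd⟩ = 1 → d ∈ D') : Cyc 1 D D' := by
  have hcyc : IsCyclic f.range := inferInstance
  obtain ⟨⟨z, d₀, hd₀⟩, hz⟩ := hcyc.exists_generator
  refine Cyc.step hle ⟨d₀, d₀.2, fun d hd => ?_⟩ (Cyc.refl D')
  obtain ⟨k, hk⟩ := Subgroup.mem_zpowers_iff.1 (hz ⟨f ⟨d, hd⟩, ⟨d, hd⟩, rfl⟩)
  have hk' : z ^ k = f ⟨d, hd⟩ := congrArg Subtype.val hk
  refine ⟨-k, ?_⟩
  apply hf _ (mul_mem (zpow_mem d₀.2 _) hd)
  have h1 : (⟨(d₀ : Γ) ^ (-k) * d, mul_mem (zpow_mem d₀.2 _) hd⟩ : D) = d₀ ^ (-k) * ⟨d, hd⟩ := rfl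
  rw [h1, map_mul, map_zpow, hd₀, zpow_neg, ← hk', inv_mul_cancel]

theorem Cyc.card_le {Q : Type*} [Group Q] [Finite Γ] (f : Γ →* Q) {n : ℕ} {D D' : Subgroup Γ} (h : Cyc n D D')
    (hD : ∀ d ∈ D, f d * f d = 1) : Nat.card (D.map f) ≤ 2 ^ n * Nat.card (D'.map f) := by
  induction h with
  | refl D => simp
  | @step n D D₁ D₂ hle hd _ ih =>
    have h1 := ih fun d hd => hD d (hle hd)
    obtain ⟨d₀, hd₀, hk⟩ := hd
    have h2 : Nat.card (D.map f) ≤ 2 * Nat.card (D₁.map f) := by
      have hfin : Finite (D₁.map f) := by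
        have : ((D₁.map f : Subgroup Q) : Set Q) = f '' (D₁ : Set Γ) := rfl
        exact Set.Finite.to_subtype (this ▸ Set.toFinite _)
      let g : Bool × (D₁.map f) → Q := fun x => (if x.1 then f d₀ else 1) * (x.2 : Q)
      have hsub : ((D.map f : Subgroup Q) : Set Q) ⊆ Set.range g := by
        rintro _ ⟨d, hd, rfl⟩
        obtain ⟨k, hk⟩ := hk d hd
        have h3 : f d = (f d₀ ^ k)⁻¹ * f (d₀ ^ k * d) := by
          rw [map_mul, map_zpow]; group
        have h4 : f d₀ * f d₀ = 1 := hD d₀ hd₀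
        have h5 : (f d₀ ^ k)⁻¹ = 1 ∨ (f d₀ ^ k)⁻¹ = f d₀ := by
          rcases Int.even_or_odd' k with ⟨m, rfl | rfl⟩
          · left
            rw [zpow_mul, zpow_two, h4, one_zpow, inv_one]
          · right
            rw [zpow_add, zpow_mul, zpow_two, h4, one_zpow, one_mul, zpow_one]
            exact inv_eq_of_mul_eq_one_left h4
        rcases h5 with h5 | h5
        · exact ⟨(false, ⟨f (d₀ ^ k * d), _, hk, rfl⟩), by
            show (if (false : Bool) = true then f d₀ else 1) * f (d₀ ^ k * d) = f d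
            rw [h3, h5]; simp⟩
        · exact ⟨(true, ⟨f (d₀ ^ k * d), _, hk, rfl⟩), by
            show (if (true : Bool) = true then f d₀ else 1) * f (d₀ ^ k * d) = f d
            rw [h3, h5]; simp⟩
      calc Nat.card (D.map f) = ((D.map f : Subgroup Q) : Set Q).ncard := (Nat.card_coe_set_eq _)
        _ ≤ (Set.range g).ncard := Set.ncard_le_ncard hsub (Set.finite_range g)
        _ ≤ Nat.card (Bool × (D₁.map f)) := by
            rw [← Nat.card_coe_set_eq]
            exact Nat.card_le_card_of_surjective (Set.rangeFactorization g) Set.rangeFactorization_surjective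
        _ = 2 * Nat.card (D₁.map f) := by
            rw [Nat.card_prod]; simp
    calc Nat.card (D.map f) ≤ 2 * Nat.card (D₁.map f) := h2
      _ ≤ 2 * (2 ^ n * Nat.card (D₂.map f)) := Nat.mul_le_mul_left _ h1
      _ = 2 ^ (n + 1) * Nat.card (D₂.map f) := by rw [pow_succ]; ring

end chain

variable {K : Type*} [Group K]

/-- The automorphisms fixing `U`, `B`, `P_s` act on `U/V` with a chain of `n` cyclic factors. -/
def NodeRk (P : Cfsg.BNPair K) (U : Subgroup K) (s : K) (V : Subgroup K) (n : ℕ) : Prop :=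
  ∀ D : Subgroup (MulAut K), Inv D U → Inv D P.B → Inv D (P.parabolic {s}) → Inv D V →
    ∃ D', Cyc n D D' ∧ TrMod D' U V

/-- All nodes together. -/
theorem exists_chain [Finite K] (P : Cfsg.BNPair K) (U : Subgroup K) (hUB : U ≤ P.B) (V : K → Subgroup K)
    (n : K → ℕ) (T : Finset K) (hT : (T : Set K) ⊆ P.S) (hV : ∀ s ∈ T, Node P U s (V s))
    (hn : ∀ s ∈ T, NodeRk P U s (V s) (n s)) {D : Subgroup (MulAut K)} (hU : Inv D U)
    (hB : Inv D P.B) (hP : ∀ s ∈ T, Inv D (P.parabolic {s})) :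
    ∃ D', Cyc (∑ s ∈ T, n s) D D' ∧ ∀ s ∈ T, TrMod D' U (V s) := by
  classical
  induction T using Finset.induction_on with
  | empty => exact ⟨D, by simpa using Cyc.refl D, by simp⟩
  | insert s T hs ih =>
    obtain ⟨D₁, h1, h2⟩ := ih (fun x hx => hT (by simp at hx ⊢; exact Or.inr hx))
      (fun x hx => hV x (Finset.mem_insert_of_mem hx)) (fun x hx => hn x (Finset.mem_insert_of_mem hx))
      (fun x hx => hP x (Finset.mem_insert_of_mem hx))
    have hs' := Finset.mem_insert_self s T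
    have hU' := Inv.mono_sub h1.le hU
    have hB' := Inv.mono_sub h1.le hB
    have hP' := Inv.mono_sub h1.le (hP s hs')
    obtain ⟨D₂, h3, h4⟩ := hn s hs' D₁ hU' hB' hP' ((hV s hs').inv hUB hU' hB' hP')
    refine ⟨D₂, ?_, fun x hx => ?_⟩
    · rw [Finset.sum_insert hs, add_comm]
      exact h1.trans h3
    · rcases Finset.mem_insert.1 hx with rfl | hx
      · exact h4
      · exact fun φ hφ => h2 x hx φ (h3.le hφ)

/-! ### The permutation of the nodes -/

/-- The automorphisms fixing all subgroups of a family. -/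
def famStab (S : Set (Subgroup K)) : Subgroup (MulAut K) := ⨅ A ∈ S, stab A

theorem mem_famStab {S : Set (Subgroup K)} {φ : MulAut K} : φ ∈ famStab S ↔ ∀ A ∈ S, A.map φ.toMonoidHom = A := by
  unfold famStab
  simp only [Subgroup.mem_iInf]
  rfl

theorem relIndex_dvd_factorial {D : Subgroup (MulAut K)} (S : Set (Subgroup K)) (hfin : S.Finite)
    (hS : ∀ φ ∈ D, ∀ A ∈ S, A.map φ.toMonoidHom ∈ S) : (famStab S).relIndex D ∣ (Nat.card S).factorial := by
  have : Finite S := hfin
  let f : D →* Equiv.Perm S :=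
    { toFun := fun φ =>
        { toFun := fun B => ⟨(B : Subgroup K).map (φ : MulAut K).toMonoidHom, hS φ φ.2 B B.2⟩
          invFun := fun B => ⟨(B : Subgroup K).map ((φ : MulAut K)⁻¹).toMonoidHom,
            hS (φ : MulAut K)⁻¹ (inv_mem φ.2) B B.2⟩
          left_inv := fun B => by
            apply Subtype.ext
            apply SetLike.coe_injective
            show (fun x => (φ : MulAut K)⁻¹ x) '' ((fun x => (φ : MulAut K) x) '' (B : Set K)) = _
            rw [Set.image_image]
            simp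
          right_inv := fun B => by
            apply Subtype.ext
            apply SetLike.coe_injective
            show (fun x => (φ : MulAut K) x) '' ((fun x => (φ : MulAut K)⁻¹ x) '' (B : Set K)) = _
            rw [Set.image_image]
            simp }
      map_one' := by
        ext B x
        show x ∈ (fun x => (1 : MulAut K) x) '' ((B : Subgroup K) : Set K) ↔ _
        simp
      map_mul' := fun φ ψ => by
        ext B x
        show x ∈ (fun x => ((φ : MulAut K) * (ψ : MulAut K)) x) '' ((B : Subgroup K) : Set K) ↔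
          x ∈ (fun x => (φ : MulAut K) x) '' ((fun x => (ψ : MulAut K) x) '' ((B : Subgroup K) : Set K))
        rw [Set.image_image]
        simp }
  have hker : f.ker = (famStab S).subgroupOf D := by
    ext φ
    rw [MonoidHom.mem_ker, Subgroup.mem_subgroupOf, mem_famStab]
    constructor
    · intro h A hA
      have h1 := congrArg (fun g : Equiv.Perm S => g ⟨A, hA⟩) h
      exact congrArg Subtype.val h1
    · intro h
      apply Equiv.ext
      intro A
      apply Subtype.ext
      exact h A A.2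
  have h1 : (famStab S).relIndex D = Nat.card f.range := by
    rw [Subgroup.relIndex, ← hker, Subgroup.index_ker]
  rw [h1, ← Nat.card_perm]
  exact Subgroup.card_subgroup_dvd_card f.range

/-- Index bound for the image under a homomorphism. -/
theorem card_map_le {Γ Q : Type*} [Group Γ] [Finite Γ] [Group Q] (f : Γ →* Q) {D E : Subgroup Γ} (h : E ≤ D) :
    Nat.card (D.map f) ≤ E.relIndex D * Nat.card (E.map f) := by
  have h1 : (E.map f).relIndex (D.map f) ∣ E.relIndex D := by
    have h2 := Subgroup.index_map_dvd (G := D) (G' := D.map f) (E.subgroupOf D) (f := f.subgroupMap D)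
      (f.subgroupMap_surjective D)
    have h3 : (E.subgroupOf D).map (f.subgroupMap D) = (E.map f).subgroupOf (D.map f) := by
      ext ⟨x, hx⟩
      simp only [Subgroup.mem_map, Subgroup.mem_subgroupOf]
      constructor
      · rintro ⟨d, hd, hdx⟩
        exact ⟨d, hd, congrArg Subtype.val hdx⟩
      · rintro ⟨e, he, hex⟩
        exact ⟨⟨e, h he⟩, he, Subtype.ext hex⟩
    rw [h3] at h2
    exact h2
  have hpos : 0 < E.relIndex D := Nat.pos_of_ne_zero Subgroup.index_ne_zero_of_finite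
  have hle : E.map f ≤ D.map f := Subgroup.map_mono h
  have h4 : Nat.card (E.map f) * (E.map f).relIndex (D.map f) = Nat.card (D.map f) := by
    have h5 := ((E.map f).subgroupOf (D.map f)).card_mul_index
    rwa [Nat.card_congr (Subgroup.subgroupOfEquivOfLe hle).toEquiv] at h5
  rw [← h4, mul_comm]
  exact Nat.mul_le_mul_right _ (Nat.le_of_dvd hpos h1)

/-- A divisor of `n` which is a power of two. -/
theorem le_two_pow_of_dvd {a n : ℕ} (hn : n ≠ 0) (ha : ∃ k, a = 2 ^ k) (h : a ∣ n) : a ≤ 2 ^ (padicValNat 2 n) := by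
  obtain ⟨k, rfl⟩ := ha
  have : Fact (Nat.Prime 2) := ⟨Nat.prime_two⟩
  exact Nat.pow_le_pow_right (by norm_num) ((padicValNat_dvd_iff_le hn).1 h)

/-- **THEOREM OUT**, for a 2-group of automorphisms normalising `U`. -/
theorem card_map_le_of_inv [Finite K] (P : Cfsg.BNPair K) (U : Subgroup K) (hcore : P.B.normalCore = ⊥)
    (hUB : U ≤ P.B) (hBU : ∀ b ∈ P.B, ∀ u ∈ U, b * u * b⁻¹ ∈ U)
    (hUN : ∀ b ∈ P.B, ∃ u ∈ U, u⁻¹ * b ∈ P.N) (hlU : ¬ 2 ∣ Nat.card U) (V : K → Subgroup K)
    (hV : ∀ s ∈ P.S, Node P U s (V s)) (n : K → ℕ) (hn : ∀ s ∈ P.S, NodeRk P U s (V s) (n s))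
    {T : Finset K} (hTS : (T : Set K) = P.S) {Q : Type*} [Group Q] (f : MulAut K →* Q)
    {D : Subgroup (MulAut K)} (hD : IsPGroup 2 D) (hf : ∀ d ∈ D, f d * f d = 1) (hU : Inv D U)
    (hB : Inv D P.B) :
    Nat.card (D.map f) ≤ 2 ^ (∑ s ∈ T, n s + padicValNat 2 (Nat.card P.S).factorial) := by
  classical
  have : Fact (Nat.Prime 2) := ⟨Nat.prime_two⟩
  set F : Set (Subgroup K) := (fun t => P.parabolic {t}) '' P.S with hF
  have hFf : F.Finite := (Set.toFinite P.S).image _
  have hperm : ∀ φ ∈ D, ∀ A ∈ F, A.map φ.toMonoidHom ∈ F := by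
    rintro φ hφ _ ⟨t, ht, rfl⟩
    obtain ⟨t', ht', h⟩ := exists_map_eq P φ (hB φ hφ) ht
    exact ⟨t', ht', h.symm⟩
  set E := D ⊓ famStab F with hE
  have hED : E ≤ D := inf_le_left
  have h1 : E.relIndex D ∣ (Nat.card P.S).factorial := by
    have h2 := relIndex_dvd_factorial F hFf hperm
    rw [hE, inf_comm, Subgroup.inf_relIndex_right]
    refine h2.trans (Nat.factorial_dvd_factorial ?_)
    rw [hF, Nat.card_coe_set_eq, Nat.card_coe_set_eq]
    exact Set.ncard_image_le (Set.toFinite _)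
  have h2 : ∃ k, E.relIndex D = 2 ^ k := by
    obtain ⟨k, hk⟩ := hD.index (E.subgroupOf D)
    exact ⟨k, hk⟩
  have h3 : E.relIndex D ≤ 2 ^ padicValNat 2 (Nat.card P.S).factorial :=
    le_two_pow_of_dvd (Nat.factorial_ne_zero _) h2 h1
  have hUE := Inv.mono_sub hED hU
  have hBE := Inv.mono_sub hED hB
  have hPE : ∀ s ∈ P.S, Inv E (P.parabolic {s}) := fun s hs φ hφ => mem_famStab.1 hφ.2 _ ⟨s, hs, rfl⟩
  have hTs : ∀ {s}, s ∈ T ↔ s ∈ P.S := fun {s} => by rw [← hTS]; rfl
  obtain ⟨D', h4, h5⟩ := exists_chain P U hUB V n T (by rw [hTS]) (fun s hs => hV s (hTs.1 hs))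
    (fun s hs => hn s (hTs.1 hs)) hUE hBE (fun s hs => hPE s (hTs.1 hs))
  have h6 : D' = ⊥ := by
    have hD' : IsPGroup 2 D' := hD.to_le (h4.le.trans hED)
    exact eq_one P U hcore hUB hBU hUN hlU V hV hD' (Inv.mono_sub h4.le hUE)
      (Inv.mono_sub h4.le hBE) (fun s hs => Inv.mono_sub h4.le (hPE s hs)) (fun s hs => h5 s (hTs.2 hs))
  have h7 := h4.card_le f (fun d hd => hf d (hED hd))
  have h8 : Nat.card (D'.map f) = 1 := by
    rw [h6, Subgroup.map_bot, Nat.card_unique]
  rw [h8, mul_one] at h7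
  calc Nat.card (D.map f) ≤ E.relIndex D * Nat.card (E.map f) := card_map_le f hED
    _ ≤ 2 ^ padicValNat 2 (Nat.card P.S).factorial * 2 ^ (∑ s ∈ T, n s) := Nat.mul_le_mul h3 h7
    _ = _ := by rw [← pow_add, add_comm]

/-- Frattini argument: the image in `Out K`. -/
theorem outRk_of_stab_mk {K : Type u} [Group K] [Finite K] {p : ℕ} [Fact p.Prime] (U : Sylow p K) (c : ℕ)
    [((MulAut.conj : K →* MulAut K).range).Normal]
    (h : ∀ D : Subgroup (MulAut K), IsPGroup 2 D →
      (∀ d ∈ D, QuotientGroup.mk' (MulAut.conj : K →* MulAut K).range d *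
        QuotientGroup.mk' (MulAut.conj : K →* MulAut K).range d = 1) → Inv D (U : Subgroup K) →
      Nat.card (D.map (QuotientGroup.mk' (MulAut.conj : K →* MulAut K).range)) ≤ 2 ^ c) : OutRk K c := by
  classical
  have : Fact (Nat.Prime 2) := ⟨Nat.prime_two⟩
  intro A hA
  set I : Subgroup (MulAut K) := (MulAut.conj : K →* MulAut K).range with hIdef
  set f := QuotientGroup.mk' I with hf
  set N : Subgroup (MulAut K) := stab (U : Subgroup K) ⊓ (A ⊔ I) with hN
  have hfI : I.map f = ⊥ := by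
    rw [Subgroup.map_eq_bot_iff, QuotientGroup.ker_mk']
  have hfN : N.map f = A.map f := by
    apply le_antisymm
    · have h1 : N.map f ≤ (A ⊔ I).map f := Subgroup.map_mono inf_le_right
      rwa [Subgroup.map_sup, hfI, sup_bot_eq] at h1
    · rintro _ ⟨a, ha, rfl⟩
      obtain ⟨k, hk⟩ := MulAction.exists_smul_eq K U (a • U)
      have h1 : (MulAut.conj k)⁻¹ * a ∈ stab (U : Subgroup K) := by
        rw [mem_stab_iff]
        intro u hu
        have h2 : a u ∈ ((a • U : Sylow p K) : Subgroup K) := by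
          rw [Sylow.pointwise_smul_def]
          exact Subgroup.smul_mem_pointwise_smul u a _ hu
        rw [← hk, Sylow.smul_def, Sylow.pointwise_smul_def, Subgroup.mem_pointwise_smul_iff_inv_smul_mem] at h2
        exact h2
      have hkI : (MulAut.conj k)⁻¹ ∈ I := inv_mem ⟨k, rfl⟩
      refine ⟨(MulAut.conj k)⁻¹ * a, ⟨h1, mul_mem (Subgroup.mem_sup_right hkI) (Subgroup.mem_sup_left ha)⟩, ?_⟩
      rw [map_mul]
      have : f (MulAut.conj k)⁻¹ = 1 := (QuotientGroup.eq_one_iff _).2 hkI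
      rw [this, one_mul]
  -- a Sylow 2-subgroup of `N`
  obtain ⟨S⟩ : Nonempty (Sylow 2 N) := inferInstance
  set D : Subgroup (MulAut K) := (S : Subgroup N).map N.subtype with hD
  have hDN : D ≤ N := Subgroup.map_subtype_le _
  have hDp : IsPGroup 2 D := S.2.map _
  have hAp : IsPGroup 2 (A.map f) := by
    intro x
    obtain ⟨a, ha, hax⟩ := x.2
    refine ⟨1, Subtype.ext ?_⟩
    rw [pow_one, pow_two]
    show (x : MulAut K ⧸ I) * x = 1
    rw [← hax, ← map_mul, hA a ha, map_one]
  have hfD : D.map f = A.map f := by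
    have h1 : (D.map f).relIndex (A.map f) ∣ (S : Subgroup N).index := by
      have h2 := Subgroup.index_map_dvd (G := N) (G' := N.map f) (S : Subgroup N) (f := f.subgroupMap N)
        (f.subgroupMap_surjective N)
      have h3 : (S : Subgroup N).map (f.subgroupMap N) = (D.map f).subgroupOf (N.map f) := by
        ext ⟨x, hx⟩
        simp only [Subgroup.mem_map, Subgroup.mem_subgroupOf]
        constructor
        · rintro ⟨d, hd, hdx⟩
          exact ⟨d, ⟨d, hd, rfl⟩, congrArg Subtype.val hdx⟩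
        · rintro ⟨_, ⟨e, he, rfl⟩, hex⟩
          exact ⟨e, he, Subtype.ext hex⟩
      rw [h3, hfN] at h2
      exact h2
    have h4 : ¬ 2 ∣ (S : Subgroup N).index := S.not_dvd_index
    have h5 : (D.map f).relIndex (A.map f) = 1 := by
      obtain ⟨k, hk⟩ := hAp.index ((D.map f).subgroupOf (A.map f))
      have hk' : (D.map f).relIndex (A.map f) = 2 ^ k := hk
      rcases Nat.eq_zero_or_pos k with rfl | hkpos
      · simpa using hk'
      · exfalso
        apply h4
        refine Dvd.dvd.trans ?_ h1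
        rw [hk']
        exact dvd_pow_self 2 hkpos.ne'
    apply le_antisymm
    · rw [← hfN]
      exact Subgroup.map_mono hDN
    · exact Subgroup.relIndex_eq_one.1 h5
  have h1 := h D hDp (by
    intro d hd
    have h2 : f d ∈ A.map f := by rw [← hfD]; exact ⟨d, hd, rfl⟩
    obtain ⟨a, ha, hax⟩ := h2
    rw [← hax, ← map_mul, hA a ha, map_one]) (fun φ hφ => (hDN hφ).1)
  rw [hfD] at h1
  -- `|A| = |f A| |A ∩ I|`
  have h2 : Nat.card A = Nat.card (A.map f) * Nat.card (A ⊓ I : Subgroup (MulAut K)) := by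
    have h3 := (I.subgroupOf A).card_mul_index
    have h4 : Nat.card (I.subgroupOf A) = Nat.card (A ⊓ I : Subgroup (MulAut K)) := by
      have h5 : I.subgroupOf A = (A ⊓ I).subgroupOf A := by
        rw [inf_comm, Subgroup.inf_subgroupOf_right]
      rw [h5]
      exact Nat.card_congr (Subgroup.subgroupOfEquivOfLe inf_le_left).toEquiv
    have h6 : (I.subgroupOf A).index = Nat.card (A.map f) := by
      have h7 : (f.comp A.subtype).ker = I.subgroupOf A := by
        ext a
        rw [MonoidHom.mem_ker, Subgroup.mem_subgroupOf]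
        exact QuotientGroup.eq_one_iff _
      rw [← h7, Subgroup.index_ker, MonoidHom.range_comp, Subgroup.range_subtype]
    rw [← h3, h4, h6, mul_comm]
  rw [h2]
  exact Nat.mul_le_mul_right _ h1

theorem outRk_of_stab {K : Type u} [Group K] [Finite K] {p : ℕ} [Fact p.Prime] (U : Sylow p K) (c : ℕ)
    (h : ∀ {Q : Type u} [Group Q] (f : MulAut K →* Q) (D : Subgroup (MulAut K)), IsPGroup 2 D →
      (∀ d ∈ D, f d * f d = 1) → Inv D (U : Subgroup K) → Nat.card (D.map f) ≤ 2 ^ c) : OutRk K c := by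
  have hI := conj_range_normal K
  exact outRk_of_stab_mk U c fun D h1 h2 h3 => h _ D h1 h2 h3

/-- **THEOREM OUT.** -/
theorem outRk [Finite K] (P : Cfsg.BNPair K) {p : ℕ} [hp : Fact p.Prime] (hp2 : p ≠ 2) (U : Sylow p K)
    (hcore : P.B.normalCore = ⊥)
    (hUB : (U : Subgroup K) ≤ P.B) (hBU : ∀ b ∈ P.B, ∀ u ∈ (U : Subgroup K), b * u * b⁻¹ ∈ (U : Subgroup K))
    (hUN : ∀ b ∈ P.B, ∃ u ∈ (U : Subgroup K), u⁻¹ * b ∈ P.N) (V : K → Subgroup K)
    (hV : ∀ s ∈ P.S, Node P (U : Subgroup K) s (V s)) (n : K → ℕ)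
    (hn : ∀ s ∈ P.S, NodeRk P (U : Subgroup K) s (V s) (n s))
    {T : Finset K} (hTS : (T : Set K) = P.S) :
    OutRk K (∑ s ∈ T, n s + padicValNat 2 (Nat.card P.S).factorial) := by
  have hB : Subgroup.normalizer ((U : Subgroup K) : Set K) = P.B := by
    refine normalizer_eq P _ hUB hBU fun s hs => ?_
    obtain ⟨u, hu, huV⟩ := (hV s hs).ne
    exact ⟨u, hu, fun h => huV ((hV s hs).stab u hu h)⟩
  refine outRk_of_stab U _ fun {Q} _ f D hD hf hDU => ?_
  have hDB : Inv D P.B := by
    have := hDU.normalizer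
    rwa [hB] at this
  refine card_map_le_of_inv P (U : Subgroup K) hcore hUB hBU hUN ?_ V hV n hn hTS f hD hf hDU hDB
  intro h
  obtain ⟨k, hk⟩ := U.2.exists_card_eq
  rw [hk] at h
  have := Nat.prime_two.dvd_of_dvd_pow h
  exact hp2 ((Nat.prime_dvd_prime_iff_eq Nat.prime_two hp.out).1 this).symm

end Cfsg.Agent.Omega.TwoF.Out
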