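import Mathlib
import Cfsg.Agent.Omega.TwoF.OutRank

/-!
# Nodes whose root group is the additive group of a finite field: the chain of length two (TABLE 2F, outer part)

`chain_two`: a group acting on a finite field `F` by semilinear maps has a chain with two cyclic factors.
`nodeRk_of_field`: `NodeRk P U s V 2` under the hypotheses of `Schreier.BNUse.loc_of_field`
(`nodeRk_of_prime`: `NodeRk P U s V 1` if `|F|` is prime).
-/

set_option autoImplicit false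

namespace Cfsg.Agent.Omega.TwoF.Out

open Cfsg.Agent.Schreier.Basic Cfsg.Agent.Schreier.Tools Cfsg.Agent.Schreier.BNSch
  Cfsg.Agent.Schreier.SylowCrit Cfsg.Agent.Schreier.BNUse

section semi

variable {Γ : Type*} [Group Γ] {F : Type*} [Field F]

/-- An action of `D` on `F` by semilinear maps. -/
structure Semi (D : Subgroup Γ) (f : D → F → F) : Prop where
  one : ∀ t, f 1 t = t
  mul : ∀ φ ψ t, f (φ * ψ) t = f φ (f ψ t)
  add : ∀ φ t s, f φ (t + s) = f φ t + f φ s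
  semi : ∀ φ c t, f φ (c * t) * f φ 1 = f φ c * f φ t

namespace Semi

variable {D : Subgroup Γ} {f : D → F → F}

theorem inv_apply (h : Semi D f) (φ : D) (t : F) : f φ⁻¹ (f φ t) = t := by
  rw [← h.mul, inv_mul_cancel, h.one]

theorem zero (h : Semi D f) (φ : D) : f φ 0 = 0 := by
  have := h.add φ 0 0
  rw [add_zero] at this
  exact left_eq_add.1 this

theorem ne_zero (h : Semi D f) (φ : D) {t : F} (ht : t ≠ 0) : f φ t ≠ 0 := by
  intro h0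
  apply ht
  rw [← h.inv_apply φ t, h0, h.zero]

theorem one_ne (h : Semi D f) (φ : D) : f φ 1 ≠ 0 := h.ne_zero φ one_ne_zero

/-- the field automorphism -/
noncomputable def σ (h : Semi D f) (φ : D) : F →+* F where
  toFun c := f φ c / f φ 1
  map_one' := div_self (h.one_ne φ)
  map_mul' a b := by
    rw [div_mul_div_comm, ← h.semi, mul_div_mul_right _ _ (h.one_ne φ)]
  map_zero' := by rw [h.zero, zero_div]
  map_add' a b := by rw [h.add, add_div]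

theorem σ_apply (h : Semi D f) (φ : D) (c : F) : h.σ φ c = f φ c / f φ 1 := rfl

theorem σ_mul_one (h : Semi D f) (φ : D) (c : F) : h.σ φ c * f φ 1 = f φ c := by
  rw [h.σ_apply, div_mul_cancel₀ _ (h.one_ne φ)]

theorem apply_mul (h : Semi D f) (φ : D) (c t : F) : f φ (c * t) = h.σ φ c * f φ t := by
  rw [h.σ_apply, div_mul_eq_mul_div, eq_div_iff (h.one_ne φ)]
  exact h.semi φ c t

theorem σ_mul (h : Semi D f) (φ ψ : D) (c : F) : h.σ (φ * ψ) c = h.σ φ (h.σ ψ c) := by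
  have h1 : f (φ * ψ) c = h.σ φ (h.σ ψ c) * f (φ * ψ) 1 := by
    rw [h.mul, h.mul, ← h.apply_mul, h.σ_mul_one]
  rw [h.σ_apply (φ * ψ), h1, mul_div_cancel_right₀]
  exact h.one_ne _

theorem σ_one (h : Semi D f) (c : F) : h.σ 1 c = c := by
  rw [h.σ_apply, h.one, h.one, div_one]

/-- the homomorphism to the ring automorphisms -/
noncomputable def σHom (h : Semi D f) : D →* RingAut F where
  toFun φ :=
    { toFun := h.σ φ
      invFun := h.σ φ⁻¹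
      left_inv := fun c => by rw [← h.σ_mul, inv_mul_cancel, h.σ_one]
      right_inv := fun c => by rw [← h.σ_mul, mul_inv_cancel, h.σ_one]
      map_mul' := (h.σ φ).map_mul'
      map_add' := (h.σ φ).map_add' }
  map_one' := by
    apply RingEquiv.ext
    intro c
    exact h.σ_one c
  map_mul' φ ψ := by
    apply RingEquiv.ext
    intro c
    exact h.σ_mul φ ψ c

theorem σHom_apply (h : Semi D f) (φ : D) (c : F) : h.σHom φ c = h.σ φ c := rfl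

end Semi

/-- The ring automorphisms of a finite field form a cyclic group. -/
theorem isCyclic_ringAut [Finite F] : IsCyclic (RingAut F) := by
  obtain ⟨p, hp⟩ := CharP.exists F
  have hpp : Fact p.Prime := ⟨CharP.char_is_prime F p⟩
  let _ := ZMod.algebra F p
  have h1 : IsCyclic (F ≃ₐ[ZMod p] F) := inferInstance
  let g : (F ≃ₐ[ZMod p] F) →* RingAut F :=
    { toFun := fun σ => (σ : F ≃+* F)
      map_one' := rfl
      map_mul' := fun _ _ => rfl }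
  have hg : Function.Surjective g := by
    intro σ
    refine ⟨AlgEquiv.ofRingEquiv (f := σ) fun c => ?_, ?_⟩
    · have : (σ : F →+* F).comp (algebraMap (ZMod p) F) = algebraMap (ZMod p) F := Subsingleton.elim _ _
      exact congrArg (fun g : ZMod p →+* F => g c) this
    · apply RingEquiv.ext
      intro c
      rfl
  exact isCyclic_of_surjective g hg

/-- If `|F|` is prime every ring automorphism of `F` is trivial. -/
theorem ringAut_eq_one [Finite F] (hF : (Nat.card F).Prime) (σ : RingAut F) : σ = 1 := by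
  have := Fintype.ofFinite F
  have hp : Fact (Nat.card F).Prime := ⟨hF⟩
  have hc : CharP F (Nat.card F) := by
    have h1 : Nat.card F = Fintype.card F := Nat.card_eq_fintype_card
    obtain ⟨p, hp⟩ := CharP.exists F
    have hpp : Fact p.Prime := ⟨CharP.char_is_prime F p⟩
    obtain ⟨n, hn, hpn⟩ := FiniteField.card F p
    rw [h1, hpn] at hF ⊢
    have hn1 : (n : ℕ) = 1 := by
      rcases Nat.eq_or_lt_of_le n.2 with h | h
      · exact h.symm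
      · exfalso
        exact Nat.Prime.not_prime_pow h hF
    rw [hn1, pow_one]
    exact hp
  let e : ZMod (Nat.card F) ≃+* F := ZMod.ringEquiv F (Nat.card_eq_fintype_card.symm)
  apply RingEquiv.ext
  intro c
  have h1 : (σ : F →+* F).comp (e : ZMod (Nat.card F) →+* F) = (e : ZMod (Nat.card F) →+* F) := Subsingleton.elim _ _
  have h2 := congrArg (fun g : ZMod (Nat.card F) →+* F => g (e.symm c)) h1
  simpa using h2

variable [Finite F]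

/-- The two-step chain of a semilinear action. -/
theorem chain_two {D : Subgroup Γ} {f : D → F → F} (h : Semi D f) :
    ∃ D', Cyc 2 D D' ∧ ∀ φ (hφ : φ ∈ D), φ ∈ D' → ∀ t, f ⟨φ, hφ⟩ t = t := by
  have hcyc : IsCyclic (RingAut F) := isCyclic_ringAut
  set D₁ : Subgroup Γ := h.σHom.ker.map D.subtype with hD₁
  have hD₁D : D₁ ≤ D := Subgroup.map_subtype_le _
  have hmem₁ : ∀ φ (hφ : φ ∈ D), φ ∈ D₁ ↔ h.σHom ⟨φ, hφ⟩ = 1 := by
    intro φ hφ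
    constructor
    · rintro ⟨x, hx, hxφ⟩
      have : x = ⟨φ, hφ⟩ := Subtype.ext hxφ
      rw [← this]
      exact hx
    · intro hx
      exact ⟨⟨φ, hφ⟩, hx, rfl⟩
  have hlin : ∀ (φ : D₁) (t : F), f ⟨φ, hD₁D φ.2⟩ t = t * f ⟨φ, hD₁D φ.2⟩ 1 := by
    intro φ t
    have h1 := (hmem₁ φ (hD₁D φ.2)).1 φ.2
    have h2 : h.σ ⟨φ, hD₁D φ.2⟩ t = t := by
      rw [← h.σHom_apply, h1]
      rfl
    rw [← h.σ_mul_one, h2]
  let g : D₁ →* Fˣ :=
    { toFun := fun φ => Units.mk0 (f ⟨φ, hD₁D φ.2⟩ 1) (h.one_ne _)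
      map_one' := by
        apply Units.ext
        exact h.one 1
      map_mul' := fun φ ψ => by
        apply Units.ext
        show f ⟨φ * ψ, _⟩ 1 = f ⟨φ, _⟩ 1 * f ⟨ψ, _⟩ 1
        have h1 : (⟨(φ : Γ) * ψ, hD₁D (φ * ψ).2⟩ : D) = ⟨φ, hD₁D φ.2⟩ * ⟨ψ, hD₁D ψ.2⟩ := rfl
        rw [h1, h.mul, hlin φ (f ⟨ψ, hD₁D ψ.2⟩ 1), mul_comm] }
  have hgcyc : IsCyclic Fˣ := inferInstance
  refine ⟨g.ker.map D₁.subtype, (Cyc.of_hom hD₁D h.σHom fun d hd hx => (hmem₁ d hd).2 hx).trans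
    (Cyc.of_hom (Subgroup.map_subtype_le _) g fun d hd hx => ⟨⟨d, hd⟩, hx, rfl⟩), ?_⟩
  rintro φ hφ ⟨x, hx, rfl⟩ t
  have h1 : f ⟨x, hD₁D x.2⟩ 1 = 1 := congrArg Units.val hx
  have h2 := hlin x t
  rw [h1, mul_one] at h2
  exact h2

/-- The one-step chain if `|F|` is prime. -/
theorem chain_one (hF : (Nat.card F).Prime) {D : Subgroup Γ} {f : D → F → F} (h : Semi D f) :
    ∃ D', Cyc 1 D D' ∧ ∀ φ (hφ : φ ∈ D), φ ∈ D' → ∀ t, f ⟨φ, hφ⟩ t = t := by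
  have hlin : ∀ (φ : D) (t : F), f φ t = t * f φ 1 := by
    intro φ t
    have h1 := ringAut_eq_one hF (h.σHom φ)
    have h2 : h.σ φ t = t := by
      rw [← h.σHom_apply, h1]
      rfl
    rw [← h.σ_mul_one, h2]
  let g : D →* Fˣ :=
    { toFun := fun φ => Units.mk0 (f φ 1) (h.one_ne _)
      map_one' := by
        apply Units.ext
        exact h.one 1
      map_mul' := fun φ ψ => by
        apply Units.ext
        show f (φ * ψ) 1 = f φ 1 * f ψ 1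
        rw [h.mul, hlin φ (f ψ 1), mul_comm] }
  have hgcyc : IsCyclic Fˣ := inferInstance
  refine ⟨g.ker.map D.subtype,
    Cyc.of_hom (Subgroup.map_subtype_le _) g fun d hd hx => ⟨⟨d, hd⟩, hx, rfl⟩, ?_⟩
  rintro φ hφ ⟨x, hx, rfl⟩ t
  have h1 : f x 1 = 1 := congrArg Units.val hx
  have h2 := hlin x t
  rw [h1, mul_one] at h2
  exact h2

end semi

variable {K : Type*} [Group K]

/-- **Field lemma**, general form: the action on an invariant section parametrised by a finite field is semilinear. -/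
theorem semi_of_field_rel {D : Subgroup (MulAut K)} {B X Y : Subgroup K} (hB : Inv D B)
    (hX : Inv D X) (hY : Inv D Y) (hYX : Y ≤ X) (hXY : ∀ u ∈ X, ∀ y ∈ Y, u * y * u⁻¹ ∈ Y)
    (hBY : ∀ b ∈ B, ∀ y ∈ Y, b * y * b⁻¹ ∈ Y)
    {F : Type*} [Field F] (x : F → K) (hx : ∀ t, x t ∈ X)
    (hadd : ∀ t₁ t₂, (x (t₁ + t₂))⁻¹ * (x t₁ * x t₂) ∈ Y) (hinj : ∀ t, x t ∈ Y → t = 0)
    (hsurj : ∀ u ∈ X, ∃ t, (x t)⁻¹ * u ∈ Y)
    (χ : K → F) (hχ : ∀ b ∈ B, ∀ t, (x (χ b * t))⁻¹ * (b * x t * b⁻¹) ∈ Y)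
    (hgen : AddSubgroup.closure (χ '' (B : Set K)) = ⊤) :
    ∃ f : D → F → F, Semi D f ∧ (∀ (φ : D) t, (x (f φ t))⁻¹ * (φ : MulAut K) (x t) ∈ Y) ∧
      ∀ φ (hφ : φ ∈ D), (∀ t, f ⟨φ, hφ⟩ t = t) → ∀ u ∈ X, u⁻¹ * φ u ∈ Y := by
  classical
  -- the relation `E u t`: `u ≡ x t mod Y`
  let E : K → F → Prop := fun u t => (x t)⁻¹ * u ∈ Y
  have hnc : ∀ u ∈ X, ∀ y ∈ Y, u⁻¹ * y * u ∈ Y := fun u hu y hy => by
    simpa using hXY u⁻¹ (inv_mem hu) y hy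
  have E_self : ∀ t, E (x t) t := fun t => by
    show (x t)⁻¹ * x t ∈ Y
    rw [inv_mul_cancel]; exact one_mem _
  have E_uniq : ∀ u t t', E u t → E u t' → t = t' := by
    intro u t t' h h'
    have h1 : (x t)⁻¹ * x t' ∈ Y := by
      have := mul_mem h (inv_mem h')
      have h2 : (x t)⁻¹ * u * ((x t')⁻¹ * u)⁻¹ = (x t)⁻¹ * x t' := by group
      rwa [h2] at this
    have h3 := hadd t (t' - t)
    rw [add_sub_cancel] at h3
    have h4 : x (t' - t) ∈ Y := by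
      have h5 : x (t' - t) = ((x t)⁻¹ * x t') * ((x t')⁻¹ * (x t * x (t' - t))) := by group
      rw [h5]
      exact mul_mem h1 h3
    have := hinj _ h4
    exact (sub_eq_zero.1 this).symm
  have E_mul : ∀ u v t s, E u t → E v s → E (u * v) (t + s) := by
    intro u v t s hu hv
    show (x (t + s))⁻¹ * (u * v) ∈ Y
    have h1 : (x (t + s))⁻¹ * (u * v) = ((x (t + s))⁻¹ * (x t * x s)) *
        ((x s)⁻¹ * ((x t)⁻¹ * u) * x s) * ((x s)⁻¹ * v) := by group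
    rw [h1]
    exact mul_mem (mul_mem (hadd t s) (hnc _ (hx s) _ hu)) hv
  have E_congr : ∀ u v t, u⁻¹ * v ∈ Y → E u t → E v t := by
    intro u v t huv hu
    show (x t)⁻¹ * v ∈ Y
    have h1 : (x t)⁻¹ * v = (x t)⁻¹ * u * (u⁻¹ * v) := by group
    rw [h1]
    exact mul_mem hu huv
  have E_same : ∀ u v t, E u t → E v t → u⁻¹ * v ∈ Y := by
    intro u v t hu hv
    have h1 : u⁻¹ * v = ((x t)⁻¹ * u)⁻¹ * ((x t)⁻¹ * v) := by group
    rw [h1]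
    exact mul_mem (inv_mem hu) hv
  have E_conj : ∀ b ∈ B, ∀ u t, E u t → E (b * u * b⁻¹) (χ b * t) := by
    intro b hb u t hu
    apply E_congr _ _ _ _ (hχ b hb t)
    have h1 : (b * x t * b⁻¹)⁻¹ * (b * u * b⁻¹) = b * ((x t)⁻¹ * u) * b⁻¹ := by group
    rw [h1]
    exact hBY b hb _ hu
  have hex : ∀ (φ : D) (t : F), ∃ r, E ((φ : MulAut K) (x t)) r := fun φ t => hsurj _ (hX.apply_mem φ.2 (hx t))
  choose f hf using hex
  have hfE : ∀ (φ : D) u t, E u t → E ((φ : MulAut K) u) (f φ t) := by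
    intro φ u t hu
    apply E_congr _ _ _ _ (hf φ t)
    rw [← map_inv, ← map_mul]
    exact hY.apply_mem φ.2 hu
  have hfadd : ∀ (φ : D) t s, f φ (t + s) = f φ t + f φ s := by
    intro φ t s
    apply E_uniq ((φ : MulAut K) (x t * x s))
    · exact hfE φ _ _ (hadd t s)
    · rw [map_mul]
      exact E_mul _ _ _ _ (hf φ t) (hf φ s)
  have hfχ : ∀ (φ : D) b, b ∈ B → ∀ t, f φ (χ b * t) = χ ((φ : MulAut K) b) * f φ t := by
    intro φ b hb t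
    apply E_uniq ((φ : MulAut K) (b * x t * b⁻¹))
    · exact hfE φ _ _ (hχ b hb t)
    · rw [map_mul, map_mul, map_inv]
      exact E_conj _ (hB.apply_mem φ.2 hb) _ _ (hf φ t)
  refine ⟨f, ⟨?_, ?_, hfadd, ?_⟩, hf, ?_⟩
  · intro t
    exact E_uniq (x t) _ _ (hf 1 t) (E_self t)
  · intro φ ψ t
    apply E_uniq (((φ * ψ : D) : MulAut K) (x t)) _ _ (hf _ _)
    exact hfE φ _ _ (hf ψ t)
  · intro φ
    have h0 : f φ 0 = 0 := by
      have := hfadd φ 0 0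
      rw [add_zero] at this
      exact left_eq_add.1 this
    have hneg : ∀ t, f φ (-t) = - f φ t := by
      intro t
      have := hfadd φ t (-t)
      rw [add_neg_cancel, h0] at this
      exact (neg_eq_of_add_eq_zero_right this.symm).symm
    let S : AddSubgroup F :=
      { carrier := {c | ∀ t, f φ (c * t) * f φ 1 = f φ c * f φ t}
        zero_mem' := fun t => by rw [zero_mul, h0, zero_mul, zero_mul]
        add_mem' := fun {a b} ha hb t => by rw [add_mul, hfadd, add_mul, ha, hb, hfadd, add_mul]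
        neg_mem' := fun {a} ha t => by rw [neg_mul, hneg, neg_mul, ha, hneg, neg_mul] }
    have hS : AddSubgroup.closure (χ '' (B : Set K)) ≤ S := by
      rw [AddSubgroup.closure_le]
      rintro _ ⟨b, hb, rfl⟩ t
      show f φ (χ b * t) * f φ 1 = f φ (χ b) * f φ t
      have h1 := hfχ φ b hb 1
      rw [mul_one] at h1
      rw [hfχ φ b hb, h1]
      ring
    rw [hgen] at hS
    intro c t
    exact hS (AddSubgroup.mem_top c) t
  · intro φ hφ h u hu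
    obtain ⟨t, ht⟩ := hsurj u hu
    have h3 := hfE ⟨φ, hφ⟩ u t ht
    rw [h] at h3
    exact E_same _ _ _ ht h3

/-- **Field lemma**, weak form. -/
theorem semi_of_field {D : Subgroup (MulAut K)} {B X Y : Subgroup K} (hB : Inv D B)
    (hX : Inv D X) (hY : Inv D Y) (hYX : Y ≤ X) (hXY : ∀ u ∈ X, ∀ y ∈ Y, u * y * u⁻¹ ∈ Y)
    (hBY : ∀ b ∈ B, ∀ y ∈ Y, b * y * b⁻¹ ∈ Y)
    {F : Type*} [Field F] (x : F → K) (hx : ∀ t, x t ∈ X)
    (hadd : ∀ t₁ t₂, (x (t₁ + t₂))⁻¹ * (x t₁ * x t₂) ∈ Y) (hinj : ∀ t, x t ∈ Y → t = 0)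
    (hsurj : ∀ u ∈ X, ∃ t, (x t)⁻¹ * u ∈ Y)
    (χ : K → F) (hχ : ∀ b ∈ B, ∀ t, (x (χ b * t))⁻¹ * (b * x t * b⁻¹) ∈ Y)
    (hgen : AddSubgroup.closure (χ '' (B : Set K)) = ⊤) :
    ∃ f : D → F → F, Semi D f ∧ ∀ φ (hφ : φ ∈ D), (∀ t, f ⟨φ, hφ⟩ t = t) → ∀ u ∈ X, u⁻¹ * φ u ∈ Y := by
  obtain ⟨f, h1, -, h3⟩ := semi_of_field_rel hB hX hY hYX hXY hBY x hx hadd hinj hsurj χ hχ hgen
  exact ⟨f, h1, h3⟩

/-- The scalars contain the squares. -/
theorem semi_of_field_sq_rel {D : Subgroup (MulAut K)} {B X Y : Subgroup K} (hB : Inv D B)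
    (hX : Inv D X) (hY : Inv D Y) (hYX : Y ≤ X) (hXY : ∀ u ∈ X, ∀ y ∈ Y, u * y * u⁻¹ ∈ Y)
    (hBY : ∀ b ∈ B, ∀ y ∈ Y, b * y * b⁻¹ ∈ Y)
    {F : Type*} [Field F] [Finite F] (x : F → K) (hx : ∀ t, x t ∈ X)
    (hadd : ∀ t₁ t₂, (x (t₁ + t₂))⁻¹ * (x t₁ * x t₂) ∈ Y) (hinj : ∀ t, x t ∈ Y → t = 0)
    (hsurj : ∀ u ∈ X, ∃ t, (x t)⁻¹ * u ∈ Y)
    (hχ : ∀ b ∈ B, ∃ c : F, ∀ t, (x (c * t))⁻¹ * (b * x t * b⁻¹) ∈ Y)
    (hsq : ∀ c : F, c ≠ 0 → ∃ b ∈ B, (x (c ^ 2))⁻¹ * (b * x 1 * b⁻¹) ∈ Y) :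
    ∃ f : D → F → F, Semi D f ∧ (∀ (φ : D) t, (x (f φ t))⁻¹ * (φ : MulAut K) (x t) ∈ Y) ∧
      ∀ φ (hφ : φ ∈ D), (∀ t, f ⟨φ, hφ⟩ t = t) → ∀ u ∈ X, u⁻¹ * φ u ∈ Y := by
  classical
  choose! χ hχ' using hχ
  refine semi_of_field_rel hB hX hY hYX hXY hBY x hx hadd hinj hsurj χ hχ' ?_
  rw [eq_top_iff, ← closure_sq F, AddSubgroup.closure_le]
  rintro _ ⟨c, hc, rfl⟩
  obtain ⟨b, hb, h⟩ := hsq c hc
  have h1 : χ b = c ^ 2 := by
    have h2 := hχ' b hb 1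
    rw [mul_one] at h2
    have h3 : (x (c ^ 2))⁻¹ * x (χ b) ∈ Y := by
      have h4 : (x (c ^ 2))⁻¹ * x (χ b) = (x (c ^ 2))⁻¹ * (b * x 1 * b⁻¹) * ((x (χ b))⁻¹ * (b * x 1 * b⁻¹))⁻¹ := by
        group
      rw [h4]
      exact mul_mem h (inv_mem h2)
    have h5 := hadd (c ^ 2) (χ b - c ^ 2)
    rw [add_sub_cancel] at h5
    have h6 : x (χ b - c ^ 2) = ((x (c ^ 2))⁻¹ * x (χ b)) * ((x (χ b))⁻¹ * (x (c ^ 2) * x (χ b - c ^ 2))) := by group
    have h7 : x (χ b - c ^ 2) ∈ Y := by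
      rw [h6]
      exact mul_mem h3 h5
    exact sub_eq_zero.1 (hinj _ h7)
  rw [← h1]
  exact AddSubgroup.subset_closure ⟨b, hb, rfl⟩

/-- The scalars contain the squares, weak form. -/
theorem semi_of_field_sq {D : Subgroup (MulAut K)} {B X Y : Subgroup K} (hB : Inv D B)
    (hX : Inv D X) (hY : Inv D Y) (hYX : Y ≤ X) (hXY : ∀ u ∈ X, ∀ y ∈ Y, u * y * u⁻¹ ∈ Y)
    (hBY : ∀ b ∈ B, ∀ y ∈ Y, b * y * b⁻¹ ∈ Y)
    {F : Type*} [Field F] [Finite F] (x : F → K) (hx : ∀ t, x t ∈ X)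
    (hadd : ∀ t₁ t₂, (x (t₁ + t₂))⁻¹ * (x t₁ * x t₂) ∈ Y) (hinj : ∀ t, x t ∈ Y → t = 0)
    (hsurj : ∀ u ∈ X, ∃ t, (x t)⁻¹ * u ∈ Y)
    (hχ : ∀ b ∈ B, ∃ c : F, ∀ t, (x (c * t))⁻¹ * (b * x t * b⁻¹) ∈ Y)
    (hsq : ∀ c : F, c ≠ 0 → ∃ b ∈ B, (x (c ^ 2))⁻¹ * (b * x 1 * b⁻¹) ∈ Y) :
    ∃ f : D → F → F, Semi D f ∧ ∀ φ (hφ : φ ∈ D), (∀ t, f ⟨φ, hφ⟩ t = t) → ∀ u ∈ X, u⁻¹ * φ u ∈ Y := by
  obtain ⟨f, h1, -, h3⟩ := semi_of_field_sq_rel hB hX hY hYX hXY hBY x hx hadd hinj hsurj hχ hsq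
  exact ⟨f, h1, h3⟩

/-- Both conclusions at a node, for a subgroup `D` with a semilinear action. -/
theorem nodeRk_of_semi {P : Cfsg.BNPair K} {U V : Subgroup K} {s : K} {F : Type*} [Field F] [Finite F]
    (h : ∀ D : Subgroup (MulAut K), Inv D U → Inv D P.B → Inv D (P.parabolic {s}) → Inv D V →
      ∃ f : D → F → F, Semi D f ∧ ∀ φ (hφ : φ ∈ D), (∀ t, f ⟨φ, hφ⟩ t = t) → ∀ u ∈ U, u⁻¹ * φ u ∈ V) :
    NodeRk P U s V 2 ∧ ((Nat.card F).Prime → NodeRk P U s V 1) := by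
  constructor
  · intro D h1 h2 h3 h4
    obtain ⟨f, hf, hf'⟩ := h D h1 h2 h3 h4
    obtain ⟨D', hc, hD'⟩ := chain_two hf
    exact ⟨D', hc, fun φ hφ u hu => hf' φ (hc.le hφ) (hD' φ _ hφ) u hu⟩
  · intro hF D h1 h2 h3 h4
    obtain ⟨f, hf, hf'⟩ := h D h1 h2 h3 h4
    obtain ⟨D', hc, hD'⟩ := chain_one hF hf
    exact ⟨D', hc, fun φ hφ u hu => hf' φ (hc.le hφ) (hD' φ _ hφ) u hu⟩

/-- **A node whose root group is the additive group of a finite field** (hypotheses of `BNUse.loc_of_field`), with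
the semilinear action. -/
theorem node_semi_of_field [Finite K] (P : Cfsg.BNPair K) (U H V : Subgroup K) (s : K)
    (hB : ∀ b ∈ P.B, ∃ u ∈ U, ∃ h ∈ H, b = u * h) (hHB : H ≤ P.B)
    {F : Type*} [Field F] [Finite F] (x : F → K) (hx : ∀ t, x t ∈ U) (hadd : ∀ t t', x (t + t') = x t * x t')
    (hVU : V ≤ U) (hdec : ∀ u ∈ U, ∃ v ∈ V, ∃ t, u = v * x t)
    (hxV : ∀ t, ∀ v ∈ V, x t * v * (x t)⁻¹ ∈ V) (hHV : ∀ h ∈ H, ∀ v ∈ V, h * v * h⁻¹ ∈ V)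
    (hsV : ∀ v ∈ V, s⁻¹ * v * s ∈ V) (hVB : V ≤ P.B) (hsx : ∀ t, s⁻¹ * x t * s ∈ P.B → t = 0)
    (hH : ∀ h ∈ H, ∃ c : F, ∀ t, h * x t * h⁻¹ = x (c * t))
    (hsq : ∀ c : F, c ≠ 0 → ∃ h ∈ H, h * x 1 * h⁻¹ = x (c ^ 2)) :
    Node P U s V ∧ ∀ D : Subgroup (MulAut K), Inv D U → Inv D P.B → Inv D V →
      ∃ f : D → F → F, Semi D f ∧ (∀ (φ : D) t, (x (f φ t))⁻¹ * (φ : MulAut K) (x t) ∈ V) ∧
        ∀ φ (hφ : φ ∈ D), (∀ t, f ⟨φ, hφ⟩ t = t) → ∀ u ∈ U, u⁻¹ * φ u ∈ V := by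
  have hx0 : x 0 = 1 := by
    have := hadd 0 0
    rw [add_zero] at this
    exact (mul_eq_left (a := x 0)).1 this.symm
  have hxn : ∀ t, x (-t) = (x t)⁻¹ := by
    intro t
    rw [eq_inv_iff_mul_eq_one, ← hadd, neg_add_cancel, hx0]
  have hUV : ∀ u ∈ U, ∀ v ∈ V, u * v * u⁻¹ ∈ V := by
    intro u hu v hv
    obtain ⟨w, hw, t, rfl⟩ := hdec u hu
    have h1 : w * x t * v * (w * x t)⁻¹ = w * (x t * v * (x t)⁻¹) * w⁻¹ := by group
    rw [h1]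
    exact mul_mem (mul_mem hw (hxV t v hv)) (inv_mem hw)
  have hBV : ∀ b ∈ P.B, ∀ v ∈ V, b * v * b⁻¹ ∈ V := by
    intro b hb v hv
    obtain ⟨u, hu, h, hh, rfl⟩ := hB b hb
    have h1 : u * h * v * (u * h)⁻¹ = u * (h * v * h⁻¹) * u⁻¹ := by group
    rw [h1]
    exact hUV u hu _ (hHV h hh v hv)
  have hinj : ∀ t, x t ∈ V → t = 0 := fun t ht => hsx t (hVB (hsV _ ht))
  have hnode : Node P U s V := by
    refine ⟨hVU, ⟨x 1, hx 1, fun h => one_ne_zero (hinj 1 h)⟩, hBV, hsV, ?_⟩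
    intro u hu hus
    obtain ⟨v, hv, t, rfl⟩ := hdec u hu
    have h1 : s⁻¹ * x t * s ∈ P.B := by
      have h2 : s⁻¹ * x t * s = (s⁻¹ * v * s)⁻¹ * (s⁻¹ * (v * x t) * s) := by group
      rw [h2]
      exact mul_mem (inv_mem (hVB (hsV v hv))) hus
    rw [hsx t h1, hx0, mul_one]
    exact hv
  refine ⟨hnode, fun D hDU hDB hDV => ?_⟩
  refine semi_of_field_sq_rel hDB hDU hDV hVU hUV hBV x hx ?_ hinj ?_ ?_ ?_
  · intro t t'
    rw [hadd, inv_mul_cancel]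
    exact one_mem _
  · intro u hu
    obtain ⟨v, hv, t, h⟩ := hdec u⁻¹ (inv_mem hu)
    refine ⟨-t, ?_⟩
    have h1 : u = (x t)⁻¹ * v⁻¹ := by
      rw [← mul_inv_rev, ← h, inv_inv]
    rw [hxn, inv_inv, h1]
    have h2 : x t * ((x t)⁻¹ * v⁻¹) = v⁻¹ := by group
    rw [h2]
    exact inv_mem hv
  · intro b hb
    obtain ⟨u, hu, h, hh, rfl⟩ := hB b hb
    obtain ⟨c, hc⟩ := hH h hh
    refine ⟨c, fun t => ?_⟩
    obtain ⟨v, hv, r, rfl⟩ := hdec u hu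
    have h1 : v * x r * h * x t * (v * x r * h)⁻¹ = v * (x r * (h * x t * h⁻¹) * (x r)⁻¹) * v⁻¹ := by group
    have h2 : x r * x (c * t) * (x r)⁻¹ = x (c * t) := by
      rw [← hxn, ← hadd, ← hadd]
      congr 1
      ring
    rw [h1, hc, h2]
    have h3 : (x (c * t))⁻¹ * (v * x (c * t) * v⁻¹) = (x (-(c * t)) * v * (x (-(c * t)))⁻¹) * v⁻¹ := by
      rw [hxn]; group
    rw [h3]
    exact mul_mem (hxV _ v hv) (inv_mem hv)
  · intro c hc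
    obtain ⟨h, hh, h1⟩ := hsq c hc
    refine ⟨h, hHB hh, ?_⟩
    rw [h1, inv_mul_cancel]
    exact one_mem _

/-- **A node whose root group is the additive group of a finite field** (hypotheses of `BNUse.loc_of_field`). -/
theorem nodeRk_of_field [Finite K] (P : Cfsg.BNPair K) (U H V : Subgroup K) (s : K)
    (hB : ∀ b ∈ P.B, ∃ u ∈ U, ∃ h ∈ H, b = u * h) (hHB : H ≤ P.B)
    {F : Type*} [Field F] [Finite F] (x : F → K) (hx : ∀ t, x t ∈ U) (hadd : ∀ t t', x (t + t') = x t * x t')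
    (hVU : V ≤ U) (hdec : ∀ u ∈ U, ∃ v ∈ V, ∃ t, u = v * x t)
    (hxV : ∀ t, ∀ v ∈ V, x t * v * (x t)⁻¹ ∈ V) (hHV : ∀ h ∈ H, ∀ v ∈ V, h * v * h⁻¹ ∈ V)
    (hsV : ∀ v ∈ V, s⁻¹ * v * s ∈ V) (hVB : V ≤ P.B) (hsx : ∀ t, s⁻¹ * x t * s ∈ P.B → t = 0)
    (hH : ∀ h ∈ H, ∃ c : F, ∀ t, h * x t * h⁻¹ = x (c * t))
    (hsq : ∀ c : F, c ≠ 0 → ∃ h ∈ H, h * x 1 * h⁻¹ = x (c ^ 2)) :
    Node P U s V ∧ NodeRk P U s V 2 ∧ ((Nat.card F).Prime → NodeRk P U s V 1) := by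
  obtain ⟨h1, h2⟩ := node_semi_of_field P U H V s hB hHB x hx hadd hVU hdec hxV hHV hsV hVB hsx hH hsq
  refine ⟨h1, nodeRk_of_semi (F := F) fun D hDU hDB _ hDV => ?_⟩
  obtain ⟨f, h3, -, h5⟩ := h2 D hDU hDB hDV
  exact ⟨f, h3, h5⟩

end Cfsg.Agent.Omega.TwoF.Out
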