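import Mathlib
import Cfsg.Agent.Omega.TwoF.OutField

/-!
# THEOREM OUT, general form: the torus of `K` divided out (TABLE 2F, outer part)

`outRk_of_chain`: every 2-group `D` of automorphisms fixing `U`, `B` and all `P_s` has a chain with `c` cyclic
factors down to a subgroup all elements of which agree on all sections `U/V_s` with inner automorphisms by elements
of `B`; the group of permutations of the nodes has 2-part at most `2 ^ g`. Then `OutRk K (c + g)`.
-/

set_option autoImplicit false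

namespace Cfsg.Agent.Omega.TwoF.Out

open Cfsg.Agent.Schreier.Basic Cfsg.Agent.Schreier.Tools Cfsg.Agent.Schreier.BNSch
  Cfsg.Agent.Schreier.SylowCrit Cfsg.Agent.Schreier.BNUse

variable {K : Type*} [Group K]

theorem inv_zpowers {φ : MulAut K} {A : Subgroup K} (h : A.map φ.toMonoidHom = A) :
    Inv (Subgroup.zpowers φ) A := by
  intro ψ hψ
  have h1 : Subgroup.zpowers φ ≤ stab A := by
    rw [Subgroup.zpowers_le]
    exact h
  exact h1 hψ

/-- An automorphism acting trivially on all `U/V_s` has odd order. -/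
theorem odd_orderOf [Finite K] (P : Cfsg.BNPair K) (U : Subgroup K) (hcore : P.B.normalCore = ⊥)
    (hUB : U ≤ P.B) (hBU : ∀ b ∈ P.B, ∀ u ∈ U, b * u * b⁻¹ ∈ U)
    (hUN : ∀ b ∈ P.B, ∃ u ∈ U, u⁻¹ * b ∈ P.N) (hlU : ¬ 2 ∣ Nat.card U) (V : K → Subgroup K)
    (hV : ∀ s ∈ P.S, Node P U s (V s)) {φ : MulAut K} (hU : U.map φ.toMonoidHom = U)
    (hB : P.B.map φ.toMonoidHom = P.B)
    (hP : ∀ s ∈ P.S, (P.parabolic {s}).map φ.toMonoidHom = P.parabolic {s})
    (hT : ∀ s ∈ P.S, ∀ u ∈ U, u⁻¹ * φ u ∈ V s) : Odd (orderOf φ) := by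
  have : Fact (Nat.Prime 2) := ⟨Nat.prime_two⟩
  by_contra hcon
  rw [Nat.not_odd_iff_even] at hcon
  obtain ⟨k, hk⟩ := hcon
  have hpos : 0 < orderOf φ := orderOf_pos φ
  have hk0 : 0 < k := by omega
  set ψ := φ ^ k with hψ
  have hψ2 : ψ * ψ = 1 := by
    rw [hψ, ← pow_add, ← hk, pow_orderOf_eq_one]
  have hψ1 : ψ ≠ 1 := by
    intro h
    have := orderOf_dvd_of_pow_eq_one h
    have := Nat.le_of_dvd hk0 this
    omega
  have hmem : ψ ∈ Subgroup.zpowers φ := Subgroup.npow_mem_zpowers φ k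
  have hUz := inv_zpowers hU
  have hBz := inv_zpowers hB
  have hle : Subgroup.zpowers ψ ≤ Subgroup.zpowers φ := by
    rw [Subgroup.zpowers_le]
    exact hmem
  have hD : IsPGroup 2 (Subgroup.zpowers ψ) := by
    rintro ⟨x, hx⟩
    refine ⟨1, Subtype.ext ?_⟩
    obtain ⟨j, rfl⟩ := Subgroup.mem_zpowers_iff.1 hx
    show (ψ ^ j) ^ (2 ^ 1) = 1
    rw [pow_one, pow_two, ← zpow_add, ← two_mul, zpow_mul, zpow_two, hψ2, one_zpow]
  have hTz : ∀ s ∈ P.S, TrMod (Subgroup.zpowers φ) U (V s) := by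
    intro s hs
    have hPz := inv_zpowers (hP s hs)
    have hVz : Inv (Subgroup.zpowers φ) (V s) := (hV s hs).inv hUB hUz hBz hPz
    let T : Subgroup (MulAut K) :=
      { carrier := {χ | χ ∈ Subgroup.zpowers φ ∧ ∀ u ∈ U, u⁻¹ * χ u ∈ V s}
        one_mem' := ⟨one_mem _, fun u _ => by simp⟩
        mul_mem' := fun {a b} ha hb => ⟨mul_mem ha.1 hb.1, fun u hu => by
          have h1 := ha.2 u hu
          have h2 := hVz.apply_mem ha.1 (hb.2 u hu)
          have h3 : u⁻¹ * (a * b) u = (u⁻¹ * a u) * a (u⁻¹ * b u) := by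
            rw [MulAut.mul_apply, map_mul, map_inv]; group
          rw [h3]
          exact mul_mem h1 h2⟩
        inv_mem' := fun {a} ha => ⟨inv_mem ha.1, fun u hu => by
          have h2 := hVz.apply_mem (inv_mem ha.1) (ha.2 u hu)
          rw [map_mul, map_inv, MulAut.inv_apply_self] at h2
          have h3 : u⁻¹ * a⁻¹ u = ((a⁻¹ u)⁻¹ * u)⁻¹ := by group
          rw [h3]
          exact inv_mem h2⟩ }
    have hT1 : Subgroup.zpowers φ ≤ T := by
      rw [Subgroup.zpowers_le]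
      exact ⟨Subgroup.mem_zpowers φ, hT s hs⟩
    intro χ hχ u hu
    exact (hT1 hχ).2 u hu
  have hbot := eq_one (l := 2) P U hcore hUB hBU hUN hlU V hV hD (Inv.mono_sub hle hUz) (Inv.mono_sub hle hBz)
    (fun s hs => Inv.mono_sub hle (inv_zpowers (hP s hs))) (fun s hs χ hχ => hTz s hs χ (hle hχ))
  apply hψ1
  have : ψ ∈ Subgroup.zpowers ψ := Subgroup.mem_zpowers ψ
  rwa [hbot, Subgroup.mem_bot] at this

universe u

/-- `U` is a Sylow subgroup. -/
theorem exists_sylow_eq [Finite K] (P : Cfsg.BNPair K) {p : ℕ} [hp : Fact p.Prime] (U : Subgroup K)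
    (hUp : IsPGroup p U) (hUB : U ≤ P.B) (hBU : ∀ b ∈ P.B, ∀ u ∈ U, b * u * b⁻¹ ∈ U)
    (hUN : ∀ b ∈ P.B, ∃ u ∈ U, u⁻¹ * b ∈ P.N)
    (m : ℕ) (hm : ¬ p ∣ m) (hH : ∀ h ∈ P.B, h ∈ P.N → h ^ m = 1)
    (hB : Subgroup.normalizer (U : Set K) = P.B) : ∃ S : Sylow p K, (S : Subgroup K) = U := by
  apply exists_sylow U hUp
  rw [hB]
  intro h
  have hn : (U.subgroupOf P.B).Normal := by
    constructor
    intro u hu b
    rw [Subgroup.mem_subgroupOf] at hu ⊢
    exact hBU b b.2 u hu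
  have h1 : p ∣ Nat.card (P.B ⧸ U.subgroupOf P.B) := h
  obtain ⟨x, hx⟩ := exists_prime_orderOf_dvd_card' p h1
  induction x using QuotientGroup.induction_on with
  | H b =>
    obtain ⟨u, hu, hun⟩ := hUN b b.2
    have h2 : u⁻¹ * (b : K) ∈ P.B := mul_mem (inv_mem (hUB hu)) b.2
    have h3 : (QuotientGroup.mk b : P.B ⧸ U.subgroupOf P.B) = QuotientGroup.mk (⟨u⁻¹ * b, h2⟩ : P.B) := by
      rw [QuotientGroup.eq, Subgroup.mem_subgroupOf]
      show (b : K)⁻¹ * (u⁻¹ * b) ∈ U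
      have h4 := hBU (b : K)⁻¹ (inv_mem b.2) _ (inv_mem hu)
      rw [inv_inv] at h4
      rwa [← mul_assoc]
    have h4 : (QuotientGroup.mk b : P.B ⧸ U.subgroupOf P.B) ^ m = 1 := by
      rw [h3, ← QuotientGroup.mk_pow]
      have h5 : (⟨u⁻¹ * b, h2⟩ : P.B) ^ m = 1 := by
        apply Subtype.ext
        exact hH _ h2 hun
      rw [h5]
      rfl
    exact hm (hx ▸ orderOf_dvd_of_pow_eq_one h4)

/-- **THEOREM OUT, general form.** -/
theorem outRk_of_chain {K : Type u} [Group K] [Finite K] (P : Cfsg.BNPair K) {p : ℕ} [hp : Fact p.Prime] (hp2 : p ≠ 2)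
    (U : Subgroup K) (hUp : IsPGroup p U) (hcore : P.B.normalCore = ⊥)
    (hUB : U ≤ P.B) (hBU : ∀ b ∈ P.B, ∀ u ∈ U, b * u * b⁻¹ ∈ U)
    (hUN : ∀ b ∈ P.B, ∃ u ∈ U, u⁻¹ * b ∈ P.N)
    (m : ℕ) (hm : ¬ p ∣ m) (hH : ∀ h ∈ P.B, h ∈ P.N → h ^ m = 1) (V : K → Subgroup K)
    (hV : ∀ s ∈ P.S, Node P U s (V s)) (g c : ℕ)
    (hperm : ∀ D : Subgroup (MulAut K), IsPGroup 2 D → Inv D U → Inv D P.B →
      (famStab ((fun t => P.parabolic {t}) '' P.S)).relIndex D ≤ 2 ^ g)
    (hchain : ∀ D : Subgroup (MulAut K), IsPGroup 2 D → Inv D U → Inv D P.B →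
      (∀ s ∈ P.S, Inv D (P.parabolic {s})) → ∃ D', Cyc c D D' ∧
        ∀ φ ∈ D', ∃ b ∈ P.B, ∀ s ∈ P.S, ∀ u ∈ U, (b * u * b⁻¹)⁻¹ * φ u ∈ V s) : OutRk K (c + g) := by
  have hB : Subgroup.normalizer (U : Set K) = P.B := by
    refine normalizer_eq P _ hUB hBU fun s hs => ?_
    obtain ⟨u, hu, huV⟩ := (hV s hs).ne
    exact ⟨u, hu, fun h => huV ((hV s hs).stab u hu h)⟩
  have h2U : ¬ 2 ∣ Nat.card U := by
    intro h
    obtain ⟨k, hk⟩ := hUp.exists_card_eq
    rw [hk] at h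
    have := Nat.prime_two.dvd_of_dvd_pow h
    exact hp2 ((Nat.prime_dvd_prime_iff_eq Nat.prime_two hp.out).1 this).symm
  obtain ⟨S, hS⟩ := exists_sylow_eq P U hUp hUB hBU hUN m hm hH hB
  intro A hA
  -- the quotient by the inner automorphisms
  have hI := conj_range_normal K
  have key : ∀ D : Subgroup (MulAut K), IsPGroup 2 D →
      (∀ d ∈ D, QuotientGroup.mk' (MulAut.conj : K →* MulAut K).range d *
        QuotientGroup.mk' (MulAut.conj : K →* MulAut K).range d = 1) → Inv D U →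
      Nat.card (D.map (QuotientGroup.mk' (MulAut.conj : K →* MulAut K).range)) ≤ 2 ^ (c + g) := by
    intro D hD hf hDU
    set f := QuotientGroup.mk' (MulAut.conj : K →* MulAut K).range with hfdef
    have hDB : Inv D P.B := by
      have := hDU.normalizer
      rwa [hB] at this
    set Fam : Set (Subgroup K) := (fun t => P.parabolic {t}) '' P.S with hFam
    set E := D ⊓ famStab Fam with hE
    have hED : E ≤ D := inf_le_left
    have h1 : E.relIndex D ≤ 2 ^ g := by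
      have h2 := hperm D hD hDU hDB
      rw [hE, inf_comm, Subgroup.inf_relIndex_right]
      exact h2
    have hUE := Inv.mono_sub hED hDU
    have hBE := Inv.mono_sub hED hDB
    have hPE : ∀ s ∈ P.S, Inv E (P.parabolic {s}) := fun s hs φ hφ => mem_famStab.1 hφ.2 _ ⟨s, hs, rfl⟩
    have hEp : IsPGroup 2 E := hD.to_le hED
    obtain ⟨D', h4, h5⟩ := hchain E hEp hUE hBE hPE
    have h7 := h4.card_le f (fun d hd => hf d (hED hd))
    have h8 : D'.map f = ⊥ := by
      rw [Subgroup.map_eq_bot_iff]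
      intro φ hφ
      rw [MonoidHom.mem_ker]
      obtain ⟨b, hb, hbs⟩ := h5 φ hφ
      have hφE : φ ∈ E := h4.le hφ
      set ψ : MulAut K := (MulAut.conj b)⁻¹ * φ with hψ
      have hψa : ∀ x, ψ x = b⁻¹ * φ x * b := by
        intro x
        rw [hψ, ← map_inv, MulAut.mul_apply, MulAut.conj_apply, inv_inv]
      have hstab : ∀ X : Subgroup K, Inv E X → b ∈ Subgroup.normalizer (X : Set K) →
          X.map ψ.toMonoidHom = X := by
        intro X hX hbX
        apply (mem_stab_iff (A := X)).2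
        intro x hx
        rw [hψa]
        have h9 := (Subgroup.mem_normalizer_iff.1 (inv_mem hbX) (φ x)).1 (hX.apply_mem hφE hx)
        rwa [inv_inv] at h9
      have hodd := odd_orderOf P U hcore hUB hBU hUN h2U V hV (φ := ψ)
        (hstab U hUE (by rw [hB]; exact hb))
        (hstab P.B hBE (Subgroup.le_normalizer hb))
        (fun s hs => hstab _ (hPE s hs) (Subgroup.le_normalizer (B_le_parabolic P _ hb)))
        (fun s hs u hu => by
          have h9 := hbs s hs u hu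
          -- `u⁻¹ b⁻¹ φ(u) b = b⁻¹ ((b u b⁻¹)⁻¹ φ u) b`
          have h10 := (hV s hs).conj_B b⁻¹ (inv_mem hb) _ h9
          have h11 : b⁻¹ * ((b * u * b⁻¹)⁻¹ * φ u) * b⁻¹⁻¹ = u⁻¹ * ψ u := by
            rw [hψa]; group
          rwa [h11] at h10)
      have hfψ : f ψ = f φ := by
        rw [hψ, map_mul]
        have : f (MulAut.conj b)⁻¹ = 1 := (QuotientGroup.eq_one_iff _).2 (inv_mem ⟨b, rfl⟩)
        rw [this, one_mul]
      have h12 : f φ * f φ = 1 := hf φ (hED hφE)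
      rw [← hfψ] at h12 ⊢
      obtain ⟨k, hk⟩ := hodd
      have h13 : f ψ ^ (orderOf ψ) = 1 := by rw [← map_pow, pow_orderOf_eq_one, map_one]
      rw [hk, pow_add, pow_mul, pow_two, h12, one_pow, one_mul, pow_one] at h13
      exact h13
    have h9 : Nat.card (D'.map f) = 1 := by rw [h8, Nat.card_unique]
    rw [h9, mul_one] at h7
    calc Nat.card (D.map f) ≤ E.relIndex D * Nat.card (E.map f) := card_map_le f hED
      _ ≤ 2 ^ g * 2 ^ c := Nat.mul_le_mul h1 h7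
      _ = _ := by rw [← pow_add, add_comm]
  exact outRk_of_stab_mk S (c + g) (fun D h1 h2 h3 => key D h1 h2 (hS ▸ h3)) A hA

/-- The crude permutation bound. -/
theorem perm_le [Finite K] (P : Cfsg.BNPair K) {D : Subgroup (MulAut K)} (hD : IsPGroup 2 D) (hB : Inv D P.B) :
    (famStab ((fun t => P.parabolic {t}) '' P.S)).relIndex D ≤ 2 ^ padicValNat 2 (Nat.card P.S).factorial := by
  have : Fact (Nat.Prime 2) := ⟨Nat.prime_two⟩
  set F : Set (Subgroup K) := (fun t => P.parabolic {t}) '' P.S with hF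
  have hFf : F.Finite := (Set.toFinite P.S).image _
  have hperm : ∀ φ ∈ D, ∀ A ∈ F, A.map φ.toMonoidHom ∈ F := by
    rintro φ hφ _ ⟨t, ht, rfl⟩
    obtain ⟨t', ht', h⟩ := exists_map_eq P φ (hB φ hφ) ht
    exact ⟨t', ht', h.symm⟩
  have h1 : (famStab F).relIndex D ∣ (Nat.card P.S).factorial := by
    refine (relIndex_dvd_factorial F hFf hperm).trans (Nat.factorial_dvd_factorial ?_)
    rw [hF, Nat.card_coe_set_eq, Nat.card_coe_set_eq]
    exact Set.ncard_image_le (Set.toFinite _)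
  obtain ⟨k, hk⟩ := hD.index ((famStab F).subgroupOf D)
  exact le_two_pow_of_dvd (Nat.factorial_ne_zero _) ⟨k, hk⟩ h1

/-- **THEOREM OUT, crude form** (hypotheses of `Schreier.BNUse.sch_of_bn'`). -/
theorem outRk' {K : Type u} [Group K] [Finite K] (P : Cfsg.BNPair K) {p : ℕ} [hp : Fact p.Prime] (hp2 : p ≠ 2)
    (U : Subgroup K) (hUp : IsPGroup p U) (hcore : P.B.normalCore = ⊥)
    (hUB : U ≤ P.B) (hBU : ∀ b ∈ P.B, ∀ u ∈ U, b * u * b⁻¹ ∈ U)
    (hUN : ∀ b ∈ P.B, ∃ u ∈ U, u⁻¹ * b ∈ P.N)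
    (m : ℕ) (hm : ¬ p ∣ m) (hH : ∀ h ∈ P.B, h ∈ P.N → h ^ m = 1) (k : ℕ)
    (hloc : ∀ s ∈ P.S, ∃ V : Subgroup K, Node P U s V ∧ NodeRk P U s V k) :
    OutRk K (k * Nat.card P.S + padicValNat 2 (Nat.card P.S).factorial) := by
  classical
  choose! V hV hn using hloc
  refine outRk_of_chain P hp2 U hUp hcore hUB hBU hUN m hm hH V hV _ _
    (fun D hD _ hDB => perm_le P hD hDB) fun D _ hU hB hP => ?_
  have hT : ((Set.toFinite P.S).toFinset : Set K) = P.S := Set.Finite.coe_toFinset _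
  have hTs : ∀ {s}, s ∈ (Set.toFinite P.S).toFinset → s ∈ P.S := fun {s} hs => by
    rw [← hT]; exact hs
  obtain ⟨D', h1, h2⟩ := exists_chain P U hUB V (fun _ => k) (Set.toFinite P.S).toFinset (by rw [hT])
    (fun s hs => hV s (hTs hs)) (fun s hs => hn s (hTs hs)) hU hB (fun s hs => hP s (hTs hs))
  rw [Finset.sum_const, smul_eq_mul, mul_comm, ← Set.ncard_eq_toFinset_card, ← Nat.card_coe_set_eq] at h1
  refine ⟨D', h1, fun φ hφ => ⟨1, one_mem _, fun s hs u hu => ?_⟩⟩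
  have h3 : s ∈ (Set.toFinite P.S).toFinset := by
    rw [← Finset.mem_coe, hT]; exact hs
  have h4 := h2 s h3 φ hφ u hu
  simpa using h4

end Cfsg.Agent.Omega.TwoF.Out
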