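import Mathlib

/-!
# Elementary abelian `2`-groups of projective transformations, characteristic not `2`

`rk n` is the `2`-rank of `PGL_n` in characteristic different from `2`:
`n - 1` in general, `n` for `n = 2, 4`.
-/

set_option autoImplicit false
set_option linter.unusedSectionVars false

namespace Cfsg.Agent.Omega.TwoF.RkLin

open Module

/-- The bound for the `2`-rank of `PGL_n`. -/
def rk (n : ℕ) : ℕ := if n = 2 ∨ n = 4 then n else n - 1

theorem rk_le (n : ℕ) : rk n ≤ n := by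
  unfold rk; split_ifs <;> omega

theorem le_rk (n : ℕ) : n - 1 ≤ rk n := by
  unfold rk; split_ifs <;> omega

theorem rk_double {a : ℕ} (ha : 1 ≤ a) : rk a + 2 ≤ rk (a + a) := by
  unfold rk
  split_ifs <;> omega

/-- A subgroup of "index at most two" in the sense of products. -/
theorem card_le_two_mul {A : Type*} [Group A] [Finite A] {H B : Subgroup A}
    (h : ∀ x ∈ B, x ∉ H → ∀ y ∈ B, y ∉ H → x * y ∈ H) :
    Nat.card B ≤ 2 * Nat.card H := by
  classical
  by_cases hB : B ≤ H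
  · calc Nat.card B ≤ Nat.card H := Subgroup.card_le_of_le hB
      _ ≤ 2 * Nat.card H := by omega
  · obtain ⟨x, hx, hxH⟩ := Set.not_subset.1 hB
    have hsub : (B : Set A) ⊆ (H : Set A) ∪ (fun g => x⁻¹ * g) '' (H : Set A) := by
      intro y hy
      by_cases hyH : y ∈ H
      · exact Or.inl hyH
      · exact Or.inr ⟨x * y, h x hx hxH y hy hyH, by simp⟩
    have h1 : (B : Set A).ncard ≤ (H : Set A).ncard + (H : Set A).ncard :=
      (Set.ncard_le_ncard hsub (Set.toFinite _)).trans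
        ((Set.ncard_union_le _ _).trans
          (Nat.add_le_add_left (Set.ncard_image_le (Set.toFinite _)) _))
    have h2 : (B : Set A).ncard = Nat.card B := rfl
    have h3 : (H : Set A).ncard = Nat.card H := rfl
    omega

/-- A projective representation of a group of exponent two. -/
structure Setup {K V A : Type*} [Field K] [AddCommGroup V] [Module K V] [Group A]
    (ρ : A → V →ₗ[K] V) : Prop where
  one : ∃ c : K, c ≠ 0 ∧ ∀ v, ρ 1 v = c • v
  mul : ∀ a b, ∃ c : K, c ≠ 0 ∧ ∀ v, ρ a (ρ b v) = c • ρ (a * b) v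
  sq : ∀ a : A, a * a = 1

section

variable {K V A : Type*} [Field K] [AddCommGroup V] [Module K V] [Group A]
variable {ρ : A → V →ₗ[K] V}

/-- Elements of `B` acting as a scalar on `W`. -/
def scal (h : Setup ρ) (B : Subgroup A) (W : Submodule K V) : Subgroup A where
  carrier := {b | b ∈ B ∧ ∃ c : K, ∀ w ∈ W, ρ b w = c • w}
  mul_mem' := by
    rintro a b ⟨ha, c, hc⟩ ⟨hb, d, hd⟩
    refine ⟨mul_mem ha hb, ?_⟩
    obtain ⟨e, he, hm⟩ := h.mul a b
    refine ⟨e⁻¹ * (c * d), fun w hw => ?_⟩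
    have h1 := hm w
    rw [hd w hw, map_smul, hc w hw] at h1
    rw [mul_smul, mul_comm c d, mul_smul, h1, smul_smul, inv_mul_cancel₀ he, one_smul]
  one_mem' := by
    obtain ⟨c, _, hc⟩ := h.one
    exact ⟨one_mem _, c, fun w _ => hc w⟩
  inv_mem' := by
    rintro a ⟨ha, c, hc⟩
    have : a⁻¹ = a := inv_eq_of_mul_eq_one_left (h.sq a)
    rw [this]
    exact ⟨ha, c, hc⟩

theorem mem_scal {h : Setup ρ} {B : Subgroup A} {W : Submodule K V} {b : A} :
    b ∈ scal h B W ↔ b ∈ B ∧ ∃ c : K, ∀ w ∈ W, ρ b w = c • w := Iff.rfl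

theorem scal_le {h : Setup ρ} {B : Subgroup A} {W : Submodule K V} : scal h B W ≤ B :=
  fun _ hb => hb.1

theorem Setup.comm (h : Setup ρ) (a b : A) : a * b = b * a := by
  have h1 := h.sq (a * b)
  have ha := h.sq a
  have hb := h.sq b
  calc a * b = a * (a * b * (a * b)) * b := by rw [h1, mul_one]
    _ = (a * a) * (b * a) * (b * b) := by simp only [mul_assoc]
    _ = b * a := by rw [ha, hb, one_mul, mul_one]

theorem Setup.sq_scalar (h : Setup ρ) (a : A) : ∃ c : K, c ≠ 0 ∧ ∀ v, ρ a (ρ a v) = c • v := by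
  obtain ⟨c, hc, h1⟩ := h.mul a a
  obtain ⟨d, hd, h2⟩ := h.one
  refine ⟨c * d, mul_ne_zero hc hd, fun v => ?_⟩
  rw [h1, h.sq, h2, smul_smul]

theorem Setup.injective (h : Setup ρ) (a : A) : Function.Injective (ρ a) := by
  obtain ⟨c, hc, h1⟩ := h.sq_scalar a
  intro v w hvw
  have := congrArg (ρ a) hvw
  rw [h1, h1] at this
  exact smul_right_injective V hc this

/-- Two elements commute up to a sign. -/
theorem Setup.comm_sign (h : Setup ρ) (a b : A) :
    (∀ v, ρ a (ρ b v) = ρ b (ρ a v)) ∨ (∀ v, ρ a (ρ b v) = -ρ b (ρ a v)) := by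
  obtain ⟨c, hc, h1⟩ := h.mul a b
  obtain ⟨d, hd, h2⟩ := h.mul b a
  obtain ⟨l, hl, hsq⟩ := h.sq_scalar a
  have h3 : ∀ v, ρ a (ρ b v) = (c * d⁻¹) • ρ b (ρ a v) := by
    intro v
    rw [h1, h2, h.comm b a, smul_smul, mul_assoc, inv_mul_cancel₀ hd, mul_one]
  by_cases hV : ∀ v : V, v = 0
  · left
    intro v
    rw [hV (ρ a (ρ b v)), hV (ρ b (ρ a v))]
  · push Not at hV
    obtain ⟨v, hv⟩ := hV
    have h4 : ρ a (ρ a (ρ b v)) = ((c * d⁻¹) * (c * d⁻¹)) • ρ b (ρ a (ρ a v)) := by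
      rw [h3 v, map_smul, h3 (ρ a v), smul_smul]
    rw [hsq, hsq, map_smul, smul_smul, mul_comm _ l, mul_smul] at h4
    have h5 : (1 : K) • ρ b v = ((c * d⁻¹) * (c * d⁻¹)) • ρ b v := by
      rw [one_smul]
      exact smul_right_injective V hl h4
    have h6 : ρ b v ≠ 0 := fun h0 => hv (h.injective b (by rw [h0, map_zero]))
    have h7 := smul_left_injective K h6 h5
    rcases mul_self_eq_one_iff.1 h7.symm with h8 | h8
    · left; intro v; rw [h3, h8, one_smul]
    · right; intro v; rw [h3, h8, neg_smul, one_smul]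

/-- Eigenspaces inside `W`. -/
def eig (ρ : A → V →ₗ[K] V) (x : A) (μ : K) (W : Submodule K V) : Submodule K V where
  carrier := {v | v ∈ W ∧ ρ x v = μ • v}
  add_mem' := by
    rintro u v ⟨hu, hu'⟩ ⟨hv, hv'⟩
    exact ⟨W.add_mem hu hv, by rw [map_add, hu', hv', smul_add]⟩
  zero_mem' := ⟨W.zero_mem, by simp⟩
  smul_mem' := by
    rintro c v ⟨hv, hv'⟩
    exact ⟨W.smul_mem c hv, by rw [map_smul, hv', smul_comm]⟩

theorem mem_eig {x : A} {μ : K} {W : Submodule K V} {v : V} :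
    v ∈ eig ρ x μ W ↔ v ∈ W ∧ ρ x v = μ • v := Iff.rfl

theorem eig_inf {x : A} {μ : K} (h2 : (2 : K) ≠ 0) (hμ : μ ≠ 0) {W : Submodule K V} :
    eig ρ x μ W ⊓ eig ρ x (-μ) W = ⊥ := by
  rw [eq_bot_iff]
  rintro v ⟨⟨_, h1⟩, ⟨_, h3⟩⟩
  rw [h1] at h3
  have h4 : (2 * μ) • v = 0 := by
    rw [two_mul, add_smul]
    nth_rw 1 [h3]
    rw [neg_smul, neg_add_cancel]
  exact (smul_eq_zero.1 h4).resolve_left (mul_ne_zero h2 hμ)

theorem eig_decomp {x : A} {μ : K} (h2 : (2 : K) ≠ 0) (hμ : μ ≠ 0)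
    (hsq : ∀ v, ρ x (ρ x v) = (μ * μ) • v) {W : Submodule K V} (hW : ∀ w ∈ W, ρ x w ∈ W)
    {w : V} (hw : w ∈ W) :
    ∃ u ∈ eig ρ x μ W, ∃ v ∈ eig ρ x (-μ) W, w = u + v := by
  have h2' : (2 : K)⁻¹ * (2 : K) = 1 := inv_mul_cancel₀ h2
  refine ⟨(2 : K)⁻¹ • (w + μ⁻¹ • ρ x w), ⟨?_, ?_⟩, (2 : K)⁻¹ • (w - μ⁻¹ • ρ x w), ⟨?_, ?_⟩, ?_⟩
  · exact W.smul_mem _ (W.add_mem hw (W.smul_mem _ (hW w hw)))
  · have h3 : ρ x (w + μ⁻¹ • ρ x w) = μ • (w + μ⁻¹ • ρ x w) := by
      rw [map_add, map_smul, hsq, smul_smul, ← mul_assoc, inv_mul_cancel₀ hμ, one_mul,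
        smul_add, smul_smul μ, mul_inv_cancel₀ hμ, one_smul, add_comm]
    rw [map_smul, h3, smul_comm]
  · exact W.smul_mem _ (W.sub_mem hw (W.smul_mem _ (hW w hw)))
  · have h3 : ρ x (w - μ⁻¹ • ρ x w) = (-μ) • (w - μ⁻¹ • ρ x w) := by
      rw [map_sub, map_smul, hsq, smul_smul, ← mul_assoc, inv_mul_cancel₀ hμ, one_mul,
        smul_sub, smul_smul (-μ), neg_mul, mul_inv_cancel₀ hμ, neg_smul, neg_smul, one_smul]
      abel
    rw [map_smul, h3, smul_comm]
  · rw [← smul_add]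
    have : w + μ⁻¹ • ρ x w + (w - μ⁻¹ • ρ x w) = (2 : K) • w := by
      rw [two_smul]; abel
    rw [this, smul_smul, h2', one_smul]

theorem eig_sup {x : A} {μ : K} (h2 : (2 : K) ≠ 0) (hμ : μ ≠ 0)
    (hsq : ∀ v, ρ x (ρ x v) = (μ * μ) • v) {W : Submodule K V} (hW : ∀ w ∈ W, ρ x w ∈ W) :
    eig ρ x μ W ⊔ eig ρ x (-μ) W = W := by
  apply le_antisymm
  · exact sup_le (fun v hv => hv.1) (fun v hv => hv.1)
  · intro w hw
    obtain ⟨u, hu, v, hv, rfl⟩ := eig_decomp h2 hμ hsq hW hw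
    exact Submodule.add_mem_sup hu hv

theorem finrank_eig [FiniteDimensional K V] {x : A} {μ : K} (h2 : (2 : K) ≠ 0) (hμ : μ ≠ 0)
    (hsq : ∀ v, ρ x (ρ x v) = (μ * μ) • v) {W : Submodule K V} (hW : ∀ w ∈ W, ρ x w ∈ W) :
    finrank K (eig ρ x μ W) + finrank K (eig ρ x (-μ) W) = finrank K W := by
  have h := Submodule.finrank_sup_add_finrank_inf_eq (eig ρ x μ W) (eig ρ x (-μ) W)
  rw [eig_sup h2 hμ hsq hW, eig_inf h2 hμ, finrank_bot, add_zero] at h
  exact h.symm

/-- Elements acting as scalars on both eigenspaces. -/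
theorem card_two_eig [Finite A] (h : Setup ρ) {x : A} {μ : K} (h2 : (2 : K) ≠ 0) (hμ : μ ≠ 0)
    (hsq : ∀ v, ρ x (ρ x v) = (μ * μ) • v) {W : Submodule K V} {B C : Subgroup A}
    (hW : ∀ w ∈ W, ρ x w ∈ W) (hCB : C ≤ B)
    (hC : ∀ c ∈ C, (∃ a : K, ∀ w ∈ eig ρ x μ W, ρ c w = a • w) ∧
      (∃ a : K, ∀ w ∈ eig ρ x (-μ) W, ρ c w = a • w)) :
    Nat.card C ≤ 2 * Nat.card (scal h B W) := by
  have key : ∀ c ∈ C, c ∈ scal h B W ∨
      ((∃ a : K, a ≠ 0 ∧ (∀ w ∈ eig ρ x μ W, ρ c w = a • w) ∧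
        (∀ w ∈ eig ρ x (-μ) W, ρ c w = (-a) • w)) ) := by
    intro c hc
    obtain ⟨⟨a, ha⟩, ⟨b, hb⟩⟩ := hC c hc
    obtain ⟨l, hl, hcc⟩ := h.sq_scalar c
    by_cases hbot : eig ρ x μ W = ⊥
    · left
      refine ⟨hCB hc, b, fun w hw => ?_⟩
      obtain ⟨u, hu, v, hv, rfl⟩ := eig_decomp h2 hμ hsq hW hw
      rw [hbot, Submodule.mem_bot] at hu
      rw [hu, zero_add, hb v hv]
    by_cases hbot' : eig ρ x (-μ) W = ⊥
    · left
      refine ⟨hCB hc, a, fun w hw => ?_⟩
      obtain ⟨u, hu, v, hv, rfl⟩ := eig_decomp h2 hμ hsq hW hw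
      rw [hbot', Submodule.mem_bot] at hv
      rw [hv, add_zero, ha u hu]
    obtain ⟨u, hu, hu0⟩ := Submodule.exists_mem_ne_zero_of_ne_bot hbot
    obtain ⟨v, hv, hv0⟩ := Submodule.exists_mem_ne_zero_of_ne_bot hbot'
    have h3 : a * a = l := by
      have h4 := hcc u
      rw [ha u hu, map_smul, ha u hu, smul_smul] at h4
      exact smul_left_injective K hu0 h4
    have h5 : b * b = l := by
      have h4 := hcc v
      rw [hb v hv, map_smul, hb v hv, smul_smul] at h4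
      exact smul_left_injective K hv0 h4
    have ha0 : a ≠ 0 := by
      rintro rfl
      exact hl (by rw [← h3, mul_zero])
    rcases mul_self_eq_mul_self_iff.1 (h5.trans h3.symm) with h6 | h6
    · left
      refine ⟨hCB hc, a, fun w hw => ?_⟩
      obtain ⟨u, hu, v, hv, rfl⟩ := eig_decomp h2 hμ hsq hW hw
      rw [map_add, ha u hu, hb v hv, h6, smul_add]
    · right
      exact ⟨a, ha0, ha, fun w hw => by rw [hb w hw, h6]⟩
  have h1 : Nat.card C ≤ 2 * Nat.card (scal h B W ⊓ C : Subgroup A) := by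
    apply card_le_two_mul
    intro c hc hcn d hd hdn
    have hcn' : c ∉ scal h B W := fun h' => hcn ⟨h', hc⟩
    have hdn' : d ∉ scal h B W := fun h' => hdn ⟨h', hd⟩
    obtain ⟨a, _, ha, ha'⟩ := (key c hc).resolve_left hcn'
    obtain ⟨b, _, hb, hb'⟩ := (key d hd).resolve_left hdn'
    refine ⟨⟨mul_mem (hCB hc) (hCB hd), ?_⟩, mul_mem hc hd⟩
    obtain ⟨e, he, hm⟩ := h.mul c d
    refine ⟨e⁻¹ * (a * b), fun w hw => ?_⟩
    have h3 : ρ c (ρ d w) = (a * b) • w := by
      obtain ⟨u, hu, v, hv, rfl⟩ := eig_decomp h2 hμ hsq hW hw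
      rw [map_add, map_add, hb u hu, hb' v hv, map_smul, map_smul, ha u hu, ha' v hv, smul_smul,
        smul_smul, smul_add, neg_mul_neg, mul_comm b a]
    rw [hm] at h3
    rw [mul_smul, ← h3, smul_smul, inv_mul_cancel₀ he, one_smul]
  exact h1.trans (Nat.mul_le_mul_left _ (Subgroup.card_le_of_le inf_le_left))

variable [Finite A] [FiniteDimensional K V] [IsAlgClosed K]

theorem Setup.exists_root (h : Setup ρ) (x : A) :
    ∃ μ : K, μ ≠ 0 ∧ ∀ v, ρ x (ρ x v) = (μ * μ) • v := by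
  obtain ⟨c, hc, h1⟩ := h.sq_scalar x
  obtain ⟨μ, rfl⟩ := IsAlgClosed.exists_eq_mul_self c
  exact ⟨μ, left_ne_zero_of_mul hc, h1⟩

/-- The eigenspaces of a non scalar element are proper. -/
theorem finrank_eig_pos {x : A} {μ : K} (h2 : (2 : K) ≠ 0) (hμ : μ ≠ 0)
    (hsq : ∀ v, ρ x (ρ x v) = (μ * μ) • v) {W : Submodule K V} (hW : ∀ w ∈ W, ρ x w ∈ W)
    (hx : ¬ ∃ c : K, ∀ w ∈ W, ρ x w = c • w) :
    1 ≤ finrank K (eig ρ x μ W) ∧ 1 ≤ finrank K (eig ρ x (-μ) W) := by
  constructor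
  · rw [Nat.one_le_iff_ne_zero]
    intro h0
    rw [Submodule.finrank_eq_zero] at h0
    apply hx
    refine ⟨-μ, fun w hw => ?_⟩
    obtain ⟨u, hu, v, hv, rfl⟩ := eig_decomp h2 hμ hsq hW hw
    rw [h0, Submodule.mem_bot] at hu
    rw [hu, zero_add, hv.2]
  · rw [Nat.one_le_iff_ne_zero]
    intro h0
    rw [Submodule.finrank_eq_zero] at h0
    apply hx
    refine ⟨μ, fun w hw => ?_⟩
    obtain ⟨u, hu, v, hv, rfl⟩ := eig_decomp h2 hμ hsq hW hw
    rw [h0, Submodule.mem_bot] at hv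
    rw [hv, add_zero, hu.2]

/-- Commuting case. -/
theorem card_comm (h : Setup ρ) (h2 : (2 : K) ≠ 0) : ∀ (n : ℕ) (W : Submodule K V),
    finrank K W = n → 1 ≤ n → ∀ B : Subgroup A, (∀ b ∈ B, ∀ w ∈ W, ρ b w ∈ W) →
    (∀ a ∈ B, ∀ b ∈ B, ∀ w ∈ W, ρ a (ρ b w) = ρ b (ρ a w)) →
    2 * Nat.card B ≤ 2 ^ n * Nat.card (scal h B W) := by
  intro n
  induction n using Nat.strong_induction_on with
  | _ n ih =>
    intro W hn hn1 B hB hcomm
    by_cases hs : ∀ b ∈ B, ∃ c : K, ∀ w ∈ W, ρ b w = c • w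
    · have h1 : B ≤ scal h B W := fun b hb => ⟨hb, hs b hb⟩
      have h3 : 2 ^ 1 ≤ 2 ^ n := Nat.pow_le_pow_right (by norm_num) hn1
      rw [pow_one] at h3
      exact Nat.mul_le_mul h3 (Subgroup.card_le_of_le h1)
    · push Not at hs
      obtain ⟨x, hx, hxs⟩ := hs
      have hxs' : ¬ ∃ c : K, ∀ w ∈ W, ρ x w = c • w := by
        push Not; exact hxs
      obtain ⟨μ, hμ, hsq⟩ := h.exists_root x
      have hWx := hB x hx
      obtain ⟨ha1, hb1⟩ := finrank_eig_pos h2 hμ hsq hWx hxs'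
      have hsum := finrank_eig h2 hμ hsq hWx
      have hinv : ∀ (ν : K), ∀ b ∈ B, ∀ w ∈ eig ρ x ν W, ρ b w ∈ eig ρ x ν W := by
        rintro ν b hb w ⟨hw, hw'⟩
        exact ⟨hB b hb w hw, by rw [hcomm x hx b hb w hw, hw', map_smul]⟩
      have h3 := ih (finrank K (eig ρ x μ W)) (by omega) (eig ρ x μ W) rfl ha1 B (hinv μ)
        (fun a ha b hb w hw => hcomm a ha b hb w hw.1)
      have h4 := ih (finrank K (eig ρ x (-μ) W)) (by omega) (eig ρ x (-μ) W) rfl hb1
        (scal h B (eig ρ x μ W)) (fun b hb => hinv (-μ) b (scal_le hb))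
        (fun a ha b hb w hw => hcomm a (scal_le ha) b (scal_le hb) w hw.1)
      have h5 := card_two_eig (W := W) (B := B)
        (C := scal h (scal h B (eig ρ x μ W)) (eig ρ x (-μ) W)) h h2 hμ hsq hWx
        (scal_le.trans scal_le) (fun c hc => ⟨hc.1.2, hc.2⟩)
      have h6 : 2 ^ n = 2 ^ finrank K (eig ρ x μ W) * 2 ^ finrank K (eig ρ x (-μ) W) := by
        rw [← pow_add, hsum, hn]
      rw [h6]
      have h7 := Nat.mul_le_mul_left 2 h3
      have h8 := Nat.mul_le_mul_left (2 ^ finrank K (eig ρ x μ W)) h4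
      have h9 := Nat.mul_le_mul_left (2 ^ finrank K (eig ρ x μ W))
        (Nat.mul_le_mul_left (2 ^ finrank K (eig ρ x (-μ) W)) h5)
      nlinarith [h7, h8, h9]

/-- General case. -/
theorem card_le (h : Setup ρ) (h2 : (2 : K) ≠ 0) : ∀ (n : ℕ) (W : Submodule K V),
    finrank K W = n → 1 ≤ n → ∀ B : Subgroup A, (∀ b ∈ B, ∀ w ∈ W, ρ b w ∈ W) →
    Nat.card B ≤ 2 ^ rk n * Nat.card (scal h B W) := by
  intro n
  induction n using Nat.strong_induction_on with
  | _ n ih =>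
    intro W hn hn1 B hB
    by_cases hcomm : ∀ a ∈ B, ∀ b ∈ B, ∀ w ∈ W, ρ a (ρ b w) = ρ b (ρ a w)
    · have h1 := card_comm h h2 n W hn hn1 B hB hcomm
      obtain ⟨m, rfl⟩ : ∃ m, n = m + 1 := ⟨n - 1, by omega⟩
      have h3 : Nat.card B ≤ 2 ^ m * Nat.card (scal h B W) := by
        rw [pow_succ] at h1
        nlinarith
      refine h3.trans (Nat.mul_le_mul_right _ (Nat.pow_le_pow_right (by norm_num) ?_))
      exact le_rk (m + 1)
    · push Not at hcomm
      obtain ⟨x, hx, y, hy, w0, hw0, hne⟩ := hcomm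
      have hanti : ∀ v, ρ x (ρ y v) = -ρ y (ρ x v) :=
        (h.comm_sign x y).resolve_left (fun h' => hne (h' w0))
      obtain ⟨μ, hμ, hsq⟩ := h.exists_root x
      have hWx := hB x hx
      have hsum := finrank_eig h2 hμ hsq hWx
      have hmap : ∀ ν : K, (eig ρ x ν W).map (ρ y) ≤ eig ρ x (-ν) W := by
        intro ν
        rintro _ ⟨w, ⟨hw, hw'⟩, rfl⟩
        exact ⟨hB y hy w hw, by rw [hanti, hw', map_smul, neg_smul]⟩
      have hdim : ∀ ν : K, finrank K (eig ρ x ν W) ≤ finrank K (eig ρ x (-ν) W) := by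
        intro ν
        rw [(Submodule.equivMapOfInjective (ρ y) (h.injective y) (eig ρ x ν W)).finrank_eq]
        exact Submodule.finrank_mono (hmap ν)
      have hd1 := hdim μ
      have hd2 := hdim (-μ)
      rw [neg_neg] at hd2
      have heq : finrank K (eig ρ x μ W) = finrank K (eig ρ x (-μ) W) := le_antisymm hd1 hd2
      have ha1 : 1 ≤ finrank K (eig ρ x μ W) := by omega
      -- the subgroup commuting with `x`
      let B0 : Subgroup A :=
        { carrier := {b | b ∈ B ∧ ∀ v, ρ x (ρ b v) = ρ b (ρ x v)}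
          mul_mem' := by
            rintro a b ⟨ha, ha'⟩ ⟨hb, hb'⟩
            refine ⟨mul_mem ha hb, fun v => ?_⟩
            obtain ⟨e, he, hm⟩ := h.mul a b
            have h3 : ρ x (ρ a (ρ b v)) = ρ a (ρ b (ρ x v)) := by rw [ha', hb']
            rw [hm, hm, map_smul] at h3
            exact smul_right_injective V he h3
          one_mem' := by
            refine ⟨one_mem _, fun v => ?_⟩
            obtain ⟨c, _, hc⟩ := h.one
            rw [hc, hc, map_smul]
          inv_mem' := by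
            rintro a ⟨ha, ha'⟩
            have : a⁻¹ = a := inv_eq_of_mul_eq_one_left (h.sq a)
            rw [this]
            exact ⟨ha, ha'⟩ }
      have hB0B : B0 ≤ B := fun b hb => hb.1
      have hcard0 : Nat.card B ≤ 2 * Nat.card B0 := by
        apply card_le_two_mul
        intro a ha han b hb hbn
        have ha' : ∀ v, ρ x (ρ a v) = -ρ a (ρ x v) :=
          (h.comm_sign x a).resolve_left (fun h' => han ⟨ha, h'⟩)
        have hb' : ∀ v, ρ x (ρ b v) = -ρ b (ρ x v) :=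
          (h.comm_sign x b).resolve_left (fun h' => hbn ⟨hb, h'⟩)
        refine ⟨mul_mem ha hb, fun v => ?_⟩
        obtain ⟨e, he, hm⟩ := h.mul a b
        have h3 : ρ x (ρ a (ρ b v)) = ρ a (ρ b (ρ x v)) := by
          rw [ha', hb', map_neg, neg_neg]
        rw [hm, hm, map_smul] at h3
        exact smul_right_injective V he h3
      have h3 := ih (finrank K (eig ρ x μ W)) (by omega) (eig ρ x μ W) rfl ha1 B0
        (by
          rintro b ⟨hb, hb'⟩ w ⟨hw, hw'⟩
          exact ⟨hB b hb w hw, by rw [hb', hw', map_smul]⟩)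
      have h5 := card_two_eig (W := W) (B := B) (C := scal h B0 (eig ρ x μ W)) h h2 hμ hsq hWx
        (scal_le.trans hB0B) (by
          rintro c ⟨hc, a, ha⟩
          refine ⟨⟨a, ha⟩, ?_⟩
          have hmapeq : (eig ρ x μ W).map (ρ y) = eig ρ x (-μ) W := by
            apply Submodule.eq_of_le_of_finrank_eq (hmap μ)
            rw [← (Submodule.equivMapOfInjective (ρ y) (h.injective y) (eig ρ x μ W)).finrank_eq]
            exact heq
          rcases h.comm_sign c y with hcy | hcy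
          · refine ⟨a, fun w hw => ?_⟩
            rw [← hmapeq] at hw
            obtain ⟨u, hu, rfl⟩ := hw
            rw [hcy, ha u hu, map_smul]
          · refine ⟨-a, fun w hw => ?_⟩
            rw [← hmapeq] at hw
            obtain ⟨u, hu, rfl⟩ := hw
            rw [hcy, ha u hu, map_smul, neg_smul])
      have h6 : rk (finrank K (eig ρ x μ W)) + 2 ≤ rk n := by
        have : n = finrank K (eig ρ x μ W) + finrank K (eig ρ x μ W) := by omega
        rw [this]
        exact rk_double ha1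
      calc Nat.card B ≤ 2 * Nat.card B0 := hcard0
        _ ≤ 2 * (2 ^ rk (finrank K (eig ρ x μ W)) * Nat.card (scal h B0 (eig ρ x μ W))) :=
            Nat.mul_le_mul_left _ h3
        _ ≤ 2 * (2 ^ rk (finrank K (eig ρ x μ W)) * (2 * Nat.card (scal h B W))) :=
            Nat.mul_le_mul_left _ (Nat.mul_le_mul_left _ h5)
        _ = 2 ^ (rk (finrank K (eig ρ x μ W)) + 2) * Nat.card (scal h B W) := by
            rw [pow_add]; ring
        _ ≤ 2 ^ rk n * Nat.card (scal h B W) :=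
            Nat.mul_le_mul_right _ (Nat.pow_le_pow_right (by norm_num) h6)

end

section matrix

open Matrix

/-- Matrix form: a finite group of exponent two inside `PGL_n(F)`. -/
theorem card_le_matrix {F ι : Type*} [Field F] [Fintype ι] [DecidableEq ι] (h2 : (2 : F) ≠ 0)
    {n : ℕ} (hι : Fintype.card ι = n) (hn : 1 ≤ n) {A : Type*} [Group A] [Finite A]
    (φ : A → GL ι F)
    (hmul : ∀ a b, ∃ c : F, (φ a : Matrix ι ι F) * (φ b : Matrix ι ι F)
      = c • (φ (a * b) : Matrix ι ι F))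
    (hsq : ∀ a : A, a * a = 1)
    (hfaith : ∀ a, (∃ c : F, (φ a : Matrix ι ι F) = c • (1 : Matrix ι ι F)) → a = 1) :
    Nat.card A ≤ 2 ^ rk n := by
  have hne : Nonempty ι := Fintype.card_pos_iff.1 (by omega)
  obtain ⟨i₀⟩ := hne
  let K := AlgebraicClosure F
  let f : F →+* K := algebraMap F K
  have hf : Function.Injective f := f.injective
  let ρ : A → (ι → K) →ₗ[K] (ι → K) := fun a => Matrix.toLin' ((φ a : Matrix ι ι F).map f)
  have hρ : ∀ a v, ρ a v = (φ a : Matrix ι ι F).map f *ᵥ v := fun a v => by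
    simp only [ρ, Matrix.toLin'_apply]
  have hne0 : ∀ (a b : A) (c : F), (φ a : Matrix ι ι F) * (φ b : Matrix ι ι F)
      = c • (φ (a * b) : Matrix ι ι F) → c ≠ 0 := by
    rintro a b c h rfl
    rw [zero_smul] at h
    have h3 : (φ a : Matrix ι ι F) * (φ b : Matrix ι ι F) * ((φ b)⁻¹ : GL ι F).1 *
        ((φ a)⁻¹ : GL ι F).1 = 1 := by
      rw [mul_assoc (φ a : Matrix ι ι F), ← Units.val_mul (φ b), mul_inv_cancel, Units.val_one,
        mul_one, ← Units.val_mul, mul_inv_cancel, Units.val_one]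
    rw [h, zero_mul, zero_mul] at h3
    have := congrFun (congrFun h3 i₀) i₀
    rw [Matrix.one_apply_eq] at this
    exact zero_ne_one this
  have h : Setup ρ := by
    refine ⟨?_, ?_, hsq⟩
    · obtain ⟨c, hc⟩ := hmul 1 1
      have hc0 := hne0 1 1 c hc
      rw [mul_one] at hc
      refine ⟨f c, fun h0 => hc0 (hf (by rw [h0, map_zero])), fun v => ?_⟩
      have h3 : (φ 1 : Matrix ι ι F) = c • (1 : Matrix ι ι F) := by
        calc (φ 1 : Matrix ι ι F)
            = (φ 1 : Matrix ι ι F) * (φ 1 : Matrix ι ι F) * ((φ 1)⁻¹ : GL ι F).1 := by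
              rw [mul_assoc, ← Units.val_mul, mul_inv_cancel, Units.val_one, mul_one]
          _ = c • (1 : Matrix ι ι F) := by
              rw [hc, smul_mul_assoc, ← Units.val_mul, mul_inv_cancel, Units.val_one]
      rw [hρ, h3]
      have h4 : (c • (1 : Matrix ι ι F)).map f = f c • (1 : Matrix ι ι K) := by
        ext i j
        by_cases hij : i = j
        · subst hij
          simp
        · simp [Matrix.one_apply_ne hij]
      rw [h4, Matrix.smul_mulVec, Matrix.one_mulVec]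
    · intro a b
      obtain ⟨c, hc⟩ := hmul a b
      refine ⟨f c, fun h0 => hne0 a b c hc (hf (by rw [h0, map_zero])), fun v => ?_⟩
      rw [hρ, hρ, hρ, Matrix.mulVec_mulVec, ← Matrix.map_mul, hc]
      have h4 : (c • (φ (a * b) : Matrix ι ι F)).map f
          = f c • ((φ (a * b) : Matrix ι ι F).map f) := by
        ext i j
        simp
      rw [h4, Matrix.smul_mulVec]
  have h2K : (2 : K) ≠ 0 := by
    intro h0
    apply h2
    apply hf
    rw [map_zero, ← h0, map_ofNat]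
  have hfr : Module.finrank K (⊤ : Submodule K (ι → K)) = n := by
    rw [finrank_top, Module.finrank_fintype_fun_eq_card, hι]
  have hmain := card_le h h2K n ⊤ hfr hn ⊤ (fun _ _ _ _ => Submodule.mem_top)
  have hbot : scal h ⊤ ⊤ = (⊥ : Subgroup A) := by
    rw [eq_bot_iff]
    rintro a ⟨-, c, hc⟩
    rw [Subgroup.mem_bot]
    apply hfaith
    have h3 : ∀ i j, f ((φ a : Matrix ι ι F) i j) = if i = j then c else 0 := by
      intro i j
      have h4 := congrFun (hc (Pi.single j 1) Submodule.mem_top) i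
      rw [hρ, Matrix.mulVec_single_one] at h4
      simp only [Matrix.col_apply, Matrix.map_apply, Pi.smul_apply, smul_eq_mul] at h4
      rw [h4, Pi.single_apply]
      simp
    refine ⟨(φ a : Matrix ι ι F) i₀ i₀, ?_⟩
    ext i j
    rw [Matrix.smul_apply, Matrix.one_apply, smul_eq_mul]
    apply hf
    rw [h3, map_mul, h3, if_pos rfl]
    split_ifs <;> simp
  rw [hbot] at hmain
  simpa using hmain

/-- An elementary abelian `2`-subgroup of `PGL_n(F)`. -/
theorem card_le_PGL {F ι : Type*} [Field F] [Fintype ι] [DecidableEq ι] (h2 : (2 : F) ≠ 0)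
    {n : ℕ} (hι : Fintype.card ι = n) (hn : 1 ≤ n) (E : Subgroup (Matrix.ProjGenLinGroup ι F))
    [Finite E] (hE : ∀ x ∈ E, x * x = 1) : Nat.card E ≤ 2 ^ rk n := by
  let r : E → GL ι F := fun e => Function.surjInv Matrix.ProjGenLinGroup.mk_surjective e.1
  have hr : ∀ e : E, Matrix.ProjGenLinGroup.mk (r e) = e.1 := fun e =>
    Function.surjInv_eq Matrix.ProjGenLinGroup.mk_surjective e.1
  refine card_le_matrix h2 hι hn r ?_ (fun a => Subtype.ext (hE a.1 a.2)) ?_
  · intro a b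
    have h1 : Matrix.ProjGenLinGroup.mk (r (a * b)) = Matrix.ProjGenLinGroup.mk (r a * r b) := by
      rw [map_mul, hr, hr, hr]; rfl
    obtain ⟨u, hu⟩ := Matrix.ProjGenLinGroup.mk_eq_mk_iff.1 h1
    refine ⟨(u : F), ?_⟩
    have h3 := congrArg (fun x : GL ι F => (x : Matrix ι ι F)) hu
    simp only [Units.val_mul] at h3
    rw [← h3]
    ext i j
    simp [Matrix.GeneralLinearGroup.scalar, mul_comm]
  · rintro a ⟨c, hc⟩
    apply Subtype.ext
    rw [← hr a]
    change Matrix.ProjGenLinGroup.mk (r a) = 1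
    rw [Matrix.ProjGenLinGroup.mk_eq_one, Subgroup.mem_center_iff]
    intro g
    apply Units.ext
    rw [Units.val_mul, Units.val_mul, hc]
    simp

/-- A group of matrices all of whose squares are scalar, modulo scalars. -/
theorem card_map_le {F ι : Type*} [Field F] [Fintype ι] [DecidableEq ι] (h2 : (2 : F) ≠ 0)
    {n : ℕ} (hι : Fintype.card ι = n) (hn : 1 ≤ n) (E : Subgroup (GL ι F))
    [Finite (E.map (Matrix.ProjGenLinGroup.mk (n := ι) (R := F)))]
    (hE : ∀ x ∈ E, ∃ c : F, (x : Matrix ι ι F) * (x : Matrix ι ι F) = c • (1 : Matrix ι ι F)) :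
    Nat.card (E.map (Matrix.ProjGenLinGroup.mk (n := ι) (R := F))) ≤ 2 ^ rk n := by
  refine card_le_PGL h2 hι hn _ ?_
  rintro _ ⟨x, hx, rfl⟩
  rw [← map_mul, Matrix.ProjGenLinGroup.mk_eq_one, Subgroup.mem_center_iff]
  intro g
  obtain ⟨c, hc⟩ := hE x hx
  apply Units.ext
  have h3 : ((x * x : GL ι F) : Matrix ι ι F) = c • 1 := by rw [Units.val_mul, hc]
  rw [Units.val_mul, Units.val_mul (x * x), h3]
  simp

end matrix

end Cfsg.Agent.Omega.TwoF.RkLin
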