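import Cfsg.Agent.Omega.TwoF.Defs
import Cfsg.Agent.Omega.TwoF.RkLin
import Cfsg.Agent.Omega.TwoF.OutSharp

/-!
# The column RK from an inner bound and THEOREM OUT (TABLE 2F)
-/

set_option autoImplicit false

namespace Cfsg.Agent.Omega.TwoF.Out

open Subgroup

/-- Inner part and outer part. -/
theorem rk_of_out {K : Type*} [Group K] [Finite K] {b c : ℕ}
    (hb : ∀ E : Subgroup K, (∀ x ∈ E, x * x = 1) → Nat.card E ≤ 2 ^ b) (hZ : center K = ⊥)
    (hc : OutRk K c) : Omega.TwoF.RK K (b + c) := by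
  intro A hA
  have h1 := hc A fun a ha => by rw [← pow_two]; exact hA a ha
  have hinj : Function.Injective (MulAut.conj : K →* MulAut K) := by
    rw [injective_iff_map_eq_one]
    intro g hg
    rw [← mem_bot, ← hZ, mem_center_iff]
    intro x
    have h2 := DFunLike.congr_fun hg x
    simp only [MulAut.conj_apply, MulAut.one_apply] at h2
    exact (mul_inv_eq_iff_eq_mul.1 h2).symm
  set E : Subgroup K := A.comap (MulAut.conj : K →* MulAut K) with hE
  have h2 : E.map (MulAut.conj : K →* MulAut K) = A ⊓ (MulAut.conj : K →* MulAut K).range := by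
    rw [hE, Subgroup.map_comap_eq, inf_comm]
  have h3 : Nat.card (A ⊓ (MulAut.conj : K →* MulAut K).range : Subgroup (MulAut K)) = Nat.card E := by
    rw [← h2]
    exact (Nat.card_congr (E.equivMapOfInjective _ hinj).toEquiv).symm
  have h4 : Nat.card E ≤ 2 ^ b := by
    refine hb E fun x hx => hinj ?_
    rw [map_mul, map_one, ← pow_two]
    exact hA _ hx
  rw [h3] at h1
  calc Nat.card A ≤ 2 ^ c * Nat.card E := h1
    _ ≤ 2 ^ c * 2 ^ b := Nat.mul_le_mul_left _ h4
    _ = 2 ^ (b + c) := by rw [← pow_add, add_comm]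

/-- The 2-rank of a linear group without scalars. -/
theorem card_le_of_linear {K : Type*} [Group K] [Finite K] {F ι : Type*} [Field F] [Fintype ι] [DecidableEq ι]
    (h2 : (2 : F) ≠ 0) {n : ℕ} (hι : Fintype.card ι = n) (hn : 1 ≤ n) (f : K →* GL ι F)
    (hf : Function.Injective f) (hZ : center K = ⊥) (E : Subgroup K) (hE : ∀ x ∈ E, x * x = 1) :
    Nat.card E ≤ 2 ^ RkLin.rk n := by
  refine RkLin.card_le_matrix h2 hι hn (fun e : E => f e) ?_ (fun a => Subtype.ext (hE a.1 a.2)) ?_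
  · intro a b
    refine ⟨1, ?_⟩
    rw [one_smul, ← Units.val_mul, ← map_mul]
    rfl
  · rintro a ⟨c, hc⟩
    apply Subtype.ext
    rw [Subgroup.coe_one, ← mem_bot, ← hZ, mem_center_iff]
    intro g
    apply hf
    apply Units.ext
    rw [map_mul, map_mul, Units.val_mul, Units.val_mul, hc]
    simp

/-- The centre of a group with a (B, N)-pair as in THEOREM OUT is trivial. -/
theorem center_eq_bot {K : Type*} [Group K] (P : Cfsg.BNPair K) (U : Subgroup K) (hcore : P.B.normalCore = ⊥)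
    (hUB : U ≤ P.B) (hBU : ∀ b ∈ P.B, ∀ u ∈ U, b * u * b⁻¹ ∈ U)
    (hloc : ∀ s ∈ P.S, ∃ V : Subgroup K, Schreier.BNSch.Node P U s V) : center K = ⊥ := by
  have hB : Subgroup.normalizer (U : Set K) = P.B := by
    refine Schreier.BNSch.normalizer_eq P _ hUB hBU fun s hs => ?_
    obtain ⟨V, hV⟩ := hloc s hs
    obtain ⟨u, hu, huV⟩ := hV.ne
    exact ⟨u, hu, fun h => huV (hV.stab u hu h)⟩
  have h1 : center K ≤ P.B := by
    rw [← hB]
    intro z hz
    rw [Subgroup.mem_normalizer_iff]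
    intro u
    have h2 : z * u * z⁻¹ = u := by
      rw [← mem_center_iff.1 hz u, mul_inv_cancel_right]
    rw [h2]
  rw [← le_bot_iff, ← hcore]
  exact (Subgroup.normal_le_normalCore (H := P.B)).2 h1

/-- **The column RK of a linear group with a (B, N)-pair, crude form.** -/
theorem rk_of_bn {K : Type*} [Group K] [Finite K] (P : Cfsg.BNPair K) {p : ℕ} [hp : Fact p.Prime] (hp2 : p ≠ 2)
    (U : Subgroup K) (hUp : IsPGroup p U) (hcore : P.B.normalCore = ⊥)
    (hUB : U ≤ P.B) (hBU : ∀ b ∈ P.B, ∀ u ∈ U, b * u * b⁻¹ ∈ U)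
    (hUN : ∀ b ∈ P.B, ∃ u ∈ U, u⁻¹ * b ∈ P.N)
    (m : ℕ) (hm : ¬ p ∣ m) (hH : ∀ h ∈ P.B, h ∈ P.N → h ^ m = 1) (k : ℕ)
    (hloc : ∀ s ∈ P.S, ∃ V : Subgroup K, Schreier.BNSch.Node P U s V ∧ NodeRk P U s V k)
    {F ι : Type*} [Field F] [Fintype ι] [DecidableEq ι]
    (h2 : (2 : F) ≠ 0) {n : ℕ} (hι : Fintype.card ι = n) (hn : 1 ≤ n) (f : K →* GL ι F)
    (hf : Function.Injective f) {l : ℕ} (hl : Nat.card P.S ≤ l) :
    Omega.TwoF.RK K (RkLin.rk n + (k * l + padicValNat 2 l.factorial)) := by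
  have hZ := center_eq_bot P U hcore hUB hBU fun s hs => ⟨_, (hloc s hs).choose_spec.1⟩
  refine rk_of_out (card_le_of_linear h2 hι hn f hf hZ) hZ
    ((outRk' P hp2 U hUp hcore hUB hBU hUN m hm hH k hloc).mono ?_)
  refine Nat.add_le_add (Nat.mul_le_mul_left _ hl) ?_
  have : Fact (Nat.Prime 2) := ⟨Nat.prime_two⟩
  exact (padicValNat_dvd_iff_le (Nat.factorial_ne_zero l)).1 (pow_padicValNat_dvd.trans
    (Nat.factorial_dvd_factorial hl))

end Cfsg.Agent.Omega.TwoF.Out
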