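import Cfsg.Agent.Schreier.ThreeD4
import Cfsg.Agent.Omega.TwoF.OutUse

/-!
# TABLE 2F, row ³D₄(q), `q` odd, column RK: elementary abelian 2-groups of automorphisms have order at most `2 ^ 32`

Crude form of THEOREM OUT (`Out.rk_of_bn`) with the nodes of `Schreier.ThreeD4`.
-/

set_option autoImplicit false

namespace Cfsg.Agent.Omega.TwoF.TwD4Rk

open Cfsg Cfsg.Lie
open Cfsg.Agent.Omega.TwoF.Out
open Cfsg.Agent.Schreier.ThreeD4
open Cfsg.Agent.Schreier.Basic Cfsg.Agent.Schreier.Tools Cfsg.Agent.Schreier.BNSch Cfsg.Agent.Schreier.BNUse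
open Cfsg.Agent.ChevalleyStructure.D4Fixed (sig coe_sig fix mem_fix twisted_le_fix twisted_induction)
open Cfsg.Agent.ChevalleyStructure.D4Cols (xU coe_xU wU)
open Cfsg.Agent.ChevalleyStructure
open Cfsg.Agent.ChevalleyStructure.D4Comm
open Cfsg.Agent.ChevalleyStructure.D4CommTab
open Cfsg.Agent.ChevalleyStructure.D4Pos
open Cfsg.Agent.ChevalleyStructure.D4NCheck
open Cfsg.Agent.ChevalleyStructure.D4NConj (nR nR_def nG nG_conj nG_def hR hR_def nR_eq nR_inv xG_inv torG torG_conj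
  torG_mul torG_one chi chi_def chi_ne_zero dv_def hR_eq_torG)
open Cfsg.Agent.ChevalleyStructure.SparseHDiag (cartanRS)
open Cfsg.Agent.ChevalleyStructure.TwistedU
open Cfsg.Agent.ChevalleyStructure.D4U
open Cfsg.Agent.ChevalleyStructure.D4RGD
open Cfsg.Agent.ChevalleyStructure.D4Twisted
open scoped commutatorElement

section Twisted
variable {K : Type*} [Field K] {q : ℕ} {φ : K →+* K}

theorem rk_aux [Finite K] (hφ : ∀ x, φ x = x ^ q) (hle : twistedD4 K q ≤ fix φ) {p : ℕ} [Fact p.Prime]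
    (hp2 : p ≠ 2) (h2 : (2 : K) ≠ 0)
    (hUp : IsPGroup p ((chevD4.posUnipotent K).subgroupOf (twistedD4 K q))) (hcop : ¬ p ∣ Nat.card K - 1)
    (hfin : Finite (twistedD4 K q)) (hsimple : IsSimpleGroup (twistedD4 K q)) :
    Omega.TwoF.RK (twistedD4 K q) 32 := by
  obtain ⟨P, hPB, hPN, hPS⟩ := exists_bnPair_aux hφ hle
  let U : Subgroup ↥(twistedD4 K q) := (chevD4.posUnipotent K).subgroupOf (twistedD4 K q)
  let H : Subgroup ↥(twistedD4 K q) := (chevD4.diagonalSubgroup K).subgroupOf (twistedD4 K q)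
  have memB : ∀ g : ↥(twistedD4 K q), g ∈ P.B ↔ (g : GL chevD4.Idx K) ∈ chevD4.borelSubgroup K := by
    intro g
    rw [hPB, Subgroup.mem_subgroupOf, Subgroup.mem_inf]
    exact ⟨fun h => h.1, fun h => ⟨h, g.2⟩⟩
  have memN : ∀ g : ↥(twistedD4 K q), g ∈ P.N ↔ (g : GL chevD4.Idx K) ∈ chevD4.monomialSubgroup K := by
    intro g
    rw [hPN, Subgroup.mem_subgroupOf, Subgroup.mem_inf]
    exact ⟨fun h => h.1, fun h => ⟨h, g.2⟩⟩
  have hBUH : ∀ b ∈ P.B, ∃ u ∈ U, ∃ h ∈ H, b = u * h := by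
    intro b hb
    obtain ⟨u, hu, huG, h, hh, hhG, e⟩ := ((tdata hφ hle).mem_B_iff (b : GL chevD4.Idx K) b.2).1 ((memB b).1 hb)
    exact ⟨⟨u, huG⟩, hu, ⟨h, hhG⟩, hh, Subtype.ext e⟩
  have hUB : U ≤ P.B := fun u hu => (memB u).2 (Subgroup.mem_sup_left hu)
  have hHB : H ≤ P.B := fun h hh => (memB h).2 (Subgroup.mem_sup_right hh)
  have hHU : ∀ h ∈ H, ∀ u ∈ U, h * u * h⁻¹ ∈ U := fun h hh u hu => (tdata hφ hle).conj_H_U h hh u hu
  have hBU : ∀ b ∈ P.B, ∀ u ∈ U, b * u * b⁻¹ ∈ U := by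
    intro b hb u hu
    obtain ⟨v, hv, h, hh, rfl⟩ := hBUH b hb
    have e : v * h * u * (v * h)⁻¹ = v * (h * u * h⁻¹) * v⁻¹ := by group
    rw [e]
    exact mul_mem (mul_mem hv (hHU h hh u hu)) (inv_mem hv)
  have hfix : ∀ g : ↥(twistedD4 K q), (g : GL chevD4.Idx K) ∈ fix φ := fun g => hle g.2
  have hXfix : ∀ t : K, D4Fixed.X φ t ∈ fix φ := fun t => hle (D4Fixed.X_mem hφ t)
  have hcS : Nat.card P.S ≤ 2 := by
    rw [hPS, Nat.card_coe_set_eq]
    exact (Set.ncard_insert_le _ _).trans (by rw [Set.ncard_singleton])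
  have hι : Fintype.card chevD4.Idx = 28 := by
    show Fintype.card (Fin chevD4.rank ⊕ Fin chevD4.nroots) = 28
    rw [Fintype.card_sum, Fintype.card_fin, Fintype.card_fin]
    decide +kernel
  refine (rk_of_bn P hp2 U hUp (core_eq_bot P (by rw [hPS]; exact ⟨_, Or.inl rfl⟩)) hUB hBU ?_ (Nat.card K - 1)
    hcop ?_ 2 ?_ h2 hι (by norm_num) (twistedD4 K q).subtype (twistedD4 K q).subtype_injective hcS).mono ?_
  · intro b hb
    obtain ⟨u, hu, h, hh, rfl⟩ := hBUH b hb
    refine ⟨u, hu, ?_⟩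
    rw [inv_mul_cancel_left, memN]
    exact diagonal_le_monomial K hh
  · intro h hh hn
    have h1 : (h : GL chevD4.Idx K) ∈ chevD4.diagonalSubgroup K := by
      rw [← borel_inf_monomial]
      exact ⟨(memB h).1 hh, (memN h).1 hn⟩
    apply Subtype.ext
    exact pow_card_sub_one h1
  · intro s hs
    rw [hPS] at hs
    rcases hs with rfl | hs
    · -- the node `{p₂}`
      let F : Subfield K := RingHom.eqLocusField φ (RingHom.id K)
      have hF : ∀ t : F, φ t = t := fun t => t.2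
      have key := nodeRk_of_field P U H ((RS K ordA.tail).subgroupOf (twistedD4 K q)) (nA hφ) hBUH hHB
        (F := F) (fun t => ⟨xG 14 (t : K), xG14_mem hφ (hF t)⟩) ?_ ?_ ?_ ?_ ?_ ?_ ?_ ?_ ?_ ?_ ?_
      · exact ⟨_, key.1, key.2.1⟩
      · intro t
        exact RS14_le_U (mem_rspan xG (S := {k | k ∈ [14]}) (by simp) _)
      · intro t t'
        apply Subtype.ext
        exact xG_add 14 (t : K) (t' : K)
      · intro v hv
        exact tail_le_U hv
      · intro u hu
        obtain ⟨v, hv, t, ht, e⟩ := decomp_a φ (u := (u : GL chevD4.Idx K)) hu (hfix u)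
        have hvG : v ∈ twistedD4 K q := by
          have e2 : v = (u : GL chevD4.Idx K) * (xG 14 t)⁻¹ := by rw [e]; group
          rw [e2]
          exact mul_mem u.2 (inv_mem (xG14_mem hφ ht))
        exact ⟨⟨v, hvG⟩, hv, ⟨t, ht⟩, Subtype.ext e⟩
      · intro t v hv
        exact conj_mem_RS (r := 14) (l := ordA.tail) (by decide +kernel) (t : K) hv
      · intro h hh v hv
        exact diag_conj_RS (l := ordA.tail) (by decide) hh hv
      · intro v hv
        exact na_inv_RS K (l := ordA.tail) (l' := ordA.tail) (by decide +kernel) hv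
      · intro v hv
        exact hUB (tail_le_U hv)
      · intro t ht
        apply Subtype.ext
        exact xa_eq_zero ((memB _).1 ht)
      · intro h hh
        obtain ⟨c, hc, e⟩ := H_conj_a (φ := φ) hh (hfix h)
        exact ⟨⟨c, hc⟩, fun t => Subtype.ext (e t)⟩
      · intro c hc
        have hc' : (c : K) ≠ 0 := fun h => hc (Subtype.ext h)
        refine ⟨⟨hR 14 (c : K), h14_mem hφ (hF c)⟩, hR_mem (by norm_num) hc', Subtype.ext ?_⟩
        exact sq_a hc'
    · -- the node `{p₁, p₃, p₄}`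
      have hs' : s = nB hφ := hs
      subst hs'
      have key := nodeRk_of_field P U H ((RS K (ordB.drop 3)).subgroupOf (twistedD4 K q)) (nB hφ) hBUH hHB
        (F := K) (fun t => ⟨D4Fixed.X φ t, D4Fixed.X_mem hφ t⟩) ?_ ?_ ?_ ?_ ?_ ?_ ?_ ?_ ?_ ?_ ?_
      · exact ⟨_, key.1, key.2.1⟩
      · intro t
        exact RSouter_le_U (X_mem_RS t)
      · intro t t'
        apply Subtype.ext
        exact X_add t t'
      · intro v hv
        exact drop_le_U hv
      · intro u hu
        obtain ⟨v, hv, t, e⟩ := decomp_b φ (u := (u : GL chevD4.Idx K)) hu (hfix u)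
        have hvG : v ∈ twistedD4 K q := by
          have e2 : v = (u : GL chevD4.Idx K) * (D4Fixed.X φ t)⁻¹ := by rw [e]; group
          rw [e2]
          exact mul_mem u.2 (inv_mem (D4Fixed.X_mem hφ t))
        exact ⟨⟨v, hvG⟩, hv, t, Subtype.ext e⟩
      · intro t v hv
        show D4Fixed.X φ t * (v : GL chevD4.Idx K) * (D4Fixed.X φ t)⁻¹ ∈ RS K (ordB.drop 3)
        have h12 := conj_mem_RS (r := 12) (l := ordB.drop 3) (by decide +kernel) (φ (φ t)) hv
        have h13 := conj_mem_RS (r := 13) (l := ordB.drop 3) (by decide +kernel) (φ t) h12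
        have h18 := conj_mem_RS (r := 18) (l := ordB.drop 3) (by decide +kernel) t h13
        have e : D4Fixed.X φ t * (v : GL chevD4.Idx K) * (D4Fixed.X φ t)⁻¹ =
            xG 18 t * (xG 13 (φ t) * (xG 12 (φ (φ t)) * (v : GL chevD4.Idx K) * (xG 12 (φ (φ t)))⁻¹) *
              (xG 13 (φ t))⁻¹) * (xG 18 t)⁻¹ := by
          unfold D4Fixed.X
          rw [xU_eq, xU_eq, xU_eq]
          group
        rw [e]
        exact h18
      · intro h hh v hv
        exact diag_conj_RS (l := ordB.drop 3) (by decide) hh hv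
      · intro v hv
        exact nb_inv_RS K (l := ordB.drop 3) (l' := ordB.drop 3) (by decide +kernel) hv
      · intro v hv
        exact hUB (drop_le_U hv)
      · intro t ht
        exact xb_eq_zero ((memB _).1 ht)
      · intro h hh
        obtain ⟨c, e⟩ := H_conj_b (φ := φ) hh (hfix h) hXfix
        exact ⟨c, fun t => Subtype.ext (e t)⟩
      · intro c hc
        refine ⟨⟨hb φ c, hb_mem hφ c⟩, hb_mem_diagonal φ hc, Subtype.ext ?_⟩
        exact sq_b hc

  · have e1 : padicValNat 2 (Nat.factorial 2) = 1 := by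
      rw [Nat.factorial_two]
      exact padicValNat.self (by norm_num)
    have e2 : RkLin.rk 28 = 27 := by decide
    rw [e1, e2]

end Twisted

/-- **RK of ³D₄(q)**, `q` odd. -/
theorem rk {K : Type*} [Field K] [Fintype K] {q : ℕ} (hq : IsPrimePow q) (hK : Fintype.card K = q ^ 3)
    (h2 : (2 : K) ≠ 0) (hfin : Finite (twistedD4 K q)) (hsimple : IsSimpleGroup (twistedD4 K q)) :
    Omega.TwoF.RK (twistedD4 K q) 32 := by
  obtain ⟨φ, hφ⟩ := D4Fixed.exists_frob hq hK
  have hle := twisted_le_fix hK hφ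
  have hcard := card_U1 hq hK
  obtain ⟨p, k, hp, hk, rfl⟩ := (isPrimePow_nat_iff _).1 hq
  have : Fact p.Prime := ⟨hp⟩
  have hp2 : p ≠ 2 := by
    rintro rfl
    apply h2
    have h3 : ((Fintype.card K : ℕ) : K) = 0 := FiniteField.cast_card_eq_zero K
    rw [hK, ← pow_mul] at h3
    push_cast at h3
    exact (pow_eq_zero_iff (by positivity)).1 h3
  refine rk_aux (p := p) hφ hle hp2 h2 ?_ ?_ hfin hsimple
  · apply IsPGroup.of_card (n := k * 12)
    have h1 : Nat.card ((chevD4.posUnipotent K).subgroupOf (twistedD4 K (p ^ k))) =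
        Nat.card ↥(chevD4.posUnipotent K ⊓ twistedD4 K (p ^ k)) := by
      rw [← Subgroup.inf_subgroupOf_right]
      exact Nat.card_congr (Subgroup.subgroupOfEquivOfLe inf_le_right).toEquiv
    rw [h1, hcard, pow_mul]
  · rw [Nat.card_eq_fintype_card, hK, ← pow_mul]
    intro h
    have h2 : p ∣ p ^ (k * 3) := dvd_pow_self p (by positivity)
    have h3 : p ∣ 1 := by
      have h4 : 1 ≤ p ^ (k * 3) := Nat.one_le_pow _ _ hp.pos
      have := (Nat.dvd_sub h2 h)
      rwa [Nat.sub_sub_self h4] at this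
    exact hp.one_lt.ne' (Nat.dvd_one.1 h3)

end Cfsg.Agent.Omega.TwoF.TwD4Rk
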