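import Cfsg.Agent.Omega.KFacts
import Cfsg.Agent.Omega.TwoF.RowLU
import Cfsg.Agent.Omega.TwoF.RowPSp
import Cfsg.Agent.Omega.TwoF.RowM11
import Cfsg.Agent.Omega.TwoF.RowM12
import Cfsg.Agent.Omega.TwoF.RowM23
import Cfsg.Agent.Omega.TwoF.RowM24
import Cfsg.Agent.Omega.TwoF.RowJ1
import Cfsg.Agent.Omega.TwoF.RowJ4
import Cfsg.Agent.Omega.TwoF.RowRu
import Cfsg.Agent.Omega.TwoF.RowLy
import Cfsg.Agent.Omega.TwoF.RowFi
import Cfsg.Agent.Omega.TwoF.RowCo3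
import Cfsg.Agent.Omega.TwoF.RowJ3
import Cfsg.Agent.Omega.TwoF.RowHN
import Cfsg.Agent.Omega.TwoF.RowTh
import Cfsg.Agent.Omega.TwoF.RowHS
import Cfsg.Agent.Omega.TwoF.RowHe
import Cfsg.Agent.Omega.TwoF.RowJ2
import Cfsg.Agent.Omega.TwoF.RowTits
import Cfsg.Agent.Omega.TwoF.RowONEnd
import Cfsg.Agent.Omega.TwoF.RowSuz
import Cfsg.Agent.Omega.TwoF.RowCo2
import Cfsg.Agent.Omega.TwoF.RowCo1LB
import Cfsg.Agent.Omega.TwoF.CoRank.Main
import Cfsg.Agent.Omega.TwoF.RowMcL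
import Cfsg.Agent.Omega.TwoF.RowOrth
import Cfsg.Agent.Omega.TwoF.RowExc
import Cfsg.Agent.Omega.TwoF.RowB
import Cfsg.Agent.Omega.TwoF.RowM
import Cfsg.Agent.Omega.TwoF.RowGTwo
import Cfsg.Agent.Omega.TwoF.RowRee
import Cfsg.Agent.Omega.TwoF.RowTwD4
import Cfsg.Agent.Omega.TwoF.RowTwE6
import Cfsg.Agent.Omega.TwoF.AltRow
import Cfsg.Agent.Omega.AltRow.Small

/-!
# TABLE 2F (`q = 2`)

`rows : KFacts.Rows2`, all 38 rows.
-/

set_option autoImplicit false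

namespace Cfsg.Agent.Omega.TwoF.RowsDone

open Cfsg Cfsg.Lie Cfsg.Agent.Omega.KFacts Cfsg.Agent.Omega.TwoF Cfsg.Agent.Omega.EH3

universe u

/-- The row `G₂(q)`, `q` odd. -/
theorem row_G2 (F : Type) [Field F] [Fintype F] (h2 : (2 : F) ≠ 0) : RowEH3.{u} (chevG2.group F) := by
  obtain ⟨p, hp⟩ := CharP.exists F
  have hprime : p.Prime := (CharP.char_is_prime_or_zero F p).resolve_right fun h0 => by
    subst h0
    have := CharP.charP_to_charZero F
    exact not_finite F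
  have hp2 : p ≠ 2 := fun h => h2 (by
    subst h
    exact_mod_cast CharP.cast_eq_zero F 2)
  have : Fact p.Prime := ⟨hprime⟩
  exact RowEH3.of_kill (RowGTwo.kill2.{u, 0} (F := F) (p := p) hp2)

/-- The rows `²E₆(q)`, `³D₄(q)`, `q` odd. -/
theorem row_twisted : Row.{u} fun K _ => OddChar @IsTwistedE6D4Char K :=
  RowTwD4.twisted_of_row fun K _ h => by
    obtain ⟨F, _, _, q, hq, h2, hF, ⟨e⟩⟩ := h
    exact (RowTwE6.row hq hF h2).equiv e

/-- **TABLE 2F.** -/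
theorem rows : Rows2.{u} where
  alt := fun n h5 _ => (le_total n 9).elim (fun h => Cfsg.Agent.Omega.AltRow.row_small h5 h)
    fun h => RowEH3.of_kill (Cfsg.Agent.Omega.TwoF.AltRow.kill_nine h)
  psl := RowLU.psl
  psp := RowPSp.row
  psu := RowLU.psu
  u43 := RowLU.u43
  omOdd := RowOrth.omOdd
  omPlus := RowOrth.omPlus
  omMinus := RowOrth.omMinus
  chev := fun K _ h => RowExc.chev_of_G2 row_G2 K h.1
  twisted := row_twisted
  ree := RowRee.row.toRow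
  tits := fun _ _ h => RowTits.row h
  m11 := RowM11.row.toRow
  m12 := RowM12.row.toRow
  m22 := RowM23.row22
  m23 := RowM23.row23.toRow
  m24 := KillRow.toRow RowM24.row
  j1 := RowJ1.row.toRow
  j2 := RowJ2.row.toRow
  j3 := RowJ3.row.toRow
  j4 := KillRow.toRow RowJ4.row
  co1 := fun _ _ h => ⟨Or.inr (LB.of_heis (RowCo1LB.lb_of_iso h)).lbs, CoRank.Main.rk_of_iso h, rfl⟩
  co2 := RowCo2.co2
  co3 := fun K _ h => by
    have hs := (Cfsg.Agent.OddHalf.D8.RowCo3.card_of h).1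
    exact RowEH3.of_dead (Cfsg.Agent.OddHalf.D8.RowCo3.center_bot h) (RowCo3.dead h)
  mcl := RowMcL.row.toRow
  hs := KillRow.toRow RowHS.row
  suz := RowSuz.row.toRow
  he := RowHe.row.toRow
  ru := RowRu.row.toRow
  on := RowON.row.toRow
  ly := RowLy.row.toRow
  fi22 := RowFi.row_fi22.toRow
  fi23 := RowFi.row_fi23.toRow
  fi24 := RowFi.row_fi24.toRow
  hn := KillRow.toRow RowHN.row
  th := RowTh.row.toRow
  b := RowB.row.toRow
  m := RowM.row.toRow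

end Cfsg.Agent.Omega.TwoF.RowsDone
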