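import Cfsg.Agent.Omega.TwoF.RowTool
import Cfsg.Agent.Lib.NormalAbelian

/-!
# TABLE 2F: the counting kill (helper416)

`K` with trivial centre, `|Out K|₂ ≤ 2`, `z` the only involution of the centre of a Sylow 2-subgroup `S₀` of `K`, and
`m_2(Aut K) ≤ a`. In the configuration `Conf2` the image `X'` of `X` in `K` is normalised by a Sylow 2-subgroup, so it
contains a conjugate `y` of `z`; the stabiliser of the vector normalises `X'`, so it contains at least a fraction
`1 / (|X'| - 1)` of its elements in `C_K(y)`. Hence `|K : C_K(z)| ≤ (|V| - 1)(|X'| - 1) < 2 ^ (3 a + 2)`.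
-/

set_option autoImplicit false

namespace Cfsg.Agent.Omega.TwoF.Count

open Subgroup

open scoped Pointwise

universe u v

section Rho

variable {H : Type*} [Group H] {L : Subgroup H} {K : Type*} [Group K] {π : L →* K} {ρ : H →* MulAut K}

/-- on `L` the homomorphism `ρ` is conjugation -/
theorem rho_coe [L.Normal] (h : OddCover π) (hρ : ∀ (x : H) (l l' : L), (l' : H) = x * l * x⁻¹ → ρ x (π l) = π l')
    (l : L) : ρ (l : H) = MulAut.conj (π l) := by
  ext k
  obtain ⟨m, rfl⟩ := h.surj k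
  rw [hρ l m (l * m * l⁻¹) (by simp), MulAut.conj_apply, map_mul, map_mul, map_inv]

/-- elements acting trivially on `K` centralise `L` -/
theorem mem_centralizer_of_rho [L.Normal] (h : OddCover π) (hK : center K = ⊥)
    (hρ : ∀ (x : H) (l l' : L), (l' : H) = x * l * x⁻¹ → ρ x (π l) = π l') {x : H} (hx : ρ x = 1) :
    x ∈ centralizer (L : Set H) := by
  have hcomm : ∀ l : L, ∃ z ∈ center L, (x : H) * l * (x : H)⁻¹ = l * z := by
    intro l
    have h1 := hρ x l ⟨(x : H) * l * (x : H)⁻¹, Normal.conj_mem inferInstance _ l.2 _⟩ rfl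
    rw [hx, MulAut.one_apply] at h1
    refine ⟨l⁻¹ * ⟨(x : H) * l * (x : H)⁻¹, Normal.conj_mem inferInstance _ l.2 _⟩, ?_, ?_⟩
    · rw [← h.ker_eq hK, MonoidHom.mem_ker, map_mul, map_inv, ← h1, inv_mul_cancel]
    · simp
  choose z hz hz' using hcomm
  have hzmul : ∀ l m : L, z (l * m) = z l * z m := by
    intro l m
    apply Subtype.ext
    have e1 := hz' (l * m)
    have e2 := hz' l
    have e3 := hz' m
    have e4 := mem_center_iff.mp (hz l) m
    have e4' : (m : H) * (z l : H) = (z l : H) * (m : H) := congrArg Subtype.val e4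
    push_cast at e1 ⊢
    have e5 : (x : H) * ((l : H) * m) * (x : H)⁻¹ = ((x : H) * l * (x : H)⁻¹) * ((x : H) * m * (x : H)⁻¹) := by
      group
    rw [e5, e2, e3] at e1
    have e6 : (l : H) * (z l : H) * ((m : H) * (z m : H)) = (l : H) * (m : H) * ((z l : H) * (z m : H)) := by
      rw [mul_assoc, ← mul_assoc (z l : H), ← e4', mul_assoc (m : H), ← mul_assoc (l : H)]
    rw [e6] at e1
    exact (mul_left_cancel e1).symm
  let ζ : L →* center L :=
    { toFun := fun l => ⟨z l, hz l⟩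
      map_one' := by
        apply Subtype.ext
        have := hzmul 1 1
        rw [mul_one] at this
        exact (left_eq_mul.mp this)
      map_mul' := fun l m => Subtype.ext (hzmul l m) }
  have hζ : ∀ l, ζ l = 1 := by
    intro l
    have h1 : commutator L ≤ ζ.ker := by
      rw [_root_.commutator_def, commutator_le]
      intro a _ b _
      have hc : ∀ s t : center L, s * t = t * s := fun s t => Subtype.ext (mem_center_iff.mp t.2 s)
      rw [MonoidHom.mem_ker, map_commutatorElement, commutatorElement_def, hc (ζ a), mul_assoc, mul_assoc]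
      simp
    rw [h.perf] at h1
    exact h1 (mem_top l)
  rw [mem_centralizer_iff]
  intro l hl
  have h1 := hz' ⟨l, hl⟩
  have h2 : z ⟨l, hl⟩ = 1 := congrArg Subtype.val (hζ ⟨l, hl⟩)
  rw [h2] at h1
  simp only [OneMemClass.coe_one, mul_one] at h1
  rw [mul_inv_eq_iff_eq_mul] at h1
  exact h1.symm

end Rho

/-- a Sylow 2-subgroup of a normal subgroup inside a given Sylow 2-subgroup -/
theorem exists_sylow_le {H : Type*} [Group H] [Finite H] (L : Subgroup H) [hL : L.Normal] (S : Sylow 2 H) :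
    ∃ T : Sylow 2 L, ∀ t : L, t ∈ (T : Subgroup L) → (t : H) ∈ (S : Subgroup H) := by
  have : Fact (Nat.Prime 2) := ⟨Nat.prime_two⟩
  obtain ⟨T₀⟩ : Nonempty (Sylow 2 L) := inferInstance
  have h1 : IsPGroup 2 ((T₀ : Subgroup L).map L.subtype) := T₀.isPGroup'.map _
  obtain ⟨S', hS'⟩ := h1.exists_le_sylow
  obtain ⟨g, hg⟩ := MulAction.exists_smul_eq H S' S
  refine ⟨(MulAut.conjNormal g : MulAut L) • T₀, ?_⟩
  intro t ht
  obtain ⟨t₀, ht₀, rfl⟩ := (show t ∈ (MulAut.conjNormal g : MulAut L) • (T₀ : Subgroup L) from ht)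
  rw [← hg]
  refine ⟨(t₀ : H), hS' ⟨t₀, ht₀, rfl⟩, ?_⟩
  rfl

/-- a 2-subgroup normalised by a Sylow 2-subgroup contains a central element -/
theorem exists_central {K : Type*} [Group K] [Finite K] (T : Sylow 2 K) {X : Subgroup K} (hX : IsPGroup 2 X)
    (hne : X ≠ ⊥) (hn : ∀ t ∈ T, ∀ x ∈ X, t * x * t⁻¹ ∈ X) :
    ∃ y ∈ X, y ≠ 1 ∧ y ∈ T ∧ ∀ t ∈ T, t * y = y * t := by
  have : Fact (Nat.Prime 2) := ⟨Nat.prime_two⟩
  have hle : (T : Subgroup K) ≤ normalizer (X : Set K) := by
    intro t ht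
    rw [mem_normalizer_iff]
    intro x
    constructor
    · exact fun hx => hn t ht x hx
    · intro hx
      have := hn t⁻¹ (inv_mem ht) _ hx
      simpa [mul_assoc] using this
  have hXT : X ≤ (T : Subgroup K) := by
    have h1 : IsPGroup 2 ((T : Subgroup K) ⊔ X : Subgroup K) := T.isPGroup'.to_sup_of_normal_right' hX hle
    have h2 : ((T : Subgroup K) ⊔ X : Subgroup K) = T := T.is_maximal' h1 le_sup_left
    rw [← h2]
    exact le_sup_right
  have hnil : Group.IsNilpotent (T : Subgroup K) := T.isPGroup'.isNilpotent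
  have hnorm : (X.subgroupOf (T : Subgroup K)).Normal := ⟨fun x hx t => hn t t.2 x hx⟩
  have hne' : X.subgroupOf (T : Subgroup K) ≠ ⊥ := by
    rw [Ne, subgroupOf_eq_bot, disjoint_iff, inf_eq_left.2 hXT]
    exact hne
  have h3 := Cfsg.Agent.Lib.NormalAbelian.normal_inf_center_ne_bot (X.subgroupOf (T : Subgroup K)) hne'
  obtain ⟨y, hy, hy1⟩ := ((X.subgroupOf (T : Subgroup K) ⊓ center (T : Subgroup K)).bot_or_exists_ne_one).resolve_left h3
  refine ⟨y, hy.1, fun h => hy1 (Subtype.ext h), y.2, fun t ht => ?_⟩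
  exact congrArg Subtype.val (mem_center_iff.1 hy.2 ⟨t, ht⟩)

section Main

variable {K : Type v} [Group K] [Finite K]

/-- the size of `A ∩ Inn K` -/
theorem card_le_two_mul (hout : ¬ 4 ∣ (MulAut.conj : K →* MulAut K).range.index) {A : Subgroup (MulAut K)}
    (hA : IsPGroup 2 A) : Nat.card A ≤ 2 * Nat.card (A ⊓ (MulAut.conj : K →* MulAut K).range : Subgroup (MulAut K)) := by
  have : Fact (Nat.Prime 2) := ⟨Nat.prime_two⟩
  set I := (MulAut.conj : K →* MulAut K).range with hI
  have hn : I.Normal := by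
    refine ⟨?_⟩
    rintro _ ⟨x, rfl⟩ α
    refine ⟨α x, ?_⟩
    ext y
    simp [MulAut.conj_apply]
  have h1 : I.relIndex A ∣ I.index := relIndex_dvd_index_of_normal _ _
  obtain ⟨k, hk⟩ := hA.index (I.subgroupOf A)
  have hk' : I.relIndex A = 2 ^ k := hk
  have hk1 : k ≤ 1 := by
    by_contra hcon
    apply hout
    rw [hk'] at h1
    exact (pow_dvd_pow 2 (by omega : 2 ≤ k)).trans h1
  have h2 : Nat.card (A ⊓ I : Subgroup (MulAut K)) * I.relIndex A = Nat.card A := by
    have h3 := (I.subgroupOf A).card_mul_index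
    rw [← h3]
    congr 1
    rw [← Subgroup.inf_subgroupOf_left, Nat.card_congr (subgroupOfEquivOfLe (inf_le_left : A ⊓ I ≤ A)).toEquiv]
  rw [← h2, hk']
  rcases Nat.lt_or_ge k 1 with h | h
  · have : k = 0 := by omega
    subst this
    rw [pow_zero, mul_one]
    omega
  · have : k = 1 := by omega
    subst this
    rw [pow_one, mul_comm]

/-- a conjugate of `z` in `X` -/
theorem exists_conj {z : K} (hz : ∃ S : Sylow 2 K, ∀ y ∈ S, (∀ x ∈ S, x * y = y * x) → y = 1 ∨ y = z) (T : Sylow 2 K)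
    {X : Subgroup K} (hX : IsPGroup 2 X) (hne : X ≠ ⊥) (hn : ∀ t ∈ T, ∀ x ∈ X, t * x * t⁻¹ ∈ X) :
    ∃ g : K, g * z * g⁻¹ ∈ X := by
  have : Fact (Nat.Prime 2) := ⟨Nat.prime_two⟩
  obtain ⟨y, hyX, hy1, hyT, hyc⟩ := exists_central T hX hne hn
  obtain ⟨S, hS⟩ := hz
  obtain ⟨g, hg⟩ := MulAction.exists_smul_eq K S T
  have hT : ∀ x, x ∈ T ↔ g⁻¹ * x * g ∈ S := by
    intro x
    rw [← hg]
    constructor
    · rintro ⟨s, hs, rfl⟩
      change g⁻¹ * (g * s * g⁻¹) * g ∈ (S : Subgroup K)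
      have : g⁻¹ * (g * s * g⁻¹) * g = s := by group
      rw [this]
      exact hs
    · intro h
      refine ⟨_, h, ?_⟩
      change g * (g⁻¹ * x * g) * g⁻¹ = x
      group
  refine ⟨g, ?_⟩
  have h0 : ∀ x ∈ S, x * (g⁻¹ * y * g) = (g⁻¹ * y * g) * x := by
    intro x hx
    have h1 : g * x * g⁻¹ ∈ T := (hT _).2 (by
      have : g⁻¹ * (g * x * g⁻¹) * g = x := by group
      rwa [this])
    have h2 := hyc _ h1
    calc x * (g⁻¹ * y * g) = g⁻¹ * ((g * x * g⁻¹) * y) * g := by group
      _ = g⁻¹ * (y * (g * x * g⁻¹)) * g := by rw [h2]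
      _ = (g⁻¹ * y * g) * x := by group
  rcases hS (g⁻¹ * y * g) ((hT y).1 hyT) h0 with h | h
  · exact absurd (by
      have : y = g * (g⁻¹ * y * g) * g⁻¹ := by group
      rw [this, h]; group) hy1
  · rw [← h]
    have : g * (g⁻¹ * y * g) * g⁻¹ = y := by group
    rwa [this]

/-- the orbit bound -/
theorem index_le {K : Type*} [Group K] [Finite K] {P X : Subgroup K} {y : K} (hy : y ∈ X) (hy1 : y ≠ 1)
    (hn : ∀ p ∈ P, ∀ x ∈ X, p * x * p⁻¹ ∈ X) :
    (centralizer ({y} : Set K)).index ≤ (Nat.card X - 1) * P.index := by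
  classical
  have h1 : (centralizer ({y} : Set K)).index ≤ (P ⊓ centralizer ({y} : Set K)).index :=
    Nat.le_of_dvd (Nat.pos_of_ne_zero index_ne_zero_of_finite) (index_dvd_of_le inf_le_right)
  have h2 : (P ⊓ centralizer ({y} : Set K)).index = (P ⊓ centralizer ({y} : Set K)).relIndex P * P.index :=
    (relIndex_mul_index inf_le_left).symm
  refine h1.trans ?_
  rw [h2]
  refine Nat.mul_le_mul_right _ ?_
  -- cosets of the centraliser inject into `X \ {1}`
  have h3 : (P ⊓ centralizer ({y} : Set K)).relIndex P = Nat.card (P ⧸ (P ⊓ centralizer ({y} : Set K)).subgroupOf P) := rfl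
  have h4 : Nat.card {x : X // x ≠ 1} = Nat.card X - 1 := by
    let _ := Fintype.ofFinite X
    rw [Nat.card_eq_fintype_card, Nat.card_eq_fintype_card, Fintype.card_subtype_compl, Fintype.card_subtype_eq]
  rw [h3, ← h4]
  let f : (P ⧸ (P ⊓ centralizer ({y} : Set K)).subgroupOf P) → {x : X // x ≠ 1} := fun q =>
    ⟨⟨(q.out : K) * y * (q.out : K)⁻¹, hn _ q.out.2 y hy⟩, fun h => hy1 (by
      have h5 : (q.out : K) * y * (q.out : K)⁻¹ = 1 := congrArg Subtype.val h
      have h6 : y = (q.out : K)⁻¹ * ((q.out : K) * y * (q.out : K)⁻¹) * q.out := by group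
      rw [h6, h5]; group)⟩
  refine Nat.card_le_card_of_injective f ?_
  intro q q' h
  have h5 : (q.out : K) * y * (q.out : K)⁻¹ = (q'.out : K) * y * (q'.out : K)⁻¹ :=
    congrArg (fun w : {x : X // x ≠ 1} => ((w : X) : K)) h
  rw [← QuotientGroup.out_eq' q, ← QuotientGroup.out_eq' q', QuotientGroup.eq, mem_subgroupOf]
  refine ⟨(q.out⁻¹ * q'.out).2, ?_⟩
  refine mem_centralizer_singleton_iff.2 ?_
  change ((q.out : K)⁻¹ * (q'.out : K)) * y = y * ((q.out : K)⁻¹ * (q'.out : K))
  calc ((q.out : K)⁻¹ * (q'.out : K)) * y = (q.out : K)⁻¹ * ((q'.out : K) * y * (q'.out : K)⁻¹) * q'.out := by group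
    _ = (q.out : K)⁻¹ * ((q.out : K) * y * (q.out : K)⁻¹) * q'.out := by rw [← h5]
    _ = y * ((q.out : K)⁻¹ * (q'.out : K)) := by group

/-- the stabiliser of a vector -/
def stab {L V : Type*} [Group L] [Group V] (φ : L →* MulAut V) (a : V) : Subgroup L where
  carrier := {l | φ l a = a}
  one_mem' := by simp
  mul_mem' := fun {x y} (hx : φ x a = a) (hy : φ y a = a) => by
    change φ (x * y) a = a
    rw [map_mul, MulAut.mul_apply, hy, hx]
  inv_mem' := fun {x} (hx : φ x a = a) => by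
    change φ x⁻¹ a = a
    have h1 : φ x⁻¹ (φ x a) = a := by rw [← MulAut.mul_apply, ← map_mul, inv_mul_cancel, map_one, MulAut.one_apply]
    rwa [hx] at h1

theorem index_stab_le {L V : Type*} [Group L] [Group V] [Finite V] (φ : L →* MulAut V) {a : V} (ha : a ≠ 1) :
    (stab φ a).index ≤ Nat.card V - 1 := by
  classical
  have h3 : (stab φ a).index = Nat.card (L ⧸ stab φ a) := rfl
  have h4 : Nat.card {x : V // x ≠ 1} = Nat.card V - 1 := by
    let _ := Fintype.ofFinite V
    rw [Nat.card_eq_fintype_card, Nat.card_eq_fintype_card, Fintype.card_subtype_compl, Fintype.card_subtype_eq]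
  rw [h3, ← h4]
  let f : (L ⧸ stab φ a) → {x : V // x ≠ 1} := fun q =>
    ⟨φ q.out a, fun h => ha ((φ q.out).injective (by rw [h, map_one]))⟩
  refine Nat.card_le_card_of_injective f ?_
  intro q q' h
  have h5 : φ q.out a = φ q'.out a := congrArg Subtype.val h
  rw [← QuotientGroup.out_eq' q, ← QuotientGroup.out_eq' q', QuotientGroup.eq]
  change φ (q.out⁻¹ * q'.out) a = a
  rw [map_mul, MulAut.mul_apply, ← h5, ← MulAut.mul_apply, ← map_mul, inv_mul_cancel, map_one, MulAut.one_apply]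

/-- **The counting kill.** -/
theorem kill2 (hc : center K = ⊥) (hout : ¬ 4 ∣ (MulAut.conj : K →* MulAut K).range.index) {z : K}
    (hz : ∃ S : Sylow 2 K, ∀ y ∈ S, (∀ x ∈ S, x * y = y * x) → y = 1 ∨ y = z) (hz1 : z ≠ 1) {a : ℕ} (hr : RK K a)
    (hn : 2 ^ (3 * a + 2) ≤ (centralizer ({z} : Set K)).index) : Kill2.{u} K := by
  have : Fact (Nat.Prime 2) := ⟨Nat.prime_two⟩
  intro H V _ _ _ _ φ b L X v π hπ h
  have := h.normal
  obtain ⟨ρ, hρ⟩ := hπ.exists_hom hc
  have hρL := rho_coe hπ hρ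
  have hci := RowTool.conj_injective hc
  have hX2 : IsPGroup 2 X := fun x => ⟨1, Subtype.ext (by simpa using h.X_two x x.2)⟩
  -- the image of `X`
  let A : Subgroup (MulAut K) := X.map ρ
  have hinj : ∀ x ∈ X, ρ x = 1 → x = 1 := by
    intro x hx h1
    have h2 : x ∈ X ⊓ centralizer (L : Set H) := ⟨hx, mem_centralizer_of_rho hπ hc hρ h1⟩
    rwa [h.cent, mem_bot] at h2
  have hcardA : Nat.card A = Nat.card X := by
    have hi : Function.Injective (ρ.subgroupMap X) := by
      rw [injective_iff_map_eq_one]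
      intro x hx
      exact Subtype.ext (hinj x x.2 (congrArg Subtype.val hx))
    exact (Nat.card_congr (Equiv.ofBijective _ ⟨hi, ρ.subgroupMap_surjective X⟩)).symm
  have hA2 : IsPGroup 2 A := hX2.map ρ
  -- the subgroup of `K`
  let X' : Subgroup K := A.comap (MulAut.conj : K →* MulAut K)
  have hX'2 : IsPGroup 2 X' := hA2.comap_of_injective _ hci
  have hcardX' : Nat.card X' = Nat.card (A ⊓ (MulAut.conj : K →* MulAut K).range : Subgroup (MulAut K)) := by
    have e : X'.map (MulAut.conj : K →* MulAut K) = A ⊓ (MulAut.conj : K →* MulAut K).range := by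
      rw [Subgroup.map_comap_eq, inf_comm]
    rw [← e]
    exact Nat.card_congr (X'.equivMapOfInjective _ hci).toEquiv
  have hcX : Nat.card X ≤ 2 * Nat.card X' := by
    rw [hcardX', ← hcardA]
    exact card_le_two_mul hout hA2
  have hXX : Nat.card X' ≤ Nat.card X := by
    rw [hcardX', ← hcardA]
    exact Subgroup.card_le_of_le inf_le_left
  have h16 : 16 ≤ Nat.card X := by
    have h1 := h.twelve.trans h.card_le
    by_contra hcon
    push Not at hcon
    have h2 : Nat.card X ^ 2 ≤ 15 ^ 2 := Nat.pow_le_pow_left (by omega) 2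
    omega
  have hne : X' ≠ ⊥ := by
    intro h1
    have h2 : Nat.card X' = 1 := by rw [h1, card_bot]
    omega
  -- conjugation by elements of `L` fixing `v`
  have hnorm : ∀ l : L, φ l v = v → ∀ x ∈ X', π l * x * (π l)⁻¹ ∈ X' := by
    intro l hl x hx
    change MulAut.conj (π l * x * (π l)⁻¹) ∈ A
    obtain ⟨y, hy, hyx⟩ := (show MulAut.conj x ∈ A from hx)
    rw [map_mul, map_mul, map_inv, ← hρL l, ← hyx]
    exact ⟨l * y * (l : H)⁻¹, h.X_norm _ hl y hy, by rw [map_mul, map_mul, map_inv]⟩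
  obtain ⟨S, hS⟩ := h.syl
  obtain ⟨T, hT⟩ := exists_sylow_le L S
  let T' : Sylow 2 K := T.mapSurjective hπ.surj
  obtain ⟨g, hg⟩ := exists_conj hz T' hX'2 hne (by
    rintro _ ⟨t, ht, rfl⟩ x hx
    exact hnorm t (hS t (hT t ht)) x hx)
  -- the stabiliser
  let P : Subgroup K := (stab (φ.comp L.subtype) v).map π
  have h1 := index_le (P := P) hg (fun e => hz1 (by
    have : z = g⁻¹ * (g * z * g⁻¹) * g := by group
    rw [this, e]; group)) (by
    rintro _ ⟨l, hl, rfl⟩ x hx
    exact hnorm l hl x hx)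
  have h2 : (centralizer ({g * z * g⁻¹} : Set K)).index = (centralizer ({z} : Set K)).index := by
    have e : centralizer ({g * z * g⁻¹} : Set K) = (centralizer ({z} : Set K)).map (MulAut.conj g).toMonoidHom := by
      ext x
      rw [mem_centralizer_singleton_iff]
      constructor
      · intro hx
        refine ⟨g⁻¹ * x * g, ?_, ?_⟩
        · rw [SetLike.mem_coe, mem_centralizer_singleton_iff]
          calc g⁻¹ * x * g * z = g⁻¹ * (x * (g * z * g⁻¹)) * g := by group
            _ = g⁻¹ * ((g * z * g⁻¹) * x) * g := by rw [hx]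
            _ = z * (g⁻¹ * x * g) := by group
        · change g * (g⁻¹ * x * g) * g⁻¹ = x
          group
      · rintro ⟨y, hy, rfl⟩
        rw [SetLike.mem_coe, mem_centralizer_singleton_iff] at hy
        change (g * y * g⁻¹) * (g * z * g⁻¹) = (g * z * g⁻¹) * (g * y * g⁻¹)
        calc (g * y * g⁻¹) * (g * z * g⁻¹) = g * (y * z) * g⁻¹ := by group
          _ = g * (z * y) * g⁻¹ := by rw [hy]
          _ = _ := by group
    rw [e]
    exact index_map_equiv _ (MulAut.conj g)
  have h3 : P.index ≤ Nat.card V - 1 :=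
    (Nat.le_of_dvd (Nat.pos_of_ne_zero index_ne_zero_of_finite) (index_map_dvd _ hπ.surj)).trans
      (index_stab_le (φ.comp L.subtype) h.a_ne)
  rw [h2] at h1
  have h4 : Nat.card X ≤ 2 ^ a := hr.card_le hπ hc h.X_two h.cent
  have h5 : Nat.card V ≤ 2 ^ (2 * a + 2) := h.card_le.trans (by
    calc 4 * Nat.card X ^ 2 ≤ 4 * (2 ^ a) ^ 2 := Nat.mul_le_mul_left 4 (Nat.pow_le_pow_left h4 2)
      _ = 2 ^ (2 * a + 2) := by ring)
  have h6 : (centralizer ({z} : Set K)).index < 2 ^ (3 * a + 2) := by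
    have hp : 0 < Nat.card V := Nat.card_pos
    have hp' : 0 < Nat.card X' := Nat.card_pos
    calc (centralizer ({z} : Set K)).index ≤ (Nat.card X' - 1) * P.index := h1
      _ ≤ (Nat.card X' - 1) * (Nat.card V - 1) := Nat.mul_le_mul_left _ h3
      _ ≤ 2 ^ a * (Nat.card V - 1) := Nat.mul_le_mul_right _ (by omega)
      _ < 2 ^ a * Nat.card V := Nat.mul_lt_mul_of_pos_left (by omega) (by positivity)
      _ ≤ 2 ^ a * 2 ^ (2 * a + 2) := Nat.mul_le_mul_left _ h5
      _ = 2 ^ (3 * a + 2) := by rw [← pow_add]; congr 1; omega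
  omega

end Main

end Cfsg.Agent.Omega.TwoF.Count
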