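import Cfsg.Agent.Omega.TwoF.RkChev

/-!
# The column RK of TABLE 2F for the Chevalley groups given by tables: numbers
-/

set_option autoImplicit false

namespace Cfsg.Agent.Omega.TwoF.RkChev

open Cfsg Cfsg.Lie Cfsg.Agent.ChevalleyStructure Cfsg.Agent.ChevalleyStructure.Elts
  Cfsg.Agent.ChevalleyStructure.NConj Cfsg.Agent.ChevalleyStructure.BNChev Cfsg.Agent.S1042

universe u

theorem padic_two (n k : ℕ) (h0 : n ≠ 0) (h1 : ¬ 2 ^ (k + 1) ∣ n) : padicValNat 2 n ≤ k := by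
  have : Fact (Nat.Prime 2) := ⟨Nat.prime_two⟩
  by_contra hcon
  exact h1 ((padicValNat_dvd_iff_le h0).2 (by omega))

theorem card_idx (D : ChevalleyDatum) (N : ℕ) {r n : ℕ} (hr : D.rank = r) (hn : D.nroots = n) (h : r + n = N) :
    Fintype.card D.Idx = N := by
  subst hr hn h
  show Fintype.card (Fin D.rank ⊕ Fin D.nroots) = _
  rw [Fintype.card_sum, Fintype.card_fin, Fintype.card_fin]

theorem rk_of {D : ChevalleyDatum} (hD : InList D) (F : Type u) [Field F] [Finite F]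
    [IsSimpleGroup ↥(D.group F)] (h2 : (2 : F) ≠ 0) {N r k a : ℕ} (hN : Fintype.card D.Idx = N) (hr : D.rank = r)
    (hk : ¬ 2 ^ (k + 1) ∣ r.factorial) (ha : RkLin.rk N + 2 * r + k ≤ a) :
    Omega.TwoF.RK ↥(D.group F) a := by
  subst hN hr
  refine (rk F hD h2).mono (le_trans ?_ ha)
  have := padic_two _ k (Nat.factorial_ne_zero _) hk
  omega

variable (F : Type u) [Field F] [Finite F] (h2 : (2 : F) ≠ 0)
include h2

theorem rk_g2 [IsSimpleGroup ↥(chevG2.group F)] : Omega.TwoF.RK ↥(chevG2.group F) 18 :=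
  rk_of (D := chevG2) (by simp [InList]) F h2 (N := 14) (r := 2) (k := 1) (card_idx _ _ rfl rfl rfl) rfl (by decide) (by decide)

theorem rk_f4 [IsSimpleGroup ↥(chevF4.group F)] : Omega.TwoF.RK ↥(chevF4.group F) 62 :=
  rk_of (D := chevF4) (by simp [InList]) F h2 (N := 52) (r := 4) (k := 3) (card_idx _ _ rfl rfl rfl) rfl (by decide) (by decide)

theorem rk_e6 [IsSimpleGroup ↥(chevE6.group F)] : Omega.TwoF.RK ↥(chevE6.group F) 93 :=
  rk_of (D := chevE6) (by simp [InList]) F h2 (N := 78) (r := 6) (k := 4) (card_idx _ _ rfl rfl rfl) rfl (by decide) (by decide)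

theorem rk_e7 [IsSimpleGroup ↥(chevE7.group F)] : Omega.TwoF.RK ↥(chevE7.group F) 150 :=
  rk_of (D := chevE7) (by simp [InList]) F h2 (N := 133) (r := 7) (k := 4) (card_idx _ _ rfl rfl rfl) rfl (by decide) (by decide)

theorem rk_e8 [IsSimpleGroup ↥(chevE8.group F)] : Omega.TwoF.RK ↥(chevE8.group F) 270 :=
  rk_of (D := chevE8) (by simp [InList]) F h2 (N := 248) (r := 8) (k := 7) (card_idx _ _ rfl rfl rfl) rfl (by decide) (by decide)

end Cfsg.Agent.Omega.TwoF.RkChev
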