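import Cfsg.Agent.Schreier.BNTwisted
import Cfsg.Agent.Omega.TwoF.OutUse

/-!
# THEOREM OUT for twisted groups given by `TwistedData` (TABLE 2F, outer part)
-/

set_option autoImplicit false

namespace Cfsg.Agent.Omega.TwoF.Out

open Cfsg.Agent.Schreier.Basic Cfsg.Agent.Schreier.Tools Cfsg.Agent.Schreier.BNTorus
  Cfsg.Agent.Schreier.BNSch Cfsg.Agent.Schreier.BNTwisted
open Cfsg.Agent.ChevalleyStructure.TwistedBN

universe u

/-- **THEOREM OUT**, crude form for a Sylow subgroup `U`. -/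
theorem outRk_sylow {K : Type u} [Group K] [Finite K] (P : Cfsg.BNPair K) {p : ℕ} [hp : Fact p.Prime] (hp2 : p ≠ 2)
    (U : Sylow p K) (hcore : P.B.normalCore = ⊥)
    (hUB : (U : Subgroup K) ≤ P.B) (hBU : ∀ b ∈ P.B, ∀ u ∈ (U : Subgroup K), b * u * b⁻¹ ∈ (U : Subgroup K))
    (hUN : ∀ b ∈ P.B, ∃ u ∈ (U : Subgroup K), u⁻¹ * b ∈ P.N) (k : ℕ)
    (hloc : ∀ s ∈ P.S, ∃ V : Subgroup K, Node P (U : Subgroup K) s V ∧ NodeRk P (U : Subgroup K) s V k) :
    OutRk K (k * Nat.card P.S + padicValNat 2 (Nat.card P.S).factorial) := by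
  classical
  choose! V hV hn using hloc
  have hT : ((Set.toFinite P.S).toFinset : Set K) = P.S := Set.Finite.coe_toFinset _
  have h := outRk P hp2 U hcore hUB hBU hUN V hV (fun _ => k) hn hT
  rwa [Finset.sum_const, smul_eq_mul, mul_comm, ← Set.ncard_eq_toFinset_card, ← Nat.card_coe_set_eq] at h

variable {Γ : Type u} [Group Γ] {ι : Type*}

/-- The two-step chain at a node given by `Loc`, the parametrisation being additive. -/
theorem nodeRk_of_loc {T : TwistedData Γ ι} {i : ι} {E : Type*} [Field E] [Finite E] (L : Loc T i E)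
    (hadd : ∀ s t, L.x (s + t) = L.x s * L.x t) {P : Cfsg.BNPair T.G} (hPB : P.B = (T.U ⊔ T.H).subgroupOf T.G)
    (s : T.G) : NodeRk P (T.U.subgroupOf T.G) s (L.V.subgroupOf T.G) 2 := by
  have hBU : ∀ b ∈ T.U ⊔ T.H, ∀ u ∈ T.U, b * u * b⁻¹ ∈ T.U := by
    have h : T.U ⊔ T.H ≤ Subgroup.normalizer (T.U : Set Γ) := by
      refine sup_le Subgroup.le_normalizer ?_
      intro h hh
      rw [Subgroup.mem_normalizer_iff]
      intro u
      refine ⟨fun hu => T.conj_H_U h hh u hu, fun hu => ?_⟩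
      have := T.conj_H_U h⁻¹ (inv_mem hh) _ hu
      simpa [mul_assoc] using this
    intro b hb u hu
    exact (Subgroup.mem_normalizer_iff.1 (h hb) u).1 hu
  refine (nodeRk_of_semi (F := E) fun D hU hB _ hV => ?_).1
  rw [hPB] at hB
  classical
  have hUB : ∀ u : T.G, u ∈ T.U.subgroupOf T.G → (u : Γ) ∈ T.U ⊔ T.H := fun u hu =>
    Subgroup.mem_sup_left (show (u : Γ) ∈ T.U from hu)
  have hact : ∀ b : T.G, b ∈ (T.U ⊔ T.H).subgroupOf T.G → ∃ c : E, ∀ t,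
      (⟨L.x (c * t), L.x_mem_G _⟩ : T.G)⁻¹ * (b * ⟨L.x t, L.x_mem_G t⟩ * b⁻¹) ∈ L.V.subgroupOf T.G := by
    intro b hb
    obtain ⟨u, hu, huG, h, hh, hhG, e⟩ := (T.mem_B_iff b b.2).1 hb
    obtain ⟨c, hc0, hc⟩ := L.act h hh hhG
    refine ⟨c, fun t => ?_⟩
    obtain ⟨v, hv, e1⟩ := L.conj_x hu huG hc t
    rw [← e] at e1
    show (L.x (c * t))⁻¹ * ((b : Γ) * L.x t * (b : Γ)⁻¹) ∈ L.V
    rw [e1, ← mul_assoc]
    have h1 := L.norm_B (L.x (c * t))⁻¹ (inv_mem (Subgroup.mem_sup_left (L.x_mem_U _))) v hv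
    rwa [inv_inv] at h1
  choose! χ hχ using hact
  refine semi_of_field (B := (T.U ⊔ T.H).subgroupOf T.G) hB hU hV (fun v hv => L.V_le hv) ?_ ?_
    (fun t => (⟨L.x t, L.x_mem_G t⟩ : T.G)) (fun t => L.x_mem_U t) ?_ ?_ ?_ χ hχ ?_
  · intro u hu y hy
    exact L.norm_B _ (hUB u hu) _ hy
  · intro b hb y hy
    exact L.norm_B _ hb _ hy
  · intro t₁ t₂
    show (L.x (t₁ + t₂))⁻¹ * (L.x t₁ * L.x t₂) ∈ L.V
    rw [hadd, inv_mul_cancel]
    exact one_mem _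
  · intro t ht
    by_contra hne
    -- use the torus to move `x t` to `x 1`
    obtain ⟨h, hh, hhG, hc⟩ := L.tor t⁻¹ (inv_ne_zero hne)
    have h1 := L.norm_B h (Subgroup.mem_sup_right hh) _ (show L.x t ∈ L.V from ht)
    rw [hc, inv_mul_cancel₀ hne] at h1
    exact L.one_not_mem h1
  · intro u hu
    obtain ⟨v, hv, hvG, t, e⟩ := L.decomp hu u.2
    refine ⟨t, ?_⟩
    show (L.x t)⁻¹ * (u : Γ) ∈ L.V
    have e' : (u : Γ) = v * L.x t := e
    rw [e', ← mul_assoc]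
    have h1 := L.norm_B (L.x t)⁻¹ (inv_mem (Subgroup.mem_sup_left (L.x_mem_U _))) v hv
    rwa [inv_inv] at h1
  · rw [eq_top_iff]
    intro c _
    by_cases hc0 : c = 0
    · rw [hc0]
      exact zero_mem _
    · apply AddSubgroup.subset_closure
      obtain ⟨h, hh, hhG, hc⟩ := L.tor c hc0
      have hhB : (⟨h, hhG⟩ : T.G) ∈ (T.U ⊔ T.H).subgroupOf T.G := Subgroup.mem_sup_right (show h ∈ T.H from hh)
      refine ⟨⟨h, hhG⟩, hhB, ?_⟩
      have h1 := hχ ⟨h, hhG⟩ hhB 1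
      have h2 : (L.x (χ ⟨h, hhG⟩ * 1))⁻¹ * (h * L.x 1 * h⁻¹) ∈ L.V := h1
      rw [hc, mul_one, mul_one] at h2
      -- `x (χ)⁻¹ x c ∈ V` so `x (c - χ) ∈ V`
      by_contra hne
      have hne' : c - χ ⟨h, hhG⟩ ≠ 0 := fun h0 => hne (sub_eq_zero.1 h0).symm
      have h3 : L.x (c - χ ⟨h, hhG⟩) ∈ L.V := by
        have h4 := hadd (χ ⟨h, hhG⟩) (c - χ ⟨h, hhG⟩)
        rw [add_sub_cancel] at h4
        rw [h4, inv_mul_cancel_left] at h2
        exact h2
      obtain ⟨k, hk, hkG, hkc⟩ := L.tor (c - χ ⟨h, hhG⟩)⁻¹ (inv_ne_zero hne')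
      have h5 := L.norm_B k (Subgroup.mem_sup_right hk) _ h3
      rw [hkc, inv_mul_cancel₀ hne'] at h5
      exact L.one_not_mem h5

/-- **The column RK of a twisted group.** -/
theorem rk_of_twisted (T : TwistedData Γ ι) [Finite T.G] [Finite ι]
    {p : ℕ} [Fact p.Prime] (hp2 : p ≠ 2) (hcore : ((T.U ⊔ T.H).subgroupOf T.G).normalCore = ⊥)
    (hU : IsPGroup p (T.U.subgroupOf T.G)) (hidx : ¬ p ∣ (T.U.subgroupOf T.G).index)
    (hloc : ∀ i, ∃ (E : Type u) (_ : Field E) (_ : Finite E) (L : Loc T i E), ∀ s t, L.x (s + t) = L.x s * L.x t)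
    {F κ : Type*} [Field F] [Fintype κ] [DecidableEq κ]
    (h2 : (2 : F) ≠ 0) {n : ℕ} (hκ : Fintype.card κ = n) (hn : 1 ≤ n) (f : T.G →* GL κ F)
    (hf : Function.Injective f) {l : ℕ} (hl : Nat.card ι ≤ l) :
    Omega.TwoF.RK T.G (RkLin.rk n + (2 * l + padicValNat 2 l.factorial)) := by
  let P : Cfsg.BNPair T.G := T.toRootData.bnPair
  have hPB : P.B = (T.U ⊔ T.H).subgroupOf T.G := T.bnPair_B
  have hPN : P.N = T.N.subgroupOf T.G := T.bnPair_N
  have hPS : P.S = Set.range T.nG := rfl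
  let S : Sylow p T.G := hU.toSylow hidx
  have hS : (S : Subgroup T.G) = T.U.subgroupOf T.G := rfl
  have hBU : ∀ b ∈ T.U ⊔ T.H, ∀ u ∈ T.U, b * u * b⁻¹ ∈ T.U := by
    have h : T.U ⊔ T.H ≤ Subgroup.normalizer (T.U : Set Γ) := by
      refine sup_le Subgroup.le_normalizer ?_
      intro h hh
      rw [Subgroup.mem_normalizer_iff]
      intro u
      refine ⟨fun hu => T.conj_H_U h hh u hu, fun hu => ?_⟩
      have := T.conj_H_U h⁻¹ (inv_mem hh) _ hu
      simpa [mul_assoc] using this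
    intro b hb u hu
    exact (Subgroup.mem_normalizer_iff.1 (h hb) u).1 hu
  have hcore' : P.B.normalCore = ⊥ := by rw [hPB]; exact hcore
  have hUB : (S : Subgroup T.G) ≤ P.B := by
    rw [hPB, hS]
    intro u hu
    exact Subgroup.mem_sup_left (show (u : Γ) ∈ T.U from hu)
  have hBU' : ∀ b ∈ P.B, ∀ u ∈ (S : Subgroup T.G), b * u * b⁻¹ ∈ (S : Subgroup T.G) := by
    rw [hPB, hS]
    intro b hb u hu
    exact hBU b hb u hu
  have hloc' : ∀ s ∈ P.S, ∃ V : Subgroup T.G, Node P (S : Subgroup T.G) s V ∧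
      NodeRk P (S : Subgroup T.G) s V 2 := by
    rw [hPS]
    rintro _ ⟨i, rfl⟩
    obtain ⟨E, _, _, L, hadd⟩ := hloc i
    refine ⟨L.V.subgroupOf T.G, ⟨?_, ?_, ?_, ?_, ?_⟩, nodeRk_of_loc L hadd hPB _⟩
    · intro v hv
      exact L.V_le hv
    · exact ⟨⟨L.x 1, L.x_mem_G 1⟩, L.x_mem_U 1, L.one_not_mem⟩
    · rw [hPB]
      intro b hb v hv
      exact L.norm_B b hb v hv
    · intro v hv
      exact L.norm_n v hv
    · rw [hPB]
      intro u hu h
      exact L.stab hu u.2 h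
  have hZ := center_eq_bot P (S : Subgroup T.G) hcore' hUB hBU' fun s hs =>
    ⟨_, (hloc' s hs).choose_spec.1⟩
  have hl' : Nat.card P.S ≤ l := by
    rw [hPS]
    exact (Finite.card_range_le T.nG).trans hl
  refine rk_of_out (card_le_of_linear h2 hκ hn f hf hZ) hZ
    ((outRk_sylow P hp2 S hcore' hUB hBU' ?_ 2 hloc').mono ?_)
  · rw [hPB, hPN, hS]
    intro b hb
    obtain ⟨u, hu, huG, h, hh, hhG, e⟩ := (T.mem_B_iff b b.2).1 hb
    refine ⟨⟨u, huG⟩, hu, ?_⟩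
    show u⁻¹ * (b : Γ) ∈ T.N
    rw [e, inv_mul_cancel_left]
    exact T.H_le_N hh
  · refine Nat.add_le_add (Nat.mul_le_mul_left _ hl') ?_
    have : Fact (Nat.Prime 2) := ⟨Nat.prime_two⟩
    exact (padicValNat_dvd_iff_le (Nat.factorial_ne_zero l)).1 (pow_padicValNat_dvd.trans
      (Nat.factorial_dvd_factorial hl'))

end Cfsg.Agent.Omega.TwoF.Out
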