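import Cfsg.Agent.Schreier.TwESix
import Cfsg.Agent.Omega.TwoF.OutTwisted

/-!
# The column RK of TABLE 2F for ²E₆(q), q odd
-/

set_option autoImplicit false

namespace Cfsg.Agent.Omega.TwoF.RkTwE6

open Cfsg.Lie
open Cfsg.Agent.ChevalleyStructure.Elts hiding x_add x_zero x_eq_one_iff
open Cfsg.Agent.ChevalleyStructure.TwE6Basic
open Cfsg.Agent.ChevalleyStructure.TwE6BN
open Cfsg.Agent.ChevalleyStructure.TwistedBN
open Cfsg.Agent.Schreier.BNTwisted Cfsg.Agent.Schreier.TwESix Cfsg.Agent.Schreier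
open Cfsg.Agent.Omega.TwoF.Out

universe u

variable {K : Type u} [Field K]

section

variable {q : ℕ} {φ : K →+* K}

theorem pair_add {i : Fin 4} {j j' : ℕ} (C : PairOK.{u} i j j') (hφ : ∀ t, φ t = t ^ q) (s t : K) :
    x j (s + t) * x j' ((s + t) ^ q) = (x j s * x j' (s ^ q)) * (x j t * x j' (t ^ q)) := by
  have c1 : ∀ t u : K, x j' u * x j t = x j t * x j' u := fun t u => C.comm1 t u
  have e : (s + t) ^ q = s ^ q + t ^ q := by rw [← hφ, map_add, hφ, hφ]
  rw [e, ← x_add, ← x_add]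
  calc x j s * x j t * (x j' (s ^ q) * x j' (t ^ q)) = x j s * (x j t * x j' (s ^ q)) * x j' (t ^ q) := by group
    _ = x j s * (x j' (s ^ q) * x j t) * x j' (t ^ q) := by rw [c1]
    _ = _ := by group

end

/-- **RK for ²E₆(q), q odd.** -/
theorem rk [Fintype K] {q : ℕ} (hq : IsPrimePow q) (hK : Fintype.card K = q ^ 2) (h2 : (2 : K) ≠ 0) :
    Omega.TwoF.RK ↥(twistedE6 K q) (RkLin.rk (Fintype.card chevE6.Idx) + (2 * 4 + padicValNat 2 (Nat.factorial 4))) := by
  classical
  obtain ⟨φ, hφ, hqq⟩ := exists_frob hq hK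
  obtain ⟨p, k, hp, hk, hpk⟩ := (isPrimePow_nat_iff _).1 hq
  have : Fact p.Prime := ⟨hp⟩
  have hfin : Finite (T φ q hφ hqq).G := inferInstanceAs (Finite ↥(twistedE6 K q))
  have hq1 : 1 < q := hq.one_lt
  have hq0 : q ≠ 0 := by omega
  have hpq : p ∣ q := hpk ▸ dvd_pow_self p hk.ne'
  have hp2 : p ≠ 2 := by
    rintro rfl
    apply h2
    have h3 : ((Fintype.card K : ℕ) : K) = 0 := Nat.cast_card_eq_zero K
    rw [hK, ← hpk] at h3
    push_cast at h3
    exact pow_eq_zero_iff (by positivity) |>.1 (pow_eq_zero_iff (two_ne_zero) |>.1 h3)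
  have hcU : Nat.card ((chevE6.posUnipotent K).subgroupOf (twistedE6 K q)) = q ^ 36 := by
    rw [BNArith.card_subgroupOf]
    exact Cfsg.Agent.S1086.result hq hK
  have hcG := Cfsg.Agent.S1066.result hq hK
  refine rk_of_twisted (T φ q hφ hqq) (p := p) hp2 ?_ ?_ ?_ ?_ h2 rfl (by decide)
    (twistedE6 K q).subtype (twistedE6 K q).subtype_injective (by simp)
  · have h := Cfsg.Agent.S1105.result hq hK
    rw [Subgroup.inf_subgroupOf_right] at h
    exact h
  · apply IsPGroup.of_card (n := k * 36)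
    rw [pow_mul, hpk]
    exact hcU
  · have h1 := ((chevE6.posUnipotent K).subgroupOf (twistedE6 K q)).card_mul_index
    rw [← h1, hcU] at hcG
    simp only [mul_assoc] at hcG
    rw [mul_left_comm] at hcG
    have h2 := Nat.eq_of_mul_eq_mul_left (pow_pos (by omega : 0 < q) 36) hcG
    show ¬ p ∣ ((chevE6.posUnipotent K).subgroupOf (twistedE6 K q)).index
    intro hdvd
    have h3 := dvd_mul_of_dvd_right hdvd (Nat.gcd 3 (q + 1))
    rw [h2, hp.dvd_mul, hp.dvd_mul, hp.dvd_mul, hp.dvd_mul, hp.dvd_mul] at h3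
    rcases h3 with h | h | h | h | h | h
    · exact BNArith.not_dvd_pow_sub_one hp hpq hq1 (by norm_num) h
    · exact BNArith.not_dvd_pow_add_one hp hpq (by norm_num) h
    · exact BNArith.not_dvd_pow_sub_one hp hpq hq1 (by norm_num) h
    · exact BNArith.not_dvd_pow_sub_one hp hpq hq1 (by norm_num) h
    · exact BNArith.not_dvd_pow_add_one hp hpq (by norm_num) h
    · exact BNArith.not_dvd_pow_sub_one hp hpq hq1 (by norm_num) h
  · intro i
    have hi : i = 0 ∨ i = 1 ∨ i = 2 ∨ i = 3 := by fin_cases i <;> simp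
    rcases hi with rfl | rfl | rfl | rfl
    · exact ⟨φ.eqLocusField (RingHom.id K), inferInstance, inferInstance,
        locSingle single0 hφ hqq fun c hc h => tor0 hφ c hc h, fun s t => (x_add 46 (s : K) (t : K)).symm⟩
    · exact ⟨φ.eqLocusField (RingHom.id K), inferInstance, inferInstance,
        locSingle single1 hφ hqq fun c hc h => tor1 hφ c hc h, fun s t => (x_add 39 (s : K) (t : K)).symm⟩
    · exact ⟨K, inferInstance, inferInstance, locPair pair2 hφ hqq hq0 fun c hc => tor2 hφ c hc,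
        fun s t => pair_add pair2 hφ s t⟩
    · exact ⟨K, inferInstance, inferInstance, locPair pair3 hφ hqq hq0 fun c hc => tor3 hφ c hc,
        fun s t => pair_add pair3 hφ s t⟩

/-- The number. -/
theorem rk_88 [Fintype K] {q : ℕ} (hq : IsPrimePow q) (hK : Fintype.card K = q ^ 2) (h2 : (2 : K) ≠ 0) :
    Omega.TwoF.RK ↥(twistedE6 K q) 88 := by
  refine (rk hq hK h2).mono ?_
  have : Fact (Nat.Prime 2) := ⟨Nat.prime_two⟩
  have h1 : padicValNat 2 (Nat.factorial 4) ≤ 3 := by
    by_contra hcon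
    have h3 : 2 ^ 4 ∣ Nat.factorial 4 := (padicValNat_dvd_iff_le (by decide)).2 (by omega)
    exact absurd h3 (by decide)
  have h4 : Fintype.card chevE6.Idx = 78 := by
    show Fintype.card (Fin chevE6.rank ⊕ Fin chevE6.nroots) = 78
    rw [Fintype.card_sum, Fintype.card_fin, Fintype.card_fin]
    rfl
  have h5 : RkLin.rk 78 = 77 := by decide
  rw [h4, h5]
  omega

end Cfsg.Agent.Omega.TwoF.RkTwE6
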