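import Cfsg.Agent.Omega.Lie.HeisCover
import Cfsg.Agent.Omega.TwoF.Orb
import Cfsg.Agent.Omega.TwoF.WeightV

/-!
# Degree bounds in the form `LB K m` (all perfect odd central extensions)

`Esc K r m` : the bound holds for the covers with `r ∣ |Z|` (`Esc.prime`: lcm trick with a prime `p ∣ |K|`; `Esc.heis`).
For a group order `n` prime to the kernel everything lifts (`exists_liftSub`):

* `LB.family`, `LB.frobGroup` (W1), `LB.trans` (W2), `LB.spec` (W3), `LB.frob` (T2), `LB.orbit` (O).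
-/

set_option autoImplicit false
set_option linter.unusedSectionVars false
set_option linter.style.haveILetI false

universe u v w

namespace Cfsg.Agent.Omega.TwoF.WeightCover

open Cfsg.Agent.Omega.Lie.Heis

/-- The bound for the faithful irreducible actions of the odd perfect central extensions with `r ∣ |Z|`. -/
def Esc (K : Type u) [Group K] (r m : ℕ) : Prop :=
  ∀ (L : Type v) [Group L] [Finite L] (π : L →* K), Function.Surjective π → π.ker ≤ Subgroup.center L →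
    Odd (Nat.card π.ker) → commutator L = ⊤ → r ∣ Nat.card π.ker → ∀ (V : Type w) [CommGroup V] [Finite V],
    IsPGroup 2 V → ∀ φ : L →* MulAut V, Function.Injective φ → Irr φ → 2 ^ m ≤ Nat.card V

/-- a fixed point free central element of order `r` -/
theorem exists_central {K : Type u} [Group K] {L : Type v} [Group L] [Finite L] {π : L →* K}
    (hc : π.ker ≤ Subgroup.center L) {r : ℕ} (hr : r.Prime) (hrZ : r ∣ Nat.card π.ker) {V : Type w} [CommGroup V]
    {φ : L →* MulAut V} (hφ : Function.Injective φ) (hirr : Irr φ) :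
    ∃ c : L, c ∈ Subgroup.center L ∧ c ^ r = 1 ∧ c ≠ 1 ∧ ∀ v : V, φ c v = v → v = 1 := by
  haveI := Fact.mk hr
  obtain ⟨c, hc1⟩ := exists_prime_orderOf_dvd_card' r hrZ
  have hcr : (c : L) ^ r = 1 := by
    have : c ^ r = 1 := by rw [← hc1]; exact pow_orderOf_eq_one c
    exact congrArg Subtype.val this
  have hcne : (c : L) ≠ 1 := by
    intro h5
    have h6 : c = 1 := Subtype.ext h5
    rw [h6, orderOf_one] at hc1
    exact hr.ne_one hc1.symm
  exact ⟨c, hc c.2, hcr, hcne, fun v hv => hirr.free (hc c.2) (fun h5 => hcne (hφ (h5.trans (map_one φ).symm))) hv⟩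

/-- the lcm trick -/
theorem Esc.prime {K : Type u} [Group K] [Finite K] {r p m : ℕ} (hr : r.Prime) (hp : p.Prime) (hp2 : p ≠ 2)
    (hpK : p ∣ Nat.card K) (hm : m ≤ Nat.lcm (orderOf (2 : ZMod p)) (orderOf (2 : ZMod r))) : Esc.{u, v, w} K r m := by
  intro L _ _ π hπ hc ho hL hrZ V _ _ h2 φ hφ hirr
  haveI : Fact p.Prime := ⟨hp⟩
  obtain ⟨c, hcc, hcr, hcne, hcf⟩ := exists_central hc hr hrZ hφ hirr
  have h3 : p ∣ Nat.card L := hpK.trans (Subgroup.card_dvd_of_surjective π hπ)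
  obtain ⟨g, hg⟩ := exists_prime_orderOf_dvd_card' p h3
  have h4 : φ g ≠ 1 := by
    intro h5
    have h6 : g = 1 := hφ (h5.trans (map_one φ).symm)
    rw [h6, orderOf_one] at hg
    exact hp.ne_one hg.symm
  have h5 := (heis_zero hp (z := g) (by rw [← hg]; exact pow_orderOf_eq_one g)).two_pow_le_lcm_mulAut φ h2 hp2 h4
    hr hcr (Subgroup.mem_center_iff.1 hcc g) (fun i => i.elim0) hcf
  rw [pow_zero, mul_one] at h5
  exact (Nat.pow_le_pow_right (by norm_num) hm).trans h5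

/-- the lcm trick with a Heisenberg configuration of a prime `s` with `s ∤ |Z|` or `s = r` -/
theorem Esc.heis {K : Type u} [Group K] [Finite K] {r s n m : ℕ} {z : K} {x y : Fin n → K} (h : Heis s n z x y)
    (hr : r.Prime) (hs2 : s ≠ 2) (hz : z ≠ 1) (hs : Esc.{u, v, w} K s m)
    (hm : m ≤ Nat.lcm (orderOf (2 : ZMod s)) (orderOf (2 : ZMod r)) * s ^ n) : Esc.{u, v, w} K r m := by
  intro L _ _ π hπ hc ho hL hrZ V _ _ h2 φ hφ hirr
  by_cases hsZ : s ∣ Nat.card π.ker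
  · exact hs L π hπ hc ho hL hsZ V h2 φ hφ hirr
  obtain ⟨c, hcc, hcr, hcne, hcf⟩ := exists_central hc hr hrZ hφ hirr
  obtain ⟨z', x', y', hz', -, -, h'⟩ := h.lift hπ hc ((Nat.Prime.coprime_iff_not_dvd h.prime).2 hsZ)
  have h4 : φ z' ≠ 1 := by
    intro h5
    have h6 : z' = 1 := hφ (h5.trans (map_one φ).symm)
    rw [h6, map_one] at hz'
    exact hz hz'.symm
  have h5 := h'.two_pow_le_lcm_mulAut φ h2 hs2 h4 hr hcr (Subgroup.mem_center_iff.1 hcc z')
    (fun i => Subgroup.mem_center_iff.1 hcc (x' i)) hcf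
  exact (Nat.pow_le_pow_right (by norm_num) hm).trans h5

/-- `v ^ 2 = 1` on an irreducible `2`-group -/
theorem Irr.sq {L : Type v} [Group L] {V : Type w} [CommGroup V] [Finite V] {φ : L →* MulAut V} (hi : Irr φ)
    (h2 : IsPGroup 2 V) (v : V) : v ^ 2 = 1 := by
  rcases hi (powMonoidHom 2 : V →* V).ker (fun g x hx => by
    rw [MonoidHom.mem_ker] at hx ⊢
    change (φ g x) ^ 2 = 1
    rw [← map_pow]
    change φ g ((powMonoidHom 2 : V →* V) x) = 1
    rw [hx, map_one]) with h | h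
  · -- squaring is injective, so `V` has odd order
    by_cases hv : v = 1
    · rw [hv, one_pow]
    have hinj := (MonoidHom.ker_eq_bot_iff _).1 h
    obtain ⟨k, hk⟩ := h2 v
    exfalso
    apply hv
    have : ∀ k : ℕ, v ^ 2 ^ k = 1 → v = 1 := by
      intro k
      induction k with
      | zero => intro h; rwa [pow_zero, pow_one] at h
      | succ k ih =>
        intro h
        apply ih
        apply hinj
        change (v ^ 2 ^ k) ^ 2 = (1 : V) ^ 2
        rw [← pow_mul, ← pow_succ, h, one_pow]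
    exact this k hk
  · have : v ∈ (powMonoidHom 2 : V →* V).ker := h ▸ Subgroup.mem_top v
    exact this

/-- **Frame**: covers with kernel prime to `n`, and `Esc` for the prime divisors of `n`. -/
theorem LB.of_esc {K : Type u} [Group K] [IsSimpleGroup K] {n m : ℕ}
    (hesc : ∀ r, r.Prime → r ∣ n → Esc.{u, v, w} K r m)
    (H : ∀ (L : Type v) [Group L] [Finite L] (π : L →* K), Function.Surjective π → π.ker ≤ Subgroup.center L →
      Nat.Coprime n (Nat.card π.ker) → ∀ (V : Type w) [CommGroup V] [Finite V], IsPGroup 2 V → (∀ v : V, v ^ 2 = 1) →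
      ∀ φ : L →* MulAut V, Function.Injective φ → 2 ^ m ≤ Nat.card V) : LB.{u, v, w} K m := by
  apply LB.of_irr
  intro L _ _ π hπ hc ho hL V _ _ h2 φ hφ hirr
  by_cases hco : Nat.Coprime n (Nat.card π.ker)
  · exact H L π hπ hc hco V h2 (Irr.sq hirr h2) φ hφ
  · obtain ⟨r, hr, h3, h4⟩ := Nat.Prime.not_coprime_iff_dvd.1 hco
    exact hesc r hr h3 L π hπ hc ho hL h4 V h2 φ hφ hirr

/-- **Lifting of an abelian subgroup** of exponent dividing `n`, `n` prime to the kernel. -/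
theorem exists_liftSub {K : Type u} [Group K] {L : Type v} [Group L] {π : L →* K} (hπ : Function.Surjective π)
    (hc : π.ker ≤ Subgroup.center L) [Finite π.ker] {n : ℕ} (hco : Nat.Coprime n (Nat.card π.ker)) {A : Subgroup K}
    (hA : ∀ a ∈ A, ∀ b ∈ A, a * b = b * a) (hAn : ∀ a ∈ A, a ^ n = 1) :
    ∃ A' : Subgroup L, (∀ a ∈ A', π a ∈ A) ∧ (∀ a ∈ A, ∃ a' ∈ A', π a' = a) ∧
      (∀ a ∈ A', ∀ b ∈ A', π a = π b → a = b) ∧ (∀ a ∈ A', ∀ b ∈ A', a * b = b * a) ∧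
      (∀ g : L, (∀ a ∈ A, π g * a * (π g)⁻¹ ∈ A) → ∀ a ∈ A', g * a * g⁻¹ ∈ A') ∧ Nat.card A' = Nat.card A ∧
      (∀ a ∈ A', a ^ n = 1) := by
  have hcomm : ∀ a : L, a ^ n = 1 → ∀ b : L, π a ∈ A → π b ∈ A → a * b = b * a := fun a ha b h1 h2 =>
    comm_of_comm hc hco ha (hA _ h1 _ h2)
  let A' : Subgroup L :=
    { carrier := {a | π a ∈ A ∧ a ^ n = 1}
      one_mem' := ⟨by rw [map_one]; exact one_mem A, one_pow n⟩
      mul_mem' := fun {a b} ha hb => ⟨by rw [map_mul]; exact mul_mem ha.1 hb.1, by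
        rw [(show Commute a b from hcomm a ha.2 b ha.1 hb.1).mul_pow, ha.2, hb.2, one_mul]⟩
      inv_mem' := fun {a} ha => ⟨by rw [map_inv]; exact inv_mem ha.1, by rw [inv_pow, ha.2, inv_one]⟩ }
  have h1 : ∀ a ∈ A', π a ∈ A := fun a ha => ha.1
  have h2 : ∀ a ∈ A, ∃ a' ∈ A', π a' = a := by
    intro a ha
    obtain ⟨a', h3, h4⟩ := exists_lift hπ hc hco (hAn a ha)
    exact ⟨a', ⟨by rw [h3]; exact ha, h4⟩, h3⟩
  have h3 : ∀ a ∈ A', ∀ b ∈ A', π a = π b → a = b := fun a ha b hb h => lift_unique hc hco ha.2 hb.2 h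
  refine ⟨A', h1, h2, h3, fun a ha b hb => hcomm a ha.2 b ha.1 hb.1, fun g hg a ha => ⟨?_, ?_⟩, ?_, fun a ha => ha.2⟩
  · rw [map_mul, map_mul, map_inv]
    exact hg _ ha.1
  · rw [conj_pow, ha.2, mul_one, mul_inv_cancel]
  · refine Nat.card_congr (Equiv.ofBijective (fun a : A' => (⟨π a, h1 a a.2⟩ : A)) ⟨fun a b h => ?_, fun a => ?_⟩)
    · exact Subtype.ext (h3 a a.2 b b.2 (congrArg Subtype.val h))
    · obtain ⟨a', ha', h⟩ := h2 a a.2
      exact ⟨⟨a', ha'⟩, Subtype.ext h⟩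

section Rows

theorem exists_mem_ne {K : Type*} [Group K] {A : Subgroup K} (h : A ≠ ⊥) : ∃ a ∈ A, a ≠ 1 := by
  by_contra hcon
  push Not at hcon
  exact h ((Subgroup.eq_bot_iff_forall A).2 hcon)

variable {K : Type u} [Group K] [Finite K] [IsSimpleGroup K]

/-- **(W0)** -/
theorem LB.family {A : Subgroup K} (hA : ∀ a ∈ A, ∀ b ∈ A, a * b = b * a) (hAo : Odd (Nat.card A)) (hA1 : A ≠ ⊥)
    {ι : Type*} [Finite ι] (g : ι → K) (hg : ∀ i, ∀ a ∈ A, g i * a * (g i)⁻¹ ∈ A) (k : ι → ℕ)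
    (hd : ∀ i j, i ≠ j → ∀ a ∈ A, (g i * a * (g i)⁻¹) ^ (2 ^ k i) = (g j * a * (g j)⁻¹) ^ (2 ^ k j) → a = 1)
    {m : ℕ} (hm : m ≤ Nat.card ι) (hesc : ∀ r, r.Prime → r ∣ Nat.card A → Esc.{u, v, w} K r m) : LB.{u, v, w} K m := by
  refine LB.of_esc hesc ?_
  intro L _ _ π hπ hc hco V _ _ h2 hV φ hφ
  haveI : Fact (Nat.Prime 2) := ⟨Nat.prime_two⟩
  obtain ⟨A', h3, h4, h5, h6, h7, h8, h9⟩ := exists_liftSub hπ hc hco hA (fun a ha => by
    have := pow_card_eq_one' (x := (⟨a, ha⟩ : A))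
    exact congrArg Subtype.val this)
  choose g' hg' using fun i => hπ (g i)
  obtain ⟨a, ha, ha1⟩ := exists_mem_ne hA1
  obtain ⟨a', ha', haa⟩ := h4 a ha
  have h10 := Weight.pow_family_le (ℓ := 2) (φ := φ) hV (A := A') h6 (by
      rw [h8]
      exact fun h => (Nat.not_even_iff_odd.2 hAo) (even_iff_two_dvd.2 h)) ⟨a', ha', fun h => ha1 (by
        rw [← haa, show a' = 1 from hφ (h.trans (map_one φ).symm), map_one])⟩ g'
    (fun i => h7 (g' i) (by rw [hg']; exact hg i)) k (fun i j hij a ha h => by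
      refine h5 a ha 1 (one_mem A') ?_
      rw [map_one]
      refine hd i j hij (π a) (h3 a ha) ?_
      have := congrArg π h
      simpa only [map_pow, map_mul, map_inv, hg'] using this)
  exact (Nat.pow_le_pow_right (by norm_num) hm).trans h10

/-- **(W1)** Frobenius groups `A : T` -/
theorem LB.frobGroup {A : Subgroup K} (hA : ∀ a ∈ A, ∀ b ∈ A, a * b = b * a) (hAo : Odd (Nat.card A)) (hA1 : A ≠ ⊥)
    (T : Subgroup K) (hT : ∀ t ∈ T, ∀ a ∈ A, t * a * t⁻¹ ∈ A)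
    (hfree : ∀ t ∈ T, t ≠ 1 → ∀ a ∈ A, t * a = a * t → a = 1)
    {m : ℕ} (hm : m ≤ Nat.card T) (hesc : ∀ r, r.Prime → r ∣ Nat.card A → Esc.{u, v, w} K r m) : LB.{u, v, w} K m := by
  refine LB.family hA hAo hA1 (fun t : T => (t : K)) (fun t => hT t t.2) (fun _ => 0) (fun s t hst a ha h => ?_) hm hesc
  rw [pow_zero, pow_one, pow_one] at h
  refine hfree ((t : K)⁻¹ * s) (mul_mem (inv_mem t.2) s.2) (fun h1 => hst ?_) a ha ?_
  · exact Subtype.ext (inv_mul_eq_one.1 h1).symm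
  · calc (t : K)⁻¹ * s * a = (t : K)⁻¹ * (s * a * (s : K)⁻¹) * s := by group
      _ = a * ((t : K)⁻¹ * s) := by rw [h]; group

/-- **(W2)** `N_K(A)` and the Frobenius transitive on `A \ {1}` -/
theorem LB.trans {A : Subgroup K} (hA : ∀ a ∈ A, ∀ b ∈ A, a * b = b * a) (hAo : Odd (Nat.card A)) (hA1 : A ≠ ⊥)
    (htr : ∀ a ∈ A, ∀ b ∈ A, a ≠ 1 → b ≠ 1 → ∃ g : K, (∀ c ∈ A, g * c * g⁻¹ ∈ A) ∧ ∃ k : ℕ,
      (g * a * g⁻¹) ^ (2 ^ k) = b) {m : ℕ} (hm : m ≤ Nat.card A - 1)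
    (hesc : ∀ r, r.Prime → r ∣ Nat.card A → Esc.{u, v, w} K r m) : LB.{u, v, w} K m := by
  refine LB.of_esc hesc ?_
  intro L _ _ π hπ hc hco V _ _ h2 hV φ hφ
  haveI : Fact (Nat.Prime 2) := ⟨Nat.prime_two⟩
  obtain ⟨A', h3, h4, h5, h6, h7, h8, h9⟩ := exists_liftSub hπ hc hco hA (fun a ha => by
    have := pow_card_eq_one' (x := (⟨a, ha⟩ : A))
    exact congrArg Subtype.val this)
  obtain ⟨a, ha, ha1⟩ := exists_mem_ne hA1
  obtain ⟨a', ha', haa⟩ := h4 a ha
  have h10 := Weight.pow_card_sub_one_le (ℓ := 2) (φ := φ) hV (A := A') h6 (by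
      rw [h8]
      exact fun h => (Nat.not_even_iff_odd.2 hAo) (even_iff_two_dvd.2 h)) ⟨a', ha', fun h => ha1 (by
        rw [← haa, show a' = 1 from hφ (h.trans (map_one φ).symm), map_one])⟩ (fun a ha b hb ha1 hb1 => by
      have hne : ∀ c ∈ A', c ≠ 1 → π c ≠ 1 := fun c hc' h1 h2 => h1 (h5 c hc' 1 (one_mem A') (by rw [h2, map_one]))
      obtain ⟨g, hg, k, hk⟩ := htr (π a) (h3 a ha) (π b) (h3 b hb) (hne a ha ha1) (hne b hb hb1)
      obtain ⟨g', rfl⟩ := hπ g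
      refine ⟨g', h7 g' hg, k, Or.inl (h5 _ (pow_mem (h7 g' hg a ha) _) b hb ?_)⟩
      rw [map_pow, map_mul, map_mul, map_inv]
      exact hk)
  rw [h8] at h10
  exact (Nat.pow_le_pow_right (by norm_num) hm).trans h10

/-- **(W3)** one element of order `n = r ^ (k + 1)` -/
theorem LB.spec {n r k : ℕ} (hn : n = r ^ (k + 1)) (hr : r.Prime) (hr2 : r ≠ 2) {e : K} (he : e ^ n = 1)
    (hne : e ^ r ^ k ≠ 1) (T : Finset (ZMod n))
    (hT : ∀ t ∈ T, ∃ (j s : ℕ) (g : K), g * e * g⁻¹ = e ^ s ∧ t = (2 ^ j * s : ℕ)) {m : ℕ} (hm : m ≤ T.card)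
    (hesc : Esc.{u, v, w} K r m) : LB.{u, v, w} K m := by
  refine LB.of_esc (n := r) (fun s hs hsr => by rwa [(Nat.prime_dvd_prime_iff_eq hs hr).1 hsr]) ?_
  intro L _ _ π hπ hc hco V _ _ h2 hV φ hφ
  haveI : Fact (Nat.Prime 2) := ⟨Nat.prime_two⟩
  have hcn : Nat.Coprime n (Nat.card π.ker) := by rw [hn]; exact hco.pow_left _
  obtain ⟨e', he', hen⟩ := exists_lift hπ hc hcn he
  have h10 := Weight.pow_spec_le (ℓ := 2) (φ := φ) hV hn hr hr2 hen (fun h => hne (by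
      rw [← he', ← map_pow, show e' ^ r ^ k = 1 from hφ (h.trans (map_one φ).symm), map_one])) T (fun t ht => by
      obtain ⟨j, s, g, hg, h⟩ := hT t ht
      obtain ⟨g', rfl⟩ := hπ g
      refine ⟨j, s, g', lift_unique hc hcn ?_ ?_ ?_, Or.inl h⟩
      · rw [conj_pow, hen, mul_one, mul_inv_cancel]
      · rw [← pow_mul, mul_comm, pow_mul, hen, one_pow]
      · rw [map_mul, map_mul, map_inv, he', map_pow, he', hg])
  exact (Nat.pow_le_pow_right (by norm_num) hm).trans h10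

/-- **(T2)** -/
theorem LB.frob {p : ℕ} (hp : p.Prime) {A : Subgroup K} (hA : ∀ a ∈ A, ∀ b ∈ A, a * b = b * a)
    (hAo : Odd (Nat.card A)) {d : ℕ}
    (hpA : ∀ r, r.Prime → r ∣ Nat.card A → r ≠ p ∧ ¬ p ∣ r - 1 ∧ d ≤ orderOf (2 : ZMod r)) {x : K}
    (hxp : ∀ b ∈ A, x ^ p * b = b * x ^ p) (hE : ∀ a ∈ A, x * a * x⁻¹ ∈ A)
    (hne : ∃ b ∈ A, x * b * x⁻¹ ≠ b) {m : ℕ} (hm : m ≤ d * p)
    (hesc : ∀ r, r.Prime → r ∣ Nat.card A → Esc.{u, v, w} K r m) : LB.{u, v, w} K m := by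
  refine LB.of_esc hesc ?_
  intro L _ _ π hπ hc hco V _ _ h2 hV φ hφ
  haveI : Fact (Nat.Prime 2) := ⟨Nat.prime_two⟩
  obtain ⟨A', h3, h4, h5, h6, h7, h8, h9⟩ := exists_liftSub hπ hc hco hA (fun a ha => by
    have := pow_card_eq_one' (x := (⟨a, ha⟩ : A))
    exact congrArg Subtype.val this)
  obtain ⟨x', rfl⟩ := hπ x
  obtain ⟨b, hb, hne⟩ := hne
  obtain ⟨b', hb', rfl⟩ := h4 b hb
  have h10 := Orb.frob_card (ℓ := 2) (φ := φ) (m := d) h2 hp (A := A') h6 (by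
      rw [h8]
      exact fun h => (Nat.not_even_iff_odd.2 hAo) (even_iff_two_dvd.2 h)) (by
      rw [h8]
      exact hpA) (x := x') (fun b hb => by
        refine (comm_of_comm hc hco (h9 b hb) ?_).symm
        rw [map_pow]
        exact (hxp _ (h3 b hb)).symm) (h7 x' hE) ⟨b', hb', fun h => hne (by
        have := hφ h
        rw [← map_mul, ← map_inv, ← map_mul, this])⟩
  exact (Nat.pow_le_pow_right (by norm_num) hm).trans h10

/-- **(O)** `E` elementary abelian of order `r ^ a`, every hyperplane has `m'` conjugates under `N_K(E)` -/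
theorem LB.orbit {r : ℕ} (hr : r.Prime) (hr2 : r ≠ 2) {E : Subgroup K} (h : Orb.Elem r E) (hE1 : E ≠ ⊥) {m' : ℕ}
    (horb : ∀ H ≤ E, H.relIndex E = r → ∃ g : Fin m' → K, (∀ i, Orb.cj (g i) E = E) ∧
      ∀ i j, i ≠ j → Orb.cj (g i) H ≠ Orb.cj (g j) H) {m : ℕ} (hm : m ≤ orderOf (2 : ZMod r) * m')
    (hesc : Esc.{u, v, w} K r m) : LB.{u, v, w} K m := by
  refine LB.of_esc (n := r) (fun s hs hsr => by rwa [(Nat.prime_dvd_prime_iff_eq hs hr).1 hsr]) ?_
  intro L _ _ π hπ hc hco V _ _ h2 hV φ hφ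
  haveI : Fact (Nat.Prime 2) := ⟨Nat.prime_two⟩
  haveI := Fact.mk hr
  obtain ⟨A', h3, h4, h5, h6, h7, h8, h9⟩ := exists_liftSub hπ hc hco h.comm h.pow
  have hel : Orb.Elem r A' := ⟨h6, h9⟩
  obtain ⟨a, ha, ha1⟩ := exists_mem_ne hE1
  obtain ⟨a', ha', haa⟩ := h4 a ha
  have hfx : Orb.fx φ A' ≠ ⊤ := by
    intro hcon
    apply ha1
    rw [← haa, show a' = 1 from hφ (by
      rw [map_one]
      ext v
      have : v ∈ Orb.fx φ A' := hcon ▸ Subgroup.mem_top v
      exact this a' ha'), map_one]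
  obtain ⟨H, hle, hi, hne⟩ := hel.exists_hyperplane hr2 h2 hfx
  -- the image of `H`
  have hmapA : A'.map π = E := by
    ext x
    constructor
    · rintro ⟨a, ha, rfl⟩
      exact h3 a ha
    · intro hx
      obtain ⟨a, ha, h⟩ := h4 x hx
      exact ⟨a, ha, h⟩
  have hinjmap : ∀ B ≤ A', ∀ C ≤ A', B.map π = C.map π → B = C := by
    have key : ∀ B ≤ A', ∀ C ≤ A', B.map π = C.map π → B ≤ C := by
      intro B hB C hC hBC b hb
      have : π b ∈ C.map π := hBC ▸ ⟨b, hb, rfl⟩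
      obtain ⟨c, hc', hcb⟩ := this
      rwa [← h5 c (hC hc') b (hB hb) hcb]
    intro B hB C hC hBC
    exact le_antisymm (key B hB C hC hBC) (key C hC B hB hBC.symm)
  have hHle : H.map π ≤ E := by rw [← hmapA]; exact Subgroup.map_mono hle
  have hi' : (H.map π).relIndex E = r := by
    have e1 : Nat.card (H.map π) = Nat.card H := by
      refine (Nat.card_congr (Equiv.ofBijective (fun a : H => (⟨π a, ⟨a, a.2, rfl⟩⟩ : H.map π)) ⟨fun a b h => ?_, ?_⟩)).symm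
      · exact Subtype.ext (h5 a (hle a.2) b (hle b.2) (congrArg Subtype.val h))
      · rintro ⟨_, a, ha, rfl⟩
        exact ⟨⟨a, ha⟩, rfl⟩
    have e2 : Nat.card H * H.relIndex A' = Nat.card A' := by
      have := Subgroup.card_mul_index (H.subgroupOf A')
      rwa [Nat.card_congr (Subgroup.subgroupOfEquivOfLe hle).toEquiv] at this
    have e3 : Nat.card (H.map π) * (H.map π).relIndex E = Nat.card E := by
      have := Subgroup.card_mul_index ((H.map π).subgroupOf E)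
      rwa [Nat.card_congr (Subgroup.subgroupOfEquivOfLe hHle).toEquiv] at this
    rw [hi, h8] at e2
    rw [e1, ← e2] at e3
    exact Nat.eq_of_mul_eq_mul_left Nat.card_pos e3
  obtain ⟨g, hg, hgd⟩ := horb _ hHle hi'
  choose g' hg' using fun i => hπ (g i)
  have hcjmap : ∀ (g : L) (B : Subgroup L), (Orb.cj g B).map π = Orb.cj (π g) (B.map π) := by
    intro g B
    ext x
    constructor
    · rintro ⟨_, ⟨b, hb, rfl⟩, rfl⟩
      refine ⟨π b, ⟨b, hb, rfl⟩, ?_⟩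
      change π g * π b * (π g)⁻¹ = π (g * b * g⁻¹)
      rw [map_mul, map_mul, map_inv]
    · rintro ⟨_, ⟨b, hb, rfl⟩, rfl⟩
      refine ⟨g * b * g⁻¹, ⟨b, hb, rfl⟩, ?_⟩
      change π (g * b * g⁻¹) = π g * π b * (π g)⁻¹
      rw [map_mul, map_mul, map_inv]
  have hcjA : ∀ i, Orb.cj (g' i) A' = A' := by
    intro i
    refine Orb.cj_eq_of_le (Orb.cj_le_iff (h7 (g' i) fun a ha => ?_))
    rw [hg', ← hg i]
    exact Orb.mem_cj ha
  have h10 := hel.pow_le_index (φ := φ) hr2 h2 hle hi hne g' hcjA (fun i j hij hcon => hgd i j hij (by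
    have := congrArg (Subgroup.map π) hcon
    rwa [hcjmap, hcjmap, hg', hg'] at this))
  rw [Fintype.card_fin, ← pow_mul] at h10
  exact ((Nat.pow_le_pow_right (by norm_num) hm).trans h10).trans (Nat.le_of_dvd Nat.card_pos (Subgroup.index_dvd_card _))

end Rows

end Cfsg.Agent.Omega.TwoF.WeightCover
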