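import Cfsg.Agent.Omega.TwoF.RkLin
import Cfsg.Agent.Schreier.ClassPSL
import Cfsg.Agent.LieRecognition.FieldSemilinear

/-!
# Elementary abelian `2`-subgroups of `Aut (PSL_n(q))`, `q` odd
-/

set_option autoImplicit false
set_option linter.unusedSectionVars false

namespace Cfsg.Agent.Omega.TwoF.RkPSL

open Matrix Cfsg.Agent.Omega.TwoF.RkLin
open Cfsg.Agent.ClassicalGeometry.AutPSL.Root Cfsg.Agent.ClassicalGeometry.AutPSL.Auto
  Cfsg.Agent.ClassicalGeometry.AutPSL.Main Cfsg.Agent.Schreier.ClassPSL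

/-- Every elementary abelian `2`-subgroup of `Aut K` has order at most `2 ^ a`. -/
def RkAut (K : Type*) [Group K] (a : ℕ) : Prop :=
  ∀ A : Subgroup (MulAut K), (∀ x ∈ A, x * x = 1) → Nat.card A ≤ 2 ^ a

/-- An injective homomorphism gives a lower bound. -/
theorem RkAut.of_normal {K : Type*} [Group K] {a : ℕ} (h : RkAut K a) {X : Type*} [Group X]
    {N : Subgroup X} [N.Normal] (e : N ≃* K) (hC : Subgroup.centralizer (N : Set X) = ⊥)
    (A : Subgroup X) (hA : ∀ x ∈ A, x * x = 1) : Nat.card A ≤ 2 ^ a := by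
  let f : X →* MulAut K := (MulAut.congr e).toMonoidHom.comp (MulAut.conjNormal (H := N))
  have hf : Function.Injective f := by
    rw [injective_iff_map_eq_one]
    intro x hx
    have h1 : (MulAut.conjNormal x : MulAut N) = 1 := by
      apply (MulAut.congr e).injective
      rw [map_one]
      exact hx
    have h2 : x ∈ Subgroup.centralizer (N : Set X) := by
      rw [Subgroup.mem_centralizer_iff]
      intro g hg
      have h3 := congrArg (fun φ : MulAut N => ((φ ⟨g, hg⟩ : N) : X)) h1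
      simp only [MulAut.conjNormal_apply, MulAut.one_apply] at h3
      calc g * x = (x * g * x⁻¹) * x := by rw [h3]
        _ = x * g := by group
    rw [hC, Subgroup.mem_bot] at h2
    exact h2
  have h3 := h (A.map f) (by
    rintro _ ⟨x, hx, rfl⟩
    rw [← map_mul, hA x hx, map_one])
  rwa [Subgroup.card_map_of_injective hf] at h3

/-- Involutory automorphisms of a finite field are unique. -/
theorem field_inv_unique {F : Type*} [Field F] [Finite F] {σ τ : F ≃+* F} (hσ : σ * σ = 1)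
    (hτ : τ * τ = 1) (h1 : σ ≠ 1) (h2 : τ ≠ 1) : σ = τ := by
  classical
  have hc : IsCyclic (F ≃+* F) := LieRecognition.FieldSemilinear.isCyclic_ringAut F
  haveI : Finite (F ≃+* F) :=
    Finite.of_injective (fun f : F ≃+* F => (f : F → F)) DFunLike.coe_injective
  haveI := Fintype.ofFinite (F ≃+* F)
  by_contra hne
  have hle := IsCyclic.card_pow_eq_one_le (α := F ≃+* F) (n := 2) (by norm_num)
  have hsub : ({1, σ, τ} : Finset (F ≃+* F)) ⊆ Finset.univ.filter (fun a => a ^ 2 = 1) := by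
    intro a ha
    rw [Finset.mem_filter]
    refine ⟨Finset.mem_univ _, ?_⟩
    simp only [Finset.mem_insert, Finset.mem_singleton] at ha
    rcases ha with rfl | rfl | rfl
    · exact one_pow 2
    · rw [pow_two, hσ]
    · rw [pow_two, hτ]
  have h3 : ({1, σ, τ} : Finset (F ≃+* F)).card = 3 := by
    rw [Finset.card_eq_three]
    exact ⟨1, σ, τ, h1.symm, h2.symm, hne, rfl⟩
  have h4 := Finset.card_le_card hsub
  omega

variable {F : Type*} [Field F] [Fintype F] {n : ℕ}

theorem finite_mulAut (K : Type*) [Group K] [Finite K] : Finite (MulAut K) :=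
  Finite.of_injective (fun f : MulAut K => (f : K → K)) DFunLike.coe_injective

instance : Finite (MulAut (Matrix.ProjectiveSpecialLinearGroup (Fin n) F)) :=
  haveI : Finite (Matrix.ProjectiveSpecialLinearGroup (Fin n) F) :=
    Finite.of_surjective _ pr_surjective
  finite_mulAut _

/-- Diagonal automorphisms only. -/
theorem card_linear (h2 : (2 : F) ≠ 0) (hn : 2 ≤ n)
    (A : Subgroup (MulAut (Matrix.ProjectiveSpecialLinearGroup (Fin n) F)))
    (hA : ∀ x ∈ A, x * x = 1) (h : ∀ x ∈ A, ∃ C : GL (Fin n) F, x = lift (cj C)) :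
    Nat.card A ≤ 2 ^ rk n := by
  have hnt : Nontrivial (Fin n) := Fin.nontrivial_iff_two_le.2 hn
  choose φ hφ using fun a : A => h a.1 a.2
  refine card_le_matrix h2 (Fintype.card_fin n) (by omega) φ ?_ (fun a => Subtype.ext (hA a.1 a.2))
    ?_
  · intro a b
    have h1 : lift (cj ((φ (a * b))⁻¹ * (φ a * φ b)) * fld 1)
        = lift (fld (1 : F ≃+* F)) := by
      rw [map_one fld, mul_one, map_one, map_mul cj, map_mul cj, map_mul, map_mul, map_inv cj,
        map_inv, ← hφ, ← hφ, ← hφ]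
      exact inv_mul_cancel _
    obtain ⟨⟨r, hr⟩, -⟩ := injective_aux h1
    refine ⟨r, ?_⟩
    have h3 : (φ a : Matrix (Fin n) (Fin n) F) * (φ b : Matrix (Fin n) (Fin n) F)
        = (φ (a * b) : Matrix (Fin n) (Fin n) F) *
          (((φ (a * b))⁻¹ * (φ a * φ b) : GL (Fin n) F) : Matrix (Fin n) (Fin n) F) := by
      rw [← Units.val_mul, ← Units.val_mul, mul_inv_cancel_left]
    rw [h3, ← hr]
    ext i j
    simp [Matrix.scalar, mul_comm]
  · rintro a ⟨c, hc⟩
    apply Subtype.ext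
    rw [hφ a]
    have : cj (φ a) = 1 := cj_eq_one_of_scalar (r := c) (by
      rw [hc]
      ext i j
      simp [Matrix.scalar, Matrix.one_apply, Matrix.diagonal_apply])
    rw [this, map_one]
    rfl

theorem semi_mul (C D : GL (Fin n) F) (σ τ : F ≃+* F) :
    lift (cj C * fld σ) * lift (cj D * fld τ)
      = lift (cj (C * Matrix.GeneralLinearGroup.map (σ : F →+* F) D) * fld (σ * τ)) := by
  rw [← map_mul, mul_assoc, ← mul_assoc (fld σ), fld_mul_cj, map_mul cj, map_mul fld]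
  simp only [mul_assoc]

theorem field_sq (hn : 2 ≤ n) {C : GL (Fin n) F} {σ : F ≃+* F}
    (h : lift (cj C * fld σ) * lift (cj C * fld σ) = 1) : σ * σ = 1 := by
  have hnt : Nontrivial (Fin n) := Fin.nontrivial_iff_two_le.2 hn
  rw [semi_mul] at h
  have h1 : lift (cj (C * Matrix.GeneralLinearGroup.map (σ : F →+* F) C) * fld (σ * σ))
      = lift (fld (1 : F ≃+* F)) := by
    rw [h, map_one fld, map_one]
  exact (injective_aux h1).2

/-- Diagonal and field automorphisms. -/
theorem card_semi (h2 : (2 : F) ≠ 0) (hn : 2 ≤ n)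
    (A : Subgroup (MulAut (Matrix.ProjectiveSpecialLinearGroup (Fin n) F)))
    (hA : ∀ x ∈ A, x * x = 1)
    (h : ∀ x ∈ A, ∃ (C : GL (Fin n) F) (σ : F ≃+* F), x = lift (cj C * fld σ)) :
    Nat.card A ≤ 2 * 2 ^ rk n := by
  let A1 : Subgroup (MulAut (Matrix.ProjectiveSpecialLinearGroup (Fin n) F)) :=
    A ⊓ (MonoidHom.range (lift.comp cj))
  have h1 : Nat.card A ≤ 2 * Nat.card A1 := by
    apply card_le_two_mul
    intro x hx hxn y hy hyn
    obtain ⟨C, σ, hC⟩ := h x hx
    obtain ⟨D, τ, hD⟩ := h y hy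
    have hσ : σ * σ = 1 := field_sq hn (by rw [← hC]; exact hA x hx)
    have hτ : τ * τ = 1 := field_sq hn (by rw [← hD]; exact hA y hy)
    have hσ1 : σ ≠ 1 := by
      rintro rfl
      exact hxn ⟨hx, C, by rw [hC, map_one, mul_one]; rfl⟩
    have hτ1 : τ ≠ 1 := by
      rintro rfl
      exact hyn ⟨hy, D, by rw [hD, map_one, mul_one]; rfl⟩
    have hστ := field_inv_unique hσ hτ hσ1 hτ1
    refine ⟨mul_mem hx hy, C * Matrix.GeneralLinearGroup.map (σ : F →+* F) D, ?_⟩
    rw [hC, hD, semi_mul, ← hστ, hσ, map_one, mul_one]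
    rfl
  have h3 := card_linear h2 hn A1 (fun x hx => hA x hx.1) (by
    rintro x ⟨-, C, hC⟩
    exact ⟨C, hC.symm⟩)
  omega

theorem card_semi_odd (h2 : (2 : F) ≠ 0) (hn : 2 ≤ n)
    (hF : ∀ σ : F ≃+* F, σ * σ = 1 → σ = 1)
    (A : Subgroup (MulAut (Matrix.ProjectiveSpecialLinearGroup (Fin n) F)))
    (hA : ∀ x ∈ A, x * x = 1)
    (h : ∀ x ∈ A, ∃ (C : GL (Fin n) F) (σ : F ≃+* F), x = lift (cj C * fld σ)) :
    Nat.card A ≤ 2 ^ rk n := by
  apply card_linear h2 hn A hA
  intro x hx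
  obtain ⟨C, σ, hC⟩ := h x hx
  have hσ : σ * σ = 1 := field_sq hn (by rw [← hC]; exact hA x hx)
  have := hF σ hσ
  subst this
  exact ⟨C, by rw [hC, map_one, mul_one]⟩

/-- Graph automorphisms: index at most two. -/
theorem card_graph (hn : 3 ≤ n) {k : ℕ}
    (A : Subgroup (MulAut (Matrix.ProjectiveSpecialLinearGroup (Fin n) F)))
    (hk : ∀ B ≤ A, (∀ x ∈ B, ∃ (C : GL (Fin n) F) (σ : F ≃+* F), x = lift (cj C * fld σ)) →
      Nat.card B ≤ k) : Nat.card A ≤ 2 * k := by
  obtain ⟨p, hp⟩ := CharP.exists F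
  haveI : Fact p.Prime := ⟨CharP.char_is_prime F p⟩
  have hnt : Nontrivial (Fin n) := Fin.nontrivial_iff_two_le.2 (by omega)
  let P : Subgroup (MulAut (Matrix.ProjectiveSpecialLinearGroup (Fin n) F)) :=
    { carrier := {x | ∃ (C : GL (Fin n) F) (σ : F ≃+* F), x = lift (cj C * fld σ)}
      mul_mem' := by
        rintro _ _ ⟨C, σ, rfl⟩ ⟨D, τ, rfl⟩
        exact ⟨_, _, semi_mul C D σ τ⟩
      one_mem' := ⟨1, 1, by rw [map_one, map_one, mul_one, map_one]⟩
      inv_mem' := by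
        rintro _ ⟨C, σ, rfl⟩
        refine ⟨Matrix.GeneralLinearGroup.map ((σ⁻¹ : F ≃+* F) : F →+* F) C⁻¹, σ⁻¹, ?_⟩
        rw [← map_inv]
        congr 1
        rw [_root_.mul_inv_rev, ← map_inv, ← map_inv, fld_mul_cj] }
  have h1 : Nat.card A ≤ 2 * Nat.card (A ⊓ P : Subgroup _) := by
    apply card_le_two_mul
    intro x hx hxn y hy hyn
    have hx' : ¬ ∃ (C : GL (Fin n) F) (σ : F ≃+* F), x = lift (cj C * fld σ) :=
      fun h' => hxn ⟨hx, h'⟩
    have hy' : ¬ ∃ (C : GL (Fin n) F) (σ : F ≃+* F), y = lift (cj C * fld σ) :=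
      fun h' => hyn ⟨hy, h'⟩
    obtain ⟨C, σ, hC⟩ := (surj_three p hn x).resolve_left hx'
    obtain ⟨D, τ, hD⟩ := (surj_three p hn y).resolve_left hy'
    refine ⟨mul_mem hx hy, C * Matrix.GeneralLinearGroup.map (σ : F →+* F) (ctr D), σ * τ, ?_⟩
    have h5 : cj C * fld σ * itr * (cj D * fld τ * itr)
        = cj C * fld σ * (cj (ctr D) * fld τ) := by
      calc cj C * fld σ * itr * (cj D * fld τ * itr)
          = cj C * fld σ * ((itr * cj D) * (fld τ * itr)) := by simp only [mul_assoc]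
        _ = cj C * fld σ * ((cj (ctr D) * itr) * (itr * fld τ)) := by
            rw [itr_mul_cj, itr_mul_fld]
        _ = cj C * fld σ * (cj (ctr D) * ((itr * itr) * fld τ)) := by simp only [mul_assoc]
        _ = cj C * fld σ * (cj (ctr D) * fld τ) := by rw [itr_mul_itr, one_mul]
    rw [hC, hD, ← map_mul, h5, map_mul, semi_mul]
  have h3 := hk (A ⊓ P) inf_le_left (fun x hx => hx.2)
  omega

/-- `Aut (PSL_n(q))`, `q` odd, `n ≥ 3`. -/
theorem rkAut (h2 : (2 : F) ≠ 0) (hn : 3 ≤ n) :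
    RkAut (Matrix.ProjectiveSpecialLinearGroup (Fin n) F) (rk n + 2) := by
  intro A hA
  have := card_graph hn A (k := 2 * 2 ^ rk n)
    (fun B hB h => card_semi h2 (by omega) B (fun x hx => hA x (hB hx)) h)
  rw [pow_add]
  omega

/-- `Aut (PSL_n(q))`, `q` odd and not a square, `n ≥ 3`. -/
theorem rkAut_odd (h2 : (2 : F) ≠ 0) (hn : 3 ≤ n) (hF : ∀ σ : F ≃+* F, σ * σ = 1 → σ = 1) :
    RkAut (Matrix.ProjectiveSpecialLinearGroup (Fin n) F) (rk n + 1) := by
  intro A hA
  have := card_graph hn A (k := 2 ^ rk n)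
    (fun B hB h => card_semi_odd h2 (by omega) hF B (fun x hx => hA x (hB hx)) h)
  rw [pow_add]
  omega

/-- `Aut (PSL_2(q))`, `q` odd. -/
theorem rkAut_two (h2 : (2 : F) ≠ 0) :
    RkAut (Matrix.ProjectiveSpecialLinearGroup (Fin 2) F) 3 := by
  obtain ⟨p, hp⟩ := CharP.exists F
  haveI : Fact p.Prime := ⟨CharP.char_is_prime F p⟩
  intro A hA
  have := card_semi h2 le_rfl A hA (fun x _ => surj_two p x)
  have h3 : rk 2 = 2 := by decide
  rw [h3] at this
  omega

/-- `Aut (PSL_2(q))`, `q` odd and not a square. -/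
theorem rkAut_two_odd (h2 : (2 : F) ≠ 0) (hF : ∀ σ : F ≃+* F, σ * σ = 1 → σ = 1) :
    RkAut (Matrix.ProjectiveSpecialLinearGroup (Fin 2) F) 2 := by
  obtain ⟨p, hp⟩ := CharP.exists F
  haveI : Fact p.Prime := ⟨CharP.char_is_prime F p⟩
  intro A hA
  have := card_semi_odd h2 le_rfl hF A hA (fun x _ => surj_two p x)
  have h3 : rk 2 = 2 := by decide
  rwa [h3] at this

end Cfsg.Agent.Omega.TwoF.RkPSL
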