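import Cfsg.Agent.Omega.TwoF.McLLB
import Cfsg.Agent.TypeM.FactsMcL
import Cfsg.Agent.TypeM.FactsAut
import Cfsg.Agent.Omega.TwoF.Bridge
import Cfsg.Agent.Omega.TwoF.Rk
import Cfsg.Agent.Omega.KFacts
import Cfsg.Agent.OddHalf.Table.OutBasic

/-!
# TABLE 2F: the row McL

`LB McL 20` and `m_2(Aut McL) ≤ 6`: `|Aut McL|_2 ≤ 2^8` and an element of order 8.
-/

set_option autoImplicit false
set_option Elab.async false

namespace Cfsg.Agent.Omega.TwoF.RowMcL

open Subgroup Cfsg Cfsg.Agent.McLType.Model Cfsg.Agent.McLType.X275 Cfsg.Agent.McLType.Gens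
open Cfsg.Agent.SporadicStructure.PermChain Cfsg.Agent.TypeM
open Cfsg.Agent.TypeM.Two (MT)

universe u w

theorem fact_le {n e : ℕ} (hn : n ≠ 0) (h : ¬ 2 ^ (e + 1) ∣ n) : n.factorization 2 ≤ e := by
  by_contra hlt
  exact h ((Nat.Prime.pow_dvd_iff_le_factorization Nat.prime_two hn).2 (by omega))

/-- An element of order 8. -/
theorem exists_order8 : ∃ g : G1, orderOf g = 2 ^ 3 := by
  have : Fact (Nat.Prime 2) := ⟨Nat.prime_two⟩
  refine ⟨(([0, 1, 2] : List (Fin 7)).map m).prod, orderOf_eq_prime_pow (n := 2) ?_ ?_⟩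
  · intro h
    rw [← pow_word] at h
    have h1 := congrArg ψ h
    rw [map_list_prod, map_one, List.map_map] at h1
    have h2 : (ψ ∘ m) = σ := funext ψ_m
    rw [h2] at h1
    have h5 : ∀ i : Fin 275, (i : ℕ) = evalWord 9 tabs
        ((List.replicate (2 ^ 2) ([0, 1, 2] : List (Fin 7))).flatten.map (fun k => (k : ℕ))) i := by
      intro i
      have h3 := evalWord_σ (List.replicate (2 ^ 2) ([0, 1, 2] : List (Fin 7))).flatten i
      rw [h1] at h3
      exact h3
    have h4 : ¬ ∀ i : Fin 275, (i : ℕ) = evalWord 9 tabs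
        ((List.replicate (2 ^ 2) ([0, 1, 2] : List (Fin 7))).flatten.map (fun k => (k : ℕ))) i := by
      decide +kernel
    exact h4 h5
  · rw [← pow_word]
    exact word_m (by decide +kernel)

theorem index_cases {K : Type u} [Group K] [Finite K] (L : MT 8 K) (hc : Nat.card K = 898128000) :
    (MulAut.conj : K →* MulAut K).range.index = 1 ∨ (MulAut.conj : K →* MulAut K).range.index = 2 := by
  have hG := FactsAut.gen L (Or.inl ⟨rfl, hc⟩)
  by_cases hall : ∀ α : MulAut K, α ∈ (MulAut.conj : K →* MulAut K).range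
  · left
    rw [index_eq_one, eq_top_iff]
    exact fun α _ => hall α
  right
  push Not at hall
  obtain ⟨a, ha⟩ := hall
  rw [index_eq_two_iff]
  refine ⟨a, fun b => ?_⟩
  by_cases hb : b ∈ (MulAut.conj : K →* MulAut K).range
  · right
    refine ⟨hb, fun h => ha ?_⟩
    have := mul_mem (inv_mem hb) h
    rwa [inv_mul_cancel_left] at this
  · left
    refine ⟨?_, hb⟩
    obtain ⟨g, hg⟩ := FactsAut.mul_inner L (Or.inl rfl) hG
      (fun g h => hb ⟨g, h.symm⟩) (fun g h => ha ⟨g, h.symm⟩)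
    exact ⟨g, hg.symm⟩

theorem facts {K : Type u} [Group K] (h : Spor.IsoMcL K) :
    Finite K ∧ IsSimpleGroup K ∧ center K = ⊥ ∧ Rk.RK.{w} K 6 := by
  obtain ⟨hfin, hs, hc, ⟨L⟩⟩ := FactsMcL.facts h
  have hZ : center K = ⊥ := Cfsg.Agent.OddHalf.Table.OutBasic.center_eq_bot (by rw [hc]; norm_num)
  have hidx := index_cases L hc
  have hfin' : Finite (MulAut K) :=
    Finite.of_injective (fun φ => (φ : K → K)) DFunLike.coe_injective
  obtain ⟨e⟩ := h
  obtain ⟨e1⟩ := isoMcL_G1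
  obtain ⟨g, hg⟩ := exists_order8
  refine ⟨hfin, hs, hZ, Rk.rk_of_elt (e := 8) (k := 3) ?_ ((e1.trans e.symm) g) ?_ (by norm_num)⟩
  · have h1 := Rk.card_mulAut_le hZ (n := 2) (by rcases hidx with h | h <;> rw [h] <;> norm_num)
    have h2 : Nat.card (MulAut K) ≠ 0 := Nat.card_pos.ne'
    apply fact_le h2
    intro h3
    have h4 := h3.trans h1
    rw [hc] at h4
    norm_num at h4
  · rw [← hg]
    exact orderOf_injective (e1.trans e.symm).toMonoidHom (e1.trans e.symm).injective g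

theorem dead {K : Type u} [Group K] (h : Spor.IsoMcL K) : Dead2.{u} K := by
  obtain ⟨hfin, hs, hZ, hr⟩ := facts.{u, u} h
  exact Dead2.of_lb (LB.of_heis (lb_McL h)) (RK.of_rk hZ hr) (by norm_num)

/-- **The row `McL`.** -/
theorem row : KFacts.KillRow.{u} @Spor.IsoMcL := by
  intro K _ h
  obtain ⟨-, hs, hZ, -⟩ := facts.{u, u} h
  exact (dead h).kill hZ inferInstance

end Cfsg.Agent.Omega.TwoF.RowMcL
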