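import Cfsg.Agent.Omega.TwoF.FiWords
import Cfsg.Agent.Omega.Quasithin.Row.Cox

/-!
# TABLE 2F: `LB K 54` for `K = Fi22, Fi23, Fi24'`

`lb_fi22`, `lb_fi23` : from simplicity; `lb_fi24` : from simplicity and the spider relation in `Fi24`
(`Fischer.Fi24Spider`).
-/

set_option autoImplicit false
set_option maxRecDepth 10000

universe u v w

namespace Cfsg.Agent.Omega.TwoF.RowFiLB

open Subgroup Cfsg.Spor Cfsg.Agent.Omega.Quasithin.Row.E27 Cfsg.Agent.Omega.Quasithin.Row.Cox
open Cfsg.Agent.Fischer.Derived (M8 lab ev spider ev_cons ev_nil)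
open Cfsg.Agent.Omega.TwoF.FiCfg
open Cfsg.Agent.Omega.Lie.Heis (LB)

section

variable {α : Type*} [DecidableEq α] {edges : List (α × ℕ × α)} {extra : List (FreeGroup α)}

/-- the elements `b, …, i` -/
def sn (extra : List (FreeGroup α)) (edges : List (α × ℕ × α)) (nd : Fin 8 → α) (k : Fin 8) :
    CoxPresented α edges extra := PresentedGroup.of (nd k)

theorem lift (hn : ∀ x, x ∈ coxNodes edges) (nd : Fin 8 → α) (h : ∀ i j, lab i j = coxLabel edges (nd i) (nd j)) :
    M8.IsLiftable (sn extra edges nd) := by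
  intro i j
  show (sn extra edges nd i * sn extra edges nd j) ^ lab i j = 1
  rw [h]
  exact cox (hn _) (hn _)

/-- **`LB K 54` for a simple group presented on a Coxeter diagram with the spider relation.** -/
theorem lb [IsSimpleGroup (CoxPresented α edges extra)] (hn : ∀ x, x ∈ coxNodes edges) (nd : Fin 8 → α)
    (h : ∀ i j, lab i j = coxLabel edges (nd i) (nd j)) (hsp : ev (sn extra edges nd) spider ^ 10 = 1) (a : α)
    (hb : coxLabel edges a (nd 0) = 3) (hc : ∀ i : Fin 8, i ≠ 0 → i ≠ 5 → coxLabel edges a (nd i) = 2)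
    (hab : (PresentedGroup.of a : CoxPresented α edges extra) ≠ PresentedGroup.of (nd 0)) :
    LB.{_, v, w} (CoxPresented α edges extra) 54 :=
  (cfg (lift hn nd h) hsp).lb (Z_ne (lift hn nd h) (a := PresentedGroup.of a) (cox_sq (hn a))
    (cox_three (hn _) (hn _) hb) hab (fun i h0 h5 => cox_comm (hn _) (hn _) (hc i h0 h5)))

end

theorem lb_fi22 [hs : IsSimpleGroup Fi22] (hcard : ¬ ∀ a b : Fi22, a * b = b * a) : LB.{0, v, w} Fi22 54 := by
  refine lb nodes_Fi22 ![.b, .c, .d, .e, .f, .g, .h, .i] (by decide) ?_ .a (by decide) (by decide)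
    (ne_of_walk nodes_Fi22 hcard _ _
      [(.a, .b, .c), (.a, .c, .d), (.a, .d, .e), (.a, .d, .h), (.a, .e, .f), (.a, .h, .i), (.a, .f, .g)]
      (fun x => by cases x <;> decide))
  have h : (Fi22.d * Fi22.c * Fi22.b * Fi22.d * Fi22.e * Fi22.f * Fi22.d * Fi22.h * Fi22.i) ^ 10 ∈
      coxRelators Fi22.edges ∪ {r | r ∈ Fi22.extra} := by
    right
    show _ ∈ Fi22.extra
    unfold Fi22.extra
    simp
  have h1 := PresentedGroup.one_of_mem h
  simp only [map_mul, map_pow] at h1
  rw [← h1]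
  congr 1

theorem lb_fi23 [hs : IsSimpleGroup Fi23] (hcard : ¬ ∀ a b : Fi23, a * b = b * a) : LB.{0, v, w} Fi23 54 := by
  refine lb nodes_Fi23 ![.b, .c, .d, .e, .f, .g, .h, .i] (by decide) ?_ .a (by decide) (by decide)
    (ne_of_walk nodes_Fi23 hcard _ _
      [(.a, .b, .c), (.a, .c, .d), (.a, .d, .e), (.a, .d, .h), (.a, .e, .f), (.a, .h, .i), (.a, .f, .g), (.a, .g, .j)]
      (fun x => by cases x <;> decide))
  have h : (Fi23.d * Fi23.c * Fi23.b * Fi23.d * Fi23.e * Fi23.f * Fi23.d * Fi23.h * Fi23.i) ^ 10 ∈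
      coxRelators Fi23.edges ∪ {r | r ∈ Fi23.extra} := by
    right
    show _ ∈ Fi23.extra
    unfold Fi23.extra
    simp
  have h1 := PresentedGroup.one_of_mem h
  simp only [map_mul, map_pow] at h1
  rw [← h1]
  congr 1

/-! ### `Fi24'` -/

/-- the generator `x` of `Fi24` -/
abbrev gx (x : Fi24.Gen) : Fi24 := PresentedGroup.of x

theorem l_comm {x : Fi24.Gen} (h : coxLabel Fi24.edges x .l = 2) : gx x * gx .l = gx .l * gx x :=
  cox_comm (nodes_Fi24 _) (nodes_Fi24 _) h

theorem l_sq : gx .l * gx .l = 1 := cox_sq (nodes_Fi24 _)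

/-- `x * l` lies in the commutator subgroup -/
theorem mem_comm (x : Fi24.Gen) : gx x * gx .l ∈ commutator Fi24 := by
  have h : ∀ x y : Fi24.Gen, coxLabel Fi24.edges x y = 3 → gx y * gx .l ∈ commutator Fi24 →
      gx x * gx .l ∈ commutator Fi24 := by
    intro x y h3 hy
    have h1 : gx x * gx y ∈ commutator Fi24 :=
      mul_mem_commutator (cox_sq (nodes_Fi24 x)) (cox_sq (nodes_Fi24 y)) (cox_three (nodes_Fi24 x) (nodes_Fi24 y) h3)
    have h2 : gx x * gx .l = gx x * gx y * (gx y * gx .l) := by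
      rw [mul_assoc, ← mul_assoc (gx y), cox_sq (nodes_Fi24 y), one_mul]
    rw [h2]
    exact mul_mem h1 hy
  have hl : gx .l * gx .l ∈ commutator Fi24 := by rw [l_sq]; exact one_mem _
  have hk := h .k .l (by decide) hl
  have ha := h .a .k (by decide) hk
  have hb := h .b .a (by decide) ha
  have hc := h .c .b (by decide) hb
  have hd := h .d .c (by decide) hc
  have he := h .e .d (by decide) hd
  have hf := h .f .e (by decide) he
  have hg := h .g .f (by decide) hf
  have hj := h .j .g (by decide) hg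
  have hh := h .h .d (by decide) hd
  have hi := h .i .h (by decide) hh
  cases x <;> assumption

/-- the element `x * l` of `Fi24'` -/
def sl (x : Fi24.Gen) : Fi24' := ⟨gx x * gx .l, mem_comm x⟩

theorem sl_mul {x y : Fi24.Gen} (_ : coxLabel Fi24.edges x .l = 2) (hy : coxLabel Fi24.edges y .l = 2) :
    ((sl x * sl y : Fi24') : Fi24) = gx x * gx y := by
  show gx x * gx .l * (gx y * gx .l) = _
  rw [l_comm hy, mul_assoc, ← mul_assoc (gx .l), l_sq, one_mul]

theorem sl_pow {x y : Fi24.Gen} (hx : coxLabel Fi24.edges x .l = 2) (hy : coxLabel Fi24.edges y .l = 2) :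
    (sl x * sl y) ^ coxLabel Fi24.edges x y = 1 := by
  apply Subtype.ext
  rw [Subgroup.coe_pow, sl_mul hx hy, cox (nodes_Fi24 _) (nodes_Fi24 _)]
  rfl

/-- the eight nodes -/
def nd : Fin 8 → Fi24.Gen := ![.b, .c, .d, .e, .f, .g, .h, .i]

theorem nd_l : ∀ i, coxLabel Fi24.edges (nd i) .l = 2 := by decide

theorem nd_lab : ∀ i j, lab i j = coxLabel Fi24.edges (nd i) (nd j) := by decide

theorem lift_sl : M8.IsLiftable fun i => sl (nd i) := by
  intro i j
  show (sl (nd i) * sl (nd j)) ^ lab i j = 1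
  rw [nd_lab]
  exact sl_pow (nd_l i) (nd_l j)

theorem ev_sl (w : List (Fin 8)) : ((ev (fun i => sl (nd i)) w : Fi24') : Fi24) =
    ev (fun i => gx (nd i)) w * gx .l ^ w.length := by
  induction w with
  | nil => rw [ev_nil, ev_nil, List.length_nil, pow_zero, mul_one]; rfl
  | cons i w ih =>
    rw [ev_cons, ev_cons, Subgroup.coe_mul, ih, List.length_cons]
    have h1 : ∀ w : List (Fin 8), ev (fun i => gx (nd i)) w * gx .l = gx .l * ev (fun i => gx (nd i)) w := by
      intro w
      induction w with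
      | nil => rw [ev_nil, one_mul, mul_one]
      | cons j w ih =>
        rw [ev_cons, mul_assoc, ih, ← mul_assoc, l_comm (nd_l j), mul_assoc]
    show gx (nd i) * gx .l * (ev (fun i => gx (nd i)) w * gx .l ^ w.length) = _
    rw [mul_assoc (gx (nd i)), ← mul_assoc (gx .l), ← h1, pow_succ']
    simp only [mul_assoc]

theorem spider_sl (hsp : ev (fun i => gx (nd i)) spider ^ 10 = 1) : ev (fun i => sl (nd i)) spider ^ 10 = 1 := by
  apply Subtype.ext
  rw [Subgroup.coe_pow, ev_sl]
  have h1 : ∀ w : List (Fin 8), Commute (ev (fun i => gx (nd i)) w) (gx .l) := by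
    intro w
    induction w with
    | nil => rw [ev_nil]; exact Commute.one_left _
    | cons j w ih =>
      rw [ev_cons]
      exact Commute.mul_left (l_comm (nd_l j)) ih
  have h2 : Commute (ev (fun i => gx (nd i)) spider) (gx .l ^ spider.length) := (h1 _).pow_right _
  rw [h2.mul_pow, hsp, one_mul, ← pow_mul]
  have h3 : gx .l ^ 2 = 1 := by rw [pow_two]; exact l_sq
  have h4 : spider.length * 10 = 2 * 45 := by decide
  rw [h4, pow_mul, h3, one_pow]
  rfl

theorem lb_fi24 [hs : IsSimpleGroup Fi24'] (hsp : ev (fun i => gx (nd i)) spider ^ 10 = 1) :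
    LB.{0, v, w} Fi24' 54 := by
  obtain ⟨x, hx⟩ := exists_ne (1 : Fi24')
  have hcard := not_comm_of_commutator x.2 fun h2 => hx (Subtype.ext h2)
  have hab : gx .a ≠ gx .b := ne_of_walk nodes_Fi24 hcard _ _
    [(.b, .a, .k), (.a, .b, .c), (.a, .k, .l), (.a, .c, .d), (.a, .d, .e), (.a, .d, .h), (.a, .e, .f), (.a, .h, .i),
      (.a, .f, .g), (.a, .g, .j)] (fun x => by cases x <;> decide)
  have hal : coxLabel Fi24.edges .a .l = 2 := by decide
  refine (cfg lift_sl (spider_sl hsp)).lb (Z_ne lift_sl (a := sl .a) ?_ ?_ ?_ ?_)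
  · have := sl_pow (x := .a) (y := .a) hal hal
    rwa [coxLabel, if_pos rfl, pow_one] at this
  · exact sl_pow (x := .a) (y := .b) hal (by decide)
  · intro h
    apply hab
    have h1 : gx .a * gx .l = gx .b * gx .l := congrArg Subtype.val h
    exact mul_right_cancel h1
  · intro i h0 h5
    have h2 : coxLabel Fi24.edges .a (nd i) = 2 := by revert h0 h5; revert i; decide
    have h3 : coxLabel Fi24.edges (nd i) .a = 2 := by revert h0 h5; revert i; decide
    apply Subtype.ext
    rw [sl_mul hal (nd_l i), sl_mul (nd_l i) hal]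
    exact cox_comm (nodes_Fi24 _) (nodes_Fi24 _) h2

end Cfsg.Agent.Omega.TwoF.RowFiLB
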