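import Cfsg.Agent.Omega.TwoF.AltRow
import Cfsg.Agent.Omega.AltRow.Small

/-!
# The row `alt` of `KFacts.Rows2`

`n ≤ 9` by the 2-rank (helper974), `n ≥ 9` by the degree theorem and the kill of the natural module.
-/

set_option autoImplicit false

namespace Cfsg.Agent.Omega.TwoF.AltAll

open Cfsg.Agent.Omega.EH3

universe u

theorem row : ∀ n : ℕ, 5 ≤ n → n ≠ 8 → RowEH3.{u} (alternatingGroup (Fin n)) := by
  intro n h5 _
  by_cases h9 : n ≤ 9
  · exact Cfsg.Agent.Omega.AltRow.row_small h5 h9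
  · exact RowEH3.of_kill (AltRow.kill_nine (by omega))

end Cfsg.Agent.Omega.TwoF.AltAll
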