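import Mathlib.GroupTheory.SpecificGroups.Alternating
import Mathlib.Tactic

/-!
# Three-cycles in the alternating group of a finite type

`C a b c` is the cycle `a → b → c → a` as an element of `alternatingGroup Ω`; `Sup S g`: `g` is supported in `S`.

* `conj`, `C_rot`, `C_sq`, `C_inv`;
* `exists_move`: `A_S` is transitive on ordered triples, `|S| ≥ 5`;
* `fixed_of_cycles`: a point fixed by all 3-cycles in `S` is fixed by `A_S`.
-/

set_option autoImplicit false
set_option linter.unusedSectionVars false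

namespace Cfsg.Agent.Omega.TwoF.AltCyc

open Equiv Equiv.Perm

universe u w

variable {Ω : Type u} [DecidableEq Ω] [Fintype Ω]

/-- the cycle `a → b → c → a` (junk for equal entries) -/
def C (a b c : Ω) : alternatingGroup Ω :=
  if h : a ≠ b ∧ b ≠ c then ⟨swap a b * swap b c, by
    rw [mem_alternatingGroup, Perm.sign_mul, sign_swap h.1, sign_swap h.2]; decide⟩ else 1

/-- supported in `S` -/
def Sup (S : Finset Ω) (g : alternatingGroup Ω) : Prop := ∀ x, x ∉ S → (g : Perm Ω) x = x

theorem C_coe {a b c : Ω} (h1 : a ≠ b) (h2 : b ≠ c) : (C a b c : Perm Ω) = swap a b * swap b c := by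
  rw [C, dif_pos ⟨h1, h2⟩]

/-- `a`, `b`, `c` distinct -/
def D3 (a b c : Ω) : Prop := a ≠ b ∧ a ≠ c ∧ b ≠ c

theorem D3.rot {a b c : Ω} (h : D3 a b c) : D3 b c a := ⟨h.2.2, h.1.symm, h.2.1.symm⟩

theorem D3.swap {a b c : Ω} (h : D3 a b c) : D3 a c b := ⟨h.2.1, h.1, h.2.2.symm⟩

theorem D3.swap' {a b c : Ω} (h : D3 a b c) : D3 b a c := ⟨h.1.symm, h.2.2, h.2.1⟩

theorem D3.map {a b c : Ω} (h : D3 a b c) (g : Perm Ω) : D3 (g a) (g b) (g c) :=
  ⟨g.injective.ne h.1, g.injective.ne h.2.1, g.injective.ne h.2.2⟩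

theorem C_a {a b c : Ω} (h : D3 a b c) : (C a b c : Perm Ω) a = b := by
  rw [C_coe h.1 h.2.2, Perm.mul_apply, swap_apply_of_ne_of_ne h.1 h.2.1, swap_apply_left]

theorem C_b {a b c : Ω} (h : D3 a b c) : (C a b c : Perm Ω) b = c := by
  rw [C_coe h.1 h.2.2, Perm.mul_apply, swap_apply_left, swap_apply_of_ne_of_ne h.2.1.symm h.2.2.symm]

theorem C_c {a b c : Ω} (h : D3 a b c) : (C a b c : Perm Ω) c = a := by
  rw [C_coe h.1 h.2.2, Perm.mul_apply, swap_apply_right, swap_apply_right]

theorem C_of_ne {a b c x : Ω} (ha : x ≠ a) (hb : x ≠ b) (hc : x ≠ c) : (C a b c : Perm Ω) x = x := by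
  by_cases h : a ≠ b ∧ b ≠ c
  · rw [C_coe h.1 h.2, Perm.mul_apply, swap_apply_of_ne_of_ne hb hc, swap_apply_of_ne_of_ne ha hb]
  · rw [C, dif_neg h]; rfl

theorem conj (g : alternatingGroup Ω) (a b c : Ω) :
    g * C a b c * g⁻¹ = C ((g : Perm Ω) a) ((g : Perm Ω) b) ((g : Perm Ω) c) := by
  by_cases h : a ≠ b ∧ b ≠ c
  · apply Subtype.ext
    rw [C_coe ((g : Perm Ω).injective.ne h.1) ((g : Perm Ω).injective.ne h.2), Equiv.swap_apply_apply,
      Equiv.swap_apply_apply]
    show (g : Perm Ω) * (C a b c : Perm Ω) * (g : Perm Ω)⁻¹ = _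
    rw [C_coe h.1 h.2]
    group
  · have h' : ¬ ((g : Perm Ω) a ≠ (g : Perm Ω) b ∧ (g : Perm Ω) b ≠ (g : Perm Ω) c) := by
      simpa using h
    rw [C, dif_neg h, C, dif_neg h']
    simp

theorem mul_C (g : alternatingGroup Ω) (a b c : Ω) :
    g * C a b c = C ((g : Perm Ω) a) ((g : Perm Ω) b) ((g : Perm Ω) c) * g := by
  rw [← conj]; group

theorem C_rot {a b c : Ω} (h : D3 a b c) : C b c a = C a b c := by
  apply Subtype.ext
  ext x
  by_cases ha : x = a
  · subst ha; rw [C_a h, C_c h.rot]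
  by_cases hb : x = b
  · subst hb; rw [C_b h, C_a h.rot]
  by_cases hc : x = c
  · subst hc; rw [C_c h, C_b h.rot]
  rw [C_of_ne ha hb hc, C_of_ne hb hc ha]

theorem C_sq {a b c : Ω} (h : D3 a b c) : C a b c * C a b c = C a c b := by
  apply Subtype.ext
  ext x
  show (C a b c : Perm Ω) ((C a b c : Perm Ω) x) = _
  by_cases ha : x = a
  · subst ha; rw [C_a h, C_b h, C_a h.swap]
  by_cases hb : x = b
  · subst hb; rw [C_b h, C_c h, C_c h.swap]
  by_cases hc : x = c
  · subst hc; rw [C_c h, C_a h, C_b h.swap]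
  rw [C_of_ne ha hb hc, C_of_ne ha hb hc, C_of_ne ha hc hb]

theorem C_mul_inv {a b c : Ω} (h : D3 a b c) : C a b c * C a c b = 1 := by
  apply Subtype.ext
  ext x
  show (C a b c : Perm Ω) ((C a c b : Perm Ω) x) = x
  by_cases ha : x = a
  · subst ha; rw [C_a h.swap, C_c h]
  by_cases hb : x = b
  · subst hb; rw [C_c h.swap, C_a h]
  by_cases hc : x = c
  · subst hc; rw [C_b h.swap, C_b h]
  rw [C_of_ne ha hc hb, C_of_ne ha hb hc]

theorem C_inv {a b c : Ω} (h : D3 a b c) : (C a b c)⁻¹ = C a c b := by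
  rw [inv_eq_iff_mul_eq_one]; exact C_mul_inv h

theorem Sup.mono {S T : Finset Ω} (h : S ⊆ T) {g : alternatingGroup Ω} (hg : Sup S g) : Sup T g :=
  fun x hx => hg x fun h' => hx (h h')

theorem sup_univ (g : alternatingGroup Ω) : Sup Finset.univ g := fun x hx => absurd (Finset.mem_univ x) hx

theorem Sup.one {S : Finset Ω} : Sup S (1 : alternatingGroup Ω) := fun _ _ => rfl

theorem Sup.mul {S : Finset Ω} {g h : alternatingGroup Ω} (hg : Sup S g) (hh : Sup S h) : Sup S (g * h) := by
  intro x hx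
  show (g : Perm Ω) ((h : Perm Ω) x) = x
  rw [hh x hx, hg x hx]

theorem Sup.inv {S : Finset Ω} {g : alternatingGroup Ω} (hg : Sup S g) : Sup S g⁻¹ := by
  intro x hx
  show (g : Perm Ω)⁻¹ x = x
  rw [Perm.inv_eq_iff_eq, hg x hx]

theorem Sup.mem {S : Finset Ω} {g : alternatingGroup Ω} (hg : Sup S g) {x : Ω} (hx : x ∈ S) :
    (g : Perm Ω) x ∈ S := by
  by_contra h
  have := hg _ h
  rw [(g : Perm Ω).injective.eq_iff] at this
  rw [this] at h
  exact h hx

theorem sup_C {S : Finset Ω} {a b c : Ω} (ha : a ∈ S) (hb : b ∈ S) (hc : c ∈ S) : Sup S (C a b c) := by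
  intro x hx
  exact C_of_ne (fun h => hx (h ▸ ha)) (fun h => hx (h ▸ hb)) (fun h => hx (h ▸ hc))

/-- elements supported off `{a, b, c}` commute with `C a b c` -/
theorem comm_C {S : Finset Ω} {g : alternatingGroup Ω} (hg : Sup S g) {a b c : Ω} (ha : a ∉ S) (hb : b ∉ S)
    (hc : c ∉ S) : g * C a b c = C a b c * g := by
  rw [mul_C, hg a ha, hg b hb, hg c hc]

/-! ### Moving triples -/

/-- an element of `S` different from the given ones -/
theorem exists_not_mem {S : Finset Ω} (T : Finset Ω) (h : T.card < S.card) : ∃ x ∈ S, x ∉ T := by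
  by_contra hn
  push Not at hn
  exact absurd (Finset.card_le_card fun x hx => hn x hx) (by omega)

theorem exists_move {S : Finset Ω} (hS : 5 ≤ S.card) {a b c a' b' c' : Ω} (h : D3 a b c) (h' : D3 a' b' c')
    (ha : a ∈ S) (hb : b ∈ S) (hc : c ∈ S) (ha' : a' ∈ S) (hb' : b' ∈ S) (hc' : c' ∈ S) :
    ∃ g : alternatingGroup Ω, Sup S g ∧ (g : Perm Ω) a = a' ∧ (g : Perm Ω) b = b' ∧ (g : Perm Ω) c = c' := by
  classical
  have swS : ∀ x ∈ S, ∀ y ∈ S, ∀ z, z ∉ S → swap x y z = z := fun x hx y hy z hz =>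
    swap_apply_of_ne_of_ne (fun e => hz (e ▸ hx)) (fun e => hz (e ▸ hy))
  have swM : ∀ x ∈ S, ∀ y ∈ S, ∀ z ∈ S, swap x y z ∈ S := by
    intro x hx y hy z hz
    rw [swap_apply_def]
    split_ifs <;> assumption
  obtain ⟨g, hg, e1, e2, e3⟩ : ∃ g : Perm Ω, (∀ x, x ∉ S → g x = x) ∧ g a = a' ∧ g b = b' ∧ g c = c' := by
    let b₁ := swap a a' b
    let c₁ := swap a a' c
    let c₂ := swap b₁ b' c₁
    have hb1 : b₁ ≠ a' := by
      intro e
      have : swap a a' b = swap a a' a := by rw [swap_apply_left]; exact e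
      exact h.1 ((swap a a').injective this).symm
    have hc1 : c₁ ≠ a' := by
      intro e
      have : swap a a' c = swap a a' a := by rw [swap_apply_left]; exact e
      exact h.2.1 ((swap a a').injective this).symm
    have hbc1 : c₁ ≠ b₁ := by
      intro e
      exact h.2.2 ((swap a a').injective e).symm
    have hc2 : c₂ ≠ b' := by
      intro e
      have : swap b₁ b' c₁ = swap b₁ b' b₁ := by rw [swap_apply_left]; exact e
      exact hbc1 ((swap b₁ b').injective this)
    have hc2' : c₂ ≠ a' := by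
      intro e
      have : swap b₁ b' c₁ = swap b₁ b' a' := by
        rw [swap_apply_of_ne_of_ne hb1.symm h'.1]; exact e
      exact hc1 ((swap b₁ b').injective this)
    have m1 : b₁ ∈ S := swM _ ha _ ha' _ hb
    have m2 : c₁ ∈ S := swM _ ha _ ha' _ hc
    have m3 : c₂ ∈ S := swM _ m1 _ hb' _ m2
    refine ⟨swap c₂ c' * swap b₁ b' * swap a a', ?_, ?_, ?_, ?_⟩
    · intro x hx
      rw [Perm.mul_apply, Perm.mul_apply, swS _ ha _ ha' _ hx, swS _ m1 _ hb' _ hx, swS _ m3 _ hc' _ hx]
    · rw [Perm.mul_apply, Perm.mul_apply, swap_apply_left, swap_apply_of_ne_of_ne hb1.symm h'.1,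
        swap_apply_of_ne_of_ne hc2'.symm h'.2.1]
    · rw [Perm.mul_apply, Perm.mul_apply]
      show swap c₂ c' (swap b₁ b' b₁) = b'
      rw [swap_apply_left, swap_apply_of_ne_of_ne hc2.symm h'.2.2]
    · rw [Perm.mul_apply, Perm.mul_apply]
      show swap c₂ c' c₂ = c'
      rw [swap_apply_left]
  rcases Int.units_eq_one_or (sign g) with hs | hs
  · exact ⟨⟨g, mem_alternatingGroup.mpr hs⟩, hg, e1, e2, e3⟩
  · obtain ⟨d, hd, hd'⟩ := exists_not_mem (S := S) {a', b', c'} (lt_of_le_of_lt (Finset.card_le_three) (by omega))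
    obtain ⟨e, he, he'⟩ := exists_not_mem (S := S) {a', b', c', d} (lt_of_le_of_lt (Finset.card_le_four) (by omega))
    simp only [Finset.mem_insert, Finset.mem_singleton, not_or] at hd' he'
    refine ⟨⟨swap d e * g, ?_⟩, ?_, ?_, ?_, ?_⟩
    · rw [mem_alternatingGroup, Perm.sign_mul, hs, sign_swap (Ne.symm he'.2.2.2)]; decide
    · intro x hx
      show swap d e (g x) = x
      rw [hg x hx, swS _ hd _ he _ hx]
    · show swap d e (g a) = a'
      rw [e1, swap_apply_of_ne_of_ne (Ne.symm hd'.1) (Ne.symm he'.1)]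
    · show swap d e (g b) = b'
      rw [e2, swap_apply_of_ne_of_ne (Ne.symm hd'.2.1) (Ne.symm he'.2.1)]
    · show swap d e (g c) = c'
      rw [e3, swap_apply_of_ne_of_ne (Ne.symm hd'.2.2) (Ne.symm he'.2.2.1)]

/-! ### Generation by 3-cycles -/

/-- induction: the elements supported in `S` are products of 3-cycles in `S` -/
theorem sup_induction {S : Finset Ω} {P : alternatingGroup Ω → Prop} (h1 : P 1)
    (hC : ∀ a ∈ S, ∀ b ∈ S, ∀ c ∈ S, D3 a b c → ∀ g, Sup S g → P g → P (C a b c * g))
    {g : alternatingGroup Ω} (hg : Sup S g) : P g := by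
  classical
  have key : ∀ (n : ℕ) (T : Finset Ω) (g : alternatingGroup Ω), T ⊆ S → T.card ≤ n → Sup T g → P g := by
    intro n
    induction n with
    | zero =>
      intro T g _ hT hg
      have hT' : T = ∅ := Finset.card_eq_zero.mp (by omega)
      subst hT'
      have : g = 1 := by
        apply Subtype.ext
        ext x
        exact hg x (Finset.notMem_empty x)
      rw [this]; exact h1
    | succ n ih =>
      intro T g hTS hT hg
      by_cases hg1 : ∀ x, (g : Perm Ω) x = x
      · have : g = 1 := by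
          apply Subtype.ext
          ext x
          exact hg1 x
        rw [this]; exact h1
      push Not at hg1
      obtain ⟨a, ha⟩ := hg1
      have haT : a ∈ T := by
        by_contra h
        exact ha (hg a h)
      set b := (g : Perm Ω) a with hb
      have hbT : b ∈ T := hg.mem haT
      -- a third moved point
      obtain ⟨c, hca, hcb, hcT⟩ : ∃ c, c ≠ a ∧ c ≠ b ∧ c ∈ T := by
        by_contra hn
        push Not at hn
        have hgb : (g : Perm Ω) b = a := by
          have h1 : (g : Perm Ω) b ∈ T := hg.mem hbT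
          by_contra h2
          refine hn _ h2 ?_ h1
          intro h3
          have : (g : Perm Ω) b = (g : Perm Ω) a := h3
          exact ha ((g : Perm Ω).injective this)
        have hgs : (g : Perm Ω) = swap a b := by
          ext x
          by_cases hxa : x = a
          · subst hxa; rw [swap_apply_left]
          by_cases hxb : x = b
          · rw [hxb, swap_apply_right, hgb]
          rw [swap_apply_of_ne_of_ne hxa hxb]
          exact hg x fun h => hn x hxa hxb h
        have h2 := mem_alternatingGroup.mp g.2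
        rw [hgs, sign_swap (Ne.symm ha)] at h2
        exact absurd h2 (by decide)
      have hD : D3 a b c := ⟨Ne.symm ha, hca.symm, hcb.symm⟩
      -- remove `a` from the support
      have h3 : Sup (T.erase a) (C a c b * g) := by
        intro x hx
        show (C a c b : Perm Ω) ((g : Perm Ω) x) = x
        by_cases hxa : x = a
        · rw [hxa, ← hb, C_c hD.swap]
        · have hxT : x ∉ T := fun h => hx (Finset.mem_erase.mpr ⟨hxa, h⟩)
          rw [hg x hxT, C_of_ne hxa (fun h => hxT (h ▸ hcT)) (fun h => hxT (h ▸ hbT))]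
      have h4 : P (C a c b * g) := ih (T.erase a) _ ((Finset.erase_subset _ _).trans hTS)
        (by rw [Finset.card_erase_of_mem haT]; omega) h3
      have h5 := hC a (hTS haT) b (hTS hbT) c (hTS hcT) hD _
        ((h3.mono (Finset.erase_subset _ _)).mono hTS) h4
      rwa [← mul_assoc, C_mul_inv hD, one_mul] at h5
  exact key S.card S g (Finset.Subset.refl S) le_rfl hg

theorem fixed_of_cycles {S : Finset Ω} {X : Type w} [MulAction (alternatingGroup Ω) X] {v : X}
    (h : ∀ a ∈ S, ∀ b ∈ S, ∀ c ∈ S, D3 a b c → C a b c • v = v) {g : alternatingGroup Ω} (hg : Sup S g) :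
    g • v = v := by
  refine sup_induction (P := fun g => g • v = v) (one_smul _ _) ?_ hg
  intro a ha b hb c hc hD g _ hv
  rw [mul_smul, hv, h a ha b hb c hc hD]

end Cfsg.Agent.Omega.TwoF.AltCyc
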