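import Cfsg.Agent.Omega.TwoF.AltDeg
import Cfsg.Agent.Omega.TwoF.AltRk

/-!
# The natural module of the alternating group

`H` acts on `V`, permuting the 3-cycles of `A_Ω` through `σ : H → Sym Ω`; `V` is of natural type, `N = {0, v₀}`.

* `ε a b`: the vectors `E a b v₀`; `smul_ep`: `h • ε a b = ε (σ h a) (σ h b)`;
* `ev o B = ∑_{b ∈ B} ε o b`; for even `B` it does not depend on `o`; `ev_eq_zero`: the kernel is `∅`, `Ω`;
* `exists_ev`: if `H` is irreducible, every vector is `ev o B`, `B` even;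
* `card_le_four`: a normal elementary abelian 2-subgroup of the stabiliser of a vector has order at most 4.
-/

set_option autoImplicit false
set_option linter.unusedSectionVars false

namespace Cfsg.Agent.Omega.TwoF.AltKill

open Equiv Equiv.Perm AltCyc AltSplit AltSix AltNat AltPure AltDeg

universe u w x

variable {Ω : Type u} [DecidableEq Ω] [Fintype Ω]
variable {V : Type w} [AddCommGroup V] [Two V] [DistribMulAction (alternatingGroup Ω) V]
variable {H : Type x} [Group H] [DistribMulAction H V]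

theorem conjN (s : Perm Ω) (a b c : Ω) :
    (MulAut.conjNormal s (C a b c) : alternatingGroup Ω) = C (s a) (s b) (s c) := by
  by_cases h : a ≠ b ∧ b ≠ c
  · apply Subtype.ext
    rw [MulAut.conjNormal_apply, C_coe (s.injective.ne h.1) (s.injective.ne h.2), Equiv.swap_apply_apply,
      Equiv.swap_apply_apply, C_coe h.1 h.2]
    group
  · have h' : ¬ (s a ≠ s b ∧ s b ≠ s c) := by simpa using h
    rw [C, dif_neg h, C, dif_neg h', map_one]

/-- `H` acts on `V` and on `A_Ω` through `σ` -/
structure Act (V : Type w) [AddCommGroup V] [DistribMulAction (alternatingGroup Ω) V] [DistribMulAction H V]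
    (σ : H →* Perm Ω) (ι : alternatingGroup Ω →* H) : Prop where
  conj : ∀ (h : H) (g : alternatingGroup Ω) (v : V),
    h • g • v = (MulAut.conjNormal (σ h) g : alternatingGroup Ω) • h • v
  act : ∀ (g : alternatingGroup Ω) (v : V), ι g • v = g • v
  coe : ∀ g : alternatingGroup Ω, σ (ι g) = g

variable {σ : H →* Perm Ω} {ι : alternatingGroup Ω →* H}

theorem smulF (hA : Act V σ ι) (h : H) (a b c : Ω) (v : V) :
    h • F a b c v = F (σ h a) (σ h b) (σ h c) (h • v) := by
  rw [F_apply, F_apply, smul_add, hA.conj, hA.conj, conjN, conjN]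

theorem inv_univ (M : AddSubgroup V) (hM : M = ⊤) : Inv (Finset.univ : Finset Ω) M := by
  subst hM
  exact fun _ _ _ _ => trivial

section Nat

variable {p q r : Ω} {v₀ : V}

/-- the situation: natural type, `N = {0, v₀}` -/
structure Nt1 (p q r : Ω) (v₀ : V) : Prop where
  card : 6 ≤ Fintype.card Ω
  natl : Natl (Finset.univ : Finset Ω) (⊤ : AddSubgroup V)
  D : D3 p q r
  mem : v₀ ∈ NN (Finset.univ : Finset Ω) (⊤ : AddSubgroup V) p q r
  ne : v₀ ≠ 0
  eq : ∀ v ∈ NN (Finset.univ : Finset Ω) (⊤ : AddSubgroup V) p q r, v = 0 ∨ v = v₀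

/-- `ε a b` -/
noncomputable def ep (p q : Ω) (v₀ : V) (a b : Ω) : V :=
  if a = b then 0 else E (Finset.univ : Finset Ω) p q a b v₀

theorem ep_self (a : Ω) : ep p q v₀ a a = 0 := if_pos rfl

theorem ep_of_ne {a b : Ω} (h : a ≠ b) : ep p q v₀ a b = E (Finset.univ : Finset Ω) p q a b v₀ := if_neg h

variable (hN : Nt1 p q r v₀)

include hN

theorem cardU : 6 ≤ (Finset.univ : Finset Ω).card := by rw [Finset.card_univ]; exact hN.card

theorem ep_ne {a b : Ω} (h : a ≠ b) : ep p q v₀ a b ≠ 0 := by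
  rw [ep_of_ne h]
  intro h0
  exact hN.ne (E_inj (cardU hN) (inv_univ _ rfl) hN.natl hN.D (Finset.mem_univ _) (Finset.mem_univ _)
    (Finset.mem_univ _) hN.mem h (Finset.mem_univ _) (Finset.mem_univ _) h0)

theorem ep_symm (a b : Ω) : ep p q v₀ a b = ep p q v₀ b a := by
  by_cases h : a = b
  · rw [h]
  rw [ep_of_ne h, ep_of_ne (Ne.symm h)]
  exact (E_swap (cardU hN) (inv_univ _ rfl) hN.natl hN.D (Finset.mem_univ _) (Finset.mem_univ _)
    (Finset.mem_univ _) hN.mem h (Finset.mem_univ _) (Finset.mem_univ _)).symm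

theorem ep_add (a b c : Ω) : ep p q v₀ a b + ep p q v₀ b c = ep p q v₀ a c := by
  by_cases hab : a = b
  · rw [hab, ep_self, zero_add]
  by_cases hbc : b = c
  · rw [hbc, ep_self, add_zero]
  by_cases hac : a = c
  · rw [hac, ep_self, ep_symm hN b c, aa]
  rw [ep_of_ne hab, ep_of_ne hbc, ep_of_ne hac]
  exact E_add (cardU hN) (inv_univ _ rfl) hN.natl hN.D (Finset.mem_univ _) (Finset.mem_univ _)
    (Finset.mem_univ _) hN.mem ⟨hab, hac, hbc⟩ (Finset.mem_univ _) (Finset.mem_univ _) (Finset.mem_univ _)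

theorem smul_ep_alt (g : alternatingGroup Ω) (a b : Ω) :
    g • ep p q v₀ a b = ep p q v₀ ((g : Perm Ω) a) ((g : Perm Ω) b) := by
  by_cases h : a = b
  · rw [h, ep_self, ep_self, smul_zero]
  rw [ep_of_ne h, ep_of_ne ((g : Perm Ω).injective.ne h)]
  exact smul_E (cardU hN) (inv_univ _ rfl) hN.natl hN.D (Finset.mem_univ _) (Finset.mem_univ _)
    (Finset.mem_univ _) hN.mem h (Finset.mem_univ _) (Finset.mem_univ _) (sup_univ g)

theorem ep_base : ep p q v₀ p q = v₀ := by
  rw [ep_of_ne hN.D.1]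
  exact E_base (cardU hN) (inv_univ _ rfl) hN.natl hN.D (Finset.mem_univ _) (Finset.mem_univ _)
    (Finset.mem_univ _) hN.mem

/-- `h • v₀` -/
theorem smul_v₀ (hA : Act V σ ι) (h : H) : h • v₀ = ep p q v₀ (σ h p) (σ h q) := by
  obtain ⟨k, -, k1, k2, k3⟩ := exists_move (S := (Finset.univ : Finset Ω)) (by have := cardU hN; omega) hN.D
    (hN.D.map (σ h)) (Finset.mem_univ _) (Finset.mem_univ _) (Finset.mem_univ _) (Finset.mem_univ _)
    (Finset.mem_univ _) (Finset.mem_univ _)
  have hw : k⁻¹ • h • v₀ ∈ NN (Finset.univ : Finset Ω) (⊤ : AddSubgroup V) p q r := by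
    refine ⟨trivial, ?_, ?_⟩
    · have h1 : h • v₀ = F (σ h p) (σ h q) (σ h r) (h • v₀) := by
        rw [← smulF hA, hN.mem.2.1]
      have h2 := smul_F k⁻¹ (σ h p) (σ h q) (σ h r) (h • v₀)
      rw [← h1, ← k1, ← k2, ← k3] at h2
      have e : ∀ a : Ω, ((k⁻¹ : alternatingGroup Ω) : Perm Ω) ((k : Perm Ω) a) = a := fun a =>
        (k : Perm Ω).symm_apply_apply a
      rw [e, e, e] at h2
      exact h2.symm
    · intro g _ g1 g2 g3
      -- `g' = k g k⁻¹`, `g'' = g'` conjugated back by `σ h`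
      set g'' : alternatingGroup Ω := MulAut.conjNormal (σ h)⁻¹ (k * g * k⁻¹) with hg''
      have hgg : (MulAut.conjNormal (σ h) g'' : alternatingGroup Ω) = k * g * k⁻¹ := by
        rw [hg'', ← MulAut.mul_apply, ← map_mul, mul_inv_cancel, map_one, MulAut.one_apply]
      have e : ∀ a b : Ω, (g : Perm Ω) a = b → (k : Perm Ω) a = σ h a → (k : Perm Ω) b = σ h b →
          (g'' : Perm Ω) a = b := by
        intro a b h1 h2 h3
        rw [hg'', MulAut.conjNormal_apply]
        show (σ h).symm ((k : Perm Ω) ((g : Perm Ω) ((k : Perm Ω).symm (σ h a)))) = b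
        rw [← h2, Equiv.symm_apply_apply, h1, h3, Equiv.symm_apply_apply]
      have h4 := hN.mem.2.2 g'' (sup_univ _) (e p q g1 k1 k2) (e q p g2 k2 k1) (e r r g3 k3 k3)
      have h5 := hA.conj h g'' v₀
      rw [h4, hgg] at h5
      rw [mul_smul, mul_smul] at h5
      have h6 := congrArg (k⁻¹ • ·) h5
      simp only [inv_smul_smul] at h6
      exact h6.symm
  have hne : k⁻¹ • h • v₀ ≠ 0 := by
    intro h0
    rw [smul_eq_zero_iff_eq, smul_eq_zero_iff_eq] at h0
    exact hN.ne h0
  have h1 := (hN.eq _ hw).resolve_left hne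
  rw [inv_smul_eq_iff] at h1
  have h2 := smul_ep_alt hN k p q
  rw [ep_base hN, k1, k2, ← h1] at h2
  exact h2

theorem smul_ep (hA : Act V σ ι) (h : H) (a b : Ω) :
    h • ep p q v₀ a b = ep p q v₀ (σ h a) (σ h b) := by
  by_cases hab : a = b
  · rw [hab, ep_self, ep_self, smul_zero]
  obtain ⟨g, -, g1, g2⟩ := exists_move2 (cardU hN) hN.D (Finset.mem_univ _) (Finset.mem_univ _)
    (Finset.mem_univ _) hab (Finset.mem_univ _) (Finset.mem_univ _)
  have h1 := smul_ep_alt hN g p q
  rw [ep_base hN, g1, g2] at h1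
  rw [← h1, hA.conj, smul_v₀ hN hA, smul_ep_alt hN]
  have e : ∀ c : Ω, ((MulAut.conjNormal (σ h) g : alternatingGroup Ω) : Perm Ω) (σ h c) = σ h ((g : Perm Ω) c) := by
    intro c
    rw [MulAut.conjNormal_apply]
    show σ h ((g : Perm Ω) ((σ h).symm (σ h c))) = _
    rw [Equiv.symm_apply_apply]
  rw [e, e, g1, g2]

/-- `ε` of a set -/
noncomputable def ev (p q : Ω) (v₀ : V) (o : Ω) (B : Finset Ω) : V :=
  ∑ b, if b ∈ B then ep p q v₀ o b else 0

theorem ev_eq (o : Ω) (B : Finset Ω) : ev p q v₀ o B = ∑ b ∈ B, ep p q v₀ o b := by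
  rw [ev, Finset.sum_ite_mem, Finset.univ_inter]

theorem ev_add (o : Ω) (B B' : Finset Ω) : ev p q v₀ o B + ev p q v₀ o B' = ev p q v₀ o (symmDiff B B') := by
  rw [ev, ev, ev, ← Finset.sum_add_distrib]
  refine Finset.sum_congr rfl fun b _ => ?_
  by_cases h1 : b ∈ B <;> by_cases h2 : b ∈ B' <;> simp [Finset.mem_symmDiff, h1, h2, aa]

theorem even_nsmul {n : ℕ} (hn : Even n) (v : V) : n • v = 0 := by
  obtain ⟨k, rfl⟩ := hn
  rw [← two_mul, mul_comm, mul_nsmul, two_nsmul]
  rw [← nsmul_add, aa, nsmul_zero]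

/-- independence of the base point -/
theorem ev_base {B : Finset Ω} (hB : Even B.card) (o o' : Ω) : ev p q v₀ o B = ev p q v₀ o' B := by
  rw [ev_eq hN, ev_eq hN]
  have h1 : ∑ b ∈ B, ep p q v₀ o b = ∑ b ∈ B, (ep p q v₀ o o' + ep p q v₀ o' b) :=
    Finset.sum_congr rfl fun b _ => (ep_add hN o o' b).symm
  rw [h1, Finset.sum_add_distrib, Finset.sum_const, even_nsmul hN hB, zero_add]

theorem smul_ev (hA : Act V σ ι) (h : H) (o : Ω) {B : Finset Ω} (hB : Even B.card) :
    h • ev p q v₀ o B = ev p q v₀ o (B.map (σ h).toEmbedding) := by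
  have h1 : h • ev p q v₀ o B = ev p q v₀ (σ h o) (B.map (σ h).toEmbedding) := by
    rw [ev_eq hN, ev_eq hN, Finset.smul_sum, Finset.sum_map]
    exact Finset.sum_congr rfl fun b _ => smul_ep hN hA h o b
  rw [h1]
  exact ev_base hN (by rwa [Finset.card_map]) _ _

theorem ev_pair {a b : Ω} (hab : a ≠ b) (o : Ω) : ev p q v₀ o {a, b} = ep p q v₀ a b := by
  rw [ev_eq hN, Finset.sum_pair hab, ep_symm hN o a, ep_add hN]

/-- **the kernel** -/
theorem ev_eq_zero {B : Finset Ω} (hB : Even B.card) {o : Ω} (h0 : ev p q v₀ o B = 0) :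
    B = ∅ ∨ B = Finset.univ := by
  by_contra hn
  push Not at hn
  obtain ⟨s, hs⟩ := hn.1
  obtain ⟨m, hm⟩ : ∃ m, m ∉ B := by
    by_contra h
    push Not at h
    exact hn.2 (Finset.eq_univ_iff_forall.mpr h)
  have hsm : s ≠ m := fun e => hm (e ▸ hs)
  rw [ev_base hN hB o s] at h0
  have h1 : ∑ j ∈ Finset.univ \ {s, m}, E (Finset.univ : Finset Ω) p q s j (if j ∈ B then v₀ else 0) = 0 := by
    refine Eq.trans ?_ h0
    rw [ev, ← Finset.sum_subset (s₁ := Finset.univ \ {s, m}) (Finset.subset_univ _)]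
    · refine Finset.sum_congr rfl fun j hj => ?_
      simp only [Finset.mem_sdiff, Finset.mem_insert, Finset.mem_singleton, not_or] at hj
      by_cases hjB : j ∈ B
      · rw [if_pos hjB, if_pos hjB, ep_of_ne (Ne.symm hj.2.1)]
      · rw [if_neg hjB, if_neg hjB, map_zero]
    · intro j _ hj
      simp only [Finset.mem_sdiff, Finset.mem_univ, true_and, Finset.mem_insert, Finset.mem_singleton,
        not_not] at hj
      rcases hj with rfl | rfl
      · rw [if_pos hs, ep_self]
      · rw [if_neg hm]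
  have hx : ∀ j : Ω, (if j ∈ B then v₀ else 0) ∈ NN (Finset.univ : Finset Ω) (⊤ : AddSubgroup V) p q r := by
    intro j
    split_ifs
    · exact hN.mem
    · exact (NN _ _ p q r).zero_mem
  -- another element of `B`
  obtain ⟨j, hj, hjs⟩ : ∃ j ∈ B, j ≠ s := by
    by_contra h
    push Not at h
    have h2 : B = {s} := Finset.eq_singleton_iff_unique_mem.mpr ⟨hs, h⟩
    rw [h2, Finset.card_singleton] at hB
    exact absurd hB (by decide)
  have hjm : j ≠ m := fun e => hm (e ▸ hj)
  have h2 := sum_eq_zero (cardU hN) (inv_univ _ rfl) hN.natl hN.D (Finset.mem_univ _) (Finset.mem_univ _)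
    (Finset.mem_univ _) (Finset.mem_univ s) (Finset.mem_univ m) hsm hx h1 (j := j) (by
      simp only [Finset.mem_sdiff, Finset.mem_univ, true_and, Finset.mem_insert, Finset.mem_singleton, not_or]
      exact ⟨hjs, hjm⟩)
  rw [if_pos hj] at h2
  exact hN.ne h2

theorem even_symmDiff {B B' : Finset Ω} (hB : Even B.card) (hB' : Even B'.card) : Even (symmDiff B B').card := by
  have h1 : (symmDiff B B').card = (B \ B').card + (B' \ B).card := by
    rw [symmDiff, Finset.sup_eq_union]
    apply Finset.card_union_of_disjoint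
    rw [Finset.disjoint_left]
    intro x hx hx'
    rw [Finset.mem_sdiff] at hx hx'
    exact hx.2 hx'.1
  have h2 := Finset.card_sdiff_add_card_inter B B'
  have h3 := Finset.card_sdiff_add_card_inter B' B
  rw [Finset.inter_comm] at h3
  rw [h1]
  rw [Nat.even_iff] at *
  omega

theorem ev_inj {B B' : Finset Ω} (hB : Even B.card) (hB' : Even B'.card) {o : Ω}
    (h : ev p q v₀ o B = ev p q v₀ o B') : B = B' ∨ B = Finset.univ \ B' := by
  have h1 : ev p q v₀ o (symmDiff B B') = 0 := by rw [← ev_add hN, h, aa]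
  rcases ev_eq_zero hN (even_symmDiff hN hB hB') h1 with h2 | h2
  · left
    exact symmDiff_eq_bot.mp h2
  · right
    ext x
    have h3 : x ∈ symmDiff B B' := by rw [h2]; exact Finset.mem_univ x
    rw [Finset.mem_symmDiff] at h3
    simp only [Finset.mem_sdiff, Finset.mem_univ, true_and]
    tauto

/-- every vector is `ev o B` -/
theorem exists_ev (hA : Act V σ ι) (hirr : ∀ W : AddSubgroup V, (∀ h : H, ∀ v ∈ W, h • v ∈ W) → W = ⊥ ∨ W = ⊤)
    (o : Ω) (v : V) : ∃ B : Finset Ω, Even B.card ∧ ev p q v₀ o B = v := by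
  let W : AddSubgroup V :=
    { carrier := {v | ∃ B : Finset Ω, Even B.card ∧ ev p q v₀ o B = v}
      zero_mem' := ⟨∅, by simp, by rw [ev_eq hN, Finset.sum_empty]⟩
      add_mem' := by
        rintro _ _ ⟨B, hB, rfl⟩ ⟨B', hB', rfl⟩
        exact ⟨symmDiff B B', even_symmDiff hN hB hB', (ev_add hN o B B').symm⟩
      neg_mem' := by
        rintro _ ⟨B, hB, rfl⟩
        exact ⟨B, hB, (AltSplit.neg_eq' _).symm⟩ }
  rcases hirr W (by
    rintro h _ ⟨B, hB, rfl⟩
    exact ⟨B.map (σ h).toEmbedding, by rwa [Finset.card_map], (smul_ev hN hA h o hB).symm⟩) with h1 | h1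
  · exfalso
    have h2 : ep p q v₀ p q ∈ W := ⟨{p, q}, by rw [Finset.card_pair hN.D.1]; decide, ev_pair hN hN.D.1 o⟩
    rw [h1, AddSubgroup.mem_bot] at h2
    exact ep_ne hN hN.D.1 h2
  · have h2 : v ∈ W := by rw [h1]; trivial
    exact h2

omit hN in
/-- an involution of `X` is trivial on a block with at least five points -/
theorem fix_of_block
    (hA : Act V σ ι) {X : Subgroup H} {v : V} (hX2 : ∀ x ∈ X, x * x = 1)
    (hXn : ∀ h : H, h • v = v → ∀ x ∈ X, h * x * h⁻¹ ∈ X) {D : Finset Ω} (hD5 : 5 ≤ D.card)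
    (hD : ∀ g : alternatingGroup Ω, Sup D g → g • v = v) {x : H} (hx : x ∈ X) {i : Ω} (hi : i ∈ D)
    (hxi : σ x i ∈ D) : σ x i = i := by
  by_contra hne
  set s := σ x with hs
  set j := s i with hj
  have hss : ∀ a, s (s a) = a := by
    intro a
    have h1 : s * s = 1 := by rw [hs, ← map_mul, hX2 x hx, map_one]
    exact DFunLike.congr_fun h1 a
  have hsj : s j = i := hss i
  obtain ⟨k, hk, hk'⟩ := exists_not_mem (S := D) {i, j} (lt_of_le_of_lt (Finset.card_le_two) (by omega))
  obtain ⟨l, hl, hl'⟩ := exists_not_mem (S := D) {i, j, k, s k} (lt_of_le_of_lt (Finset.card_le_four) (by omega))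
  simp only [Finset.mem_insert, Finset.mem_singleton, not_or] at hk' hl'
  obtain ⟨ki, kj⟩ := hk'
  obtain ⟨li, lj, lk, lsk⟩ := hl'
  have hDc : D3 j k l := ⟨Ne.symm kj, Ne.symm lj, Ne.symm lk⟩
  set c : alternatingGroup Ω := C j k l with hc
  have hcv : ι c • v = v := by rw [hA.act]; exact hD c (sup_C hxi hk hl)
  have hy : ι c * x * (ι c)⁻¹ ∈ X := hXn _ hcv x hx
  have hcomm : x * (ι c * x * (ι c)⁻¹) = ι c * x * (ι c)⁻¹ * x :=
    AltRk.comm_of_sq (hX2 x hx) (hX2 _ hy) (hX2 _ (X.mul_mem hx hy))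
  have h1 := congrArg σ hcomm
  simp only [map_mul, map_inv, hA.coe] at h1
  have h2 : s ((c : Perm Ω) (s ((c : Perm Ω).symm i))) = (c : Perm Ω) (s ((c : Perm Ω).symm (s i))) :=
    DFunLike.congr_fun h1 i
  have e1 : (c : Perm Ω).symm i = i := by
    rw [Equiv.symm_apply_eq, hc, C_of_ne (Ne.symm hne) (Ne.symm ki) (Ne.symm li)]
  have e2 : (c : Perm Ω).symm j = l := by
    rw [Equiv.symm_apply_eq, hc, C_c hDc]
  have e3 : (c : Perm Ω) j = k := by rw [hc, C_a hDc]
  rw [e1, ← hj, e2, e3] at h2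
  -- `s k = c (s l)`
  by_cases h3 : s l = l
  · rw [h3, hc, C_c hDc] at h2
    have h4 := hss k
    rw [h2, hsj] at h4
    exact ki h4.symm
  · have n1 : s l ≠ j := by
      intro e
      have h4 := hss l
      rw [e, hsj] at h4
      exact li h4.symm
    have n2 : s l ≠ k := by
      intro e
      have h4 := hss l
      rw [e] at h4
      exact lsk h4.symm
    rw [hc, C_of_ne n1 n2 h3] at h2
    exact lk (s.injective h2).symm

/-- **the stabiliser of a vector has no large normal elementary abelian 2-subgroup** -/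
theorem card_le_four [Finite H] (hn : 9 ≤ Fintype.card Ω) (hA : Act V σ ι)
    (hirr : ∀ W : AddSubgroup V, (∀ h : H, ∀ v ∈ W, h • v ∈ W) → W = ⊥ ∨ W = ⊤)
    {X : Subgroup H} {v : V} (hX2 : ∀ x ∈ X, x * x = 1) (hXv : ∀ x ∈ X, x • v = v)
    (hXn : ∀ h : H, h • v = v → ∀ x ∈ X, h * x * h⁻¹ ∈ X) (hXi : ∀ x ∈ X, σ x = 1 → x = 1) :
    Nat.card X ≤ 4 := by
  obtain ⟨B, hB, hBv⟩ := exists_ev hN hA hirr p v
  -- the elements of `A_Ω` preserving `B`
  have hfix : ∀ g : alternatingGroup Ω, B.map (g : Perm Ω).toEmbedding = B → g • v = v := by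
    intro g hg
    rw [← hA.act, ← hBv, smul_ev hN hA _ _ hB, hA.coe, hg]
  have hmapS : ∀ g : alternatingGroup Ω, ∀ D : Finset Ω, (∀ a ∈ D, (g : Perm Ω) a ∈ D) →
      D.map (g : Perm Ω).toEmbedding = D := by
    intro g D h
    apply Finset.eq_of_subset_of_card_le
    · intro x hx
      rw [Finset.mem_map] at hx
      obtain ⟨a, ha, rfl⟩ := hx
      exact h a ha
    · rw [Finset.card_map]
  have hDB : ∀ g : alternatingGroup Ω, Sup B g → g • v = v := fun g hg => hfix g (hmapS g B fun a ha => hg.mem ha)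
  have hDC : ∀ g : alternatingGroup Ω, Sup (Finset.univ \ B) g → g • v = v := by
    intro g hg
    refine hfix g (hmapS g B fun a ha => ?_)
    rw [hg a (by simp [ha])]
    exact ha
  -- elements of `X`
  have hXB : ∀ x ∈ X, B.map (σ x).toEmbedding = B ∨ B.map (σ x).toEmbedding = Finset.univ \ B := by
    intro x hx
    refine ev_inj hN (o := p) (by rwa [Finset.card_map]) hB ?_
    rw [← smul_ev hN hA x p hB, hBv, hXv x hx]
  have hcardC : (Finset.univ \ B).card = Fintype.card Ω - B.card := by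
    rw [Finset.card_sdiff_of_subset (Finset.subset_univ B), Finset.card_univ]
  have hBle : B.card ≤ Fintype.card Ω := Finset.card_le_univ B
  -- general facts on preserved blocks
  have mapmem : ∀ (x : H) (D : Finset Ω), D.map (σ x).toEmbedding = D → ∀ a ∈ D, σ x a ∈ D := by
    intro x D h a ha
    have : σ x a ∈ D.map (σ x).toEmbedding := Finset.mem_map.mpr ⟨a, ha, rfl⟩
    rwa [h] at this
  have mapC : ∀ x : H, B.map (σ x).toEmbedding = B → ∀ a, a ∉ B → σ x a ∉ B := by
    intro x h a ha ha'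
    rw [← h, Finset.mem_map] at ha'
    obtain ⟨b, hb, e⟩ := ha'
    exact ha ((σ x).injective e ▸ hb)
  by_cases h4 : B.card ≤ 4 ∨ (Finset.univ \ B).card ≤ 4
  · -- one small block
    have hBx : ∀ x ∈ X, B.map (σ x).toEmbedding = B := by
      intro x hx
      refine (hXB x hx).resolve_right fun h => ?_
      have h5 := congrArg Finset.card h
      rw [Finset.card_map] at h5
      omega
    have hE2 : ∀ y ∈ X.map σ, y * y = 1 := by
      rintro _ ⟨x, hx, rfl⟩
      rw [← map_mul, hX2 x hx, map_one]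
    have hEcard : Nat.card (X.map σ) = Nat.card X := by
      refine (Nat.card_congr (Equiv.ofBijective (fun x : X => (⟨σ x, x, x.2, rfl⟩ : X.map σ)) ⟨?_, ?_⟩)).symm
      · intro x y hxy
        have h5 : σ x = σ y := congrArg Subtype.val hxy
        have h6 : σ ((x : H)⁻¹ * y) = 1 := by rw [map_mul, map_inv, h5, inv_mul_cancel]
        have h7 := hXi _ (X.mul_mem (X.inv_mem x.2) y.2) h6
        exact Subtype.ext (inv_mul_eq_one.mp h7)
      · rintro ⟨_, x, hx, rfl⟩
        exact ⟨⟨x, hx⟩, rfl⟩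
    have key : ∀ S : Finset Ω, S.card ≤ 4 → (∀ x ∈ X, ∀ a, a ∉ S → σ x a = a) → Nat.card X ≤ 4 := by
      intro S hS hS'
      have h5 := AltRk.card_sq_le _ (X.map σ) S le_rfl hE2 (by
        rintro _ ⟨x, hx, rfl⟩ a ha
        exact hS' x hx a ha)
      rw [hEcard] at h5
      have h6 : Nat.card X ^ 2 ≤ 2 ^ 4 := h5.trans (Nat.pow_le_pow_right (by norm_num) hS)
      nlinarith
    rcases h4 with h4 | h4
    · refine key B h4 fun x hx a ha => ?_
      exact fix_of_block hA hX2 hXn (D := Finset.univ \ B) (by omega) hDC hx (by simp [ha])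
        (by simp [mapC x (hBx x hx) a ha])
    · refine key (Finset.univ \ B) h4 fun x hx a ha => ?_
      have ha' : a ∈ B := by simpa using ha
      exact fix_of_block hA hX2 hXn (D := B) (by omega) hDB hx ha' (mapmem x B (hBx x hx) a ha')
  · push Not at h4
    -- an element preserving `B` is trivial
    have hone : ∀ x ∈ X, B.map (σ x).toEmbedding = B → x = 1 := by
      intro x hx hxB
      refine hXi x hx ?_
      ext a
      by_cases ha : a ∈ B
      · exact fix_of_block hA hX2 hXn (D := B) (by omega) hDB hx ha (mapmem x B hxB a ha)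
      · exact fix_of_block hA hX2 hXn (D := Finset.univ \ B) (by omega) hDC hx (by simp [ha])
          (by simp [mapC x hxB a ha])
    have htwo : ∀ x ∈ X, ∀ y ∈ X, x ≠ 1 → y ≠ 1 → x = y := by
      intro x hx y hy hx1 hy1
      have ex := (hXB x hx).resolve_left fun h => hx1 (hone x hx h)
      have ey := (hXB y hy).resolve_left fun h => hy1 (hone y hy h)
      have h5 : B.map (σ (x * y)).toEmbedding = B := by
        have h6 : B.map (σ (x * y)).toEmbedding = (B.map (σ y).toEmbedding).map (σ x).toEmbedding := by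
          ext a
          simp only [Finset.mem_map, map_mul]
          constructor
          · rintro ⟨b, hb, rfl⟩
            exact ⟨σ y b, ⟨b, hb, rfl⟩, rfl⟩
          · rintro ⟨_, ⟨b, hb, rfl⟩, rfl⟩
            exact ⟨b, hb, rfl⟩
        rw [h6, ey]
        apply Finset.eq_of_subset_of_card_le
        · intro a ha
          rw [Finset.mem_map] at ha
          obtain ⟨b, hb, rfl⟩ := ha
          by_contra h7
          have h8 : σ x b ∈ B.map (σ x).toEmbedding := by
            rw [ex]
            simpa using h7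
          rw [Finset.mem_map] at h8
          obtain ⟨b', hb', e⟩ := h8
          have h9 : b' = b := (σ x).injective e
          rw [h9] at hb'
          simp only [Finset.mem_sdiff, Finset.mem_univ, true_and] at hb
          exact hb hb'
        · have h7 := congrArg Finset.card ey
          rw [Finset.card_map] at h7
          rw [Finset.card_map, ← h7]
      have h6 := hone _ (X.mul_mem hx hy) h5
      rw [mul_eq_one_iff_eq_inv] at h6
      rw [h6]
      exact inv_eq_of_mul_eq_one_left (hX2 y hy)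
    have h5 : Nat.card X ≤ Nat.card (Fin 2) := by
      classical
      refine Nat.card_le_card_of_injective (fun x : X => if x = 1 then (0 : Fin 2) else 1) ?_
      intro x y hxy
      by_cases hx : x = 1
      · by_cases hy : y = 1
        · rw [hx, hy]
        · simp [hx, hy] at hxy
      · by_cases hy : y = 1
        · simp [hx, hy] at hxy
        · exact Subtype.ext (htwo x x.2 y y.2 (fun h => hx (Subtype.ext h)) fun h => hy (Subtype.ext h))
    rw [Nat.card_fin] at h5
    omega

end Nat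

end Cfsg.Agent.Omega.TwoF.AltKill
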