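import Cfsg.Agent.Omega.TwoF.AltSix

/-!
# Elementary abelian 2-groups with an action of an alternating group, III: natural type

`Natl S M`: disjoint 3-cycles `c`, `c'` in `S` satisfy `[M, c, c'] = 0`.  Then, for `|S| ≥ 6`:

* `NN S M p q r = {v ∈ [M, (p q r)] | v fixed by the elements p ↔ q, r ↦ r of A_S}` is fixed by the stabiliser of
  `{p, q}` in `A_S` (`NN.fix`), so `E a b v = g • v` (`g p = a`, `g q = b`) is well defined (`E_eq`);
* `E_add`: `E a b v + E b c v = E a c v`;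
* `cm_eq`: `[M, (p q r)] = N + (p q r) N`;
* `card_pow_le`: `|N| ^ (|S| - 2) ≤ |M|`.
-/

set_option autoImplicit false
set_option linter.unusedSectionVars false

namespace Cfsg.Agent.Omega.TwoF.AltNat

open Equiv Equiv.Perm AltCyc AltSplit AltSix

universe u w

variable {Ω : Type u} [DecidableEq Ω] [Fintype Ω]
variable {V : Type w} [AddCommGroup V] [Two V] [DistribMulAction (alternatingGroup Ω) V]
variable {a b c d e f p q r : Ω} {S : Finset Ω} {M : AddSubgroup V}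

/-- natural type -/
def Natl (S : Finset Ω) (M : AddSubgroup V) : Prop :=
  ∀ a ∈ S, ∀ b ∈ S, ∀ c ∈ S, ∀ d ∈ S, ∀ e ∈ S, ∀ f ∈ S, D6 a b c d e f → ∀ v ∈ M, F a b c (F d e f v) = 0

/-- the subgroup `N` -/
def NN (S : Finset Ω) (M : AddSubgroup V) (p q r : Ω) : AddSubgroup V where
  carrier := {v | v ∈ M ∧ F p q r v = v ∧ ∀ g : alternatingGroup Ω, Sup S g → (g : Perm Ω) p = q →
    (g : Perm Ω) q = p → (g : Perm Ω) r = r → g • v = v}
  zero_mem' := ⟨M.zero_mem, map_zero _, fun g _ _ _ _ => smul_zero g⟩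
  add_mem' := fun {a b} ha hb => ⟨M.add_mem ha.1 hb.1, by rw [map_add, ha.2.1, hb.2.1], fun g h1 h2 h3 h4 => by
    rw [smul_add, ha.2.2 g h1 h2 h3 h4, hb.2.2 g h1 h2 h3 h4]⟩
  neg_mem' := fun {a} ha => ⟨M.neg_mem ha.1, by rw [map_neg, ha.2.1], fun g h1 h2 h3 h4 => by
    rw [smul_neg, ha.2.2 g h1 h2 h3 h4]⟩

/-- elements of `[M, (a b c)]` are fixed by `A_{S ∖ {a, b, c}}` -/
theorem fixT (hN : Natl S M) (hD : D3 a b c) (ha : a ∈ S) (hb : b ∈ S) (hc : c ∈ S) {v : V} (hv : v ∈ M)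
    (hF : F a b c v = v) {g : alternatingGroup Ω} (hg : Sup S g) (h1 : (g : Perm Ω) a = a)
    (h2 : (g : Perm Ω) b = b) (h3 : (g : Perm Ω) c = c) : g • v = v := by
  have hg' : Sup (S \ {a, b, c}) g := by
    intro x hx
    by_cases hxS : x ∈ S
    · have : x = a ∨ x = b ∨ x = c := by
        by_contra hn
        apply hx
        simp only [Finset.mem_sdiff, Finset.mem_insert, Finset.mem_singleton]
        exact ⟨hxS, hn⟩
      rcases this with rfl | rfl | rfl <;> assumption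
    · exact hg x hxS
  refine fixed_of_cycles ?_ hg'
  intro d hd e he f hf hD'
  simp only [Finset.mem_sdiff, Finset.mem_insert, Finset.mem_singleton, not_or] at hd he hf
  rw [← F_eq_zero_iff hD', ← hF]
  exact hN d hd.1 e he.1 f hf.1 a ha b hb c hc (D6.symm ⟨hD, hD', hd.2, he.2, hf.2⟩) v hv

/-- two elements with the same action on `p`, `q`, `r` -/
theorem smul_eq_of (hN : Natl S M) (hD : D3 a b c) (ha : a ∈ S) (hb : b ∈ S) (hc : c ∈ S) {v : V} (hv : v ∈ M)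
    (hF : F a b c v = v) {g h : alternatingGroup Ω} (hg : Sup S g) (hh : Sup S h)
    (h1 : (g : Perm Ω) a = (h : Perm Ω) a)
    (h2 : (g : Perm Ω) b = (h : Perm Ω) b) (h3 : (g : Perm Ω) c = (h : Perm Ω) c) : g • v = h • v := by
  have key := fixT hN hD ha hb hc hv hF (g := h⁻¹ * g) (hh.inv.mul hg)
    (by show (h : Perm Ω).symm ((g : Perm Ω) a) = a; rw [h1, Equiv.symm_apply_apply])
    (by show (h : Perm Ω).symm ((g : Perm Ω) b) = b; rw [h2, Equiv.symm_apply_apply])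
    (by show (h : Perm Ω).symm ((g : Perm Ω) c) = c; rw [h3, Equiv.symm_apply_apply])
  rw [mul_smul, inv_smul_eq_iff] at key
  exact key

section W

/-- the operator `g`, `g p = a`, `g q = b`, `g r = c` -/
noncomputable def W (S : Finset Ω) (p q r a b c : Ω) : V →+ V := by
  classical
  exact if h : ∃ g : alternatingGroup Ω, Sup S g ∧ (g : Perm Ω) p = a ∧ (g : Perm Ω) q = b ∧ (g : Perm Ω) r = c
    then sm h.choose else 0

theorem W_eq (hN : Natl S M) (hD : D3 p q r) (hp : p ∈ S) (hq : q ∈ S) (hr : r ∈ S) {v : V} (hv : v ∈ M)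
    (hF : F p q r v = v) {g : alternatingGroup Ω} (hg : Sup S g) :
    W S p q r ((g : Perm Ω) p) ((g : Perm Ω) q) ((g : Perm Ω) r) v = g • v := by
  have h : ∃ g' : alternatingGroup Ω, Sup S g' ∧ (g' : Perm Ω) p = (g : Perm Ω) p ∧
      (g' : Perm Ω) q = (g : Perm Ω) q ∧ (g' : Perm Ω) r = (g : Perm Ω) r := ⟨g, hg, rfl, rfl, rfl⟩
  rw [W, dif_pos h]
  exact smul_eq_of hN hD hp hq hr hv hF h.choose_spec.1 hg h.choose_spec.2.1 h.choose_spec.2.2.1
    h.choose_spec.2.2.2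

variable (hS : 6 ≤ S.card) (hM : Inv S M) (hN : Natl S M) (hD : D3 p q r) (hp : p ∈ S) (hq : q ∈ S) (hr : r ∈ S)

include hS hN hD hp hq hr

theorem smul_W {v : V} (hv : v ∈ NN S M p q r) (hD' : D3 a b c) (ha : a ∈ S) (hb : b ∈ S) (hc : c ∈ S)
    {g : alternatingGroup Ω} (hg : Sup S g) :
    g • W S p q r a b c v = W S p q r ((g : Perm Ω) a) ((g : Perm Ω) b) ((g : Perm Ω) c) v := by
  obtain ⟨h, hh, e1, e2, e3⟩ := exists_move (by omega) hD hD' hp hq hr ha hb hc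
  have h1 := W_eq hN hD hp hq hr hv.1 hv.2.1 hh
  have h2 := W_eq hN hD hp hq hr hv.1 hv.2.1 (hg.mul hh)
  rw [e1, e2, e3] at h1
  rw [h1, ← mul_smul, ← h2]
  show W S p q r ((g : Perm Ω) ((h : Perm Ω) p)) ((g : Perm Ω) ((h : Perm Ω) q)) ((g : Perm Ω) ((h : Perm Ω) r)) v
    = _
  rw [e1, e2, e3]

theorem W_base {v : V} (hv : v ∈ NN S M p q r) : W S p q r p q r v = v := by
  have := W_eq hN hD hp hq hr hv.1 hv.2.1 (g := 1) Sup.one
  rw [one_smul] at this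
  exact this

theorem W_swap {v : V} (hv : v ∈ NN S M p q r) (hD' : D3 a b c) (ha : a ∈ S) (hb : b ∈ S) (hc : c ∈ S) :
    W S p q r b a c v = W S p q r a b c v := by
  obtain ⟨h, hh, e1, e2, e3⟩ := exists_move (by omega) hD hD' hp hq hr ha hb hc
  obtain ⟨t, ht, t1, t2, t3⟩ := exists_move (by omega) hD hD.swap' hp hq hr hq hp hr
  have h1 := W_eq hN hD hp hq hr hv.1 hv.2.1 hh
  have h2 := W_eq hN hD hp hq hr hv.1 hv.2.1 (hh.mul ht)
  have t4 := hv.2.2 t ht t1 t2 t3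
  rw [mul_smul, t4, ← h1] at h2
  have h3 : W S p q r ((h : Perm Ω) ((t : Perm Ω) p)) ((h : Perm Ω) ((t : Perm Ω) q))
    ((h : Perm Ω) ((t : Perm Ω) r)) v = _ := h2
  rw [t1, t2, t3, e1, e2, e3] at h3
  exact h3

theorem C_W {v : V} (hv : v ∈ NN S M p q r) (hD' : D3 a b c) (ha : a ∈ S) (hb : b ∈ S) (hc : c ∈ S)
    (hd : d ∈ S) (he : e ∈ S) (hf : f ∈ S) :
    C d e f • W S p q r a b c v =
      W S p q r ((C d e f : Perm Ω) a) ((C d e f : Perm Ω) b) ((C d e f : Perm Ω) c) v :=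
  smul_W hS hN hD hp hq hr hv hD' ha hb hc (sup_C hd he hf)

/-- `R1` -/
theorem W_sum {v : V} (hv : v ∈ NN S M p q r) (hD' : D3 a b c) (ha : a ∈ S) (hb : b ∈ S) (hc : c ∈ S) :
    W S p q r a b c v = W S p q r b c a v + W S p q r c a b v := by
  obtain ⟨h, hh, e1, e2, e3⟩ := exists_move (by omega) hD hD' hp hq hr ha hb hc
  have h1 := W_eq hN hD hp hq hr hv.1 hv.2.1 hh
  have h2 := smul_F h p q r v
  rw [e1, e2, e3] at h1 h2
  rw [hv.2.1, ← h1] at h2
  rw [h2, F_apply, C_W hS hN hD hp hq hr hv hD' ha hb hc ha hb hc,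
    C_W hS hN hD hp hq hr hv hD' ha hb hc ha hc hb, C_a hD', C_b hD', C_c hD', C_a hD'.swap, C_b hD'.swap,
    C_c hD'.swap]

include hM

theorem W_mem {v : V} (hv : v ∈ NN S M p q r) (hD' : D3 a b c) (ha : a ∈ S) (hb : b ∈ S) (hc : c ∈ S) :
    W S p q r a b c v ∈ M := by
  obtain ⟨h, hh, e1, e2, e3⟩ := exists_move (by omega) hD hD' hp hq hr ha hb hc
  have h1 := W_eq hN hD hp hq hr hv.1 hv.2.1 hh
  rw [e1, e2, e3] at h1
  rw [h1]
  exact hM h hh v hv.1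

/-- relation (i) -/
theorem rel1 {v : V} (hv : v ∈ NN S M p q r) (h6 : D6 a b c d e f) (ha : a ∈ S) (hb : b ∈ S) (hc : c ∈ S)
    (hd : d ∈ S) (he : e ∈ S) (hf : f ∈ S) :
    W S p q r b c e v + W S p q r b c f v = W S p q r c a e v + W S p q r c a f v := by
  obtain ⟨hD1, hD2, ⟨da, db, dc⟩, ⟨ea, eb, ec⟩, ⟨fa, fb, fc⟩⟩ := h6
  have h6 : D6 a b c d e f := ⟨hD1, hD2, ⟨da, db, dc⟩, ⟨ea, eb, ec⟩, ⟨fa, fb, fc⟩⟩
  have hab := hD1.1
  have Dabd : D3 a b d := ⟨hab, da.symm, db.symm⟩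
  have Dabe : D3 a b e := ⟨hab, ea.symm, eb.symm⟩
  have Dabf : D3 a b f := ⟨hab, fa.symm, fb.symm⟩
  have h0 := hN a ha b hb c hc d hd e he f hf h6 _ (W_mem hS hM hN hD hp hq hr hv Dabd ha hb hd)
  have k : ∀ {x y z u v' w : Ω} (_ : D3 x y z) (_ : x ∈ S) (_ : y ∈ S) (_ : z ∈ S) (_ : u ∈ S) (_ : v' ∈ S)
      (_ : w ∈ S), C u v' w • W S p q r x y z v =
      W S p q r ((C u v' w : Perm Ω) x) ((C u v' w : Perm Ω) y) ((C u v' w : Perm Ω) z) v :=
    fun h1 h2 h3 h4 h5 h6 h7 => C_W hS hN hD hp hq hr hv h1 h2 h3 h4 h5 h6 h7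
  have e1 : F d e f (W S p q r a b d v) = W S p q r a b e v + W S p q r a b f v := by
    rw [F_apply, k Dabd ha hb hd hd he hf, k Dabd ha hb hd hd hf he, C_of_ne da.symm ea.symm fa.symm,
      C_of_ne db.symm eb.symm fb.symm, C_a hD2, C_of_ne da.symm fa.symm ea.symm,
      C_of_ne db.symm fb.symm eb.symm, C_a hD2.swap]
  have e2 : ∀ x : Ω, x ≠ a → x ≠ b → x ≠ c → x ∈ S →
      F a b c (W S p q r a b x v) = W S p q r b c x v + W S p q r c a x v := by
    intro x xa xb xc hx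
    have Dx : D3 a b x := ⟨hab, xa.symm, xb.symm⟩
    rw [F_apply, k Dx ha hb hx ha hb hc, k Dx ha hb hx ha hc hb, C_a hD1, C_b hD1, C_of_ne xa xb xc,
      C_a hD1.swap, C_c hD1.swap, C_of_ne xa xc xb]
  rw [e1, map_add, e2 e ea eb ec he, e2 f fa fb fc hf] at h0
  rw [← addz_iff]
  rw [← h0]
  two

/-- relation (ii) -/
theorem rel2 {v : V} (hv : v ∈ NN S M p q r) (h6 : D6 a b c d e f) (ha : a ∈ S) (hb : b ∈ S) (hc : c ∈ S)
    (hd : d ∈ S) (he : e ∈ S) (hf : f ∈ S) :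
    W S p q r b e c v + W S p q r b f c v = W S p q r c e a v + W S p q r c f a v := by
  obtain ⟨hD1, hD2, ⟨da, db, dc⟩, ⟨ea, eb, ec⟩, ⟨fa, fb, fc⟩⟩ := h6
  have h6 : D6 a b c d e f := ⟨hD1, hD2, ⟨da, db, dc⟩, ⟨ea, eb, ec⟩, ⟨fa, fb, fc⟩⟩
  have hab := hD1.1
  have Dadb : D3 a d b := ⟨da.symm, hab, db⟩
  have h0 := hN a ha b hb c hc d hd e he f hf h6 _ (W_mem hS hM hN hD hp hq hr hv Dadb ha hd hb)
  have k : ∀ {x y z u v' w : Ω} (_ : D3 x y z) (_ : x ∈ S) (_ : y ∈ S) (_ : z ∈ S) (_ : u ∈ S) (_ : v' ∈ S)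
      (_ : w ∈ S), C u v' w • W S p q r x y z v =
      W S p q r ((C u v' w : Perm Ω) x) ((C u v' w : Perm Ω) y) ((C u v' w : Perm Ω) z) v :=
    fun h1 h2 h3 h4 h5 h6 h7 => C_W hS hN hD hp hq hr hv h1 h2 h3 h4 h5 h6 h7
  have e1 : F d e f (W S p q r a d b v) = W S p q r a e b v + W S p q r a f b v := by
    rw [F_apply, k Dadb ha hd hb hd he hf, k Dadb ha hd hb hd hf he, C_of_ne da.symm ea.symm fa.symm,
      C_of_ne db.symm eb.symm fb.symm, C_a hD2, C_of_ne da.symm fa.symm ea.symm,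
      C_of_ne db.symm fb.symm eb.symm, C_a hD2.swap]
  have e2 : ∀ x : Ω, x ≠ a → x ≠ b → x ≠ c → x ∈ S →
      F a b c (W S p q r a x b v) = W S p q r b x c v + W S p q r c x a v := by
    intro x xa xb xc hx
    have Dx : D3 a x b := ⟨xa.symm, hab, xb⟩
    rw [F_apply, k Dx ha hx hb ha hb hc, k Dx ha hx hb ha hc hb, C_a hD1, C_b hD1, C_of_ne xa xb xc,
      C_a hD1.swap, C_c hD1.swap, C_of_ne xa xc xb]
  rw [e1, map_add, e2 e ea eb ec he, e2 f fa fb fc hf] at h0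
  rw [← addz_iff]
  rw [← h0]
  two

/-- `[b c | e] = [b c | f]` -/
theorem W_third {v : V} (hv : v ∈ NN S M p q r) (hbc : D3 b c e) (hf1 : f ≠ b) (hf2 : f ≠ c) (hb : b ∈ S)
    (hc : c ∈ S) (he : e ∈ S) (hf : f ∈ S) : W S p q r b c f v = W S p q r b c e v := by
  by_cases hef : e = f
  · rw [hef]
  obtain ⟨a, ha, ha'⟩ := exists_not_mem (S := S) {b, c, e, f} (lt_of_le_of_lt (Finset.card_le_four) (by omega))
  obtain ⟨d, hd, hd'⟩ := exists_not_mem (S := S) {b, c, e, f, a}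
    (lt_of_le_of_lt (Finset.card_le_five) (by omega))
  simp only [Finset.mem_insert, Finset.mem_singleton, not_or] at ha' hd'
  obtain ⟨ab, ac, ae, af⟩ := ha'
  obtain ⟨db, dc, de, df, da⟩ := hd'
  obtain ⟨bc, be, ce⟩ := hbc
  have h6 : D6 a b c d e f := ⟨⟨ab, ac, bc⟩, ⟨de, df, hef⟩, ⟨da, db, dc⟩,
    ⟨Ne.symm ae, be.symm, ce.symm⟩, ⟨Ne.symm af, hf1, hf2⟩⟩
  have r2 := rel2 hS hM hN hD hp hq hr hv h6 ha hb hc hd he hf
  have s1 := W_sum hS hN hD hp hq hr hv (a := b) (b := e) (c := c) ⟨be, bc, ce.symm⟩ hb he hc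
  have s2 := W_sum hS hN hD hp hq hr hv (a := b) (b := f) (c := c) ⟨hf1.symm, bc, hf2⟩ hb hf hc
  -- the pairs `c e`, `c f` over `a`, `b`
  have h6' : D6 e f c d b a := ⟨⟨hef, ce.symm, hf2⟩, ⟨db, da, Ne.symm ab⟩, ⟨de, df, dc⟩,
    ⟨be, hf1.symm, bc⟩, ⟨ae, af, ac⟩⟩
  have r1 := rel1 hS hM hN hD hp hq hr hv h6' he hf hc hd hb ha
  -- `W f c b + W f c a = W c e b + W c e a`
  have w1 : W S p q r e c b v = W S p q r c e b v :=
    W_swap hS hN hD hp hq hr hv (a := c) (b := e) (c := b) ⟨ce, bc.symm, be.symm⟩ hc he hb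
  have w2 : W S p q r c b e v = W S p q r b c e v :=
    W_swap hS hN hD hp hq hr hv (a := b) (b := c) (c := e) ⟨bc, be, ce⟩ hb hc he
  have w3 : W S p q r c b f v = W S p q r b c f v :=
    W_swap hS hN hD hp hq hr hv (a := b) (b := c) (c := f) ⟨bc, hf1.symm, hf2.symm⟩ hb hc hf
  have w4 : W S p q r c f a v = W S p q r f c a v :=
    W_swap hS hN hD hp hq hr hv (a := f) (b := c) (c := a) ⟨hf2, af |> Ne.symm, ac |> Ne.symm⟩ hf hc ha
  rw [s1, s2, w1, w2, w3, w4] at r2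
  rw [← addz_iff] at r1 r2 ⊢
  have h3 := congrArg₂ (· + ·) r1 r2
  simp only [add_zero] at h3
  rw [← h3]
  two

/-- **elements of `N` are fixed by the stabiliser of `p`, `q`** -/
theorem NN_fix {v : V} (hv : v ∈ NN S M p q r) {g : alternatingGroup Ω} (hg : Sup S g)
    (h1 : (g : Perm Ω) p = p) (h2 : (g : Perm Ω) q = q) : g • v = v := by
  have h3 := W_eq hN hD hp hq hr hv.1 hv.2.1 hg
  have hD' : D3 p q ((g : Perm Ω) r) := by
    have := hD.map (g : Perm Ω)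
    rwa [h1, h2] at this
  rw [h1, h2, W_third hS hM hN hD hp hq hr hv hD hD'.2.1.symm hD'.2.2.symm hp hq hr (hg.mem hr),
    W_base hS hN hD hp hq hr hv] at h3
  exact h3.symm

/-- ... and of `{p, q}` -/
theorem NN_fix' {v : V} (hv : v ∈ NN S M p q r) {g : alternatingGroup Ω} (hg : Sup S g)
    (h1 : (g : Perm Ω) p = q) (h2 : (g : Perm Ω) q = p) : g • v = v := by
  obtain ⟨t, ht, t1, t2, t3⟩ := exists_move (by omega) hD hD.swap' hp hq hr hq hp hr
  have t4 := hv.2.2 t ht t1 t2 t3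
  have h3 := NN_fix hS hM hN hD hp hq hr hv (hg.mul ht)
    (by show (g : Perm Ω) ((t : Perm Ω) p) = p; rw [t1, h2])
    (by show (g : Perm Ω) ((t : Perm Ω) q) = q; rw [t2, h1])
  rwa [mul_smul, t4] at h3

end W

section E

/-- the operator `g`, `g p = a`, `g q = b` -/
noncomputable def E (S : Finset Ω) (p q a b : Ω) : V →+ V := by
  classical
  exact if h : ∃ g : alternatingGroup Ω, Sup S g ∧ (g : Perm Ω) p = a ∧ (g : Perm Ω) q = b
    then sm h.choose else 0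

variable (hS : 6 ≤ S.card) (hM : Inv S M) (hN : Natl S M) (hD : D3 p q r) (hp : p ∈ S) (hq : q ∈ S) (hr : r ∈ S)

theorem exists_move2 (hS : 6 ≤ S.card) (hD : D3 p q r) (hp : p ∈ S) (hq : q ∈ S) (hr : r ∈ S) (hab : a ≠ b)
    (ha : a ∈ S) (hb : b ∈ S) : ∃ g : alternatingGroup Ω, Sup S g ∧ (g : Perm Ω) p = a ∧ (g : Perm Ω) q = b := by
  obtain ⟨c, hc, hc'⟩ := exists_not_mem (S := S) {a, b} (lt_of_le_of_lt (Finset.card_le_two) (by omega))
  simp only [Finset.mem_insert, Finset.mem_singleton, not_or] at hc'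
  obtain ⟨g, hg, e1, e2, -⟩ := exists_move (by omega) hD (a' := a) (b' := b) (c' := c)
    ⟨hab, Ne.symm hc'.1, Ne.symm hc'.2⟩ hp hq hr ha hb hc
  exact ⟨g, hg, e1, e2⟩

include hS hM hN hD hp hq hr

theorem E_eq {v : V} (hv : v ∈ NN S M p q r) {g : alternatingGroup Ω} (hg : Sup S g) :
    E S p q ((g : Perm Ω) p) ((g : Perm Ω) q) v = g • v := by
  have h : ∃ g' : alternatingGroup Ω, Sup S g' ∧ (g' : Perm Ω) p = (g : Perm Ω) p ∧
      (g' : Perm Ω) q = (g : Perm Ω) q := ⟨g, hg, rfl, rfl⟩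
  rw [E, dif_pos h]
  obtain ⟨h1, h2, h3⟩ := h.choose_spec
  have key := NN_fix hS hM hN hD hp hq hr hv (g := g⁻¹ * h.choose) (hg.inv.mul h1)
    (by show (g : Perm Ω).symm ((h.choose : Perm Ω) p) = p; rw [h2, Equiv.symm_apply_apply])
    (by show (g : Perm Ω).symm ((h.choose : Perm Ω) q) = q; rw [h3, Equiv.symm_apply_apply])
  rw [mul_smul, inv_smul_eq_iff] at key
  exact key

theorem E_base {v : V} (hv : v ∈ NN S M p q r) : E S p q p q v = v := by
  have := E_eq hS hM hN hD hp hq hr hv (g := 1) Sup.one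
  rw [one_smul] at this
  exact this

theorem smul_E {v : V} (hv : v ∈ NN S M p q r) (hab : a ≠ b) (ha : a ∈ S) (hb : b ∈ S)
    {g : alternatingGroup Ω} (hg : Sup S g) :
    g • E S p q a b v = E S p q ((g : Perm Ω) a) ((g : Perm Ω) b) v := by
  obtain ⟨h, hh, e1, e2⟩ := exists_move2 hS hD hp hq hr hab ha hb
  have h1 := E_eq hS hM hN hD hp hq hr hv hh
  have h2 := E_eq hS hM hN hD hp hq hr hv (hg.mul hh)
  rw [e1, e2] at h1
  rw [h1, ← mul_smul, ← h2]
  show E S p q ((g : Perm Ω) ((h : Perm Ω) p)) ((g : Perm Ω) ((h : Perm Ω) q)) v = _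
  rw [e1, e2]

theorem E_mem {v : V} (hv : v ∈ NN S M p q r) (hab : a ≠ b) (ha : a ∈ S) (hb : b ∈ S) :
    E S p q a b v ∈ M := by
  obtain ⟨h, hh, e1, e2⟩ := exists_move2 hS hD hp hq hr hab ha hb
  have h1 := E_eq hS hM hN hD hp hq hr hv hh
  rw [e1, e2] at h1
  rw [h1]
  exact hM h hh v hv.1

theorem E_swap {v : V} (hv : v ∈ NN S M p q r) (hab : a ≠ b) (ha : a ∈ S) (hb : b ∈ S) :
    E S p q b a v = E S p q a b v := by
  obtain ⟨h, hh, e1, e2⟩ := exists_move2 hS hD hp hq hr hab ha hb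
  obtain ⟨t, ht, t1, t2, t3⟩ := exists_move (by omega) hD hD.swap' hp hq hr hq hp hr
  have t4 := hv.2.2 t ht t1 t2 t3
  have h1 := E_eq hS hM hN hD hp hq hr hv hh
  have h2 := E_eq hS hM hN hD hp hq hr hv (hh.mul ht)
  rw [mul_smul, t4, ← h1] at h2
  have h3 : E S p q ((h : Perm Ω) ((t : Perm Ω) p)) ((h : Perm Ω) ((t : Perm Ω) q)) v = _ := h2
  rw [t1, t2, e1, e2] at h3
  exact h3

theorem E_inj {v : V} (hv : v ∈ NN S M p q r) (hab : a ≠ b) (ha : a ∈ S) (hb : b ∈ S)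
    (h0 : E S p q a b v = 0) : v = 0 := by
  obtain ⟨h, hh, e1, e2⟩ := exists_move2 hS hD hp hq hr hab ha hb
  have h1 := E_eq hS hM hN hD hp hq hr hv hh
  rw [e1, e2, h0] at h1
  exact (smul_eq_zero_iff_eq h).mp h1.symm

theorem W_eq_E {v : V} (hv : v ∈ NN S M p q r) (hD' : D3 a b c) (ha : a ∈ S) (hb : b ∈ S) (hc : c ∈ S) :
    W S p q r a b c v = E S p q a b v := by
  obtain ⟨h, hh, e1, e2, e3⟩ := exists_move (by omega) hD hD' hp hq hr ha hb hc
  have h1 := W_eq hN hD hp hq hr hv.1 hv.2.1 hh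
  have h2 := E_eq hS hM hN hD hp hq hr hv hh
  rw [e1, e2, e3] at h1
  rw [e1, e2] at h2
  rw [h1, h2]

/-- **additivity** -/
theorem E_add {v : V} (hv : v ∈ NN S M p q r) (hD' : D3 a b c) (ha : a ∈ S) (hb : b ∈ S) (hc : c ∈ S) :
    E S p q a b v + E S p q b c v = E S p q a c v := by
  have h1 := W_sum hS hN hD hp hq hr hv hD' ha hb hc
  rw [W_eq_E hS hM hN hD hp hq hr hv hD' ha hb hc, W_eq_E hS hM hN hD hp hq hr hv hD'.rot hb hc ha,
    W_eq_E hS hM hN hD hp hq hr hv hD'.rot.rot hc ha hb,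
    E_swap hS hM hN hD hp hq hr hv hD'.2.1 ha hc] at h1
  rw [h1]
  two

/-- `[M, (p q r)] = N + (p q r) N` -/
theorem cm_eq {v : V} (hv : v ∈ M) (hF : F p q r v = v) :
    ∃ x ∈ NN S M p q r, ∃ y ∈ NN S M p q r, v = x + C p q r • y := by
  obtain ⟨t, ht, t1, t2, t3⟩ := exists_move (by omega) hD hD.swap' hp hq hr hq hp hr
  have htM : ∀ w ∈ M, F p q r w = w → t • w ∈ M ∧ F p q r (t • w) = t • w := by
    intro w hw hw'
    refine ⟨hM t ht w hw, ?_⟩
    have := smul_F t p q r w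
    rw [t1, t2, t3, hw'] at this
    rw [← F_rot hD, F_swap]
    exact this.symm
  -- `t²` is trivial on `[M, (p q r)]`
  have htt : ∀ w ∈ M, F p q r w = w → t • t • w = w := by
    intro w hw hw'
    rw [← mul_smul]
    exact fixT hN hD hp hq hr hw hw' (ht.mul ht)
      (by show (t : Perm Ω) ((t : Perm Ω) p) = p; rw [t1, t2])
      (by show (t : Perm Ω) ((t : Perm Ω) q) = q; rw [t2, t1])
      (by show (t : Perm Ω) ((t : Perm Ω) r) = r; rw [t3, t3])
  -- membership in `N`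
  have hmem : ∀ w ∈ M, F p q r w = w → t • w = w → w ∈ NN S M p q r := by
    intro w hw hw' hw''
    refine ⟨hw, hw', ?_⟩
    intro g hg g1 g2 g3
    rw [smul_eq_of hN hD hp hq hr hw hw' hg ht (by rw [g1, t1]) (by rw [g2, t2]) (by rw [g3, t3])]
    exact hw''
  have hCF : ∀ w ∈ M, F p q r w = w → C p q r • w ∈ M ∧ F p q r (C p q r • w) = C p q r • w := fun w hw hw' =>
    (AltSplit.om_cm S hM hD hp hq hr).mem w ⟨hw, hw'⟩
  have hC2 : ∀ w : V, F p q r w = w → C p r q • w = C p q r • w + w := fun w hw' => by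
    rw [← CC hD]; exact (F_eq_self_iff hD).mp hw'
  have htC : ∀ w : V, t • C p q r • w = C p r q • t • w := by
    intro w
    rw [smul_C, t1, t2, t3, C_rot hD.swap.rot, C_rot hD.swap]
  obtain ⟨hv1, hv2⟩ := htM v hv hF
  have hy : v + t • v ∈ NN S M p q r := by
    refine hmem _ (M.add_mem hv hv1) (by rw [map_add, hF, hv2]) ?_
    rw [smul_add, htt v hv hF, add_comm]
  have hy1 : v + t • v ∈ M := M.add_mem hv hv1
  have hy2 : F p q r (v + t • v) = v + t • v := by rw [map_add, hF, hv2]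
  obtain ⟨hz1, hz2⟩ := hCF _ hy1 hy2
  have hx : v + C p q r • (v + t • v) ∈ NN S M p q r := by
    refine hmem _ (M.add_mem hv hz1) (by rw [map_add, hF, hz2]) ?_
    rw [smul_add, htC]
    have e1 : t • (v + t • v) = v + t • v := by rw [smul_add, htt v hv hF, add_comm]
    rw [e1, hC2 _ hy2]
    two
  exact ⟨_, hx, _, hy, by two⟩

theorem NN_ne {v : V} (hv : v ∈ M) (hF : F p q r v = v) (h0 : v ≠ 0) : ∃ x ∈ NN S M p q r, x ≠ 0 := by
  obtain ⟨x, hx, y, hy, e⟩ := cm_eq hS hM hN hD hp hq hr hv hF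
  by_contra hn
  push Not at hn
  rw [hn x hx, hn y hy, smul_zero, add_zero] at e
  exact h0 e

/-- the key step of the count -/
theorem sum_eq_zero {s m : Ω} (hs : s ∈ S) (hm : m ∈ S) (hsm : s ≠ m) {x : Ω → V}
    (hx : ∀ j, x j ∈ NN S M p q r) (h0 : ∑ j ∈ S \ {s, m}, E S p q s j (x j) = 0) {j : Ω}
    (hj : j ∈ S \ {s, m}) : x j = 0 := by
  obtain ⟨i, hi, hi'⟩ := exists_not_mem (S := S) {s, m, j} (lt_of_le_of_lt (Finset.card_le_three) (by omega))
  simp only [Finset.mem_sdiff, Finset.mem_insert, Finset.mem_singleton, not_or] at hj hi'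
  obtain ⟨hjS, js, jm⟩ := hj
  obtain ⟨is, im, ij⟩ := hi'
  have hDy : D3 j m i := ⟨jm, Ne.symm ij, Ne.symm im⟩
  -- apply `1 + y`
  have h1 : ∑ k ∈ S \ {s, m}, (C j m i • E S p q s k (x k) + E S p q s k (x k)) = 0 := by
    rw [Finset.sum_add_distrib, ← Finset.smul_sum, h0, smul_zero, add_zero]
  have h2 : ∑ k ∈ ({i, j} : Finset Ω), (C j m i • E S p q s k (x k) + E S p q s k (x k)) = 0 := by
    rw [← h1]
    refine Finset.sum_subset ?_ ?_
    · intro k hk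
      simp only [Finset.mem_insert, Finset.mem_singleton] at hk
      simp only [Finset.mem_sdiff, Finset.mem_insert, Finset.mem_singleton, not_or]
      rcases hk with rfl | rfl
      · exact ⟨hi, is, im⟩
      · exact ⟨hjS, js, jm⟩
    · intro k hk hk'
      simp only [Finset.mem_sdiff, Finset.mem_insert, Finset.mem_singleton, not_or] at hk hk'
      rw [smul_E hS hM hN hD hp hq hr (hx k) (Ne.symm hk.2.1) hs hk.1 (sup_C hjS hm hi),
        C_of_ne (Ne.symm js) hsm (Ne.symm is), C_of_ne hk'.2 hk.2.2 hk'.1, aa]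
  rw [Finset.sum_pair ij, smul_E hS hM hN hD hp hq hr (hx i) (Ne.symm is) hs hi (sup_C hjS hm hi),
    smul_E hS hM hN hD hp hq hr (hx j) (Ne.symm js) hs hjS (sup_C hjS hm hi),
    C_of_ne (Ne.symm js) hsm (Ne.symm is), C_c hDy, C_a hDy] at h2
  -- `E i j (x i) + E j m (x j) = 0`
  have e1 : E S p q s j (x i) + E S p q s i (x i) = E S p q i j (x i) := by
    have h3 := E_add hS hM hN hD hp hq hr (hx i) (a := i) (b := s) (c := j) ⟨is, ij, Ne.symm js⟩ hi hs hjS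
    rw [E_swap hS hM hN hD hp hq hr (hx i) (Ne.symm is) hs hi] at h3
    rw [← h3, add_comm]
  have e2 : E S p q s m (x j) + E S p q s j (x j) = E S p q j m (x j) := by
    have h3 := E_add hS hM hN hD hp hq hr (hx j) (a := j) (b := s) (c := m) ⟨js, jm, hsm⟩ hjS hs hm
    rw [E_swap hS hM hN hD hp hq hr (hx j) (Ne.symm js) hs hjS] at h3
    rw [← h3, add_comm]
  rw [e1, e2] at h2
  -- apply `1 + z`
  obtain ⟨a, ha, ha'⟩ := exists_not_mem (S := S) {i, j, m} (lt_of_le_of_lt (Finset.card_le_three) (by omega))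
  obtain ⟨b, hb, hb'⟩ := exists_not_mem (S := S) {i, j, m, a} (lt_of_le_of_lt (Finset.card_le_four) (by omega))
  simp only [Finset.mem_insert, Finset.mem_singleton, not_or] at ha' hb'
  obtain ⟨ai, aj, am⟩ := ha'
  obtain ⟨bi, bj, bm, ba⟩ := hb'
  have hDz : D3 m a b := ⟨Ne.symm am, Ne.symm bm, Ne.symm ba⟩
  have h3 : C m a b • (E S p q i j (x i) + E S p q j m (x j)) + (E S p q i j (x i) + E S p q j m (x j)) = 0 := by
    rw [h2, smul_zero, add_zero]
  rw [smul_add, smul_E hS hM hN hD hp hq hr (hx i) ij hi hjS (sup_C hm ha hb),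
    smul_E hS hM hN hD hp hq hr (hx j) jm hjS hm (sup_C hm ha hb), C_of_ne im (Ne.symm ai) (Ne.symm bi),
    C_of_ne jm (Ne.symm aj) (Ne.symm bj), C_a hDz] at h3
  have e3 : E S p q j a (x j) + E S p q j m (x j) = E S p q a m (x j) := by
    have h4 := E_add hS hM hN hD hp hq hr (hx j) (a := a) (b := j) (c := m) ⟨aj, am, jm⟩ ha hjS hm
    rw [E_swap hS hM hN hD hp hq hr (hx j) (Ne.symm aj) hjS ha] at h4
    exact h4
  have h4 : E S p q a m (x j) = 0 := by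
    rw [← e3, ← h3]
    two
  exact E_inj hS hM hN hD hp hq hr (hx j) am ha hm h4

/-- **the count** -/
theorem card_pow_le [Finite V] : Nat.card (NN S M p q r) ^ (S.card - 2) ≤ Nat.card M := by
  classical
  let J : Finset Ω := S \ {p, q}
  have hJ : Nat.card J = S.card - 2 := by
    rw [Nat.card_eq_fintype_card, Fintype.card_coe, Finset.card_sdiff_of_subset, Finset.card_pair hD.1]
    intro x hx
    simp only [Finset.mem_insert, Finset.mem_singleton] at hx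
    rcases hx with rfl | rfl <;> assumption
  rw [← hJ]
  have : Nat.card (NN S M p q r) ^ Nat.card J = Nat.card (J → NN S M p q r) := by
    rw [Nat.card_fun]
  rw [this]
  let ext : (J → NN S M p q r) → Ω → V := fun x j => if h : j ∈ J then (x ⟨j, h⟩ : V) else 0
  have hext : ∀ x j, ext x j ∈ NN S M p q r := by
    intro x j
    show (if h : j ∈ J then (x ⟨j, h⟩ : V) else 0) ∈ _
    split_ifs with h
    · exact (x ⟨j, h⟩).2
    · exact (NN S M p q r).zero_mem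
  have hmemJ : ∀ j ∈ J, j ∈ S ∧ p ≠ j := by
    intro j hj
    simp only [J, Finset.mem_sdiff, Finset.mem_insert, Finset.mem_singleton, not_or] at hj
    exact ⟨hj.1, Ne.symm hj.2.1⟩
  refine Nat.card_le_card_of_injective (fun x : J → NN S M p q r =>
    (⟨∑ j ∈ J, E S p q p j (ext x j), M.sum_mem fun j hj =>
      E_mem hS hM hN hD hp hq hr (hext x j) (hmemJ j hj).2 hp (hmemJ j hj).1⟩ : M)) ?_
  intro x y hxy
  have h1 : ∑ j ∈ J, E S p q p j (ext x j) = ∑ j ∈ J, E S p q p j (ext y j) := congrArg Subtype.val hxy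
  have h2 : ∑ j ∈ J, E S p q p j (ext x j + ext y j) = 0 := by
    simp only [map_add]
    rw [Finset.sum_add_distrib, h1, aa]
  funext ⟨j, hj⟩
  have h3 := sum_eq_zero hS hM hN hD hp hq hr hp hq hD.1 (x := fun j => ext x j + ext y j)
    (fun j => (NN S M p q r).add_mem (hext x j) (hext y j)) h2 hj
  have h4 : ext x j = ext y j := addz_iff.mp h3
  apply Subtype.ext
  have h5 : ext x j = (x ⟨j, hj⟩ : V) := dif_pos hj
  have h6 : ext y j = (y ⟨j, hj⟩ : V) := dif_pos hj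
  rw [← h5, ← h6, h4]

end E

/-- in a `Mod4` module `N` is `ω`-invariant -/
theorem om_NN {ω : V →+ V} (h : Mod4 S M ω) (hp : p ∈ S) (hq : q ∈ S) (hr : r ∈ S) : Om (NN S M p q r) ω :=
  ⟨fun v hv => ⟨h.mem v hv.1, by rw [h.F_comm hp hq hr hv.1, hv.2.1], fun g hg h1 h2 h3 => by
    rw [← h.comm g hg v hv.1, hv.2.2 g hg h1 h2 h3]⟩, fun v hv => h.sq v hv.1⟩

/-- natural type, `Mod4` -/
theorem Mod4.natl [Finite V] (hS : 6 ≤ S.card) {ω : V →+ V} (h : Mod4 S M ω) (hN : Natl S M) (hn : Nt S M) :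
    4 ^ (S.card - 2) ≤ Nat.card M := by
  obtain ⟨p, hp, q, hq, r, hr, hD, v, hv, h0⟩ := hn
  obtain ⟨x, hx, hx0⟩ := NN_ne hS h.inv hN hD hp hq hr (h.inv.F hp hq hr hv) (F_F hD v) h0
  have h1 := (om_NN h hp hq hr).four_le hx hx0
  exact (Nat.pow_le_pow_left h1 _).trans (card_pow_le hS h.inv hN hD hp hq hr)

/-- natural type, `F₂` -/
theorem natl [Finite V] (hS : 6 ≤ S.card) (h : Inv S M) (hN : Natl S M) (hn : Nt S M) :
    2 ^ (S.card - 2) ≤ Nat.card M := by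
  obtain ⟨p, hp, q, hq, r, hr, hD, v, hv, h0⟩ := hn
  obtain ⟨x, hx, hx0⟩ := NN_ne hS h hN hD hp hq hr (h.F hp hq hr hv) (F_F hD v) h0
  have h1 := two_le_card hx hx0
  exact (Nat.pow_le_pow_left h1 _).trans (card_pow_le hS h hN hD hp hq hr)

end Cfsg.Agent.Omega.TwoF.AltNat
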