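import Cfsg.Agent.Omega.TwoF.AltSplit

/-!
# Elementary abelian 2-groups with an action of an alternating group, II: six points

* `Mod4.cm_sq`: `|[M, C]| = |P|²`, `P = {v ∈ [M, C] | C v = ω v}`;
* `Mod4.quad`: if `F a b c` and `F d e f` (disjoint) do not annihilate `M`, then `|F F M| ≥ 4⁴`;
* `Mod4.six`: a nontrivial `Mod4` module for `A_S`, `|S| ≥ 6`, has order at least `4⁴`;
* `quad`, `six`: the same without `ω`: `2⁴`.
-/

set_option autoImplicit false
set_option linter.unusedSectionVars false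

namespace Cfsg.Agent.Omega.TwoF.AltSix

open Equiv Equiv.Perm AltCyc AltSplit

universe u w

variable {Ω : Type u} [DecidableEq Ω] [Fintype Ω]

/-- six distinct points -/
def D6 (a b c d e f : Ω) : Prop :=
  D3 a b c ∧ D3 d e f ∧ (d ≠ a ∧ d ≠ b ∧ d ≠ c) ∧ (e ≠ a ∧ e ≠ b ∧ e ≠ c) ∧ (f ≠ a ∧ f ≠ b ∧ f ≠ c)

theorem D6.symm {a b c d e f : Ω} (h : D6 a b c d e f) : D6 d e f a b c := by
  obtain ⟨h1, h2, h3, h4, h5⟩ := h
  exact ⟨h2, h1, ⟨h3.1.symm, h4.1.symm, h5.1.symm⟩, ⟨h3.2.1.symm, h4.2.1.symm, h5.2.1.symm⟩,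
    ⟨h3.2.2.symm, h4.2.2.symm, h5.2.2.symm⟩⟩

theorem exists_three {S : Finset Ω} (hS : 6 ≤ S.card) {a b c : Ω} (hD : D3 a b c) :
    ∃ d ∈ S, ∃ e ∈ S, ∃ f ∈ S, D6 a b c d e f := by
  obtain ⟨d, hd, hd'⟩ := exists_not_mem (S := S) {a, b, c} (lt_of_le_of_lt (Finset.card_le_three) (by omega))
  obtain ⟨e, he, he'⟩ := exists_not_mem (S := S) {a, b, c, d} (lt_of_le_of_lt (Finset.card_le_four) (by omega))
  obtain ⟨f, hf, hf'⟩ := exists_not_mem (S := S) {a, b, c, d, e} (lt_of_le_of_lt (Finset.card_le_five) (by omega))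
  simp only [Finset.mem_insert, Finset.mem_singleton, not_or] at hd' he' hf'
  exact ⟨d, hd, e, he, f, hf, hD, ⟨Ne.symm he'.2.2.2, Ne.symm hf'.2.2.2.1, Ne.symm hf'.2.2.2.2⟩, hd',
    ⟨he'.1, he'.2.1, he'.2.2.1⟩, ⟨hf'.1, hf'.2.1, hf'.2.2.1⟩⟩

/-- the element `(a d)(b e c f)` -/
theorem exists_quad {S : Finset Ω} {a b c d e f : Ω} (h : D6 a b c d e f) (ha : a ∈ S) (hb : b ∈ S) (hc : c ∈ S)
    (hd : d ∈ S) (he : e ∈ S) (hf : f ∈ S) :
    ∃ s : alternatingGroup Ω, Sup S s ∧ (s : Perm Ω) a = d ∧ (s : Perm Ω) b = e ∧ (s : Perm Ω) c = f ∧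
      (s : Perm Ω) d = a ∧ (s : Perm Ω) e = c ∧ (s : Perm Ω) f = b := by
  obtain ⟨⟨ab, ac, bc⟩, ⟨de, df, ef⟩, ⟨da, db, dc⟩, ⟨ea, eb, ec⟩, ⟨fa, fb, fc⟩⟩ := h
  have swS : ∀ x ∈ S, ∀ y ∈ S, ∀ z, z ∉ S → swap x y z = z := fun x hx y hy z hz =>
    swap_apply_of_ne_of_ne (fun e => hz (e ▸ hx)) (fun e => hz (e ▸ hy))
  refine ⟨⟨swap b c * (swap a d * (swap b e * swap c f)), ?_⟩, ?_, ?_, ?_, ?_, ?_, ?_, ?_⟩
  · rw [mem_alternatingGroup, Perm.sign_mul, Perm.sign_mul, Perm.sign_mul, sign_swap bc, sign_swap da.symm,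
      sign_swap eb.symm, sign_swap fc.symm]; decide
  · intro x hx
    show swap b c (swap a d (swap b e (swap c f x))) = x
    rw [swS _ hc _ hf _ hx, swS _ hb _ he _ hx, swS _ ha _ hd _ hx, swS _ hb _ hc _ hx]
  · show swap b c (swap a d (swap b e (swap c f a))) = d
    rw [swap_apply_of_ne_of_ne ac fa.symm, swap_apply_of_ne_of_ne ab ea.symm, swap_apply_left,
      swap_apply_of_ne_of_ne db dc]
  · show swap b c (swap a d (swap b e (swap c f b))) = e
    rw [swap_apply_of_ne_of_ne bc fb.symm, swap_apply_left, swap_apply_of_ne_of_ne ea de.symm,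
      swap_apply_of_ne_of_ne eb ec]
  · show swap b c (swap a d (swap b e (swap c f c))) = f
    rw [swap_apply_left, swap_apply_of_ne_of_ne fb ef.symm, swap_apply_of_ne_of_ne fa df.symm,
      swap_apply_of_ne_of_ne fb fc]
  · show swap b c (swap a d (swap b e (swap c f d))) = a
    rw [swap_apply_of_ne_of_ne dc df, swap_apply_of_ne_of_ne db de, swap_apply_right,
      swap_apply_of_ne_of_ne ab ac]
  · show swap b c (swap a d (swap b e (swap c f e))) = c
    rw [swap_apply_of_ne_of_ne ec ef, swap_apply_right, swap_apply_of_ne_of_ne ab.symm db.symm, swap_apply_left]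
  · show swap b c (swap a d (swap b e (swap c f f))) = b
    rw [swap_apply_right, swap_apply_of_ne_of_ne bc.symm ec.symm, swap_apply_of_ne_of_ne ac.symm dc.symm,
      swap_apply_right]

variable {V : Type w} [AddCommGroup V] [Two V] [DistribMulAction (alternatingGroup Ω) V]
variable {a b c d e f : Ω} {S : Finset Ω} {M : AddSubgroup V} {ω : V →+ V}

section

/-- `g C g⁻¹ = C'` on vectors -/
theorem smul_C (g : alternatingGroup Ω) (a b c : Ω) (v : V) :
    g • C a b c • v = C ((g : Perm Ω) a) ((g : Perm Ω) b) ((g : Perm Ω) c) • g • v := by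
  rw [← mul_smul, ← mul_smul, mul_C]

theorem Cb (hD : D3 a b c) {v : V} (hv : v ∈ cm M a b c) : C a c b • v = C a b c • v + v := by
  rw [← CC hD]; exact (F_eq_self_iff hD).mp hv.2

/-- the part of `M` on which `C a b c` acts as `θ` -/
abbrev pc (M : AddSubgroup V) (a b c : Ω) (θ : V →+ V) : AddSubgroup V := Eqz M (sm (C a b c)) θ

theorem mem_pc {θ : V →+ V} {v : V} : v ∈ pc M a b c θ ↔ v ∈ M ∧ C a b c • v = θ v := Iff.rfl

theorem Mod4.om_cm (h : Mod4 S M ω) (ha : a ∈ S) (hb : b ∈ S) (hc : c ∈ S) : Om (cm M a b c) ω :=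
  h.toOm.eqz (fun _ hv => h.F_comm ha hb hc hv) fun _ _ => rfl

/-- `|[M, C]| = |P|²` -/
theorem Mod4.cm_sq [Finite V] (hS : 5 ≤ S.card) (h : Mod4 S M ω) (hD : D3 a b c) (ha : a ∈ S) (hb : b ∈ S)
    (hc : c ∈ S) : Nat.card (cm M a b c) = Nat.card (pc (cm M a b c) a b c ω) * Nat.card (pc (cm M a b c) a b c ω) ∧
      Nat.card (pc (cm M a b c) a b c (om1 ω)) = Nat.card (pc (cm M a b c) a b c ω) := by
  obtain ⟨g, hg, e1, e2, e3⟩ := exists_move hS hD hD.swap' ha hb hc hb ha hc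
  have hc1 : Om (cm M a b c) (sm (C a b c)) := AltSplit.om_cm S h.inv hD ha hb hc
  have hc2 := Mod4.om_cm h ha hb hc
  have h1 := split hc1 hc2 fun v hv => (h.comm _ (sup_C ha hb hc) v hv.1).symm
  have hgC : ∀ v : V, g • C a c b • v = C a b c • g • v := by
    intro v
    rw [smul_C, e1, e2, e3, C_rot hD]
  have hgm : ∀ v ∈ cm M a b c, g • v ∈ cm M a b c := by
    intro v hv
    refine ⟨h.inv g hg v hv.1, ?_⟩
    have := smul_F g a b c v
    rw [e1, e2, e3, hv.2] at this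
    rw [← F_rot hD, F_swap]
    exact this.symm
  have i1 : Nat.card (pc (cm M a b c) a b c ω) ≤ Nat.card (pc (cm M a b c) a b c (om1 ω)) := by
    refine card_le_of_smul g fun v hv => ⟨hgm v hv.1, ?_⟩
    have hv2 : C a b c • v = ω v := hv.2
    rw [sm_apply, ← hgC, Cb hD hv.1, hv2, smul_add, om1_apply, h.comm g hg v hv.1.1]
  have i2 : Nat.card (pc (cm M a b c) a b c (om1 ω)) ≤ Nat.card (pc (cm M a b c) a b c ω) := by
    refine card_le_of_smul g fun v hv => ⟨hgm v hv.1, ?_⟩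
    have hv2 : C a b c • v = ω v + v := hv.2
    rw [sm_apply, ← hgC, Cb hD hv.1, hv2, add_assoc, aa, add_zero, h.comm g hg v hv.1.1]
  have i3 := le_antisymm i1 i2
  exact ⟨by rw [h1, ← i3], i3.symm⟩

theorem Mod4.om_pc (h : Mod4 S M ω) (ha : a ∈ S) (hb : b ∈ S) (hc : c ∈ S) :
    Om (pc (cm M a b c) a b c ω) ω :=
  (Mod4.om_cm h ha hb hc).eqz (fun v hv => (h.comm _ (sup_C ha hb hc) v hv.1).symm) fun _ _ => rfl

theorem Mod4.sixteen [Finite V] (hS : 5 ≤ S.card) (h : Mod4 S M ω) (hD : D3 a b c) (ha : a ∈ S) (hb : b ∈ S)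
    (hc : c ∈ S) {v : V} (hv : v ∈ M) (h0 : F a b c v ≠ 0) : 16 ≤ Nat.card (cm M a b c) := by
  obtain ⟨h1, -⟩ := Mod4.cm_sq hS h hD ha hb hc
  have h2 : 1 < Nat.card (cm M a b c) := card_of_ne (F_mem_cm h.inv hD ha hb hc hv) h0
  have h3 : 1 < Nat.card (pc (cm M a b c) a b c ω) := by
    by_contra hn
    have h4 : Nat.card (pc (cm M a b c) a b c ω) ≤ 1 := by omega
    have := Nat.mul_le_mul h4 h4
    omega
  obtain ⟨x, hx, hx0⟩ := exists_ne_of_card h3
  have h4 := (Mod4.om_pc h ha hb hc).four_le hx hx0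
  have := Nat.mul_le_mul h4 h4
  omega

/-- both cycles -/
abbrev cm2 (M : AddSubgroup V) (a b c d e f : Ω) : AddSubgroup V :=
  Eqz (cm M a b c) (F d e f) (AddMonoidHom.id V)

theorem F_F_mem (hM : Inv S M) (hD : D6 a b c d e f) (ha : a ∈ S) (hb : b ∈ S) (hc : c ∈ S) (hd : d ∈ S)
    (he : e ∈ S) (hf : f ∈ S) {v : V} (hv : v ∈ M) : F a b c (F d e f v) ∈ cm2 M a b c d e f :=
  ⟨F_mem_cm hM hD.1 ha hb hc (hM.F hd he hf hv), by
    rw [F_comm hD.2.2.1 hD.2.2.2.1 hD.2.2.2.2, F_F hD.2.1]; rfl⟩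

/-- the operator `d e f` on `cm2` -/
theorem omD (hM : Inv S M) (hD : D6 a b c d e f) (ha : a ∈ S) (hb : b ∈ S) (hc : c ∈ S) (hd : d ∈ S)
    (he : e ∈ S) (hf : f ∈ S) : Om (cm2 M a b c d e f) (sm (C d e f)) := by
  have h1 : Om (cm M d e f) (sm (C d e f)) := AltSplit.om_cm S hM hD.2.1 hd he hf
  refine ⟨fun v hv => ?_, fun v hv => (F_eq_self_iff hD.2.1).mp hv.2⟩
  have h2 := h1.mem v ⟨hv.1.1, hv.2⟩
  refine ⟨⟨h2.1, ?_⟩, h2.2⟩
  have h3 := C_smul_F hD.symm.2.2.1 hD.symm.2.2.2.1 hD.symm.2.2.2.2 v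
  rw [hv.1.2] at h3
  exact h3.symm

theorem omA (hM : Inv S M) (hD : D6 a b c d e f) (ha : a ∈ S) (hb : b ∈ S) (hc : c ∈ S) :
    Om (cm2 M a b c d e f) (sm (C a b c)) := by
  have h1 : Om (cm M a b c) (sm (C a b c)) := AltSplit.om_cm S hM hD.1 ha hb hc
  refine ⟨fun v hv => ⟨h1.mem v hv.1, ?_⟩, fun v hv => h1.sq v hv.1⟩
  have h3 := C_smul_F hD.2.2.1 hD.2.2.2.1 hD.2.2.2.2 v
  rw [hv.2] at h3
  exact h3.symm

theorem Mod4.om_cm2 (h : Mod4 S M ω) (ha : a ∈ S) (hb : b ∈ S) (hc : c ∈ S) (hd : d ∈ S)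
    (he : e ∈ S) (hf : f ∈ S) : Om (cm2 M a b c d e f) ω :=
  (Mod4.om_cm h ha hb hc).eqz (fun _ hv => h.F_comm hd he hf hv.1) fun _ _ => rfl

/-- the element `s` maps `cm2` to itself and `C d e f` to `(C a b c)⁻¹` -/
theorem quad_aux (hM : Inv S M) (hD : D6 a b c d e f) (ha : a ∈ S) (hb : b ∈ S) (hc : c ∈ S) (hd : d ∈ S)
    (he : e ∈ S) (hf : f ∈ S) : ∃ s : alternatingGroup Ω, Sup S s ∧
      (∀ v ∈ cm2 M a b c d e f, s • v ∈ cm2 M a b c d e f) ∧ (∀ v : V, s • C a b c • v = C d e f • s • v) ∧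
      (∀ v : V, s • C d e f • v = C a c b • s • v) := by
  obtain ⟨s, hs, e1, e2, e3, e4, e5, e6⟩ := exists_quad hD ha hb hc hd he hf
  refine ⟨s, hs, ?_, ?_, ?_⟩
  · intro v hv
    have h1 := smul_F s a b c v
    have h2 := smul_F s d e f v
    rw [e1, e2, e3] at h1
    rw [e4, e5, e6, F_swap a b c] at h2
    have h3 : F a b c v = v := hv.1.2
    have h4 : F d e f v = v := hv.2
    rw [h3] at h1
    rw [h4] at h2
    exact ⟨⟨hM s hs v hv.1.1, h2.symm⟩, h1.symm⟩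
  · intro v
    rw [smul_C, e1, e2, e3]
  · intro v
    rw [smul_C, e4, e5, e6]

/-- **the four patterns** -/
theorem Mod4.quad [Finite V] (h : Mod4 S M ω) (hD : D6 a b c d e f) (ha : a ∈ S) (hb : b ∈ S)
    (hc : c ∈ S) (hd : d ∈ S) (he : e ∈ S) (hf : f ∈ S) {v : V} (hv : v ∈ M) (h0 : F a b c (F d e f v) ≠ 0) :
    4 ^ 4 ≤ Nat.card (cm2 M a b c d e f) := by
  obtain ⟨s, hs, hsm, hs1, hs2⟩ := quad_aux h.inv hD ha hb hc hd he hf
  have o1 := omA h.inv hD ha hb hc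
  have o2 := omD h.inv hD ha hb hc hd he hf
  have o3 := Mod4.om_cm2 h ha hb hc hd he hf
  have c1 : ∀ v ∈ cm2 M a b c d e f, sm (C a b c) (ω v) = ω (sm (C a b c) v) := fun v hv =>
    (h.comm _ (sup_C ha hb hc) v hv.1.1).symm
  have c2 : ∀ v ∈ cm2 M a b c d e f, sm (C d e f) (ω v) = ω (sm (C d e f) v) := fun v hv =>
    (h.comm _ (sup_C hd he hf) v hv.1.1).symm
  have c3 : ∀ v : V, sm (C a b c) (sm (C d e f) v) = sm (C d e f) (sm (C a b c) v) := fun v =>
    C_smul_comm hD.2.2.1 hD.2.2.2.1 hD.2.2.2.2 v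
  have k1 := split o1 o3 c1
  have k2 : ∀ θ : V →+ V, (∀ v ∈ cm2 M a b c d e f, θ (sm (C d e f) v) = sm (C d e f) (θ v)) →
      (∀ v ∈ cm2 M a b c d e f, θ (ω v) = ω (θ v)) →
      Nat.card (pc (cm2 M a b c d e f) a b c θ) = Nat.card (pc (pc (cm2 M a b c d e f) a b c θ) d e f ω) *
        Nat.card (pc (pc (cm2 M a b c d e f) a b c θ) d e f (om1 ω)) := by
    intro θ hθ hθ'
    exact split (o2.eqz (fun v _ => c3 v) hθ) (o3.eqz c1 hθ') fun v hv => c2 v hv.1
  have t1 := k2 ω (fun v hv => (c2 v hv).symm) fun _ _ => rfl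
  have t2 := k2 (om1 ω) (fun v hv => by
    rw [om1_apply, om1_apply, map_add, c2 v hv]) fun v hv => by
    rw [om1_apply, om1_apply, map_add]
  -- how `s` acts on the patterns
  have hCd : ∀ v ∈ cm2 M a b c d e f, C a c b • (s • v) = C a b c • (s • v) + s • v := fun v hv =>
    Cb hD.1 (hsm v hv).1
  have p1 : Nat.card (pc (pc (cm2 M a b c d e f) a b c ω) d e f ω) ≤
      Nat.card (pc (pc (cm2 M a b c d e f) a b c (om1 ω)) d e f ω) := by
    refine card_le_of_smul s fun v hv => ?_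
    have hv0 := hv.1.1
    have e1 : C a b c • v = ω v := hv.1.2
    have e2 : C d e f • v = ω v := hv.2
    refine ⟨⟨hsm v hv0, ?_⟩, ?_⟩
    · have h1 := hCd v hv0
      rw [← hs2, e2, h.comm s hs v hv0.1.1 |>.symm] at h1
      rw [sm_apply, om1_apply, h1]; two
    · rw [sm_apply, ← hs1, e1, h.comm s hs v hv0.1.1]
  have p2 : Nat.card (pc (pc (cm2 M a b c d e f) a b c (om1 ω)) d e f ω) ≤
      Nat.card (pc (pc (cm2 M a b c d e f) a b c (om1 ω)) d e f (om1 ω)) := by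
    refine card_le_of_smul s fun v hv => ?_
    have hv0 := hv.1.1
    have e1 : C a b c • v = ω v + v := hv.1.2
    have e2 : C d e f • v = ω v := hv.2
    refine ⟨⟨hsm v hv0, ?_⟩, ?_⟩
    · have h1 := hCd v hv0
      rw [← hs2, e2, h.comm s hs v hv0.1.1 |>.symm] at h1
      rw [sm_apply, om1_apply, h1]; two
    · rw [sm_apply, ← hs1, e1, om1_apply, smul_add, h.comm s hs v hv0.1.1]
  have p3 : Nat.card (pc (pc (cm2 M a b c d e f) a b c (om1 ω)) d e f (om1 ω)) ≤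
      Nat.card (pc (pc (cm2 M a b c d e f) a b c ω) d e f (om1 ω)) := by
    refine card_le_of_smul s fun v hv => ?_
    have hv0 := hv.1.1
    have e1 : C a b c • v = ω v + v := hv.1.2
    have e2 : C d e f • v = ω v + v := hv.2
    refine ⟨⟨hsm v hv0, ?_⟩, ?_⟩
    · have h1 := hCd v hv0
      rw [← hs2, e2, smul_add, h.comm s hs v hv0.1.1 |>.symm] at h1
      rw [sm_apply]
      exact (add_right_cancel h1).symm
    · rw [sm_apply, ← hs1, e1, om1_apply, smul_add, h.comm s hs v hv0.1.1]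
  have p4 : Nat.card (pc (pc (cm2 M a b c d e f) a b c ω) d e f (om1 ω)) ≤
      Nat.card (pc (pc (cm2 M a b c d e f) a b c ω) d e f ω) := by
    refine card_le_of_smul s fun v hv => ?_
    have hv0 := hv.1.1
    have e1 : C a b c • v = ω v := hv.1.2
    have e2 : C d e f • v = ω v + v := hv.2
    refine ⟨⟨hsm v hv0, ?_⟩, ?_⟩
    · have h1 := hCd v hv0
      rw [← hs2, e2, smul_add, h.comm s hs v hv0.1.1 |>.symm] at h1
      rw [sm_apply]
      exact (add_right_cancel h1).symm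
    · rw [sm_apply, ← hs1, e1, h.comm s hs v hv0.1.1]
  set y := Nat.card (pc (pc (cm2 M a b c d e f) a b c ω) d e f ω) with hy
  have q2 : Nat.card (pc (pc (cm2 M a b c d e f) a b c (om1 ω)) d e f ω) = y := by omega
  have q3 : Nat.card (pc (pc (cm2 M a b c d e f) a b c (om1 ω)) d e f (om1 ω)) = y := by omega
  have q4 : Nat.card (pc (pc (cm2 M a b c d e f) a b c ω) d e f (om1 ω)) = y := by omega
  have hcard : Nat.card (cm2 M a b c d e f) = y ^ 4 := by
    rw [k1, t1, t2, q2, q3, q4]; ring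
  have h2 : 1 < Nat.card (cm2 M a b c d e f) := card_of_ne (F_F_mem h.inv hD ha hb hc hd he hf hv) h0
  have h3 : 1 < y := by
    by_contra hn
    have h4 : y ≤ 1 := by omega
    have := Nat.pow_le_pow_left h4 4
    omega
  obtain ⟨x, hx, hx0⟩ := exists_ne_of_card h3
  have o4 : Om (pc (pc (cm2 M a b c d e f) a b c ω) d e f ω) ω :=
    (o3.eqz c1 fun _ _ => rfl).eqz (fun v hv => c2 v hv.1) fun _ _ => rfl
  have h4 := o4.four_le hx hx0
  rw [hcard]
  exact Nat.pow_le_pow_left h4 4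

/-- the same without `ω` -/
theorem quad [Finite V] (hM : Inv S M) (hD : D6 a b c d e f) (ha : a ∈ S) (hb : b ∈ S)
    (hc : c ∈ S) (hd : d ∈ S) (he : e ∈ S) (hf : f ∈ S) {v : V} (hv : v ∈ M) (h0 : F a b c (F d e f v) ≠ 0) :
    2 ^ 4 ≤ Nat.card (cm2 M a b c d e f) := by
  obtain ⟨s, hs, hsm, hs1, hs2⟩ := quad_aux hM hD ha hb hc hd he hf
  have o1 := omA hM hD ha hb hc
  have o2 := omD hM hD ha hb hc hd he hf
  have c3 : ∀ v : V, sm (C a b c) (sm (C d e f) v) = sm (C d e f) (sm (C a b c) v) := fun v =>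
    C_smul_comm hD.2.2.1 hD.2.2.2.1 hD.2.2.2.2 v
  have k1 := split o2 o1 fun v _ => (c3 v).symm
  have hCd : ∀ v ∈ cm2 M a b c d e f, C a c b • (s • v) = C a b c • (s • v) + s • v := fun v hv =>
    Cb hD.1 (hsm v hv).1
  have hCe : ∀ v ∈ cm2 M a b c d e f, C d f e • v = C d e f • v + v := fun v hv =>
    Cb hD.2.1 (M := cm M a b c) ⟨hv.1, hv.2⟩
  have p1 : Nat.card (pc (cm2 M a b c d e f) d e f (sm (C a b c))) ≤
      Nat.card (pc (cm2 M a b c d e f) d e f (om1 (sm (C a b c)))) := by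
    refine card_le_of_smul s fun v hv => ⟨hsm v hv.1, ?_⟩
    have e2 : C d e f • v = C a b c • v := hv.2
    rw [sm_apply, ← hs1, ← e2, hs2, hCd v hv.1]
    rfl
  have p2 : Nat.card (pc (cm2 M a b c d e f) d e f (om1 (sm (C a b c)))) ≤
      Nat.card (pc (cm2 M a b c d e f) d e f (sm (C a b c))) := by
    refine card_le_of_smul s fun v hv => ⟨hsm v hv.1, ?_⟩
    have e2 : C d e f • v = C a b c • v + v := hv.2
    have e3 : C a b c • v = C d f e • v := by
      rw [hCe v hv.1, e2]; two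
    have e4 : C d e f • (s • v) = C d e f • s • v := rfl
    rw [sm_apply, sm_apply, ← hs1, e3]
    -- `s C'⁻¹ = C s`
    have e5 : s • C d f e • v = C a b c • s • v := by
      have h5 := hs2 (C d f e • v)
      rw [CC' hD.2.1] at h5
      rw [h5, CC' hD.1]
    exact e5
  have q2 := le_antisymm p1 p2
  have h2 : 1 < Nat.card (cm2 M a b c d e f) := card_of_ne (F_F_mem hM hD ha hb hc hd he hf hv) h0
  set y := Nat.card (pc (cm2 M a b c d e f) d e f (sm (C a b c))) with hy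
  rw [← q2] at k1
  have h3 : 1 < y := by
    by_contra hn
    have h4 : y ≤ 1 := by omega
    have := Nat.mul_le_mul h4 h4
    omega
  obtain ⟨x, hx, hx0⟩ := exists_ne_of_card h3
  have o4 : Om (pc (cm2 M a b c d e f) d e f (sm (C a b c))) (sm (C a b c)) :=
    o1.eqz (fun v _ => (c3 v).symm) fun _ _ => rfl
  have h4 := o4.four_le hx hx0
  have := Nat.mul_le_mul h4 h4
  rw [k1]
  omega

/-- **six points** -/
theorem Mod4.six [Finite V] (hS : 6 ≤ S.card) (h : Mod4 S M ω) (hn : Nt S M) : 4 ^ 4 ≤ Nat.card M := by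
  obtain ⟨a, ha, b, hb, c, hc, hD, v, hv, h0⟩ := hn
  obtain ⟨d, hd, e, he, f, hf, hD6⟩ := exists_three hS hD
  by_cases hff : ∃ v ∈ M, F a b c (F d e f v) ≠ 0
  · obtain ⟨x, hx, hx0⟩ := hff
    exact (Mod4.quad h hD6 ha hb hc hd he hf hx hx0).trans (card_le_of_le (Eqz_le.trans Eqz_le))
  · push Not at hff
    have hn : Nt S M := ⟨a, ha, b, hb, c, hc, hD, v, hv, h0⟩
    obtain ⟨x, hx, hx0⟩ := hn.all h.inv (by omega) hD6.2.1 hd he hf
    have h1 := Mod4.sixteen (by omega) h hD ha hb hc hv h0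
    have h2 := Mod4.sixteen (by omega) h hD6.2.1 hd he hf hx hx0
    have h3 := card_mul_le (M := M) (A := cm M a b c) (B := cm M d e f) Eqz_le Eqz_le (by
      intro y hy hy'
      have e1 := hff y hy.1
      have e2 : F d e f y = y := hy'.2
      have e3 : F a b c y = y := hy.2
      rw [e2, e3] at e1
      exact e1)
    have h4 := Nat.mul_le_mul h1 h2
    exact le_trans (by norm_num) (h4.trans h3)

theorem six [Finite V] (hS : 6 ≤ S.card) (h : Inv S M) (hn : Nt S M) : 2 ^ 4 ≤ Nat.card M := by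
  obtain ⟨a, ha, b, hb, c, hc, hD, v, hv, h0⟩ := hn
  obtain ⟨d, hd, e, he, f, hf, hD6⟩ := exists_three hS hD
  by_cases hff : ∃ v ∈ M, F a b c (F d e f v) ≠ 0
  · obtain ⟨x, hx, hx0⟩ := hff
    exact (quad h hD6 ha hb hc hd he hf hx hx0).trans (card_le_of_le (Eqz_le.trans Eqz_le))
  · push Not at hff
    have hn : Nt S M := ⟨a, ha, b, hb, c, hc, hD, v, hv, h0⟩
    obtain ⟨x, hx, hx0⟩ := hn.all h (by omega) hD6.2.1 hd he hf
    have h1 := (AltSplit.om_cm S h hD ha hb hc).four_le (F_mem_cm h hD ha hb hc hv) h0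
    have h2 := (AltSplit.om_cm S h hD6.2.1 hd he hf).four_le (F_mem_cm h hD6.2.1 hd he hf hx) hx0
    have h3 := card_mul_le (M := M) (A := cm M a b c) (B := cm M d e f) Eqz_le Eqz_le (by
      intro y hy hy'
      have e1 := hff y hy.1
      have e2 : F d e f y = y := hy'.2
      have e3 : F a b c y = y := hy.2
      rw [e2, e3] at e1
      exact e1)
    have h4 := Nat.mul_le_mul h1 h2
    exact le_trans (by norm_num) (h4.trans h3)

end

end Cfsg.Agent.Omega.TwoF.AltSix
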