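import Cfsg.Agent.Omega.TwoF.AltCyc

/-!
# Elementary abelian 2-groups with an action of an alternating group, I: operators of order 3

* `F a b c`: the idempotent `C + C²` of the 3-cycle `C = C a b c`;
* `Om M ω`: `ω² + ω + 1 = 0` on `M`; `Mod4 S M ω`: moreover `A_S` acts on `M` and commutes with `ω`;
* `split`: two commuting operators of this kind;
* `Mod4.sixteen`, `Mod4.quad`, `Mod4.six`: lower bounds for `|M|`.
-/

set_option autoImplicit false
set_option linter.unusedSectionVars false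

namespace Cfsg.Agent.Omega.TwoF.AltSplit

open Equiv Equiv.Perm AltCyc

universe u w

/-- elementary abelian 2-groups, additively -/
class Two (V : Type w) [AddCommGroup V] : Prop where
  two : ∀ v : V, v + v = 0

section Two

variable {V : Type w} [AddCommGroup V] [Two V]

theorem aa (v : V) : v + v = 0 := Two.two v

theorem aab (v w : V) : v + (v + w) = w := by rw [← add_assoc, aa, zero_add]

theorem neg_eq' (v : V) : -v = v := neg_eq_of_add_eq_zero_left (aa v)

theorem addz_iff {v w : V} : v + w = 0 ↔ v = w := by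
  constructor
  · intro h
    calc v = v + (w + w) := by rw [aa, add_zero]
      _ = w := by rw [← add_assoc, h, zero_add]
  · rintro rfl; exact aa v

instance (M : AddSubgroup V) : Two M := ⟨fun v => Subtype.ext (aa (v : V))⟩

end Two

/-- normalise sums in characteristic 2 -/
macro "two" : tactic =>
  `(tactic| simp only [add_comm, add_left_comm, add_assoc, aa, aab, add_zero, zero_add])

macro "two" "at" h:ident : tactic =>
  `(tactic| simp only [add_comm, add_left_comm, add_assoc, aa, aab, add_zero, zero_add] at $h:ident)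

section Eqs

variable {V : Type w} [AddCommGroup V]

/-- the subgroup `{v ∈ M | f v = g v}` -/
def Eqz (M : AddSubgroup V) (f g : V →+ V) : AddSubgroup V where
  carrier := {v | v ∈ M ∧ f v = g v}
  zero_mem' := ⟨M.zero_mem, by rw [map_zero, map_zero]⟩
  add_mem' := fun {a b} ha hb => ⟨M.add_mem ha.1 hb.1, by rw [map_add, map_add, ha.2, hb.2]⟩
  neg_mem' := fun {a} ha => ⟨M.neg_mem ha.1, by rw [map_neg, map_neg, ha.2]⟩

theorem mem_Eqz {M : AddSubgroup V} {f g : V →+ V} {v : V} : v ∈ Eqz M f g ↔ v ∈ M ∧ f v = g v := Iff.rfl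

theorem Eqz_le {M : AddSubgroup V} {f g : V →+ V} : Eqz M f g ≤ M := fun _ h => h.1

theorem card_pos' [Finite V] (M : AddSubgroup V) : 0 < Nat.card M := Nat.card_pos

theorem card_mul_le [Finite V] {M A B : AddSubgroup V} (hA : A ≤ M) (hB : B ≤ M)
    (h : ∀ v ∈ A, v ∈ B → v = 0) : Nat.card A * Nat.card B ≤ Nat.card M := by
  rw [← Nat.card_prod]
  refine Nat.card_le_card_of_injective (fun x : A × B => (⟨x.1 + x.2, M.add_mem (hA x.1.2) (hB x.2.2)⟩ : M)) ?_
  rintro ⟨a, b⟩ ⟨a', b'⟩ hab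
  have h1 : (a : V) + b = a' + b' := congrArg Subtype.val hab
  have h2 : (a : V) - a' = b' - b := by
    rw [sub_eq_sub_iff_add_eq_add, h1, add_comm]
  have h3 : (a : V) - a' = 0 := h _ (A.sub_mem a.2 a'.2) (h2 ▸ B.sub_mem b'.2 b.2)
  have h4 : (a : V) = a' := sub_eq_zero.mp h3
  have h5 : (b : V) = b' := by
    rw [h3] at h2
    exact (sub_eq_zero.mp h2.symm).symm
  exact Prod.ext (Subtype.ext h4) (Subtype.ext h5)

theorem card_eq_mul [Finite V] {M A B : AddSubgroup V} (hA : A ≤ M) (hB : B ≤ M)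
    (h : ∀ v ∈ A, v ∈ B → v = 0) (hs : ∀ v ∈ M, ∃ a ∈ A, ∃ b ∈ B, v = a + b) :
    Nat.card M = Nat.card A * Nat.card B := by
  refine le_antisymm ?_ (card_mul_le hA hB h)
  rw [← Nat.card_prod]
  refine Nat.card_le_card_of_surjective (fun x : A × B => (⟨x.1 + x.2, M.add_mem (hA x.1.2) (hB x.2.2)⟩ : M)) ?_
  rintro ⟨v, hv⟩
  obtain ⟨a, ha, b, hb, e⟩ := hs v hv
  exact ⟨⟨⟨a, ha⟩, ⟨b, hb⟩⟩, Subtype.ext e.symm⟩

theorem card_le_of_le [Finite V] {M A : AddSubgroup V} (hA : A ≤ M) : Nat.card A ≤ Nat.card M :=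
  Nat.card_le_card_of_injective (AddSubgroup.inclusion hA) (AddSubgroup.inclusion_injective hA)

theorem eq_of_card_le [Finite V] {M A : AddSubgroup V} (hA : A ≤ M) (h : Nat.card M ≤ Nat.card A) : A = M :=
  AddSubgroup.eq_of_le_of_card_ge hA h

theorem card_le_one_iff [Finite V] {M : AddSubgroup V} : Nat.card M ≤ 1 ↔ ∀ v ∈ M, v = 0 := by
  constructor
  · intro h v hv
    have := Finite.card_le_one_iff_subsingleton.mp h
    exact congrArg Subtype.val (Subsingleton.elim (⟨v, hv⟩ : M) 0)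
  · intro h
    rw [Finite.card_le_one_iff_subsingleton]
    exact ⟨fun a b => Subtype.ext ((h a a.2).trans (h b b.2).symm)⟩

theorem exists_ne_of_card [Finite V] {M : AddSubgroup V} (h : 1 < Nat.card M) : ∃ v ∈ M, v ≠ 0 := by
  by_contra hn
  push Not at hn
  exact absurd (card_le_one_iff.mpr hn) (by omega)

theorem card_of_ne [Finite V] {M : AddSubgroup V} {v : V} (hv : v ∈ M) (h0 : v ≠ 0) : 1 < Nat.card M := by
  by_contra hn
  exact h0 (card_le_one_iff.mp (by omega) v hv)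

theorem two_le_card [Finite V] {M : AddSubgroup V} {v : V} (hv : v ∈ M) (h0 : v ≠ 0) : 2 ≤ Nat.card M :=
  card_of_ne hv h0

end Eqs

section Omega

variable {V : Type w} [AddCommGroup V] [Two V]

/-- `ω² + ω + 1 = 0` on the `ω`-invariant subgroup `M` -/
structure Om (M : AddSubgroup V) (ω : V →+ V) : Prop where
  mem : ∀ v ∈ M, ω v ∈ M
  sq : ∀ v ∈ M, ω (ω v) = ω v + v

theorem Om.ne_zero {M : AddSubgroup V} {ω : V →+ V} (h : Om M ω) {v : V} (hv : v ∈ M) (h0 : v ≠ 0) :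
    ω v ≠ 0 := by
  intro e
  have := h.sq v hv
  rw [e, map_zero, zero_add] at this
  exact h0 this.symm

theorem Om.ne_self {M : AddSubgroup V} {ω : V →+ V} (h : Om M ω) {v : V} (hv : v ∈ M) (h0 : v ≠ 0) :
    ω v ≠ v := by
  intro e
  have := h.sq v hv
  rw [e, e, aa] at this
  exact h0 this

theorem Om.four_le [Finite V] {M : AddSubgroup V} {ω : V →+ V} (h : Om M ω) {v : V} (hv : v ∈ M)
    (h0 : v ≠ 0) : 4 ≤ Nat.card M := by
  classical
  have h1 := h.ne_zero hv h0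
  have h2 := h.ne_self hv h0
  let f : Fin 4 → M := ![⟨0, M.zero_mem⟩, ⟨v, hv⟩, ⟨ω v, h.mem v hv⟩, ⟨v + ω v, M.add_mem hv (h.mem v hv)⟩]
  have h3 : v + ω v ≠ 0 := fun e => h2 (addz_iff.mp e).symm
  have h4 : v + ω v ≠ v := fun e => h1 (by
    have := congrArg (v + ·) e
    simpa only [aab, aa] using this)
  have h5 : v + ω v ≠ ω v := fun e => h0 (by
    have := congrArg (· + ω v) e
    simpa only [add_assoc, aa, add_zero] using this)
  have hf : Function.Injective f := by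
    intro i j hij
    have hij' : (f i : V) = f j := congrArg Subtype.val hij
    fin_cases i <;> fin_cases j <;> simp [f] at hij' ⊢
    all_goals first
      | exact absurd hij' h0
      | exact absurd hij'.symm h0
      | exact absurd hij' h1
      | exact absurd hij'.symm h1
      | exact absurd hij' h2
      | exact absurd hij'.symm h2
      | exact absurd hij' h3
      | exact absurd hij'.symm h3
  have := Nat.card_le_card_of_injective f hf
  simpa using this

theorem Om.eqz {M : AddSubgroup V} {ω : V →+ V} (h : Om M ω) {f g : V →+ V}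
    (hf : ∀ v ∈ M, f (ω v) = ω (f v)) (hg : ∀ v ∈ M, g (ω v) = ω (g v)) : Om (Eqz M f g) ω :=
  ⟨fun v hv => ⟨h.mem v hv.1, by rw [hf v hv.1, hg v hv.1, hv.2]⟩, fun v hv => h.sq v hv.1⟩

/-- `v ↦ v + ω v` -/
abbrev om1 (ω : V →+ V) : V →+ V := ω + AddMonoidHom.id V

theorem om1_apply (ω : V →+ V) (v : V) : om1 ω v = ω v + v := rfl

/-- two commuting operators with `x² + x + 1 = 0` -/
theorem split [Finite V] {M : AddSubgroup V} {c ω : V →+ V} (hc : Om M c) (hω : Om M ω)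
    (hcomm : ∀ v ∈ M, c (ω v) = ω (c v)) :
    Nat.card M = Nat.card (Eqz M c ω) * Nat.card (Eqz M c (om1 ω)) := by
  refine card_eq_mul Eqz_le Eqz_le ?_ ?_
  · intro v hv hv'
    have h1 := hv.2
    have h2 := hv'.2
    rw [om1_apply, h1] at h2
    have := congrArg (ω v + ·) h2
    simpa only [aab, aa] using this.symm
  · intro v hv
    have e1 := hc.sq v hv
    have e2 := hω.sq v hv
    have e3 := hcomm v hv
    refine ⟨v + (c v + ω v), ⟨M.add_mem hv (M.add_mem (hc.mem v hv) (hω.mem v hv)), ?_⟩, c v + ω v,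
      ⟨M.add_mem (hc.mem v hv) (hω.mem v hv), ?_⟩, ?_⟩
    · rw [map_add, map_add, map_add, map_add, e1, e2, e3]; two
    · rw [om1_apply, map_add, map_add, e1, e2, e3]; two
    · two

end Omega

section Act

variable {Ω : Type u} [DecidableEq Ω] [Fintype Ω]
variable {V : Type w} [AddCommGroup V] [Two V] [DistribMulAction (alternatingGroup Ω) V]

/-- the operator `g` -/
def sm (g : alternatingGroup Ω) : V →+ V := DistribSMul.toAddMonoidHom V g

theorem sm_apply (g : alternatingGroup Ω) (v : V) : sm g v = g • v := rfl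

/-- the idempotent `C + C²` -/
def F (a b c : Ω) : V →+ V := sm (C a b c) + sm (C a c b)

theorem F_apply (a b c : Ω) (v : V) : F a b c v = C a b c • v + C a c b • v := rfl

variable {a b c d e f : Ω}

theorem CC (h : D3 a b c) (v : V) : C a b c • C a b c • v = C a c b • v := by rw [← mul_smul, C_sq h]

theorem CC' (h : D3 a b c) (v : V) : C a b c • C a c b • v = v := by rw [← mul_smul, C_mul_inv h, one_smul]

theorem CC'' (h : D3 a b c) (v : V) : C a c b • C a b c • v = v := CC' h.swap v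

theorem F_swap (a b c : Ω) (v : V) : F a c b v = F a b c v := by rw [F_apply, F_apply, add_comm]

theorem F_rot (h : D3 a b c) (v : V) : F b c a v = F a b c v := by
  rw [F_apply, F_apply, C_rot h, C_rot h.swap.rot, C_rot h.swap]

theorem smul_F (g : alternatingGroup Ω) (a b c : Ω) (v : V) :
    g • F a b c v = F ((g : Perm Ω) a) ((g : Perm Ω) b) ((g : Perm Ω) c) (g • v) := by
  rw [F_apply, F_apply, smul_add, ← mul_smul, ← mul_smul, mul_C, mul_C, mul_smul, mul_smul]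

theorem F_F (h : D3 a b c) (v : V) : F a b c (F a b c v) = F a b c v := by
  rw [F_apply, F_apply, smul_add, smul_add, CC h, CC' h, CC'' h, CC h.swap]; two

theorem F_eq_zero_iff (h : D3 a b c) {v : V} : F a b c v = 0 ↔ C a b c • v = v := by
  rw [F_apply, addz_iff]
  constructor
  · intro e
    have := congrArg (C a b c • ·) e
    simp only [CC' h, CC h] at this
    rw [e, this]
  · intro e
    rw [e, ← CC h, e, e]

theorem F_eq_self_iff (h : D3 a b c) {v : V} : F a b c v = v ↔ C a b c • C a b c • v = C a b c • v + v := by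
  rw [F_apply, CC h]
  constructor
  · intro e
    have := congrArg (C a b c • v + ·) e
    simpa only [aab] using this
  · intro e
    rw [e]; two

/-- the complementary projection is centralised -/
theorem C_smul_compl (h : D3 a b c) (v : V) : C a b c • (v + F a b c v) = v + F a b c v := by
  rw [← F_eq_zero_iff h, map_add, F_F h, aa]

/-- disjoint cycles commute -/
theorem C_comm (h1 : d ≠ a ∧ d ≠ b ∧ d ≠ c) (h2 : e ≠ a ∧ e ≠ b ∧ e ≠ c) (h3 : f ≠ a ∧ f ≠ b ∧ f ≠ c) :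
    C a b c * C d e f = C d e f * C a b c := by
  rw [mul_C, C_of_ne h1.1 h1.2.1 h1.2.2, C_of_ne h2.1 h2.2.1 h2.2.2, C_of_ne h3.1 h3.2.1 h3.2.2]

theorem C_smul_comm (h1 : d ≠ a ∧ d ≠ b ∧ d ≠ c) (h2 : e ≠ a ∧ e ≠ b ∧ e ≠ c) (h3 : f ≠ a ∧ f ≠ b ∧ f ≠ c)
    (v : V) : C a b c • C d e f • v = C d e f • C a b c • v := by
  rw [← mul_smul, ← mul_smul, C_comm h1 h2 h3]

theorem C_smul_F (h1 : d ≠ a ∧ d ≠ b ∧ d ≠ c) (h2 : e ≠ a ∧ e ≠ b ∧ e ≠ c) (h3 : f ≠ a ∧ f ≠ b ∧ f ≠ c)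
    (v : V) : C a b c • F d e f v = F d e f (C a b c • v) := by
  rw [smul_F, C_of_ne h1.1 h1.2.1 h1.2.2, C_of_ne h2.1 h2.2.1 h2.2.2, C_of_ne h3.1 h3.2.1 h3.2.2]

theorem F_comm (h1 : d ≠ a ∧ d ≠ b ∧ d ≠ c) (h2 : e ≠ a ∧ e ≠ b ∧ e ≠ c) (h3 : f ≠ a ∧ f ≠ b ∧ f ≠ c)
    (v : V) : F a b c (F d e f v) = F d e f (F a b c v) := by
  rw [F_apply a b c, C_smul_F h1 h2 h3, C_smul_F ⟨h1.1, h1.2.2, h1.2.1⟩ ⟨h2.1, h2.2.2, h2.2.1⟩
    ⟨h3.1, h3.2.2, h3.2.1⟩, ← map_add, ← F_apply]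

/-- `M` is invariant under `A_S` -/
def Inv (S : Finset Ω) (M : AddSubgroup V) : Prop := ∀ g : alternatingGroup Ω, Sup S g → ∀ v ∈ M, g • v ∈ M

theorem Inv.mono {S T : Finset Ω} (hST : S ⊆ T) {M : AddSubgroup V} (h : Inv T M) : Inv S M :=
  fun g hg v hv => h g (hg.mono hST) v hv

theorem Inv.C {S : Finset Ω} {M : AddSubgroup V} (h : Inv S M) (ha : a ∈ S) (hb : b ∈ S) (hc : c ∈ S) {v : V}
    (hv : v ∈ M) : C a b c • v ∈ M := h _ (sup_C ha hb hc) v hv

theorem Inv.F {S : Finset Ω} {M : AddSubgroup V} (h : Inv S M) (ha : a ∈ S) (hb : b ∈ S) (hc : c ∈ S) {v : V}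
    (hv : v ∈ M) : F a b c v ∈ M := M.add_mem (h.C ha hb hc hv) (h.C ha hc hb hv)

/-- `[M, C a b c]` -/
abbrev cm (M : AddSubgroup V) (a b c : Ω) : AddSubgroup V := Eqz M (F a b c) (AddMonoidHom.id V)

theorem mem_cm {M : AddSubgroup V} {v : V} : v ∈ cm M a b c ↔ v ∈ M ∧ F a b c v = v := Iff.rfl

/-- `C_M(C a b c)` -/
abbrev ce (M : AddSubgroup V) (a b c : Ω) : AddSubgroup V := Eqz M (F a b c) 0

theorem mem_ce {M : AddSubgroup V} {v : V} : v ∈ ce M a b c ↔ v ∈ M ∧ F a b c v = 0 := Iff.rfl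

theorem F_mem_cm {S : Finset Ω} {M : AddSubgroup V} (h : Inv S M) (hD : D3 a b c) (ha : a ∈ S) (hb : b ∈ S)
    (hc : c ∈ S) {v : V} (hv : v ∈ M) : F a b c v ∈ cm M a b c := ⟨h.F ha hb hc hv, F_F hD v⟩

theorem compl_mem_ce {S : Finset Ω} {M : AddSubgroup V} (h : Inv S M) (hD : D3 a b c) (ha : a ∈ S) (hb : b ∈ S)
    (hc : c ∈ S) {v : V} (hv : v ∈ M) : v + F a b c v ∈ ce M a b c :=
  ⟨M.add_mem hv (h.F ha hb hc hv), by rw [map_add, F_F hD, aa]; rfl⟩

theorem card_cm_mul_ce [Finite V] {S : Finset Ω} {M : AddSubgroup V} (h : Inv S M) (hD : D3 a b c) (ha : a ∈ S)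
    (hb : b ∈ S) (hc : c ∈ S) : Nat.card M = Nat.card (cm M a b c) * Nat.card (ce M a b c) := by
  refine card_eq_mul Eqz_le Eqz_le (fun v hv hv' => hv.2.symm.trans hv'.2) ?_
  intro v hv
  exact ⟨_, F_mem_cm h hD ha hb hc hv, _, compl_mem_ce h hD ha hb hc hv, by two⟩

theorem inv_cm {S T : Finset Ω} {M : AddSubgroup V} (h : Inv S M) (hT : T ⊆ S) (ha : a ∉ T) (hb : b ∉ T)
    (hc : c ∉ T) : Inv T (cm M a b c) := by
  intro g hg v hv
  refine ⟨h g (hg.mono hT) v hv.1, ?_⟩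
  have := smul_F g a b c v
  rw [hg a ha, hg b hb, hg c hc, hv.2] at this
  exact this.symm

theorem inv_ce {S T : Finset Ω} {M : AddSubgroup V} (h : Inv S M) (hT : T ⊆ S) (ha : a ∉ T) (hb : b ∉ T)
    (hc : c ∉ T) : Inv T (ce M a b c) := by
  intro g hg v hv
  refine ⟨h g (hg.mono hT) v hv.1, ?_⟩
  have := smul_F g a b c v
  rw [hg a ha, hg b hb, hg c hc, hv.2] at this
  simpa using this.symm

theorem om_cm (S : Finset Ω) {M : AddSubgroup V} (h : Inv S M) (hD : D3 a b c) (ha : a ∈ S) (hb : b ∈ S)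
    (hc : c ∈ S) : Om (cm M a b c) (sm (C a b c)) := by
  refine ⟨fun v hv => ⟨h.C ha hb hc hv.1, ?_⟩, fun v hv => (F_eq_self_iff hD).mp hv.2⟩
  have h1 := smul_F (C a b c) a b c v
  rw [C_a hD, C_b hD, C_c hD, hv.2, F_rot hD] at h1
  exact h1.symm

/-- nontrivial action of 3-cycles -/
def Nt (S : Finset Ω) (M : AddSubgroup V) : Prop :=
  ∃ a ∈ S, ∃ b ∈ S, ∃ c ∈ S, D3 a b c ∧ ∃ v ∈ M, F a b c v ≠ 0

theorem Nt.all {S : Finset Ω} {M : AddSubgroup V} (h : Nt S M) (hM : Inv S M) (hS : 5 ≤ S.card)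
    (hD : D3 a b c) (ha : a ∈ S) (hb : b ∈ S) (hc : c ∈ S) : ∃ v ∈ M, F a b c v ≠ 0 := by
  obtain ⟨a', ha', b', hb', c', hc', hD', v, hv, h0⟩ := h
  obtain ⟨g, hg, e1, e2, e3⟩ := exists_move hS hD' hD ha' hb' hc' ha hb hc
  refine ⟨g • v, hM g hg v hv, ?_⟩
  have := smul_F g a' b' c' v
  rw [e1, e2, e3] at this
  rw [← this]
  intro h1
  exact h0 ((smul_eq_zero_iff_eq g).mp h1)

/-- trivial action -/
theorem not_nt {S : Finset Ω} {M : AddSubgroup V} (h : ¬ Nt S M) {g : alternatingGroup Ω} (hg : Sup S g) {v : V}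
    (hv : v ∈ M) : g • v = v := by
  refine fixed_of_cycles (S := S) ?_ hg
  intro a ha b hb c hc hD
  rw [← F_eq_zero_iff hD]
  by_contra h1
  exact h ⟨a, ha, b, hb, c, hc, hD, v, hv, h1⟩

theorem card_le_of_smul [Finite V] {A B : AddSubgroup V} (g : alternatingGroup Ω) (h : ∀ v ∈ A, g • v ∈ B) :
    Nat.card A ≤ Nat.card B :=
  Nat.card_le_card_of_injective (fun v : A => (⟨g • (v : V), h v v.2⟩ : B)) fun _ _ hvw =>
    Subtype.ext (MulAction.injective g (congrArg Subtype.val hvw))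

/-- `M` with an `A_S`-action commuting with `ω`, `ω² + ω + 1 = 0` -/
structure Mod4 (S : Finset Ω) (M : AddSubgroup V) (ω : V →+ V) : Prop extends Om M ω where
  inv : Inv S M
  comm : ∀ g : alternatingGroup Ω, Sup S g → ∀ v ∈ M, ω (g • v) = g • ω v

theorem Mod4.mono {S T : Finset Ω} {M : AddSubgroup V} {ω : V →+ V} (h : Mod4 T M ω) (hST : S ⊆ T) :
    Mod4 S M ω := ⟨h.toOm, h.inv.mono hST, fun g hg => h.comm g (hg.mono hST)⟩

theorem Mod4.F_comm {S : Finset Ω} {M : AddSubgroup V} {ω : V →+ V} (h : Mod4 S M ω) (ha : a ∈ S) (hb : b ∈ S)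
    (hc : c ∈ S) {v : V} (hv : v ∈ M) : F a b c (ω v) = ω (F a b c v) := by
  rw [F_apply, F_apply, map_add, h.comm _ (sup_C ha hb hc) v hv, h.comm _ (sup_C ha hc hb) v hv]

/-- the top example -/
theorem mod4_cm {S T : Finset Ω} {M : AddSubgroup V} (h : Inv S M) (hD : D3 a b c) (ha : a ∈ S) (hb : b ∈ S)
    (hc : c ∈ S) (hT : T ⊆ S) (ha' : a ∉ T) (hb' : b ∉ T) (hc' : c ∉ T) :
    Mod4 T (cm M a b c) (sm (C a b c)) :=
  ⟨om_cm S h hD ha hb hc, inv_cm h hT ha' hb' hc', fun g hg v _ => by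
    rw [sm_apply, sm_apply, ← mul_smul, ← mul_smul, comm_C hg ha' hb' hc']⟩

end Act

end Cfsg.Agent.Omega.TwoF.AltSplit
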