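import Cfsg.Agent.Omega.TwoF.ChevHeis

/-!
# The Heisenberg bound for twisted groups over fields of odd order

`G` a subgroup of the general linear group of the Chevalley datum `D` over `K`, `F` a subfield of `K`. The root elements
are replaced by words `W w t = ∏ x_k(c t)`, `w` a list of pairs `(k, c)`, `t ∈ F`, the involutions of the torus by
products `∏ h_j(-1)`. `chkW … = true` is a finite check; `lb_of_chkW`: it implies
`LB G (2 * |F| ^ prs.length)` if `G` is simple and contains the words.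
-/

set_option autoImplicit false
set_option linter.style.haveILetI false

universe u v w

namespace Cfsg.Agent.Omega.TwoF.ChevWord

open Cfsg.Lie Cfsg.Lie.ChevalleyDatum Cfsg.Agent.ChevalleyStructure Cfsg.Agent.ChevalleyStructure.Elts
  Cfsg.Agent.Omega.Lie.Heis Cfsg.Agent.Omega.Lie.HeisF Cfsg.Agent.Omega.TwoF.ChevHeis

/-- one commutator `[x_a(c u), x_b(d t)] = x_g(- m c d t u)` -/
structure Z where
  /-- root -/
  a : ℕ
  /-- coefficient -/
  c : ℤ
  /-- root -/
  b : ℕ
  /-- coefficient -/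
  d : ℤ
  /-- root `a + b` -/
  g : ℕ
  /-- structure constant -/
  m : ℤ

/-- first word -/
def za (z : List Z) : List (ℕ × ℤ) := z.map fun e => (e.a, e.c)

/-- second word -/
def zb (z : List Z) : List (ℕ × ℤ) := z.map fun e => (e.b, e.d)

/-- the commutator -/
def zg (z : List Z) : List (ℕ × ℤ) := z.map fun e => (e.g, -e.m * e.c * e.d)

/-- merge equal neighbours -/
def mrg : List (ℕ × ℤ) → List (ℕ × ℤ)
  | [] => []
  | p :: l => match mrg l with
    | [] => [p]
    | q :: l' => bif p.1 == q.1 then (p.1, p.2 + q.2) :: l' else p :: q :: l'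

/-- multiply the coefficients -/
def scl (κ : ℤ) (w : List (ℕ × ℤ)) : List (ℕ × ℤ) := w.map fun p => (p.1, p.2 * κ)

section chk

variable (D : ChevalleyDatum)

/-- two words commute -/
def cmW (a b : List (ℕ × ℤ)) : Bool := a.all fun p => b.all fun q => cm D p.1 q.1

/-- all roots of the word are in range -/
def inW (a : List (ℕ × ℤ)) : Bool := a.all fun p => Nat.blt p.1 D.nroots

/-- parity -/
def pr (J : List ℕ) (k : ℕ) : ℤ := (J.map fun j => D.cartan j k).sum

/-- inverted by the torus element -/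
def odW (J : List ℕ) (w : List (ℕ × ℤ)) : Bool := w.all fun p => pr D J p.1 % 2 != 0

/-- centralised by the torus element -/
def evW (J : List ℕ) (w : List (ℕ × ℤ)) : Bool := w.all fun p => pr D J p.1 % 2 == 0

/-- lifts commute, separated case -/
def l1W (Js : List (List ℕ)) (a b : List (ℕ × ℤ)) : Bool :=
  cmW D a b && Js.any fun J => (odW D J a && evW D J b) || (evW D J a && odW D J b)

/-- the conditions for the commutator of two words -/
def zok : List Z → Bool
  | [] => true
  | e :: z => (br D e.a e.b e.g e.m && (Nat.blt e.g D.nroots && (cm D e.g e.a && cm D e.g e.b))) &&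
      ((z.all fun f => cm D e.a f.b && (cm D e.b f.a && (cm D e.g f.a && cm D f.g e.b))) && zok z)

/-- `±1, ±2` -/
def unitW (κ : ℤ) : Bool := κ == 1 || κ == -1 || κ == 2 || κ == -2

/-- `[a, b] = w ^ κ` -/
def brW (z : List Z) (w : List (ℕ × ℤ)) (κ : ℤ) : Bool :=
  zok D z && (decide (mrg (zg z) = scl κ w) && unitW κ)

/-- lifts commute -/
def l2W (Js : List (List ℕ)) (ex : List (List (ℕ × ℤ) × List (ℕ × ℤ) × List Z × ℤ)) (r s : List (ℕ × ℤ)) : Bool :=
  l1W D Js r s || ex.any fun x => decide (x.1 = r) && (decide (x.2.1 = s) && (brW D x.2.2.1 r x.2.2.2 &&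
    (l1W D Js (za x.2.2.1) s && l1W D Js (zb x.2.2.1) s)))

/-- admissible word -/
def adW (cls : List (ℕ × ℤ) → Bool) (w : List (ℕ × ℤ)) : Bool := cls w && (inW D w && cmW D w w)

/-- the check for one pair -/
def chkW1 (cls : List (ℕ × ℤ) → Bool) (Js : List (List ℕ)) (J0 : List ℕ) (θ : List (ℕ × ℤ))
    (ex : List (List (ℕ × ℤ) × List (ℕ × ℤ) × List Z × ℤ)) (p : List Z × ℤ) : Bool :=
  brW D p.1 θ p.2 && (adW D cls (za p.1) && (adW D cls (zb p.1) && (odW D J0 (za p.1) && (evW D J0 (zb p.1) &&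
    (cmW D θ (za p.1) && (cmW D θ (zb p.1) && (l2W D Js ex (za p.1) θ && l2W D Js ex (za p.1) (za p.1))))))))

/-- the check for two pairs -/
def chkW2 (Js : List (List ℕ)) (ex : List (List (ℕ × ℤ) × List (ℕ × ℤ) × List Z × ℤ)) (p q : List Z × ℤ) : Bool :=
  cmW D (za p.1) (za q.1) && (cmW D (zb p.1) (za q.1) && (cmW D (zb q.1) (za p.1) &&
    (l2W D Js ex (za p.1) (za q.1) || l2W D Js ex (za q.1) (za p.1))))

/-- the check -/
def chkW (cls : List (ℕ × ℤ) → Bool) (Js : List (List ℕ)) (J0 : List ℕ) (θ : List (ℕ × ℤ)) (prs : List (List Z × ℤ))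
    (ex : List (List (ℕ × ℤ) × List (ℕ × ℤ) × List Z × ℤ)) : Bool :=
  adW D cls θ && (decide (θ ≠ []) && (decide (J0 ∈ Js) && ((Js.all fun J => J.all fun j => Nat.blt j D.rank) &&
    (odW D J0 θ && (l2W D Js ex θ θ && ((ex.all fun x => adW D cls (za x.2.2.1) && adW D cls (zb x.2.2.1)) &&
      (prs.all (chkW1 D cls Js J0 θ ex) && pw (chkW2 D Js ex) prs)))))))

end chk

section words

variable {D : ChevalleyDatum} (hD : InList D) {K : Type u} [Field K]

/-- the element of a word -/
def W (w : List (ℕ × ℤ)) (t : K) : GL D.Idx K := (w.map fun p => xG hD p.1 ((p.2 : K) * t)).prod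

theorem W_nil (t : K) : W hD [] t = 1 := rfl

theorem W_cons (p : ℕ × ℤ) (w : List (ℕ × ℤ)) (t : K) :
    W hD (p :: w) t = xG hD p.1 ((p.2 : K) * t) * W hD w t := by
  simp only [W, List.map_cons, List.prod_cons]

theorem comm_x {r s : ℕ} (hr : r < D.nroots) (hs : s < D.nroots) (h : cm D r s = true) (t u : K) :
    xG hD r t * xG hD s u = xG hD s u * xG hD r t :=
  congrArg Subtype.val (xK_commute hD hr hs h t u)

theorem comm_xW {r : ℕ} (hr : r < D.nroots) {w : List (ℕ × ℤ)} (hw : inW D w = true)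
    (h : ∀ p ∈ w, cm D r p.1 = true) (t u : K) : xG hD r t * W hD w u = W hD w u * xG hD r t := by
  induction w with
  | nil => rw [W_nil, mul_one, one_mul]
  | cons p w ih =>
    simp only [inW, List.all_cons, Bool.and_eq_true, Nat.blt_eq] at hw
    rw [W_cons, ← mul_assoc, comm_x hD hr hw.1 (h p List.mem_cons_self), mul_assoc,
      ih hw.2 fun q hq => h q (List.mem_cons_of_mem _ hq), mul_assoc]

theorem comm_WW {a b : List (ℕ × ℤ)} (ha : inW D a = true) (hb : inW D b = true) (h : cmW D a b = true) (t u : K) :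
    W hD a t * W hD b u = W hD b u * W hD a t := by
  induction a with
  | nil => rw [W_nil, mul_one, one_mul]
  | cons p a ih =>
    simp only [cmW, List.all_cons, Bool.and_eq_true] at h
    simp only [inW, List.all_cons, Bool.and_eq_true, Nat.blt_eq] at ha
    rw [W_cons, mul_assoc, ih ha.2 h.2, ← mul_assoc, comm_xW hD ha.1 hb (fun q hq => List.all_eq_true.1 h.1 q hq),
      mul_assoc]

theorem W_add {w : List (ℕ × ℤ)} (hw : inW D w = true) (h : cmW D w w = true) (t u : K) :
    W hD w (t + u) = W hD w t * W hD w u := by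
  induction w with
  | nil => rw [W_nil, W_nil, W_nil, mul_one]
  | cons p w ih =>
    have hw' := hw
    simp only [inW, List.all_cons, Bool.and_eq_true, Nat.blt_eq] at hw'
    simp only [cmW, List.all_cons, Bool.and_eq_true, List.all_eq_true] at h
    rw [W_cons, W_cons, W_cons, mul_add, ← xG_add, ih hw'.2 (by
      simp only [cmW, List.all_eq_true]
      intro q hq q' hq'
      exact (h.2 q hq).2 q' hq')]
    have h1 := comm_xW hD hw'.1 hw'.2 (fun q hq => h.1.2 q hq) ((p.2 : K) * u) t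
    calc xG hD p.1 (↑p.2 * t) * xG hD p.1 (↑p.2 * u) * (W hD w t * W hD w u)
        = xG hD p.1 (↑p.2 * t) * (xG hD p.1 (↑p.2 * u) * W hD w t) * W hD w u := by group
      _ = xG hD p.1 (↑p.2 * t) * (W hD w t * xG hD p.1 (↑p.2 * u)) * W hD w u := by rw [h1]
      _ = _ := by group

theorem W_zero (w : List (ℕ × ℤ)) : W hD w (0 : K) = 1 := by
  induction w with
  | nil => rfl
  | cons p w ih => rw [W_cons, ih, mul_zero, xG_zero, mul_one]

theorem W_neg {w : List (ℕ × ℤ)} (hw : inW D w = true) (h : cmW D w w = true) (t : K) :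
    W hD w (-t) = (W hD w t)⁻¹ := by
  rw [eq_inv_iff_mul_eq_one, ← W_add hD hw h, neg_add_cancel, W_zero]

theorem W_scl (κ : ℤ) (w : List (ℕ × ℤ)) (t : K) : W hD (scl κ w) t = W hD w ((κ : K) * t) := by
  induction w with
  | nil => rfl
  | cons p w ih =>
    have e : scl κ (p :: w) = (p.1, p.2 * κ) :: scl κ w := rfl
    rw [e, W_cons, W_cons, ih]
    congr 2
    push_cast
    ring

theorem W_mrg (w : List (ℕ × ℤ)) (t : K) : W hD (mrg w) t = W hD w t := by
  induction w with
  | nil => rfl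
  | cons p w ih =>
    rw [W_cons, ← ih]
    show W hD (match mrg w with
      | [] => [p]
      | q :: l' => bif p.1 == q.1 then (p.1, p.2 + q.2) :: l' else p :: q :: l') t = _
    rcases mrg w with - | ⟨q, l⟩
    · exact W_cons hD p [] t
    · show W hD (bif p.1 == q.1 then (p.1, p.2 + q.2) :: l else p :: q :: l) t = _
      by_cases hpq : p.1 = q.1
      · rw [show (p.1 == q.1) = true by simpa using hpq, cond_true, W_cons, W_cons, ← mul_assoc, ← hpq, xG_add]
        congr 2
        push_cast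
        ring
      · rw [show (p.1 == q.1) = false by simpa using hpq, cond_false, W_cons]

theorem x_br {β γ r : ℕ} {m : ℤ} (h : br D β γ r m = true) (t u : K) :
    xG hD γ u * xG hD β t = xG hD β t * xG hD γ u * xG hD r (-(m * t * u)) :=
  congrArg Subtype.val (xK_br hD h t u)

theorem inW_za {z : List Z} (h : zok D z = true) : inW D (za z) = true := by
  induction z with
  | nil => rfl
  | cons e z ih =>
    simp only [zok, Bool.and_eq_true] at h
    show (Nat.blt e.a D.nroots && inW D (za z)) = true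
    rw [Bool.and_eq_true, Nat.blt_eq]
    exact ⟨(br_lt h.1.1).1, ih h.2.2⟩

theorem inW_zb {z : List Z} (h : zok D z = true) : inW D (zb z) = true := by
  induction z with
  | nil => rfl
  | cons e z ih =>
    simp only [zok, Bool.and_eq_true] at h
    show (Nat.blt e.b D.nroots && inW D (zb z)) = true
    rw [Bool.and_eq_true, Nat.blt_eq]
    exact ⟨(br_lt h.1.1).2, ih h.2.2⟩

theorem inW_zg {z : List Z} (h : zok D z = true) : inW D (zg z) = true := by
  induction z with
  | nil => rfl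
  | cons e z ih =>
    simp only [zok, Bool.and_eq_true] at h
    show (Nat.blt e.g D.nroots && inW D (zg z)) = true
    rw [Bool.and_eq_true]
    exact ⟨h.1.2.1, ih h.2.2⟩

/-- **The commutator of two words.** -/
theorem W_zip {z : List Z} (h : zok D z = true) (t u : K) :
    W hD (zb z) t * W hD (za z) u = W hD (za z) u * W hD (zg z) (t * u) * W hD (zb z) t := by
  induction z with
  | nil =>
    show (1 : GL D.Idx K) * 1 = 1 * 1 * 1
    simp
  | cons e z ih =>
    have h' := h
    simp only [zok, Bool.and_eq_true, Nat.blt_eq, List.all_eq_true] at h'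
    obtain ⟨⟨hbr, hg, hga, hgb⟩, hall, hz⟩ := h'
    have ia := inW_za hz
    have ib := inW_zb hz
    have ig := inW_zg hz
    obtain ⟨ha, hb⟩ := br_lt hbr
    have e1 : za (e :: z) = (e.a, e.c) :: za z := rfl
    have e2 : zb (e :: z) = (e.b, e.d) :: zb z := rfl
    have e3 : zg (e :: z) = (e.g, -e.m * e.c * e.d) :: zg z := rfl
    rw [e1, e2, e3, W_cons, W_cons, W_cons]
    simp only
    set xa := xG hD e.a ((e.c : K) * u)
    set xb := xG hD e.b ((e.d : K) * t)
    set s : K := (((-e.m * e.c * e.d : ℤ) : K)) * (t * u) with hs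
    have c1 : xa * W hD (zb z) t = W hD (zb z) t * xa := comm_xW hD ha ib (by
      intro p hp
      obtain ⟨f, hf, rfl⟩ := List.mem_map.1 hp
      exact (hall f hf).1) _ _
    have c2 : xb * W hD (za z) u = W hD (za z) u * xb := comm_xW hD hb ia (by
      intro p hp
      obtain ⟨f, hf, rfl⟩ := List.mem_map.1 hp
      exact (hall f hf).2.1) _ _
    have c3 : xG hD e.g s * W hD (za z) u = W hD (za z) u * xG hD e.g s := comm_xW hD hg ia (by
      intro p hp
      obtain ⟨f, hf, rfl⟩ := List.mem_map.1 hp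
      exact (hall f hf).2.2.1) _ _
    have c4 : xb * W hD (zg z) (t * u) = W hD (zg z) (t * u) * xb := by
      have hone : inW D [(e.b, e.d)] = true := by simp [inW, hb]
      have h5 := comm_WW hD ig hone (by
        simp only [cmW, List.all_eq_true]
        intro p hp q hq
        obtain ⟨f, hf, rfl⟩ := List.mem_map.1 hp
        rw [List.mem_singleton] at hq
        subst hq
        exact (hall f hf).2.2.2) (t * u) t
      rw [W_cons, W_nil, mul_one] at h5
      exact h5.symm
    have c5 : xG hD e.g s * xb = xb * xG hD e.g s := comm_x hD hg hb hgb _ _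
    have hb1 : xb * xa = xa * xb * xG hD e.g s := by
      have := x_br hD hbr ((e.c : K) * u) ((e.d : K) * t)
      rw [show -((e.m : K) * ((e.c : K) * u) * ((e.d : K) * t)) = s by rw [hs]; push_cast; ring] at this
      exact this
    calc xb * W hD (zb z) t * (xa * W hD (za z) u)
        = xb * (W hD (zb z) t * xa) * W hD (za z) u := by group
      _ = xb * (xa * W hD (zb z) t) * W hD (za z) u := by rw [c1]
      _ = (xb * xa) * (W hD (zb z) t * W hD (za z) u) := by group
      _ = (xa * xb * xG hD e.g s) * (W hD (za z) u * W hD (zg z) (t * u) * W hD (zb z) t) := by rw [hb1, ih hz]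
      _ = xa * (xb * xG hD e.g s) * W hD (za z) u * W hD (zg z) (t * u) * W hD (zb z) t := by group
      _ = xa * (xG hD e.g s * xb) * W hD (za z) u * W hD (zg z) (t * u) * W hD (zb z) t := by rw [c5]
      _ = xa * xG hD e.g s * (xb * W hD (za z) u) * W hD (zg z) (t * u) * W hD (zb z) t := by group
      _ = xa * xG hD e.g s * (W hD (za z) u * xb) * W hD (zg z) (t * u) * W hD (zb z) t := by rw [c2]
      _ = xa * (xG hD e.g s * W hD (za z) u) * (xb * W hD (zg z) (t * u)) * W hD (zb z) t := by group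
      _ = xa * (W hD (za z) u * xG hD e.g s) * (W hD (zg z) (t * u) * xb) * W hD (zb z) t := by rw [c3, c4]
      _ = _ := by group

/-- torus elements -/
def TJ (K : Type u) [Field K] (J : List ℕ) : GL D.Idx K := (J.map fun j => hG hD (D.simple j) (-1)).prod

theorem TJ_x {J : List ℕ} (hJ : ∀ j ∈ J, j < D.rank) {s : ℕ} (hs : s < D.nroots) (t : K) :
    TJ hD K J * xG hD s t * (TJ hD K J)⁻¹ = xG hD s ((-1) ^ (pr D J s) * t) := by
  induction J with
  | nil =>
    show 1 * xG hD s t * 1⁻¹ = xG hD s ((-1) ^ (0 : ℤ) * t)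
    simp
  | cons j J ih =>
    have e1 : TJ hD K (j :: J) = hG hD (D.simple j) (-1) * TJ hD K J := by
      simp only [TJ, List.map_cons, List.prod_cons]
    have e2 : pr D (j :: J) s = D.cartan j s + pr D J s := by
      simp only [pr, List.map_cons, List.sum_cons]
    have h1 := ih fun i hi => hJ i (List.mem_cons_of_mem _ hi)
    have h2 := congrArg Subtype.val (tK_conj hD (F := K) (hJ j List.mem_cons_self) hs ((-1) ^ (pr D J s) * t))
    have h3 : hG hD (D.simple j) (-1) * xG hD s ((-1) ^ (pr D J s) * t) * (hG hD (D.simple j) (-1))⁻¹ =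
        xG hD s ((-1) ^ (D.cartan j s) * ((-1) ^ (pr D J s) * t)) := h2
    rw [e1, e2, zpow_add₀ (neg_ne_zero.2 one_ne_zero), mul_assoc ((-1 : K) ^ D.cartan j s), ← h3, ← h1]
    group

theorem TJ_W {J : List ℕ} (hJ : ∀ j ∈ J, j < D.rank) {w : List (ℕ × ℤ)} (hw : inW D w = true) {ε : K}
    (h : ∀ p ∈ w, (-1 : K) ^ (pr D J p.1) = ε) (t : K) :
    TJ hD K J * W hD w t * (TJ hD K J)⁻¹ = W hD w (ε * t) := by
  induction w with
  | nil => rw [W_nil, W_nil, mul_one, mul_inv_cancel]
  | cons p w ih =>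
    simp only [inW, List.all_cons, Bool.and_eq_true, Nat.blt_eq] at hw
    have h1 := ih hw.2 fun q hq => h q (List.mem_cons_of_mem _ hq)
    have h2 := TJ_x hD hJ hw.1 ((p.2 : K) * t)
    rw [h p List.mem_cons_self] at h2
    rw [W_cons, W_cons, ← h1, show (p.2 : K) * (ε * t) = ε * ((p.2 : K) * t) by ring, ← h2]
    group

theorem TJ_odd {J : List ℕ} (hJ : ∀ j ∈ J, j < D.rank) {w : List (ℕ × ℤ)} (hw : inW D w = true)
    (hc : cmW D w w = true) (h : odW D J w = true) (t : K) :
    TJ hD K J * W hD w t * (TJ hD K J)⁻¹ = (W hD w t)⁻¹ := by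
  rw [TJ_W hD hJ hw (ε := -1) (fun p hp => ?_), neg_one_mul, W_neg hD hw hc]
  have h1 := List.all_eq_true.1 h p hp
  have h2 : Odd (pr D J p.1) := by
    rw [Int.odd_iff]
    have h3 : pr D J p.1 % 2 ≠ 0 := by simpa using h1
    omega
  exact h2.neg_one_zpow

theorem TJ_even {J : List ℕ} (hJ : ∀ j ∈ J, j < D.rank) {w : List (ℕ × ℤ)} (hw : inW D w = true)
    (h : evW D J w = true) (t : K) :
    TJ hD K J * W hD w t * (TJ hD K J)⁻¹ = W hD w t := by
  rw [TJ_W hD hJ hw (ε := 1) (fun p hp => ?_), one_mul]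
  have h1 := List.all_eq_true.1 h p hp
  have h2 : Even (pr D J p.1) := by
    rw [Int.even_iff]
    simpa using h1
  exact h2.neg_one_zpow

theorem W_brW {z : List Z} {w : List (ℕ × ℤ)} {κ : ℤ} (h : brW D z w κ = true) (t u : K) :
    W hD (zb z) t * W hD (za z) u = W hD (za z) u * W hD w ((κ : K) * (t * u)) * W hD (zb z) t := by
  simp only [brW, Bool.and_eq_true, decide_eq_true_eq] at h
  rw [W_zip hD h.1, ← W_mrg hD (zg z), h.2.1, W_scl]

theorem unit_ne (h2 : (2 : K) ≠ 0) {κ : ℤ} (h : unitW κ = true) : (κ : K) ≠ 0 := by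
  simp only [unitW, Bool.or_eq_true, beq_iff_eq] at h
  rcases h with ((h | h) | h) | h
  · rw [h]; simp
  · rw [h]; simp
  · rw [h]; simpa using h2
  · rw [h]; simpa using h2

end words

section group

variable {D : ChevalleyDatum} (hD : InList D) {K : Type u} [Field K] {F : Subfield K} {G : Subgroup (GL D.Idx K)}
  {cls : List (ℕ × ℤ) → Bool} (hcls : ∀ w, cls w = true → ∀ t ∈ F, W hD w t ∈ G)
  {Js : List (List ℕ)} (hJs : ∀ J ∈ Js, TJ hD K J ∈ G) (hJr : ∀ J ∈ Js, ∀ j ∈ J, j < D.rank)

theorem int_ne {κ : ℤ} (h : (κ : K) ≠ 0) : (κ : F) ≠ 0 := fun h0 => h (by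
  have h1 := congrArg F.subtype h0
  rwa [map_intCast, map_zero] at h1)

/-- the element of a word in `G` -/
noncomputable def y (w : List (ℕ × ℤ)) (t : F) : G := by
  classical
  exact if h : W hD w (t : K) ∈ G then ⟨_, h⟩ else 1

include hcls in
theorem y_val {w : List (ℕ × ℤ)} (h : adW D cls w = true) (t : F) : ((y hD w t : G) : GL D.Idx K) = W hD w (t : K) := by
  rw [y, dif_pos]
  simp only [adW, Bool.and_eq_true] at h
  exact hcls w h.1 t t.2

theorem ad_in {w : List (ℕ × ℤ)} (h : adW D cls w = true) : inW D w = true ∧ cmW D w w = true := by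
  simp only [adW, Bool.and_eq_true] at h
  exact h.2

include hcls in
theorem y_add {w : List (ℕ × ℤ)} (h : adW D cls w = true) (t u : F) :
    (y hD w (t + u) : G) = y hD w t * y hD w u := by
  apply Subtype.ext
  rw [Subgroup.coe_mul, y_val hD hcls h, y_val hD hcls h, y_val hD hcls h]
  exact W_add hD (ad_in h).1 (ad_in h).2 _ _

include hcls in
theorem y_comm {a b : List (ℕ × ℤ)} (ha : adW D cls a = true) (hb : adW D cls b = true) (h : cmW D a b = true)
    (t u : F) : (y hD a t : G) * y hD b u = y hD b u * y hD a t := by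
  apply Subtype.ext
  rw [Subgroup.coe_mul, Subgroup.coe_mul, y_val hD hcls ha, y_val hD hcls hb]
  exact comm_WW hD (ad_in ha).1 (ad_in hb).1 h _ _

include hcls hJs hJr in
theorem y_odd {w : List (ℕ × ℤ)} (h : adW D cls w = true) {J : List ℕ} (hJ : J ∈ Js) (ho : odW D J w = true)
    (t : F) : (⟨TJ hD K J, hJs J hJ⟩ : G) * y hD w t * (⟨TJ hD K J, hJs J hJ⟩ : G)⁻¹ = (y hD w t)⁻¹ := by
  apply Subtype.ext
  rw [Subgroup.coe_mul, Subgroup.coe_mul, Subgroup.coe_inv, Subgroup.coe_inv, y_val hD hcls h]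
  exact TJ_odd hD (hJr J hJ) (ad_in h).1 (ad_in h).2 ho _

include hcls hJs hJr in
theorem y_even {w : List (ℕ × ℤ)} (h : adW D cls w = true) {J : List ℕ} (hJ : J ∈ Js) (ho : evW D J w = true)
    (t : F) : (⟨TJ hD K J, hJs J hJ⟩ : G) * y hD w t * (⟨TJ hD K J, hJs J hJ⟩ : G)⁻¹ = y hD w t := by
  apply Subtype.ext
  rw [Subgroup.coe_mul, Subgroup.coe_mul, Subgroup.coe_inv, y_val hD hcls h]
  exact TJ_even hD (hJr J hJ) (ad_in h).1 ho _

include hcls hJs hJr in
theorem lc1 {a b : List (ℕ × ℤ)} (ha : adW D cls a = true) (hb : adW D cls b = true) (h : l1W D Js a b = true)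
    (t u : F) : LC.{u, v} (y hD a t : G) (y hD b u) := by
  simp only [l1W, Bool.and_eq_true, List.any_eq_true, Bool.or_eq_true] at h
  obtain ⟨h1, J, hJ, h2⟩ := h
  have hc := y_comm hD hcls ha hb h1 t u
  rcases h2 with ⟨h2, h3⟩ | ⟨h2, h3⟩
  · exact LC.of_inv hc (y_odd hD hcls hJs hJr ha hJ h2 t) (y_even hD hcls hJs hJr hb hJ h3 u)
  · exact (LC.of_inv hc.symm (y_odd hD hcls hJs hJr hb hJ h3 u) (y_even hD hcls hJs hJr ha hJ h2 t)).symm

include hcls in
theorem y_br {z : List Z} {w : List (ℕ × ℤ)} {κ : ℤ} (h : brW D z w κ = true) (ha : adW D cls (za z) = true)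
    (hb : adW D cls (zb z) = true) (hw : adW D cls w = true) (t u : F) :
    (y hD (zb z) t : G) * y hD (za z) u = y hD (za z) u * y hD w ((κ : F) * (t * u)) * y hD (zb z) t := by
  apply Subtype.ext
  simp only [Subgroup.coe_mul]
  rw [y_val hD hcls ha, y_val hD hcls hb, y_val hD hcls hw, W_brW hD h]
  simp

include hcls hJs hJr in
theorem lc2 (h2 : (2 : K) ≠ 0) {ex : List (List (ℕ × ℤ) × List (ℕ × ℤ) × List Z × ℤ)}
    (hex : ∀ x ∈ ex, adW D cls (za x.2.2.1) = true ∧ adW D cls (zb x.2.2.1) = true)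
    {r s : List (ℕ × ℤ)} (hr : adW D cls r = true) (hs : adW D cls s = true) (h : l2W D Js ex r s = true) (t u : F) :
    LC.{u, v} (y hD r t : G) (y hD s u) := by
  simp only [l2W, Bool.or_eq_true, List.any_eq_true, Bool.and_eq_true, decide_eq_true_eq] at h
  rcases h with h | ⟨x, hx, rfl, rfl, h3, h4, h5⟩
  · exact lc1 hD hcls hJs hJr hr hs h t u
  · obtain ⟨ha, hb⟩ := hex x hx
    rw [← mem_cenLC]
    have hκ : unitW x.2.2.2 = true := by
      simp only [brW, Bool.and_eq_true] at h3
      exact h3.2.2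
    have hκ0 : ((x.2.2.2 : ℤ) : F) ≠ 0 := int_ne (unit_ne h2 hκ)
    have h6 := y_br (G := G) hD hcls h3 ha hb hr 1 (((x.2.2.2 : ℤ) : F)⁻¹ * t)
    rw [one_mul, ← mul_assoc, mul_inv_cancel₀ hκ0, one_mul] at h6
    have h7 : (y hD x.1 t : G) = (y hD (za x.2.2.1) (((x.2.2.2 : ℤ) : F)⁻¹ * t))⁻¹ *
        (y hD (zb x.2.2.1) (1 : F) * y hD (za x.2.2.1) (((x.2.2.2 : ℤ) : F)⁻¹ * t)) * (y hD (zb x.2.2.1) (1 : F))⁻¹ := by
      rw [h6]; group
    rw [h7]
    have m1 : (y hD (za x.2.2.1) (((x.2.2.2 : ℤ) : F)⁻¹ * t) : G) ∈ cenLC.{u, v} (y hD x.2.1 u : G) :=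
      lc1 hD hcls hJs hJr ha hs h4 _ _
    have m2 : (y hD (zb x.2.2.1) (1 : F) : G) ∈ cenLC.{u, v} (y hD x.2.1 u : G) := lc1 hD hcls hJs hJr hb hs h5 _ _
    exact mul_mem (mul_mem (inv_mem m1) (mul_mem m2 m1)) (inv_mem m2)

include hcls hJs in
/-- **The Heisenberg row of a twisted group.** -/
theorem lb_of_chkW [Finite K] (h2 : (2 : K) ≠ 0) [IsSimpleGroup G] {J0 : List ℕ} {θ : List (ℕ × ℤ)}
    {prs : List (List Z × ℤ)} {ex : List (List (ℕ × ℤ) × List (ℕ × ℤ) × List Z × ℤ)}
    (h : chkW D cls Js J0 θ prs ex = true) (hθ1 : W hD θ (1 : K) ≠ 1) :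
    LB.{u, v, w} G (2 * Nat.card F ^ prs.length) := by
  obtain ⟨r, hrc⟩ := CharP.exists F
  have hr : r.Prime := (CharP.char_is_prime_or_zero F r).resolve_right (CharP.char_ne_zero_of_finite F r)
  haveI : Fact r.Prime := ⟨hr⟩
  have hr2 : r ≠ 2 := by
    rintro rfl
    have h0 : ((2 : ℕ) : F) = 0 := CharP.cast_eq_zero F 2
    have h1 := congrArg F.subtype h0
    rw [map_natCast, map_zero] at h1
    exact h2 (by exact_mod_cast h1)
  simp only [chkW, Bool.and_eq_true, decide_eq_true_eq, List.all_eq_true, Nat.blt_eq] at h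
  obtain ⟨hθ, hθ0, hJ0, hJr, hθo, hθθ, hex, h1, hpw⟩ := h
  have hget := pw_get hpw
  have hp : ∀ j : Fin prs.length, chkW1 D cls Js J0 θ ex (prs.get j) = true := fun j => h1 _ (prs.get_mem j)
  simp only [chkW1, Bool.and_eq_true] at hp
  have hAA0 : ∀ i j, i < j → chkW2 D Js ex (prs.get i) (prs.get j) = true := hget
  simp only [chkW2, Bool.and_eq_true, Bool.or_eq_true] at hAA0
  have hA := fun j => (hp j).2.1
  have hB := fun j => (hp j).2.2.1
  have hκ : ∀ j, unitW (prs.get j).2 = true := by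
    intro j
    have := (hp j).1
    simp only [brW, Bool.and_eq_true] at this
    exact this.2.2
  have hAA : ∀ (i j : Fin prs.length) (t u : F), (y hD (za (prs.get i).1) t : G) * y hD (za (prs.get j).1) u =
      y hD (za (prs.get j).1) u * y hD (za (prs.get i).1) t := by
    intro i j t u
    rcases lt_trichotomy i j with h | h | h
    · exact y_comm hD hcls (hA i) (hA j) (hAA0 i j h).1 t u
    · subst h
      exact y_comm hD hcls (hA i) (hA i) (ad_in (hA i)).2 t u
    · exact (y_comm hD hcls (hA j) (hA i) (hAA0 j i h).1 u t).symm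
  have hFH : FH r prs.length (fun t : F => (y hD θ t : G)) (fun j t => y hD (za (prs.get j).1) t)
      (fun j t => y hD (zb (prs.get j).1) t) (fun j => (((prs.get j).2 : ℤ) : F)) := by
    refine ⟨fun t u => y_add hD hcls hθ t u, fun j t => ?_, fun j t u => ?_, fun j t u => ?_,
      fun i j t u => hAA i j t u, fun i j hij t u => ?_, fun j t u => ?_, fun j => ?_⟩
    · have h3 : ∀ n : ℕ, (y hD (za (prs.get j).1) t : G) ^ n = y hD (za (prs.get j).1) ((n : F) * t) := by
        intro n
        induction n with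
        | zero =>
          rw [pow_zero, Nat.cast_zero, zero_mul]
          apply Subtype.ext
          rw [y_val hD hcls (hA j)]
          exact (W_zero hD _).symm
        | succ n ih => rw [pow_succ, ih, ← y_add hD hcls (hA j)]; congr 1; push_cast; ring
      rw [h3, CharP.cast_eq_zero, zero_mul]
      apply Subtype.ext
      rw [y_val hD hcls (hA j)]
      exact W_zero hD _
    · exact y_comm hD hcls hθ (hA j) (hp j).2.2.2.2.2.1 t u
    · exact y_comm hD hcls hθ (hB j) (hp j).2.2.2.2.2.2.1 t u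
    · rcases lt_or_gt_of_ne hij with h | h
      · exact y_comm hD hcls (hB i) (hA j) (hAA0 i j h).2.1 t u
      · exact y_comm hD hcls (hB i) (hA j) (hAA0 j i h).2.2.1 t u
    · have h3 := y_br (G := G) hD hcls (hp j).1 (hA j) (hB j) hθ t u
      rw [mul_inv_eq_iff_eq_mul, h3, mul_assoc ((((prs.get j).2 : ℤ) : F)) t u]
    · exact int_ne (unit_ne h2 (hκ j))
  have h5 := LB.fh.{u, v, w, u} hr2 hFH (s := ⟨TJ hD K J0, hJs J0 hJ0⟩)
    (fun t => y_odd hD hcls hJs hJr hθ hJ0 hθo t)
    (fun j t => y_odd hD hcls hJs hJr (hA j) hJ0 (hp j).2.2.2.1 t)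
    (fun j t => y_even hD hcls hJs hJr (hB j) hJ0 (hp j).2.2.2.2.1 t)
    (fun t u => lc2 hD hcls hJs hJr h2 hex hθ hθ hθθ t u)
    (fun j t u => (lc2 hD hcls hJs hJr h2 hex (hA j) hθ (hp j).2.2.2.2.2.2.2.1 u t).symm)
    (fun i j t u => by
      rcases lt_trichotomy i j with h | h | h
      · rcases (hAA0 i j h).2.2.2 with h' | h'
        · exact lc2 hD hcls hJs hJr h2 hex (hA i) (hA j) h' t u
        · exact (lc2 hD hcls hJs hJr h2 hex (hA j) (hA i) h' u t).symm
      · subst h
        exact lc2 hD hcls hJs hJr h2 hex (hA i) (hA i) (hp i).2.2.2.2.2.2.2.2 t u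
      · rcases (hAA0 j i h).2.2.2 with h' | h'
        · exact (lc2 hD hcls hJs hJr h2 hex (hA j) (hA i) h' u t).symm
        · exact lc2 hD hcls hJs hJr h2 hex (hA i) (hA j) h' t u)
    ⟨1, fun h => hθ1 (by
      have h6 := congrArg (Subtype.val : G → GL D.Idx K) h
      rw [y_val hD hcls hθ] at h6
      exact h6)⟩
  intro L _ _ π hπ hc ho hL V _ _ hV φ hφ
  refine le_trans (Nat.pow_le_pow_right (by norm_num) ?_) (h5 L π hπ hc ho hL V hV φ hφ)
  exact Nat.mul_le_mul_right _ (two_le_order hr hr2)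

end group

end Cfsg.Agent.Omega.TwoF.ChevWord
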