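import Cfsg.Agent.Omega.TwoF.SignRepTwo
import Cfsg.Agent.CoOneType.ClosingFacts
import Cfsg.Agent.CoOneType.InvMain

/-!
# The rational representation of `Co0` and the 2-rank of `Co1` (helper416)

`card_le` : elementary abelian 2-subgroups of `Co1` have order at most `2 ^ 11`.
-/

set_option autoImplicit false

namespace Cfsg.Agent.Omega.TwoF.Co1Rat

open Cfsg Cfsg.Spor Module
open Cfsg.Agent.SporadicA.Co0Mono (signCo0 signCo0_smul signMap_apply sgn signMap)
open Cfsg.Agent.SporadicA.Co0Basic (e8 e8_coe map_smul8 smul8_eq_sum)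
open Cfsg.Agent.CoOneType.SignFacts (sup mem_sup notMem_sup wt wt_cases)
open Cfsg.Agent.CoOneType.ClosingFacts (mk mk_eq_one)
open Cfsg.Agent.SporadicA.Co1Simple (allOne)

/-- a lattice vector as a rational vector -/
def cst (v : leechLattice) : GolayPt → ℚ := fun j => (((v : GolayPt → ℤ) j : ℤ) : ℚ)

theorem cst_injective : Function.Injective cst := by
  intro v w h
  apply Subtype.ext
  funext j
  have h1 : (((v : GolayPt → ℤ) j : ℤ) : ℚ) = (((w : GolayPt → ℤ) j : ℤ) : ℚ) := congrFun h j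
  exact_mod_cast h1

/-- the linear map -/
noncomputable def lin (g : Co0) : (GolayPt → ℚ) →ₗ[ℚ] (GolayPt → ℚ) :=
  (Pi.basisFun ℚ GolayPt).constr ℚ fun i => (8 : ℚ)⁻¹ • cst (g • e8 i)

theorem lin_single (g : Co0) (i : GolayPt) : lin g (Pi.single i 1) = (8 : ℚ)⁻¹ • cst (g • e8 i) := by
  have := (Pi.basisFun ℚ GolayPt).constr_basis ℚ (fun i => (8 : ℚ)⁻¹ • cst (g • e8 i)) i
  rwa [Pi.basisFun_apply] at this

theorem lin_cst (g : Co0) (v : leechLattice) : lin g (cst v) = cst (g • v) := by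
  have h1 : cst v = ∑ i, cst v i • (Pi.single i (1 : ℚ) : GolayPt → ℚ) := by
    funext j
    rw [Finset.sum_apply]
    simp only [Pi.smul_apply, smul_eq_mul, Pi.single_apply, mul_ite, mul_one, mul_zero, Finset.sum_ite_eq,
      Finset.mem_univ, if_true]
  rw [h1, map_sum]
  simp only [map_smul, lin_single]
  have h2 := map_smul8 g v
  funext j
  have h3 := congrArg (fun u : leechLattice => (u : GolayPt → ℤ) j) h2
  simp only [AddSubgroup.coe_zsmul, Pi.smul_apply, smul_eq_mul, AddSubgroup.val_finsetSum, Finset.sum_apply] at h3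
  rw [Finset.sum_apply]
  simp only [Pi.smul_apply, smul_eq_mul]
  have h4 : (8 : ℚ) * cst (g • v) j = ∑ i, cst v i * cst (g • e8 i) j := by
    have h5 : ((8 * ((g • v : leechLattice) : GolayPt → ℤ) j : ℤ) : ℚ) =
        ((∑ i, (v : GolayPt → ℤ) i * ((g • e8 i : leechLattice) : GolayPt → ℤ) j : ℤ) : ℚ) := by
      exact congrArg _ h3
    push_cast at h5
    exact h5
  have h6 : ∑ i, cst v i * (8⁻¹ * cst (g • e8 i) j) = 8⁻¹ * ∑ i, cst v i * cst (g • e8 i) j := by
    rw [Finset.mul_sum]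
    refine Finset.sum_congr rfl fun i _ => ?_
    ring
  rw [h6, ← h4]
  ring

/-- the representation -/
noncomputable def rho : Co0 →* ((GolayPt → ℚ) →ₗ[ℚ] (GolayPt → ℚ)) where
  toFun := lin
  map_one' := by
    apply (Pi.basisFun ℚ GolayPt).ext
    intro i
    rw [Pi.basisFun_apply, lin_single, one_smul]
    funext j
    rw [Pi.smul_apply, cst, e8_coe]
    change (8 : ℚ)⁻¹ * (((Pi.single i 8 : GolayPt → ℤ) j : ℤ) : ℚ) = (Pi.single i (1 : ℚ) : GolayPt → ℚ) j
    rw [Pi.single_apply, Pi.single_apply]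
    split_ifs <;> norm_num
  map_mul' g h := by
    apply (Pi.basisFun ℚ GolayPt).ext
    intro i
    rw [Pi.basisFun_apply, lin_single]
    change _ = lin g (lin h (Pi.single i 1))
    rw [lin_single, map_smul, lin_cst, mul_smul]

theorem rho_cst (g : Co0) (v : leechLattice) : rho g (cst v) = cst (g • v) := lin_cst g v

theorem rho_injective : Function.Injective rho := by
  intro g h hgh
  apply Cfsg.Agent.SporadicA.Co0Mono.ext
  intro v
  apply cst_injective
  rw [← rho_cst, ← rho_cst, hgh]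

theorem rho_sign (c : golayCode) (v : GolayPt → ℚ) (j : GolayPt) :
    rho (signCo0 c) v j = (sgn ((c : GolayPt → ZMod 2) j) : ℚ) * v j := by
  have h1 : rho (signCo0 c) = LinearMap.pi fun j => (sgn ((c : GolayPt → ZMod 2) j) : ℚ) • LinearMap.proj j := by
    apply (Pi.basisFun ℚ GolayPt).ext
    intro i
    rw [Pi.basisFun_apply]
    change lin _ _ = _
    rw [lin_single]
    funext k
    rw [Pi.smul_apply, LinearMap.pi_apply, LinearMap.smul_apply, LinearMap.proj_apply, cst, signCo0_smul,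
      signMap_apply, e8_coe, smul_eq_mul, smul_eq_mul]
    push_cast
    rw [Pi.single_apply, Pi.single_apply]
    split_ifs <;> push_cast <;> ring
  rw [h1]
  rfl

theorem trace_sign (c : golayCode) : LinearMap.trace ℚ _ (rho (signCo0 c)) = 24 - 2 * (wt c : ℚ) := by
  rw [LinearMap.trace_eq_matrix_trace ℚ (Pi.basisFun ℚ GolayPt), Matrix.trace]
  have h1 : ∀ i : GolayPt, (LinearMap.toMatrix (Pi.basisFun ℚ GolayPt) (Pi.basisFun ℚ GolayPt)
      (rho (signCo0 c))).diag i = 1 - 2 * (if i ∈ sup c then 1 else 0) := by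
    intro i
    rw [Matrix.diag_apply, LinearMap.toMatrix_apply, Pi.basisFun_apply, Pi.basisFun_repr, rho_sign, Pi.single_eq_same,
      mul_one]
    by_cases hi : i ∈ sup c
    · rw [if_pos hi, (mem_sup c i).1 hi]
      norm_num [sgn]
    · rw [if_neg hi, (notMem_sup c i).1 hi]
      norm_num [sgn]
  rw [Finset.sum_congr rfl fun i _ => h1 i, Finset.sum_sub_distrib, ← Finset.mul_sum, Finset.sum_ite_mem,
    Finset.univ_inter]
  have h2 : Fintype.card GolayPt = 24 := by decide
  simp only [Finset.sum_const, Finset.card_univ, h2, nsmul_eq_mul, mul_one]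
  rw [wt]
  norm_num

theorem rho_allOne (v : GolayPt → ℚ) : rho (signCo0 allOne) v = -v := by
  funext j
  rw [rho_sign]
  have h1 : ((allOne : golayCode) : GolayPt → ZMod 2) j = 1 := rfl
  rw [h1]
  norm_num [sgn]

theorem trace_of_sq {x : Co0} (hx : x * x = 1) : ∃ w : ℕ, (w = 0 ∨ w = 8 ∨ w = 12 ∨ w = 16 ∨ w = 24) ∧
    LinearMap.trace ℚ _ (rho x) = 24 - 2 * w := by
  obtain ⟨g, c, hc⟩ := Cfsg.Agent.CoOneType.InvMain.conj_sign_of_sq_one x hx
  refine ⟨wt c, wt_cases c, ?_⟩
  rw [← trace_sign, ← hc, map_mul, LinearMap.trace_mul_comm, ← map_mul]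
  congr 2
  group

/-- the preimage of an elementary abelian subgroup of `Co1` -/
theorem rep (A : Subgroup Co1) (hA : ∀ a ∈ A, a * a = 1) :
    SignRep.Rep (rho.comp (A.comap (QuotientGroup.mk' (Subgroup.center Co0))).subtype)
      (⟨signCo0 allOne, by
        rw [Subgroup.mem_comap]
        have : mk (signCo0 allOne) = 1 := (mk_eq_one _).2 (Or.inr rfl)
        have h2 : QuotientGroup.mk' (Subgroup.center Co0) (signCo0 allOne) = 1 := this
        rw [h2]
        exact one_mem _⟩ : A.comap (QuotientGroup.mk' (Subgroup.center Co0))) where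
  dim := by
    rw [Module.finrank_fintype_fun_eq_card]
    decide
  inj := rho_injective.comp (Subgroup.subtype_injective _)
  eps := rho_allOne
  sq := by
    rintro ⟨x, hx⟩
    have h1 : mk (x * x) = 1 := hA _ hx
    rcases (mk_eq_one _).1 h1 with h2 | h2
    · exact Or.inl (Subtype.ext h2)
    · exact Or.inr (Subtype.ext h2)
  tr := by
    rintro ⟨x, hx⟩ h
    exact trace_of_sq (congrArg Subtype.val h)

theorem sign_allOne_ne : signCo0 allOne ≠ 1 := by
  intro h
  have h1 := congrArg (fun g => rho g (Pi.single none 1) none) h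
  simp only [rho_allOne, map_one] at h1
  have h2 : (-(Pi.single none (1 : ℚ) : GolayPt → ℚ)) none = -1 := by simp
  have h3 : ((1 : (GolayPt → ℚ) →ₗ[ℚ] (GolayPt → ℚ)) (Pi.single none 1)) none = (1 : ℚ) := by simp
  rw [h2, h3] at h1
  norm_num at h1

/-- **`m_2(Co1) ≤ 11`** -/
theorem card_le [Finite Co0] (A : Subgroup Co1) (hA : ∀ a ∈ A, a * a = 1) : Nat.card A ≤ 2 ^ 11 := by
  have : Fact (Nat.Prime 2) := ⟨Nat.prime_two⟩
  have h1 := (rep A hA).card_lt
  let f : A.comap (QuotientGroup.mk' (Subgroup.center Co0)) →* Co1 :=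
    (QuotientGroup.mk' (Subgroup.center Co0)).comp (A.comap (QuotientGroup.mk' (Subgroup.center Co0))).subtype
  have hrange : f.range = A := by
    ext a
    constructor
    · rintro ⟨x, rfl⟩
      exact x.2
    · intro ha
      obtain ⟨x, hx⟩ := QuotientGroup.mk'_surjective (Subgroup.center Co0) a
      exact ⟨⟨x, by rw [Subgroup.mem_comap, hx]; exact ha⟩, hx⟩
  have h2 := f.ker.card_mul_index
  rw [Subgroup.index_ker, hrange] at h2
  have h3 : 2 ≤ Nat.card f.ker := by
    have hne : Nontrivial f.ker := by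
      refine ⟨⟨⟨⟨signCo0 allOne, ?_⟩, ?_⟩, 1, ?_⟩⟩
      · rw [Subgroup.mem_comap]
        have h2 : QuotientGroup.mk' (Subgroup.center Co0) (signCo0 allOne) = 1 := (mk_eq_one _).2 (Or.inr rfl)
        rw [h2]
        exact one_mem _
      · exact (mk_eq_one _).2 (Or.inr rfl)
      · intro h
        exact sign_allOne_ne (congrArg Subtype.val (congrArg Subtype.val h))
    exact Finite.one_lt_card
  have h4 : IsPGroup 2 A := fun a => ⟨1, Subtype.ext (by simpa [pow_two] using hA a a.2)⟩
  obtain ⟨k, hk⟩ := h4.exists_card_eq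
  rw [hk]
  apply Nat.pow_le_pow_right (by norm_num)
  by_contra hcon
  have h5 : 2 ^ 12 ≤ Nat.card A := by
    rw [hk]
    exact Nat.pow_le_pow_right (by norm_num) (by omega)
  have h6 : 2 * 2 ^ 12 ≤ Nat.card f.ker * Nat.card A := Nat.mul_le_mul h3 h5
  rw [h2] at h6
  omega

end Cfsg.Agent.Omega.TwoF.Co1Rat
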