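import Mathlib.GroupTheory.Perm.Cycle.Type
import Mathlib.GroupTheory.PGroup
import Mathlib.Tactic

/-!
# Lower bounds for the degree of an action in characteristic 2, I: cyclic groups

`V` is a finite abelian group with `v * v = 1`.

* `exists_sub`: an automorphism `x` of odd prime order `p` has a subgroup `W ≠ ⊥` on which it is fixed-point-free and
  which is invariant under everything commuting with `x`;
* `exists_pow`: if `x` has odd prime order `p` and the automorphisms `c` of `C` commute with `x`, have prime orders and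
  are fixed-point-free on `V`, then there is `2 ≤ 2 ^ d ≤ |V|` with `p ∣ 2 ^ d - 1` and all these orders dividing `2 ^ d - 1`.
-/

set_option autoImplicit false
set_option linter.unusedSectionVars false

namespace Cfsg.Agent.Omega.TwoF.Cyc

open Subgroup

/-- an automorphism of prime order without fixed points `≠ 1` on a finite invariant subgroup -/
theorem dvd_card_sub_one {V : Type*} [Group V] [Finite V] (W : Subgroup V) (g : MulAut V) {p : ℕ} (hp : p.Prime)
    (hg : g ^ p = 1) (hW : ∀ w ∈ W, g w ∈ W) (hf : ∀ w ∈ W, g w = w → w = 1) : p ∣ Nat.card W - 1 := by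
  classical
  have := Fact.mk hp
  have := Fintype.ofFinite W
  let f : Function.End W := fun w => ⟨g w, hW w w.2⟩
  have hpow : ∀ (n : ℕ) (w : W), (((f ^ n : Function.End W) w : W) : V) = (g ^ n) w := by
    intro n
    induction n with
    | zero => intro w; rfl
    | succ n ih =>
      intro w
      have e1 : (f ^ (n + 1) : Function.End W) w = (f ^ n : Function.End W) (f w) := by rw [pow_succ]; rfl
      rw [e1, ih, pow_succ]
      rfl
  have h1 : f ^ p ^ 1 = 1 := by
    rw [pow_one]
    funext w
    apply Subtype.ext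
    rw [hpow, hg]
    rfl
  have h2 := Equiv.Perm.card_fixedPoints_modEq h1
  have h3 : Fintype.card f.fixedPoints = 1 := by
    rw [Fintype.card_eq_one_iff]
    refine ⟨⟨1, ?_⟩, ?_⟩
    · apply Subtype.ext
      exact map_one g
    · rintro ⟨w, hw⟩
      apply Subtype.ext
      apply Subtype.ext
      exact hf w w.2 (congrArg Subtype.val hw)
  rw [h3, ← Nat.card_eq_fintype_card] at h2
  exact (Nat.modEq_iff_dvd' (Nat.card_pos)).1 h2.symm

variable {V : Type*} [CommGroup V]

/-- the norm -/
noncomputable def norm (x : MulAut V) (p : ℕ) : V →* V := ∏ i ∈ Finset.range p, (x ^ i : MulAut V).toMonoidHom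

theorem norm_apply (x : MulAut V) (p : ℕ) (v : V) : norm x p v = ∏ i ∈ Finset.range p, (x ^ i) v := by
  rw [norm, MonoidHom.finsetProd_apply]
  rfl

theorem norm_x (x : MulAut V) {p : ℕ} (hx : x ^ p = 1) (v : V) : norm x p (x v) = norm x p v := by
  rw [norm_apply, norm_apply]
  have h1 : ∀ i, (x ^ i) (x v) = (x ^ (i + 1)) v := fun i => by rw [pow_succ]; rfl
  simp only [h1]
  have h2 := Finset.prod_range_succ (fun i => (x ^ i) v) p
  have h3 := Finset.prod_range_succ' (fun i => (x ^ i) v) p
  rw [h2, hx, pow_zero] at h3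
  exact mul_right_cancel h3.symm

theorem norm_comm (x g : MulAut V) (p : ℕ) (hc : g * x = x * g) (v : V) : norm x p (g v) = g (norm x p v) := by
  rw [norm_apply, norm_apply, map_prod]
  refine Finset.prod_congr rfl fun i _ => ?_
  have h : x ^ i * g = g * x ^ i := by
    have := (show Commute g x from hc).pow_right i
    exact this.symm
  exact DFunLike.congr_fun h v

variable [Finite V]

/-- the subgroup on which `x` is fixed-point-free -/
theorem exists_sub (h2 : ∀ v : V, v * v = 1) {x : MulAut V} {p : ℕ} (hp : p.Prime) (hodd : p ≠ 2) (hx : x ^ p = 1)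
    (hx1 : x ≠ 1) : ∃ W : Subgroup V, W ≠ ⊥ ∧ (∀ g : MulAut V, g * x = x * g → ∀ w ∈ W, g w ∈ W) ∧
      (∀ w ∈ W, x w = w → w = 1) := by
  refine ⟨(norm x p).ker, ?_, ?_, ?_⟩
  · intro h
    apply hx1
    apply MulEquiv.ext
    intro v
    have hinj := (MonoidHom.ker_eq_bot_iff _).1 h
    exact hinj (norm_x x hx v)
  · intro g hg w hw
    rw [MonoidHom.mem_ker] at hw ⊢
    rw [norm_comm x g p hg, hw, map_one]
  · intro w hw hxw
    rw [MonoidHom.mem_ker, norm_apply] at hw
    have h1 : ∀ i, (x ^ i) w = w := by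
      intro i
      induction i with
      | zero => rfl
      | succ i ih => rw [pow_succ]; change (x ^ i) (x w) = w; rw [hxw, ih]
    simp only [h1, Finset.prod_const, Finset.card_range] at hw
    obtain ⟨k, hk⟩ := hp.odd_of_ne_two hodd
    rw [hk, pow_add, pow_mul, pow_two, h2, one_pow, one_mul, pow_one] at hw
    exact hw

/-- the order of a subgroup of an elementary abelian 2-group -/
theorem exists_card (h2 : ∀ v : V, v * v = 1) (W : Subgroup V) : ∃ d, Nat.card W = 2 ^ d := by
  have : Fact (Nat.Prime 2) := ⟨Nat.prime_two⟩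
  have h : IsPGroup 2 W := fun w => ⟨1, Subtype.ext (by
    rw [pow_one, pow_two]; exact h2 w)⟩
  exact IsPGroup.iff_card.1 h

/-- **the lcm bound** -/
theorem exists_pow (h2 : ∀ v : V, v * v = 1) {x : MulAut V} {p : ℕ} (hp : p.Prime) (hodd : p ≠ 2) (hx : x ^ p = 1)
    (hx1 : x ≠ 1) : ∃ d, 1 ≤ d ∧ 2 ^ d ≤ Nat.card V ∧ p ∣ 2 ^ d - 1 ∧
      ∀ (c : MulAut V) (r : ℕ), r.Prime → c ^ r = 1 → c * x = x * c → (∀ v, c v = v → v = 1) → r ∣ 2 ^ d - 1 := by
  obtain ⟨W, hW, hinv, hf⟩ := exists_sub h2 hp hodd hx hx1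
  obtain ⟨d, hd⟩ := exists_card h2 W
  refine ⟨d, ?_, ?_, ?_, ?_⟩
  · rcases Nat.eq_zero_or_pos d with h | h
    · rw [h, pow_zero] at hd
      exact absurd (Subgroup.card_eq_one.1 hd) hW
    · exact h
  · rw [← hd]
    exact Nat.card_le_card_of_injective _ Subtype.val_injective
  · rw [← hd]
    exact dvd_card_sub_one W x hp hx (hinv x rfl) hf
  · intro c r hr hc hcx hcf
    rw [← hd]
    exact dvd_card_sub_one W c hr hc (hinv c hcx) fun w _ => hcf w

end Cfsg.Agent.Omega.TwoF.Cyc
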