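import Cfsg.Agent.Omega.Lie.HeisCover

/-!
# TABLE 2F: the lower bound `2 ^ 54` for the three Fischer groups

* `Cfg t σ`: involutions `t 0, t 1, t 2` and `σ` with `σ ^ 3 = 1`, `(t 0 * t 1) ^ 3 = 1`, every `t i` commutes with
  every `σ * t j * σ⁻¹`, and the commutator `ζ` of `x = t 0 * t 1` and `y = t 1 * t 2` commutes with all of them;
* `Cfg.lb`: if moreover `ζ ≠ 1` and `K` is simple, then `LB K 54`. (In a cover of `K` either `ζ` still commutes
  with `σ`: three commuting Heisenberg pairs with the same `ζ`; or `σ * ζ * σ⁻¹ = ζ * c` with `c` central of order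
  `3`: then `σ` and two of the three pairs give the factor `27`.)
-/

set_option autoImplicit false
set_option linter.dupNamespace false
set_option linter.style.haveILetI false
set_option linter.unusedVariables false

universe u v w

namespace Cfsg.Agent.Omega.TwoF.FiCfg

open Cfsg.Agent.Omega.Lie.Heis

section defs

variable {G : Type*} [Group G]

/-- `x = t 0 * t 1` -/
def X (t : Fin 3 → G) : G := t 0 * t 1

/-- `y = t 1 * t 2` -/
def Y (t : Fin 3 → G) : G := t 1 * t 2

/-- `ζ`, defined by `y * x * y⁻¹ = x * ζ` -/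
def Z (t : Fin 3 → G) : G := (X t)⁻¹ * (Y t * X t * (Y t)⁻¹)

theorem conj_eq (t : Fin 3 → G) : Y t * X t * (Y t)⁻¹ = X t * Z t := by
  rw [Z]; group

theorem map_Z {H : Type*} [Group H] (f : G →* H) (t : Fin 3 → G) : f (Z t) = Z (fun i => f (t i)) := by
  simp only [Z, X, Y, map_mul, map_inv]

/-- The configuration. -/
structure Cfg (t : Fin 3 → G) (σ : G) : Prop where
  t2 : ∀ i, t i ^ 2 = 1
  s3 : σ ^ 3 = 1
  x3 : X t ^ 3 = 1
  arm : ∀ i j, t i * (σ * t j * σ⁻¹) = σ * t j * σ⁻¹ * t i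
  zt : ∀ i, t i * Z t = Z t * t i
  zs : σ * Z t = Z t * σ

/-- The configuration in a central extension. -/
structure Cov (t : Fin 3 → G) (σ c : G) : Prop where
  t2 : ∀ i, t i ^ 2 = 1
  s3 : ∀ g, σ ^ 3 * g = g * σ ^ 3
  x3 : X t ^ 3 = 1
  arm : ∀ i j, t i * (σ * t j * σ⁻¹) = σ * t j * σ⁻¹ * t i
  zt : ∀ i, t i * Z t = Z t * t i
  cc : ∀ g, c * g = g * c
  sz : σ * Z t * σ⁻¹ = Z t * c

/-- conjugation by `σ ^ k` -/
def cj (σ : G) (k : ℕ) : G →* G where
  toFun g := σ ^ k * g * (σ ^ k)⁻¹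
  map_one' := by group
  map_mul' a b := by group

theorem cj_apply (σ : G) (k : ℕ) (g : G) : cj σ k g = σ ^ k * g * (σ ^ k)⁻¹ := rfl

theorem cj_add (σ : G) (k l : ℕ) (g : G) : cj σ (k + l) g = cj σ k (cj σ l g) := by
  simp only [cj_apply, pow_add]; group

end defs

namespace Cov

variable {L : Type v} [Group L] {t : Fin 3 → L} {σ c : L}

/-- The group of the three involutions -/
def A (t : Fin 3 → L) : Subgroup L := Subgroup.closure (Set.range t)

theorem t_mem (i : Fin 3) : t i ∈ A t := Subgroup.subset_closure ⟨i, rfl⟩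

theorem X_mem : X t ∈ A t := mul_mem (t_mem 0) (t_mem 1)

theorem Y_mem : Y t ∈ A t := mul_mem (t_mem 1) (t_mem 2)

theorem Z_mem : Z t ∈ A t := mul_mem (inv_mem X_mem) (mul_mem (mul_mem Y_mem X_mem) (inv_mem Y_mem))

theorem zA (h : Cov t σ c) {g : L} (hg : g ∈ A t) : g * Z t = Z t * g := by
  have h1 : A t ≤ Subgroup.centralizer {Z t} := by
    rw [A, Subgroup.closure_le]
    rintro _ ⟨i, rfl⟩
    rw [SetLike.mem_coe, Subgroup.mem_centralizer_iff]
    rintro _ rfl
    exact (h.zt i).symm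
  have h2 := h1 hg
  rw [Subgroup.mem_centralizer_iff] at h2
  exact (h2 _ rfl).symm

theorem arm1 (h : Cov t σ c) {g k : L} (hg : g ∈ A t) (hk : k ∈ A t) : Commute g (cj σ 1 k) := by
  have h1 : ∀ i, ∀ k ∈ A t, Commute (t i) (cj σ 1 k) := by
    intro i k hk
    have h3 : A t ≤ (Subgroup.centralizer {t i}).comap (cj σ 1) := by
      rw [A, Subgroup.closure_le]
      rintro _ ⟨j, rfl⟩
      rw [SetLike.mem_coe, Subgroup.mem_comap, Subgroup.mem_centralizer_iff]
      rintro _ rfl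
      rw [cj_apply, pow_one]
      exact h.arm i j
    have h4 := h3 hk
    rw [Subgroup.mem_comap, Subgroup.mem_centralizer_iff] at h4
    exact h4 _ rfl
  have h5 : A t ≤ Subgroup.centralizer {cj σ 1 k} := by
    rw [A, Subgroup.closure_le]
    rintro _ ⟨i, rfl⟩
    rw [SetLike.mem_coe, Subgroup.mem_centralizer_iff]
    rintro _ rfl
    exact (h1 i k hk).eq.symm
  have h6 := h5 hg
  rw [Subgroup.mem_centralizer_iff] at h6
  exact (h6 _ rfl).symm

theorem cj_three (h : Cov t σ c) (g : L) : cj σ 3 g = g := by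
  rw [cj_apply, h.s3, mul_inv_cancel_right]

theorem arm2 (h : Cov t σ c) {g k : L} (hg : g ∈ A t) (hk : k ∈ A t) : Commute g (cj σ 2 k) := by
  have h1 : Commute (cj σ 1 g) (cj σ 1 (cj σ 2 k)) := by
    rw [← cj_add]
    show Commute (cj σ 1 g) (cj σ 3 k)
    rw [h.cj_three]
    exact (h.arm1 hk hg).symm
  have h2 : Function.Injective (cj σ 1) := by
    intro a b hab
    rw [cj_apply, cj_apply] at hab
    exact mul_left_cancel (mul_right_cancel hab)
  apply h2
  have := h1.eq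
  rwa [← map_mul, ← map_mul] at this

/-- Different arms commute. -/
theorem arms (h : Cov t σ c) {k l : Fin 3} (hkl : k ≠ l) {g m : L} (hg : g ∈ A t) (hm : m ∈ A t) :
    Commute (cj σ k g) (cj σ l m) := by
  have key : ∀ (a b : ℕ) {g m : L}, g ∈ A t → m ∈ A t → (b = 1 ∨ b = 2) → Commute (cj σ a g) (cj σ (a + b) m) := by
    intro a b g m hg hm hb
    rw [cj_add]
    have h1 : Commute g (cj σ b m) := by
      rcases hb with rfl | rfl
      · exact h.arm1 hg hm
      · exact h.arm2 hg hm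
    exact h1.map (cj σ a)
  rcases lt_or_gt_of_ne hkl with h1 | h1
  · have h2 : (l : ℕ) = k + (l - k) := by omega
    rw [h2]
    exact key k (l - k) hg hm (by omega)
  · have h2 : (k : ℕ) = l + (k - l) := by omega
    rw [h2]
    exact (key l (k - l) hm hg (by omega)).symm

theorem c_pow (h : Cov t σ c) (k : ℕ) (g : L) : c ^ k * g = g * c ^ k :=
  (Commute.pow_left (show Commute c g from h.cc g) k).eq

theorem cjZ (h : Cov t σ c) (k : ℕ) : cj σ k (Z t) = Z t * c ^ k := by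
  induction k with
  | zero => rw [cj_apply]; simp
  | succ k ih =>
    have h1 : cj σ k c = c := by rw [cj_apply, ← h.cc, mul_inv_cancel_right]
    rw [cj_add, cj_apply σ 1, pow_one, h.sz, map_mul, ih, h1, mul_assoc, ← pow_succ]

theorem Y_conj : Y t * X t * (Y t)⁻¹ = X t * Z t := conj_eq t

theorem z3 (h : Cov t σ c) : Z t ^ 3 = 1 := by
  have h1 : (X t * Z t) ^ 3 = 1 := by
    rw [← conj_eq, conj_pow, h.x3]; group
  have h2 : Commute (X t) (Z t) := h.zA X_mem
  rwa [h2.mul_pow, h.x3, one_mul] at h1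

theorem c3 (h : Cov t σ c) : c ^ 3 = 1 := by
  have h1 : (Z t * c) ^ 3 = 1 := by
    rw [← h.sz, conj_pow, h.z3]; group
  have h2 : Commute (Z t) c := (h.cc _).symm
  rwa [h2.mul_pow, h.z3, one_mul] at h1

/-- The relation in the `k`-th arm. -/
theorem conjk (h : Cov t σ c) (k : ℕ) : cj σ k (Y t) * cj σ k (X t) * (cj σ k (Y t))⁻¹ =
    cj σ k (X t) * (Z t * c ^ k) := by
  rw [← h.cjZ, ← map_inv, ← map_mul, ← map_mul, conj_eq, map_mul]

/-- `ζ` commutes with all arms. -/
theorem zk (h : Cov t σ c) (k : ℕ) {g : L} (hg : g ∈ A t) : Z t * cj σ k g = cj σ k g * Z t := by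
  have h1 : cj σ k (Z t) * cj σ k g = cj σ k g * cj σ k (Z t) := by
    rw [← map_mul, ← map_mul, h.zA hg]
  rw [h.cjZ, mul_assoc, h.c_pow, ← mul_assoc, ← mul_assoc] at h1
  exact mul_right_cancel h1

theorem zk' (h : Cov t σ c) (k l : ℕ) {g : L} (hg : g ∈ A t) :
    (Z t * c ^ l) * cj σ k g = cj σ k g * (Z t * c ^ l) := by
  rw [mul_assoc, h.c_pow, ← mul_assoc, h.zk k hg, mul_assoc]

theorem xk3 (h : Cov t σ c) (k : ℕ) : cj σ k (X t) ^ 3 = 1 := by
  rw [← map_pow, h.x3, map_one]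

/-- `c = 1`: a Heisenberg configuration with three pairs. -/
theorem heis (h : Cov t σ c) (hc : c = 1) :
    Heis 3 3 (Z t) (fun k : Fin 3 => cj σ k (X t)) (fun k : Fin 3 => cj σ k (Y t)) where
  prime := Nat.prime_three
  zr := h.z3
  xr := fun i => h.xk3 i
  zx := fun i => h.zk i X_mem
  zy := fun i => h.zk i Y_mem
  xx := fun i j => by
    rcases eq_or_ne i j with rfl | hij
    · rfl
    · exact h.arms hij X_mem X_mem
  yx := fun i j hij => h.arms hij Y_mem X_mem
  conj := fun i => by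
    have := h.conjk i
    rwa [hc, one_pow, mul_one] at this

/-- **The bound for `c` fixed point free.** -/
theorem bound {V : Type w} [AddCommGroup V] [DistribMulAction L V] [Finite V] (h : Cov t σ c)
    (h2 : IsPGroup 2 (Multiplicative V)) (hne : ∃ v : V, v ≠ 0) (hc : ∀ v : V, c • v = v → v = 0) :
    2 ^ 54 ≤ Nat.card V := by
  have ht := tors_of_two (A := V) Nat.prime_three h2 (by norm_num)
  have hc3 := h.c3
  have hc2 : ∀ v : V, (c ^ 2) • v = v → v = 0 := by
    intro v hv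
    apply hc
    have h1 : c * c ^ 2 = 1 := by rw [← pow_succ']; exact hc3
    calc c • v = c • (c ^ 2) • v := by rw [hv]
      _ = v := by rw [smul_smul, h1, one_smul]
  -- first step: `σ`
  let B1 : AddSubgroup V :=
    { carrier := {v | Z t • v = v}
      zero_mem' := smul_zero _
      add_mem' := fun {a b} ha hb => by
        show Z t • (a + b) = a + b
        rw [smul_add, show Z t • a = a from ha, show Z t • b = b from hb]
      neg_mem' := fun {a} ha => by
        show Z t • (-a) = -a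
        rw [smul_neg, show Z t • a = a from ha] }
  have hs1 : Step 3 c (Z t) σ (⊤ : AddSubgroup V) :=
    { prime := Nat.prime_three
      tors := fun v _ => ht v
      zr := hc3
      xr := h.z3
      zx := h.cc _
      zy := h.cc _
      conj := h.sz
      Bz := fun _ _ => trivial
      Bx := fun _ _ => trivial
      By := fun _ _ => trivial
      By' := fun _ _ => trivial
      free := fun v _ => hc v }
  obtain ⟨v0, hv0⟩ := hne
  obtain ⟨v1, -, hv1, hv1'⟩ := hs1.exists_ne trivial hv0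
  have hcard1 : Nat.card B1 ^ 3 ≤ Nat.card (⊤ : AddSubgroup V) :=
    hs1.card_pow_le (C := B1) (fun v => ⟨fun hv => ⟨trivial, hv⟩, fun hv => hv.2⟩)
  -- invariance of `B1`
  have hB1 : ∀ g : L, Z t * g = g * Z t → ∀ v ∈ B1, g • v ∈ B1 := by
    intro g hg v hv
    show Z t • g • v = g • v
    rw [smul_smul, hg, mul_smul, show Z t • v = v from hv]
  have hinv : ∀ {a g : L}, a * g = g * a → a * g⁻¹ = g⁻¹ * a := fun {a g} hg =>
    (Commute.inv_right (show Commute a g from hg)).eq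
  have hfree : ∀ k : ℕ, k = 1 ∨ k = 2 → ∀ v ∈ B1, (Z t * c ^ k) • v = v → v = 0 := by
    intro k hk v hv hvk
    have h1 : c ^ k • v = v := by
      rw [← h.c_pow, mul_smul, show Z t • v = v from hv] at hvk
      exact hvk
    rcases hk with rfl | rfl
    · rw [pow_one] at h1; exact hc v h1
    · exact hc2 v h1
  have hzc : ∀ k : ℕ, Z t * (Z t * c ^ k) = (Z t * c ^ k) * Z t := by
    intro k
    rw [mul_assoc, h.c_pow]
  have hzc3 : ∀ k : ℕ, (Z t * c ^ k) ^ 3 = 1 := by
    intro k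
    rw [← h.cjZ, ← map_pow, h.z3, map_one]
  -- second step: first arm
  let B2 : AddSubgroup V :=
    { carrier := {v | v ∈ B1 ∧ cj σ 1 (X t) • v = v}
      zero_mem' := ⟨B1.zero_mem, smul_zero _⟩
      add_mem' := fun {a b} ha hb => ⟨B1.add_mem ha.1 hb.1, by
        rw [smul_add, ha.2, hb.2]⟩
      neg_mem' := fun {a} ha => ⟨B1.neg_mem ha.1, by
        rw [smul_neg, ha.2]⟩ }
  have hs2 : Step 3 (Z t * c ^ 1) (cj σ 1 (X t)) (cj σ 1 (Y t)) B1 :=
    { prime := Nat.prime_three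
      tors := fun v _ => ht v
      zr := hzc3 1
      xr := h.xk3 1
      zx := h.zk' 1 1 X_mem
      zy := h.zk' 1 1 Y_mem
      conj := h.conjk 1
      Bz := hB1 _ (hzc 1)
      Bx := hB1 _ (h.zk 1 X_mem)
      By := hB1 _ (h.zk 1 Y_mem)
      By' := hB1 _ (hinv (h.zk 1 Y_mem))
      free := hfree 1 (Or.inl rfl) }
  obtain ⟨v2, hv2B, hv2, hv2'⟩ := hs2.exists_ne (show v1 ∈ B1 from hv1) hv1'
  have hcard2 : Nat.card B2 ^ 3 ≤ Nat.card B1 := hs2.card_pow_le (C := B2) (fun v => Iff.rfl)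
  have hB2 : ∀ g : L, Z t * g = g * Z t → cj σ 1 (X t) * g = g * cj σ 1 (X t) → ∀ v ∈ B2, g • v ∈ B2 := by
    intro g hg hg' v hv
    refine ⟨hB1 g hg v hv.1, ?_⟩
    rw [smul_smul, hg', mul_smul, hv.2]
  have h12 : ∀ {g : L}, g ∈ A t → cj σ 1 (X t) * cj σ 2 g = cj σ 2 g * cj σ 1 (X t) := fun {g} hg =>
    (h.arms (k := 1) (l := 2) (by decide) X_mem hg).eq
  -- third step: second arm
  let B3 : AddSubgroup V :=
    { carrier := {v | v ∈ B2 ∧ cj σ 2 (X t) • v = v}
      zero_mem' := ⟨B2.zero_mem, smul_zero _⟩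
      add_mem' := fun {a b} ha hb => ⟨B2.add_mem ha.1 hb.1, by
        rw [smul_add, ha.2, hb.2]⟩
      neg_mem' := fun {a} ha => ⟨B2.neg_mem ha.1, by
        rw [smul_neg, ha.2]⟩ }
  have hs3 : Step 3 (Z t * c ^ 2) (cj σ 2 (X t)) (cj σ 2 (Y t)) B2 :=
    { prime := Nat.prime_three
      tors := fun v _ => ht v
      zr := hzc3 2
      xr := h.xk3 2
      zx := h.zk' 2 2 X_mem
      zy := h.zk' 2 2 Y_mem
      conj := h.conjk 2
      Bz := hB2 _ (hzc 2) (h.zk' 1 2 X_mem).symm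
      Bx := hB2 _ (h.zk 2 X_mem) (h12 X_mem)
      By := hB2 _ (h.zk 2 Y_mem) (h12 Y_mem)
      By' := hB2 _ (hinv (h.zk 2 Y_mem)) (hinv (h12 Y_mem))
      free := fun v hv => hfree 2 (Or.inr rfl) v hv.1 }
  obtain ⟨v3, hv3B, hv3, hv3'⟩ := hs3.exists_ne (show v2 ∈ B2 from ⟨hv2B, hv2⟩) hv2'
  have hcard3 : Nat.card B3 ^ 3 ≤ Nat.card B2 := hs3.card_pow_le (C := B3) (fun v => Iff.rfl)
  -- `|B3| ≥ 4`
  have hmod : Nat.card B3 ≡ 1 [MOD 3] := by
    apply modEq_one Nat.prime_three hc3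
    · intro v hv
      refine ⟨hB2 c (h.cc _).symm (h.cc _).symm v hv.1, ?_⟩
      rw [smul_smul, ← h.cc, mul_smul, hv.2]
    · exact fun v _ => hc v
  have h4 : 4 ≤ Nat.card B3 := by
    have h5 : 1 < Nat.card B3 := by
      haveI : Nontrivial B3 := ⟨⟨⟨v3, hv3B, hv3⟩, 0, fun e => hv3' (congrArg Subtype.val e)⟩⟩
      exact Finite.one_lt_card
    unfold Nat.ModEq at hmod
    omega
  have h5 : Nat.card (⊤ : AddSubgroup V) = Nat.card V := Nat.card_congr AddSubgroup.topEquiv.toEquiv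
  calc 2 ^ 54 = ((4 ^ 3) ^ 3) ^ 3 := by norm_num
    _ ≤ ((Nat.card B3 ^ 3) ^ 3) ^ 3 := by gcongr
    _ ≤ (Nat.card B2 ^ 3) ^ 3 := by gcongr
    _ ≤ Nat.card B1 ^ 3 := by gcongr
    _ ≤ Nat.card V := by rw [← h5]; exact hcard1

end Cov

section lift

variable {K : Type u} {L : Type v} [Group K] [Group L] {π : L →* K}

/-- The configuration lifts to covers with odd kernel. -/
theorem Cfg.lift {t : Fin 3 → K} {σ : K} (h : Cfg t σ) (hπ : Function.Surjective π)
    (hc : π.ker ≤ Subgroup.center L) [Finite π.ker] (ho : Odd (Nat.card π.ker)) :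
    ∃ (t' : Fin 3 → L) (σ' c : L), (∀ i, π (t' i) = t i) ∧ c ∈ π.ker ∧ Cov t' σ' c := by
  have hco : Nat.Coprime 2 (Nat.card π.ker) := ho.coprime_two_left
  choose t' ht' ht2 using fun i => exists_lift hπ hc hco (h.t2 i)
  obtain ⟨σ', hσ'⟩ := hπ σ
  have hZ : π (Z t') = Z t := by rw [map_Z]; simp only [ht']
  have hzt : ∀ i, t' i * Z t' = Z t' * t' i := fun i =>
    comm_of_comm hc hco (ht2 i) (by rw [hZ, ht', h.zt])
  have hcz : (Z t')⁻¹ * (σ' * Z t' * σ'⁻¹) ∈ π.ker := by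
    rw [MonoidHom.mem_ker, map_mul, map_mul, map_mul, map_inv, map_inv, hZ, hσ', h.zs]
    group
  have hcen : ∀ {a : L}, a ∈ π.ker → ∀ g, a * g = g * a := fun {a} ha g =>
    (Subgroup.mem_center_iff.1 (hc ha) g).symm
  refine ⟨t', σ', (Z t')⁻¹ * (σ' * Z t' * σ'⁻¹), ht', hcz, ht2, ?_, ?_, ?_, hzt, ?_, by group⟩
  · intro g
    refine hcen ?_ g
    rw [MonoidHom.mem_ker, map_pow, hσ', h.s3]
  · -- `x ^ 3` is central, inverted by `t' 0`, of odd order
    have hk : X t' ^ 3 ∈ π.ker := by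
      rw [MonoidHom.mem_ker, map_pow]
      have : π (X t') = X t := by simp only [X, map_mul, ht']
      rw [this, h.x3]
    have h1 : t' 0 * X t' * (t' 0)⁻¹ = (X t')⁻¹ := by
      have e0 : t' 0 * t' 0 = 1 := by rw [← pow_two]; exact ht2 0
      have e1 : t' 1 * t' 1 = 1 := by rw [← pow_two]; exact ht2 1
      have i0 : (t' 0)⁻¹ = t' 0 := inv_eq_of_mul_eq_one_left e0
      have i1 : (t' 1)⁻¹ = t' 1 := inv_eq_of_mul_eq_one_left e1
      rw [X, mul_inv_rev, i0, i1, ← mul_assoc, e0, one_mul]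
    have h2 : t' 0 * X t' ^ 3 * (t' 0)⁻¹ = (X t' ^ 3)⁻¹ := by
      rw [← conj_pow, h1, inv_pow]
    have h3 : t' 0 * X t' ^ 3 * (t' 0)⁻¹ = X t' ^ 3 := by
      rw [← hcen hk, mul_inv_cancel_right]
    have h4 : (X t' ^ 3) ^ 2 = 1 := by
      rw [pow_two]
      nth_rewrite 2 [← h3]
      rw [h2, mul_inv_cancel]
    have h5 : orderOf (X t' ^ 3) ∣ 2 := orderOf_dvd_of_pow_eq_one h4
    have h6 : orderOf (X t' ^ 3) ∣ Nat.card π.ker := by
      have := orderOf_dvd_natCard (⟨X t' ^ 3, hk⟩ : π.ker)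
      rwa [Subgroup.orderOf_mk] at this
    exact orderOf_eq_one_iff.1 (Nat.eq_one_of_dvd_coprimes hco h5 h6)
  · intro i j
    exact comm_of_comm hc hco (ht2 i) (by rw [map_mul, map_mul, map_inv, ht', ht', hσ', h.arm])
  · exact hcen hcz

/-- **The lower bound `2 ^ 54`.** -/
theorem Cfg.lb {K : Type u} [Group K] [IsSimpleGroup K] {t : Fin 3 → K} {σ : K} (h : Cfg t σ) (hz : Z t ≠ 1) :
    LB.{u, v, w} K 54 := by
  apply LB.of_irr
  intro L _ _ π hπ hc ho hL V _ _ h2 φ hφ hirr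
  obtain ⟨t', σ', c, ht', hck, hC⟩ := h.lift hπ hc ho
  have hZ : π (Z t') = Z t := by rw [map_Z]; simp only [ht']
  have hZ1 : φ (Z t') ≠ 1 := by
    intro h5
    have h6 : Z t' = 1 := hφ (h5.trans (map_one φ).symm)
    rw [h6, map_one] at hZ
    exact hz hZ.symm
  by_cases hc1 : c = 1
  · have h3 := (hC.heis hc1).two_pow_le_mulAut φ h2 (by norm_num) hZ1
    have h4 : orderOf (2 : ZMod 3) = 2 := by
      rw [orderOf_eq_iff (by norm_num)]
      refine ⟨by decide, fun m hm hm0 => ?_⟩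
      interval_cases m
      decide
    rw [h4] at h3
    exact h3
  · letI := addAct φ
    haveI : Finite (Additive V) := inferInstanceAs (Finite V)
    have h3 : ∃ v : Additive V, v ≠ 0 := by
      by_contra hcon
      push Not at hcon
      apply hZ1
      ext v
      have h4 : ∀ v : V, v = 1 := fun v => congrArg Additive.toMul (hcon (Additive.ofMul v))
      exact (h4 _).trans (h4 _).symm
    have h4 : IsPGroup 2 (Multiplicative (Additive V)) := by
      intro g
      obtain ⟨k, hk⟩ := h2 (Additive.toMul (Multiplicative.toAdd g))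
      exact ⟨k, hk⟩
    exact hC.bound (V := Additive V) h4 h3 (fun v hv =>
      hirr.free (hc hck) (fun h5 => hc1 (hφ (h5.trans (map_one φ).symm))) (x := v.toMul) hv)

end lift

end Cfsg.Agent.Omega.TwoF.FiCfg
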