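import Cfsg.Agent.Omega.TwoF.FiCfg
import Cfsg.Agent.Fischer.Derived

/-!
# TABLE 2F: the configuration of `FiCfg` from the spider relation

`s 0, …, s 7` = printed `b, c, d, e, f, g, h, i` with the Coxeter relations of `Y₂₃₂` (`Fischer.Derived`). The
diagram without `g` is affine of type `E₆`; the spider relation `(dcbdefdhi)^10 = 1` kills a lattice of translations.
`t 0 = b`, `t 1` = the reflection in the highest root of `⟨c, d, e, f, h, i⟩`, `t 2 = c`, `σ` = the rotation of the
affine diagram.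
-/

set_option autoImplicit false
set_option linter.dupNamespace false

universe u v w

namespace Cfsg.Agent.Omega.TwoF.FiCfg

open Cfsg.Agent.Fischer.Derived

/-- the word of `t i` -/
def tw : Fin 3 → List (Fin 8) :=
  ![[0], [1, 2, 6, 7, 3, 2, 6, 4, 3, 2, 1, 2, 3, 4, 6, 2, 3, 7, 6, 2, 1], [1]]

/-- the word of `σ` -/
def sw : List (Fin 8) := [4, 3, 2, 6, 7, 1, 2, 6, 3, 4, 2, 3, 1, 2, 6, 7]

/-- the word of `x` -/
def xw : List (Fin 8) := tw 0 ++ tw 1

/-- the word of `y` -/
def yw : List (Fin 8) := tw 1 ++ tw 2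

/-- the word of `ζ` -/
def zw : List (Fin 8) := xw.reverse ++ (yw ++ xw ++ yw.reverse)

theorem chk_t2 : ∀ i, chk (rep 2 (tw i)) [] = true := by decide +kernel
theorem chk_s3 : chk (rep 3 sw) [] = true := by decide +kernel
theorem chk_x3 : chk (rep 3 xw) ([0] ++ rep 10 spider ++ [0] ++ rep 10 spider.reverse) = true := by decide +kernel
theorem chk_arm : ∀ i j, chk (tw i ++ (sw ++ tw j ++ sw.reverse)) (sw ++ tw j ++ sw.reverse ++ tw i) = true := by
  decide +kernel
theorem chk_z0 : chk (tw 0 ++ zw ++ tw 0 ++ zw.reverse) (rep 3 xw) = true := by decide +kernel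
theorem chk_z1 : chk (tw 1 ++ zw ++ tw 1 ++ zw.reverse) (rep 3 xw) = true := by decide +kernel
theorem chk_z2 : chk (tw 2 ++ zw ++ tw 2 ++ zw.reverse) ([0, 1, 0] ++ rep 3 xw ++ [0, 1, 0]) = true := by
  decide +kernel
theorem chk_zs : chk (sw ++ zw ++ sw.reverse ++ zw.reverse) ([1] ++ rep 10 spider ++ [1] ++
    ([7, 2, 3, 1, 2] ++ rep 10 spider ++ [2, 1, 3, 2, 7])) = true := by decide +kernel

/-- `x` from `ζ` -/
theorem chk_xz : chk xw ([1, 2] ++ zw.reverse ++ [2, 1] ++ ([0, 1, 2] ++ zw ++ [2, 1, 0])) = true := by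
  decide +kernel

section

variable {G : Type*} [Group G] {s : Fin 8 → G}

/-- the involutions -/
def tv (s : Fin 8 → G) (i : Fin 3) : G := ev s (tw i)

theorem X_tv (s : Fin 8 → G) : X (tv s) = ev s xw := by
  rw [X, tv, tv, xw, ev_append]

theorem Y_tv (s : Fin 8 → G) : Y (tv s) = ev s yw := by
  rw [Y, tv, tv, yw, ev_append]

theorem Z_tv (hs : M8.IsLiftable s) : Z (tv s) = ev s zw := by
  rw [Z, X_tv, Y_tv, zw, ev_append, ev_append, ev_append, ev_reverse hs, ev_reverse hs]

theorem ev0 (s : Fin 8 → G) : ev s [] = 1 := ev_nil s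

theorem ev_one (s : Fin 8 → G) (i : Fin 8) : ev s [i] = s i := by
  rw [ev_cons, ev_nil, mul_one]

/-- `x³ = 1` -/
theorem x3 (hs : M8.IsLiftable s) (hsp : ev s spider ^ 10 = 1) : ev s xw ^ 3 = 1 := by
  have h := ev_eq_ev hs chk_x3
  rw [ev_rep, ev_append, ev_append, ev_append, ev_rep, ev_rep, ev_reverse hs, inv_pow, hsp, inv_one, mul_one,
    mul_one, ev_one, sq hs] at h
  exact h

theorem inv_tv (hs : M8.IsLiftable s) (i : Fin 3) : tv s i * tv s i = 1 := by
  have h := ev_eq_ev hs (chk_t2 i)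
  rwa [ev_rep, ev_nil, pow_two] at h

/-- **The configuration from the spider relation.** -/
theorem cfg (hs : M8.IsLiftable s) (hsp : ev s spider ^ 10 = 1) : Cfg (tv s) (ev s sw) where
  t2 := fun i => by rw [pow_two]; exact inv_tv hs i
  s3 := by
    have h := ev_eq_ev hs chk_s3
    rwa [ev_rep, ev_nil] at h
  x3 := by rw [X_tv]; exact x3 hs hsp
  arm := fun i j => by
    have h := ev_eq_ev hs (chk_arm i j)
    simp only [ev_append, ev_reverse hs] at h
    exact h
  zt := by
    have h3 := x3 hs hsp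
    -- from `u * ζ * u * ζ⁻¹ = 1`, `u ^ 2 = 1`
    have key : ∀ u : G, u * u = 1 → u * ev s zw * u * (ev s zw)⁻¹ = 1 → u * ev s zw = ev s zw * u := by
      intro u hu h
      have h1 : u * ev s zw * u = ev s zw := mul_inv_eq_one.1 h
      calc u * ev s zw = (u * ev s zw * u) * u := by rw [mul_assoc _ u u, hu, mul_one]
        _ = ev s zw * u := by rw [h1]
    intro i
    rw [Z_tv hs]
    fin_cases i
    · apply key _ (inv_tv hs 0)
      have h := ev_eq_ev hs chk_z0
      simp only [ev_append, ev_reverse hs, ev_rep, h3] at h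
      exact h
    · apply key _ (inv_tv hs 1)
      have h := ev_eq_ev hs chk_z1
      simp only [ev_append, ev_reverse hs, ev_rep, h3] at h
      exact h
    · apply key _ (inv_tv hs 2)
      have h := ev_eq_ev hs chk_z2
      simp only [ev_append, ev_reverse hs, ev_rep, h3, mul_one] at h
      have h4 : ev s [0, 1, 0] * ev s [0, 1, 0] = 1 := by
        have h5 : ev s [0, 1, 0] = (ev s [0, 1, 0])⁻¹ := by
          rw [← ev_reverse hs]; rfl
        nth_rewrite 2 [h5]
        exact mul_inv_cancel _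
      rw [h4] at h
      exact h
  zs := by
    have h := ev_eq_ev hs chk_zs
    simp only [ev_append, ev_reverse hs, ev_rep, hsp, mul_one] at h
    have h4 : ev s [1] * ev s [1] = 1 := by rw [ev_one, sq hs]
    have h5 : ev s [7, 2, 3, 1, 2] * ev s [2, 1, 3, 2, 7] = 1 := by
      have h6 : ev s [2, 1, 3, 2, 7] = (ev s [7, 2, 3, 1, 2])⁻¹ := by
        rw [← ev_reverse hs]; rfl
      rw [h6, mul_inv_cancel]
    rw [h4, h5, mul_one, mul_inv_eq_one, mul_inv_eq_iff_eq_mul] at h
    rw [Z_tv hs]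
    exact h

/-- `ζ ≠ 1` as soon as there is an involution `a` commuting with `c, d, e, f, h, i` and `(a * b) ^ 3 = 1`,
`a ≠ b`. -/
theorem Z_ne (hs : M8.IsLiftable s) {a : G} (ha : a * a = 1) (hb : (a * s 0) ^ 3 = 1) (hab : a ≠ s 0)
    (hc : ∀ i : Fin 8, i ≠ 0 → i ≠ 5 → a * s i = s i * a) : Z (tv s) ≠ 1 := by
  intro hz
  rw [Z_tv hs] at hz
  have h := ev_eq_ev hs chk_xz
  simp only [ev_append, ev_reverse hs, hz, inv_one, mul_one, xw] at h
  have h1 : ev s [1, 2] * ev s [2, 1] = 1 := by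
    have h6 : ev s [2, 1] = (ev s [1, 2])⁻¹ := by
      rw [← ev_reverse hs]; rfl
    rw [h6, mul_inv_cancel]
  have h2 : ev s [0, 1, 2] * ev s [2, 1, 0] = 1 := by
    have h6 : ev s [2, 1, 0] = (ev s [0, 1, 2])⁻¹ := by
      rw [← ev_reverse hs]; rfl
    rw [h6, mul_inv_cancel]
  rw [h1, h2, mul_one] at h
  -- `b = b0`
  have h3 : s 0 = ev s (tw 1) := by
    have h4 : ev s (tw 0) = s 0 := ev_one s 0
    have h5 := inv_tv hs 1
    rw [← h4]
    calc ev s (tw 0) = ev s (tw 0) * ev s (tw 1) * ev s (tw 1) := by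
          rw [mul_assoc, show ev s (tw 1) * ev s (tw 1) = 1 from h5, mul_one]
      _ = ev s (tw 1) := by rw [h, one_mul]
  have h4 : ∀ w : List (Fin 8), (∀ i ∈ w, i ≠ 0 ∧ i ≠ 5) → a * ev s w = ev s w * a := by
    intro w
    induction w with
    | nil => intro _; rw [ev_nil, one_mul, mul_one]
    | cons i w ih =>
      intro hw
      have h5 := hw i List.mem_cons_self
      rw [ev_cons, ← mul_assoc, hc i h5.1 h5.2, mul_assoc, ih (fun j hj => hw j (List.mem_cons_of_mem _ hj)),
        mul_assoc]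
  have h5 : a * s 0 = s 0 * a := by
    rw [h3]
    exact h4 _ (by decide)
  apply hab
  have h6 : (a * s 0) ^ 3 = a * s 0 := by
    have h7 : Commute a (s 0) := h5
    rw [h7.mul_pow, pow_succ, pow_two, ha, one_mul, pow_succ, pow_two, sq hs, one_mul]
  rw [hb] at h6
  calc a = a * s 0 * s 0 := by rw [mul_assoc, sq hs, mul_one]
    _ = s 0 := by rw [← h6, one_mul]

end

end Cfsg.Agent.Omega.TwoF.FiCfg
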