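import Cfsg.Agent.ClassificationK.GTwoModel

/-!
# The 2-rank of the Sylow 2-subgroup of `G₂(q)`, `q` odd (TABLE 2F)

`card_le_T`: a subgroup of `T (2 * n)`, `n ≥ 1`, with all squares trivial has order at most 8.
-/

set_option autoImplicit false

namespace Cfsg.Agent.Omega.TwoF.GTwoInn

open Cfsg.Agent.ClassificationK.GTwoModel Subgroup

variable {m : ℕ}

/-- at most two elements of order at most two in a cyclic group -/
theorem card_two_torsion [NeZero m] : Nat.card {x : ZMod m // x + x = 0} ≤ 2 := by
  classical
  have h := IsAddCyclic.card_nsmul_eq_zero_le (α := ZMod m) (n := 2) (by norm_num)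
  rw [Nat.card_eq_fintype_card, Fintype.card_subtype]
  refine le_trans (le_of_eq ?_) h
  congr 1
  ext x
  simp [two_mul]

/-- the two signs -/
def sgn : Bool → ℤˣ
  | true => -1
  | false => 1

theorem sgn_xor (a b : Bool) : sgn (xor a b) = sgn a * sgn b := by
  cases a <;> cases b <;> decide

theorem sgn_eq_one {a : Bool} : sgn a = 1 ↔ a = false := by
  cases a <;> decide

/-- the quotient of `T m` by the abelian subgroup -/
def quo (m : ℕ) : T m →* ℤˣ × ℤˣ where
  toFun x := (sgn x.e, sgn x.d)
  map_one' := rfl
  map_mul' x y := by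
    obtain ⟨i, j, e, d⟩ := x
    obtain ⟨i', j', e', d'⟩ := y
    rw [T.mul_mk]
    exact Prod.ext (sgn_xor e e') (sgn_xor d d')

theorem mem_ker_quo {x : T m} : x ∈ (quo m).ker ↔ x.e = false ∧ x.d = false := by
  rw [MonoidHom.mem_ker]
  constructor
  · intro h
    exact ⟨sgn_eq_one.1 (congrArg Prod.fst h), sgn_eq_one.1 (congrArg Prod.snd h)⟩
  · rintro ⟨h1, h2⟩
    exact Prod.ext (sgn_eq_one.2 h1) (sgn_eq_one.2 h2)

/-- **the 2-rank of `T m` is at most three.** -/
theorem card_le_T [NeZero m] (A : Subgroup (T m)) (hA : ∀ a ∈ A, a * a = 1) : Nat.card A ≤ 8 := by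
  classical
  have hfin : Finite (T m) := Finite.of_equiv _ (T.equivProd m).symm
  let f : A →* ℤˣ × ℤˣ := (quo m).comp A.subtype
  have h1 := f.ker.card_mul_index
  rw [Subgroup.index_ker] at h1
  have hker : ∀ a : f.ker, ((a : A) : T m).e = false ∧ ((a : A) : T m).d = false := fun a =>
    mem_ker_quo.1 (MonoidHom.mem_ker.1 a.2)
  have hsq : ∀ a : f.ker, ((a : A) : T m).i + ((a : A) : T m).i = 0 ∧ ((a : A) : T m).j + ((a : A) : T m).j = 0 := by
    intro a
    have h2 := hA (a : A) (a : A).2
    obtain ⟨h3, h4⟩ := hker a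
    generalize ((a : A) : T m) = x at h2 h3 h4
    obtain ⟨i, j, e, d⟩ := x
    simp only at h3 h4
    subst h3 h4
    rw [T.mul_mk, T.one_def] at h2
    simp only [sg_false, cond_false, one_mul, T.mk.injEq] at h2
    exact ⟨h2.1, h2.2.1⟩
  by_cases hd : ∃ b ∈ A, b.d = true
  · -- some element swaps
    obtain ⟨b, hb, hbd⟩ := hd
    have h2 : Nat.card f.ker ≤ 2 := by
      refine le_trans ?_ (card_two_torsion (m := m))
      refine Nat.card_le_card_of_injective (fun a : f.ker => (⟨((a : A) : T m).i, (hsq a).1⟩ :
        {x : ZMod m // x + x = 0})) ?_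
      have hij : ∀ a : f.ker, ((a : A) : T m).j = ((a : A) : T m).i := by
        intro a
        have hc : b * ((a : A) : T m) = ((a : A) : T m) * b := by
          have h3 := hA _ (mul_mem hb (a : A).2)
          have h4 := hA b hb
          have h5 := hA _ (a : A).2
          calc b * ((a : A) : T m) = (b * b) * (b * ((a : A) : T m)) * (((a : A) : T m) * ((a : A) : T m)) := by
                rw [h4, h5, one_mul, mul_one]
            _ = b * (b * (b * ((a : A) : T m)) * ((a : A) : T m)) * ((a : A) : T m) := by group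
            _ = ((a : A) : T m) * b := by
                have h6 : b * ((a : A) : T m) * (b * ((a : A) : T m)) = 1 := h3
                have h7 : ((a : A) : T m) * b = b⁻¹ * ((a : A) : T m)⁻¹ := by
                  rw [← mul_inv_rev, eq_inv_iff_mul_eq_one]
                  calc ((a : A) : T m) * b * (((a : A) : T m) * b)
                      = b⁻¹ * (b * ((a : A) : T m) * (b * ((a : A) : T m))) * b := by group
                    _ = 1 := by rw [h6]; group
                have h8 : b⁻¹ = b := inv_eq_of_mul_eq_one_left h4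
                have h9 : ((a : A) : T m)⁻¹ = ((a : A) : T m) := inv_eq_of_mul_eq_one_left h5
                rw [h7, h8, h9]
                calc b * (b * (b * ((a : A) : T m)) * ((a : A) : T m)) * ((a : A) : T m)
                    = (b * b) * (b * (((a : A) : T m) * ((a : A) : T m))) * ((a : A) : T m) := by group
                  _ = _ := by rw [h4, h5, one_mul, mul_one]
        obtain ⟨h3, h4⟩ := hker a
        obtain ⟨h5, h6⟩ := hsq a
        generalize ((a : A) : T m) = x at hc h3 h4 h5 h6 ⊢
        obtain ⟨i, j, e, d⟩ := x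
        obtain ⟨i', j', e', d'⟩ := b
        simp only at h3 h4 h5 h6 hbd ⊢
        subst h3 h4 hbd
        rw [T.mul_mk, T.mul_mk] at hc
        simp only [sg_false, cond_false, cond_true, one_mul, T.mk.injEq] at hc
        have h7 := hc.1
        rw [add_comm i i'] at h7
        have h8 := add_left_cancel h7
        cases e'
        · simpa using h8
        · rw [sg_true, neg_one_mul] at h8
          rw [← h8, eq_neg_iff_add_eq_zero]
          exact h6
      intro a a' haa
      have h3 : ((a : A) : T m).i = ((a' : A) : T m).i := congrArg Subtype.val haa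
      apply Subtype.ext
      apply Subtype.ext
      apply T.ext
      · exact h3
      · rw [hij, hij, h3]
      · rw [(hker a).1, (hker a').1]
      · rw [(hker a).2, (hker a').2]
    have h3 : Nat.card f.range ≤ 4 := by
      refine le_trans (Subgroup.card_le_card_group f.range) ?_
      rw [Nat.card_eq_fintype_card]
      decide
    rw [← h1]
    calc Nat.card f.ker * Nat.card f.range ≤ 2 * 4 := Nat.mul_le_mul h2 h3
      _ = 8 := rfl
  · -- no element swaps
    have hd' : ∀ b ∈ A, b.d = false := by
      intro b hb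
      by_contra h
      exact hd ⟨b, hb, by simpa using h⟩
    have h2 : Nat.card f.ker ≤ 4 := by
      have h4 : Nat.card ({x : ZMod m // x + x = 0} × {x : ZMod m // x + x = 0}) ≤ 2 * 2 := by
        rw [Nat.card_prod]
        exact Nat.mul_le_mul card_two_torsion card_two_torsion
      refine le_trans ?_ h4
      refine Nat.card_le_card_of_injective (fun a : f.ker => ((⟨((a : A) : T m).i, (hsq a).1⟩ :
        {x : ZMod m // x + x = 0}), (⟨((a : A) : T m).j, (hsq a).2⟩ : {x : ZMod m // x + x = 0}))) ?_
      intro a a' haa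
      have h3 : ((a : A) : T m).i = ((a' : A) : T m).i := congrArg (fun z => (z.1 : ZMod m)) haa
      have h5 : ((a : A) : T m).j = ((a' : A) : T m).j := congrArg (fun z => (z.2 : ZMod m)) haa
      apply Subtype.ext
      apply Subtype.ext
      apply T.ext
      · exact h3
      · exact h5
      · rw [(hker a).1, (hker a').1]
      · rw [(hker a).2, (hker a').2]
    have h3 : Nat.card f.range ≤ 2 := by
      have h4 : Nat.card ℤˣ ≤ 2 := by
        rw [Nat.card_eq_fintype_card]
        decide
      refine le_trans ?_ h4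
      refine Nat.card_le_card_of_injective (fun x : f.range => (x : ℤˣ × ℤˣ).1) ?_
      rintro ⟨_, a, rfl⟩ ⟨_, a', rfl⟩ haa
      apply Subtype.ext
      have h5 : (f a).1 = (f a').1 := haa
      refine Prod.ext h5 ?_
      show sgn (a : T m).d = sgn (a' : T m).d
      rw [hd' _ a.2, hd' _ a'.2]
    rw [← h1]
    calc Nat.card f.ker * Nat.card f.range ≤ 4 * 2 := Nat.mul_le_mul h2 h3
      _ = 8 := rfl

/-- elementary abelian 2-subgroups of a finite group whose Sylow 2-subgroups are isomorphic to `T m` -/
theorem card_le_of_sylow {K : Type*} [Group K] [Finite K] [NeZero m]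
    (h : ∀ P : Sylow 2 K, Nonempty (T m ≃* ↥(P : Subgroup K))) (E : Subgroup K) (hE : ∀ x ∈ E, x * x = 1) :
    Nat.card E ≤ 2 ^ 3 := by
  have hp : IsPGroup 2 E := by
    intro x
    refine ⟨1, Subtype.ext ?_⟩
    rw [pow_one, pow_two]
    exact hE x x.2
  obtain ⟨P, hP⟩ := hp.exists_le_sylow
  obtain ⟨e⟩ := h P
  let g : E →* T m := e.symm.toMonoidHom.comp (Subgroup.inclusion hP)
  have hg : Function.Injective g := e.symm.injective.comp (Subgroup.inclusion_injective hP)
  have h1 := card_le_T g.range (by
    rintro _ ⟨x, rfl⟩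
    rw [← map_mul, show x * x = 1 from Subtype.ext (hE x x.2), map_one])
  rw [← Nat.card_congr (MonoidHom.ofInjective hg).toEquiv] at h1
  exact h1

/-- the same, the parameter of the model depending on the Sylow subgroup -/
theorem card_le_of_sylow' {K : Type*} [Group K] [Finite K]
    (h : ∀ P : Sylow 2 K, ∃ m : ℕ, m ≠ 0 ∧ Nonempty (T m ≃* ↥(P : Subgroup K))) (E : Subgroup K)
    (hE : ∀ x ∈ E, x * x = 1) : Nat.card E ≤ 2 ^ 3 := by
  have hp : IsPGroup 2 E := by
    intro x
    refine ⟨1, Subtype.ext ?_⟩
    rw [pow_one, pow_two]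
    exact hE x x.2
  obtain ⟨P, hP⟩ := hp.exists_le_sylow
  obtain ⟨m, hm, ⟨e⟩⟩ := h P
  have : NeZero m := ⟨hm⟩
  let g : E →* T m := e.symm.toMonoidHom.comp (Subgroup.inclusion hP)
  have hg : Function.Injective g := e.symm.injective.comp (Subgroup.inclusion_injective hP)
  have h1 := card_le_T g.range (by
    rintro _ ⟨x, rfl⟩
    rw [← map_mul, show x * x = 1 from Subtype.ext (hE x x.2), map_one])
  rw [← Nat.card_congr (MonoidHom.ofInjective hg).toEquiv] at h1
  exact h1

end Cfsg.Agent.Omega.TwoF.GTwoInn
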