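import Cfsg.Agent.Omega.KFacts
import Cfsg.Agent.Omega.TwoF.RowPsl
import Cfsg.Agent.Omega.TwoF.RowTool
import Cfsg.Agent.LieClassical.SLGen
import Cfsg.Agent.ClassicalGeometry.PSL2Solvable

/-!
# TABLE 2F: the field `psl` of `KFacts.Rows2` from helper91's rows

* `center_of_perfect`, `center_of_not_solvable`: the centre of a simple group;
* `row_of_dead`, `row_of_rk`: from the columns of a concrete simple group to the field;
* `psl`: the field.
-/

set_option autoImplicit false

namespace Cfsg.Agent.Omega.TwoF.GluePsl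

open Subgroup Cfsg Cfsg.Agent.Omega.EH3 Cfsg.Agent.Omega.TwoF

universe u v

theorem center_of_not_comm {K : Type*} [Group K] [IsSimpleGroup K] (h : ¬ ∀ a b : K, a * b = b * a) :
    center K = ⊥ := by
  rcases IsSimpleGroup.eq_bot_or_eq_top_of_normal (center K) inferInstance with h1 | h1
  · exact h1
  · exfalso
    apply h
    intro a b
    have : a ∈ center K := h1 ▸ mem_top a
    exact (mem_center_iff.1 this b).symm

theorem center_of_perfect {K : Type*} [Group K] [IsSimpleGroup K] (h : commutator K = ⊤) : center K = ⊥ := by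
  refine center_of_not_comm fun hc => ?_
  have h1 : commutator K = ⊥ := by
    rw [_root_.commutator_def, Subgroup.commutator_eq_bot_iff_le_centralizer]
    intro x _
    rw [mem_centralizer_iff]
    intro y _
    exact hc y x
  obtain ⟨x, hx⟩ := exists_ne (1 : K)
  apply hx
  rw [← mem_bot, ← h1, h]
  exact mem_top x

theorem center_of_not_solvable {K : Type*} [Group K] [IsSimpleGroup K] (h : ¬ Group.IsSolvable K) :
    center K = ⊥ :=
  center_of_not_comm fun hc => h (Group.isSolvable_of_comm hc)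

/-- the 2-part of the characteristic -/
theorem two_ne_zero' {F : Type*} [Field F] {p : ℕ} [CharP F p] (hp : p.Prime) (hp2 : p ≠ 2) : (2 : F) ≠ 0 := by
  intro h0
  have h1 : ((2 : ℕ) : F) = 0 := by exact_mod_cast h0
  rw [CharP.cast_eq_zero_iff F p] at h1
  exact hp2 ((Nat.prime_dvd_prime_iff_eq hp Nat.prime_two).1 h1)

/-- the field from the columns `LB` (helper404) and `RK` (helper953) of a concrete simple group -/
theorem row_of_dead {K : Type v} [Group K] [Finite K] [IsSimpleGroup K] (hc : center K = ⊥) {m a : ℕ}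
    (h : Cfsg.Agent.Omega.Lie.Heis.LB.{v, u, u} K m) (hr : Rk.RK.{v} K a) (hma : 2 * a + 2 < m) : RowEH3.{u} K :=
  RowEH3.of_dead hc (RowTool.dead hc h hr hma)

/-- the field from `RK ≤ 4` -/
theorem row_of_rk {K : Type v} [Group K] [Finite K] [IsSimpleGroup K] (hc : center K = ⊥) {a : ℕ}
    (hr : Rk.RK.{v} K a) (ha : a ≤ 4) : RowEH3.{u} K :=
  RowEH3.of_rk hc ((RowTool.toRK hc hr).mono ha)

/-- **TABLE 2F, field `psl`.** -/
theorem psl : KFacts.Row.{u} fun K _ => KFacts.OddChar @IsPSLChar K ∧ ¬ IsLieTypeChar 2 K := by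
  rintro K _ ⟨⟨p, hp, hp2, F, _, _, hF, n, h2, h4, ⟨e⟩⟩, -⟩
  refine RowEH3.equiv e ?_
  have h0 : (2 : F) ≠ 0 := two_ne_zero' hp hp2
  have : Finite (Matrix.ProjectiveSpecialLinearGroup (Fin n) F) :=
    inferInstanceAs (Finite (_ ⧸ _))
  rcases Nat.lt_or_ge n 3 with h3 | h3
  · obtain rfl : n = 2 := by omega
    have hs : IsSimpleGroup (Matrix.ProjectiveSpecialLinearGroup (Fin 2) F) :=
      Matrix.ProjectiveSpecialLinearGroup.rank_two_simple
        (by rw [Nat.card_eq_fintype_card]; have := h4 rfl; omega)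
    exact row_of_rk (center_of_not_solvable
      (ClassicalGeometry.PSL2Solvable.not_isSolvable_psl F (h4 rfl))) (RowPsl.row_two h0) (by norm_num)
  · have hs : IsSimpleGroup (Matrix.ProjectiveSpecialLinearGroup (Fin n) F) :=
      Cfsg.Agent.S0249.result n h3
    have hp1 : Group.IsPerfect (Matrix.SpecialLinearGroup (Fin n) F) :=
      ⟨Cfsg.Agent.LieClassical.SLGen.commutator_eq_top (by simpa using h3)⟩
    have hp2 : Group.IsPerfect (Matrix.ProjectiveSpecialLinearGroup (Fin n) F) := inferInstance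
    obtain ⟨m, a, hm, ha, hma, -⟩ := RowPsl.row (F := F) h0 h3
    exact row_of_dead (center_of_perfect hp2.commutator_eq_top) hm ha hma

end Cfsg.Agent.Omega.TwoF.GluePsl
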