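/-
A subgroup `5^(1+4)` of the Harada-Norton group: words in the Baby Monster model (helper267).
-/
import Cfsg.Agent.BabyM.HNBWords

set_option autoImplicit false
set_option Elab.async false

namespace Cfsg.Agent.Omega.TwoF.HNHeisW

open Cfsg.Agent.Monster.VecEngine Cfsg.Agent.Monster.VecSpace
  Cfsg.Agent.BabyM.Conc Cfsg.Agent.BabyM.Model Cfsg.Agent.BabyM.Inst
  Cfsg.Agent.BabyM.InstMem Cfsg.Agent.BabyM.WordsInst Cfsg.Agent.BabyM.HNBWords

/-! ### Words (the first letter acts first) -/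

/-- `a = y⁻¹ y⁻¹ x y y x y⁻¹ y⁻¹ x x` -/
def aw : List Ltr := xw ++ xw ++ yi ++ yi ++ xw ++ yw ++ yw ++ xw ++ yi ++ yi
/-- `a⁻¹ = x x y y x y⁻¹ y⁻¹ x y y` (as `x⁴ = 1`, `x²` central in `⟨x, y, z⟩`) -/
def ai : List Ltr := yw ++ yw ++ xw ++ yi ++ yi ++ xw ++ yw ++ yw ++ xw ++ xw
/-- `b = x y⁻¹ x y⁻¹ x y⁻¹ x` -/
def bw : List Ltr := xw ++ yi ++ xw ++ yi ++ xw ++ yi ++ xw
/-- `b⁻¹ = x y x y x y x` -/
def bi : List Ltr := xw ++ yw ++ xw ++ yw ++ xw ++ yw ++ xw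
/-- `k = z y⁻¹ y⁻¹ x y z y⁻¹ y⁻¹ y⁻¹ z` -/
def kw : List Ltr := zw ++ yi ++ yi ++ yi ++ zw ++ yw ++ xw ++ yi ++ yi ++ zw
/-- `k⁻¹ = z y y y z y⁻¹ x⁻¹ y y z` -/
def ki : List Ltr := zw ++ yw ++ yw ++ xi ++ yi ++ zw ++ yw ++ yw ++ yw ++ zw
/-- `s = k⁻¹ t k` -/
def sw : List Ltr := kw ++ tw ++ ki
/-- `c = b a b⁻¹ a⁻¹` -/
def cw : List Ltr := ai ++ bi ++ aw ++ bw

/-! ### A word is not trivial -/

/-- the value of a lane, by recursion -/
noncomputable def vl (i : ℕ) : Pl → ℤ :=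
  Pl.rec (motive := fun _ => ℤ) (fun s => - bt s i) (fun p _ ih => bt p i + 2 * ih)

theorem vl_eq (i : ℕ) (x : Pl) : vl i x = val x i := by
  induction x with
  | sgn s => rfl
  | cons p L ih =>
    show bt p i + 2 * vl i L = _
    rw [ih]
    rfl

/-- the check that a word changes the value at a lane -/
noncomputable def chkNe (v : List Ltr) (x : Pl) (i : ℕ) : Bool :=
  runL (v.map Ltr.prog) x fun y => !decide (vl i y = vl i x)

theorem W_ne_one {v : List Ltr} {x : Pl} (i : Lane U) (h : chkNe v x i.1 = true) : W v ≠ 1 := by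
  intro e
  obtain ⟨y, hy, hk⟩ := runL_sound ℚ two_ne_zero (v.map Ltr.prog) (fun P hP => ((good_progs v P hP).pres).ok)
    x _ h
  have h1 : W v (vecU ℚ U x) = vecU ℚ U x := by rw [e]; rfl
  rw [W_apply, vecU_eq, ← res_semL ℚ (fun P hP => (good_progs v P hP).pres), ← hy] at h1
  have h2 : (val y i.1 : ℚ) = (val x i.1 : ℚ) := congrFun h1 i
  rw [Bool.not_eq_true', decide_eq_false_iff_not, vl_eq, vl_eq] at hk
  exact hk (by exact_mod_cast h2)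

end Cfsg.Agent.Omega.TwoF.HNHeisW
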