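/-
A subgroup `5^(1+4)` of the Harada-Norton group: kernel checks (helper267).
-/
import Cfsg.Agent.Omega.TwoF.HNHeisW

set_option autoImplicit false
set_option Elab.async false

namespace Cfsg.Agent.Omega.TwoF.HNHeisA

open Cfsg.Agent.BabyM.HNBWords Cfsg.Agent.Omega.TwoF.HNHeisW

theorem a5 : chk (aw ++ aw ++ aw ++ aw ++ aw) [] = true := by decide +kernel

theorem ka : chk (kw ++ aw) (aw ++ kw) = true := by decide +kernel

/-- `c a = a c` in the form `b a b⁻¹ a = a b a b⁻¹` -/
theorem ca : chk (aw ++ bi ++ aw ++ bw) (bi ++ aw ++ bw ++ aw) = true := by decide +kernel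

end Cfsg.Agent.Omega.TwoF.HNHeisA
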