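/-
A subgroup `5^(1+4)` of the Harada-Norton group: kernel checks (helper267).
-/
import Cfsg.Agent.Omega.TwoF.HNHeisW

set_option autoImplicit false
set_option Elab.async false

namespace Cfsg.Agent.Omega.TwoF.HNHeisB

open Cfsg.Agent.BabyM.HNBWords Cfsg.Agent.Omega.TwoF.HNHeisW

/-- `c b = b c` in the form `a b⁻¹ a⁻¹ b = b a b⁻¹ a⁻¹` -/
theorem cb : chk (bw ++ ai ++ bi ++ aw) (ai ++ bi ++ aw ++ bw) = true := by decide +kernel

/-- `s² t = c t s²` -/
theorem st : chk (tw ++ (kw ++ tw ++ tw ++ ki)) ((kw ++ tw ++ tw ++ ki) ++ tw ++ cw) = true := by decide +kernel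

theorem a_inv : chk (aw ++ ai) [] = true := by decide +kernel

theorem b_inv : chk (bw ++ bi) [] = true := by decide +kernel

theorem k_inv : chk (kw ++ ki) [] = true := by decide +kernel

end Cfsg.Agent.Omega.TwoF.HNHeisB
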