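/-
A subgroup `5^(1+4)` of the Harada-Norton group: kernel checks (helper267).
-/
import Cfsg.Agent.Omega.TwoF.HNHeisW

set_option autoImplicit false
set_option Elab.async false

namespace Cfsg.Agent.Omega.TwoF.HNHeisC

open Cfsg.Agent.BabyM.WordsInst Cfsg.Agent.BabyM.HNBWords Cfsg.Agent.Omega.TwoF.HNHeisW

/-- `s c = c s` -/
theorem sc : chk (cw ++ sw) (sw ++ cw) = true := by decide +kernel

theorem ct : chk (cw ++ tw) (tw ++ cw) = true := by decide +kernel

theorem at' : chk (aw ++ tw) (tw ++ aw) = true := by decide +kernel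

theorem bt : chk (bw ++ tw) (tw ++ bw) = true := by decide +kernel

/-- `c ≠ 1` -/
theorem c_ne : chkNe cw sP 4096 = true := by decide +kernel

end Cfsg.Agent.Omega.TwoF.HNHeisC
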