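/-
A subgroup `5^(1+4)` of the Harada-Norton group, in the presented group `Spor.HN` and in every group containing it
(helper267).
-/
import Cfsg.Agent.Omega.TwoF.HNHeisA
import Cfsg.Agent.Omega.TwoF.HNHeisB
import Cfsg.Agent.Omega.TwoF.HNHeisC
import Cfsg.Agent.BabyM.HNB
import Cfsg.Agent.Omega.Lie.Heis

set_option autoImplicit false

namespace Cfsg.Agent.Omega.TwoF.HNHeis

open Cfsg.Agent.Omega.Lie.Heis

/-! ### The words -/

section words

variable {Γ : Type*} [Group Γ] (x y z t : Γ)

/-- `a` -/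
def fa : Γ := y⁻¹ * y⁻¹ * x * y * y * x * y⁻¹ * y⁻¹ * x * x
/-- `b` -/
def fb : Γ := x * y⁻¹ * x * y⁻¹ * x * y⁻¹ * x
/-- `k` -/
def fk : Γ := z * y⁻¹ * y⁻¹ * x * y * z * y⁻¹ * y⁻¹ * y⁻¹ * z
/-- `s = k⁻¹ t k` -/
def fs : Γ := (fk x y z)⁻¹ * t * fk x y z
/-- `c = b a b⁻¹ a⁻¹` -/
def fc : Γ := fb x y * fa x y * (fb x y)⁻¹ * (fa x y)⁻¹

/-- The relations of the generators of `5^(1+4)`. -/
structure Five : Prop where
  a5 : fa x y ^ 5 = 1
  t5 : t ^ 5 = 1
  ka : fk x y z * fa x y = fa x y * fk x y z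
  ca : fc x y * fa x y = fa x y * fc x y
  cb : fc x y * fb x y = fb x y * fc x y
  ct : fc x y * t = t * fc x y
  sc : fs x y z t * fc x y = fc x y * fs x y z t
  st : fs x y z t * fs x y z t * t = fc x y * t * (fs x y z t * fs x y z t)
  ta : fa x y * t = t * fa x y
  tb : fb x y * t = t * fb x y
  ne : fc x y ≠ 1

end words

namespace Five

variable {Γ Δ : Type*} [Group Γ] [Group Δ] {x y z t : Γ}

theorem sa (h : Five x y z t) : fs x y z t * fa x y = fa x y * fs x y z t := by
  have h1 : Commute (fk x y z) (fa x y) := h.ka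
  have h2 : Commute t (fa x y) := h.ta.symm
  exact ((h1.inv_left.mul_left h2).mul_left h1 : Commute _ _)

theorem c5 (h : Five x y z t) : fc x y ^ 5 = 1 := by
  have h1 : fb x y * fa x y * (fb x y)⁻¹ = fc x y * fa x y := by
    unfold fc; group
  have h2 : (fb x y * fa x y * (fb x y)⁻¹) ^ 5 = 1 := by
    rw [conj_pow, h.a5]; group
  have h3 : Commute (fc x y) (fa x y) := h.ca
  rw [h1, h3.mul_pow, h.a5, mul_one] at h2
  exact h2

/-- **The Heisenberg configuration.** -/
theorem heis (h : Five x y z t) :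
    Heis 5 2 (fc x y) ![fa x y, t] ![fb x y, fs x y z t * fs x y z t] where
  prime := by norm_num
  zr := h.c5
  xr := fun i => by
    fin_cases i
    · exact h.a5
    · exact h.t5
  zx := fun i => by
    fin_cases i
    · exact h.ca
    · exact h.ct
  zy := fun i => by
    fin_cases i
    · exact h.cb
    · have h1 : Commute (fc x y) (fs x y z t) := h.sc.symm
      exact (h1.mul_right h1 : Commute _ _)
  xx := fun i j => by
    fin_cases i <;> fin_cases j
    · rfl
    · exact h.ta
    · exact h.ta.symm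
    · rfl
  yx := fun i j hij => by
    fin_cases i <;> fin_cases j
    · exact absurd rfl hij
    · exact h.tb
    · have h1 : Commute (fs x y z t) (fa x y) := h.sa
      exact (h1.mul_left h1 : Commute _ _)
    · exact absurd rfl hij
  conj := fun i => by
    fin_cases i
    · show fb x y * fa x y * (fb x y)⁻¹ = fa x y * fc x y
      rw [← h.ca]
      unfold fc; group
    · show fs x y z t * fs x y z t * t * (fs x y z t * fs x y z t)⁻¹ = t * fc x y
      rw [h.st, h.ct]
      group

theorem map_fa (f : Γ →* Δ) : f (fa x y) = fa (f x) (f y) := by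
  simp only [fa, map_mul, map_inv]

theorem map_fb (f : Γ →* Δ) : f (fb x y) = fb (f x) (f y) := by
  simp only [fb, map_mul, map_inv]

theorem map_fk (f : Γ →* Δ) : f (fk x y z) = fk (f x) (f y) (f z) := by
  simp only [fk, map_mul, map_inv]

theorem map_fs (f : Γ →* Δ) : f (fs x y z t) = fs (f x) (f y) (f z) (f t) := by
  simp only [fs, map_mul, map_inv, map_fk]

theorem map_fc (f : Γ →* Δ) : f (fc x y) = fc (f x) (f y) := by
  simp only [fc, map_mul, map_inv, map_fa, map_fb]

/-- The relations hold in a subgroup if they hold in the group. -/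
theorem of_map {f : Γ →* Δ} (hf : Function.Injective f) (h : Five (f x) (f y) (f z) (f t)) : Five x y z t where
  a5 := hf (by rw [map_pow, map_fa, h.a5, map_one])
  t5 := hf (by rw [map_pow, h.t5, map_one])
  ka := hf (by rw [map_mul, map_mul, map_fa, map_fk, h.ka])
  ca := hf (by rw [map_mul, map_mul, map_fa, map_fc, h.ca])
  cb := hf (by rw [map_mul, map_mul, map_fb, map_fc, h.cb])
  ct := hf (by rw [map_mul, map_mul, map_fc, h.ct])
  sc := hf (by rw [map_mul, map_mul, map_fc, map_fs, h.sc])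
  st := hf (by rw [map_mul, map_mul, map_mul, map_mul, map_mul, map_fc, map_fs, h.st])
  ta := hf (by rw [map_mul, map_mul, map_fa, h.ta])
  tb := hf (by rw [map_mul, map_mul, map_fb, h.tb])
  ne := fun e => h.ne (by rw [← map_fc, e, map_one])

/-- The relations hold in the image under an injective homomorphism. -/
theorem map {f : Γ →* Δ} (hf : Function.Injective f) (h : Five x y z t) : Five (f x) (f y) (f z) (f t) where
  a5 := by rw [← map_fa, ← map_pow, h.a5, map_one]
  t5 := by rw [← map_pow, h.t5, map_one]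
  ka := by rw [← map_fa, ← map_fk, ← map_mul, ← map_mul, h.ka]
  ca := by rw [← map_fa, ← map_fc, ← map_mul, ← map_mul, h.ca]
  cb := by rw [← map_fb, ← map_fc, ← map_mul, ← map_mul, h.cb]
  ct := by rw [← map_fc, ← map_mul, ← map_mul, h.ct]
  sc := by rw [← map_fc, ← map_fs, ← map_mul, ← map_mul, h.sc]
  st := by rw [← map_fc, ← map_fs, ← map_mul, ← map_mul, ← map_mul, ← map_mul, h.st]
  ta := by rw [← map_fa, ← map_mul, ← map_mul, h.ta]
  tb := by rw [← map_fb, ← map_mul, ← map_mul, h.tb]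
  ne := fun e => h.ne (hf (by rw [map_fc, e, map_one]))

end Five

/-! ### In the Baby Monster model -/

section baby

open Cfsg.Agent.Monster.VecEngine Cfsg.Agent.Monster.VecSpace
  Cfsg.Agent.BabyM.Conc Cfsg.Agent.BabyM.Model Cfsg.Agent.BabyM.Inst
  Cfsg.Agent.BabyM.InstMem Cfsg.Agent.BabyM.WordsInst Cfsg.Agent.BabyM.HNBWords Cfsg.Agent.BabyM.HNB
  Cfsg.Agent.Omega.TwoF.HNHeisW

variable {K₀ : Type} [Group K₀] (A : BAll M K₀) (O : base.Ok)

include A O

theorem w_aw : wd aw = fa (wd xw) (wd yw) := by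
  unfold aw fa
  simp only [wd_append, w_yi A O, mul_assoc]

theorem w_ai : wd ai = (fa (wd xw) (wd yw))⁻¹ := by
  have h := eq_of' A O HNHeisB.a_inv
  rw [wd_append, wd_nil, w_aw A O] at h
  exact eq_inv_of_mul_eq_one_left h

theorem w_bw : wd bw = fb (wd xw) (wd yw) := by
  unfold bw fb
  simp only [wd_append, w_yi A O, mul_assoc]

theorem w_bi : wd bi = (fb (wd xw) (wd yw))⁻¹ := by
  have h := eq_of' A O HNHeisB.b_inv
  rw [wd_append, wd_nil, w_bw A O] at h
  exact eq_inv_of_mul_eq_one_left h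

theorem w_kw : wd kw = fk (wd xw) (wd yw) (wd zw) := by
  unfold kw fk
  simp only [wd_append, w_yi A O, mul_assoc]

theorem w_ki : wd ki = (fk (wd xw) (wd yw) (wd zw))⁻¹ := by
  have h := eq_of' A O HNHeisB.k_inv
  rw [wd_append, wd_nil, w_kw A O] at h
  exact eq_inv_of_mul_eq_one_left h

theorem w_sw : wd sw = fs (wd xw) (wd yw) (wd zw) (wd tw) := by
  unfold sw fs
  rw [wd_append, wd_append, w_kw A O, w_ki A O, mul_assoc]

theorem w_cw : wd cw = fc (wd xw) (wd yw) := by
  unfold cw fc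
  rw [wd_append, wd_append, wd_append, w_aw A O, w_ai A O, w_bw A O, w_bi A O]
  simp only [mul_assoc]

omit A O in
theorem W_eq_one {v : List Ltr} (h : wd v = 1) : W v = 1 := congrArg Subtype.val h

/-- **The relations in the Baby Monster model.** -/
theorem five_baby : Five (wd xw) (wd yw) (wd zw) (wd tw) where
  a5 := by
    have h := eq_of' A O HNHeisA.a5
    simp only [wd_append, wd_nil, w_aw A O] at h
    rw [← h]
    simp only [pow_succ, pow_zero, one_mul, mul_assoc]
  t5 := by
    have h := eq_of' A O BabyM.HNBRel3.t5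
    simp only [wd_append, wd_nil] at h
    rw [← h]
    simp only [pow_succ, pow_zero, one_mul, mul_assoc]
  ka := by
    have h := eq_of' A O HNHeisA.ka
    rw [wd_append, wd_append, w_aw A O, w_kw A O] at h
    exact h.symm
  ca := by
    have h := eq_of' A O HNHeisA.ca
    simp only [wd_append, w_aw A O, w_bw A O, w_bi A O] at h
    have h1 : fb (wd xw) (wd yw) * fa (wd xw) (wd yw) * (fb (wd xw) (wd yw))⁻¹ * fa (wd xw) (wd yw) =
        fa (wd xw) (wd yw) * fb (wd xw) (wd yw) * fa (wd xw) (wd yw) * (fb (wd xw) (wd yw))⁻¹ := by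
      simpa only [mul_assoc] using h
    unfold fc
    rw [inv_mul_cancel_right]
    calc fb (wd xw) (wd yw) * fa (wd xw) (wd yw) * (fb (wd xw) (wd yw))⁻¹
        = fb (wd xw) (wd yw) * fa (wd xw) (wd yw) * (fb (wd xw) (wd yw))⁻¹ * fa (wd xw) (wd yw) *
          (fa (wd xw) (wd yw))⁻¹ := by group
      _ = _ := by rw [h1]; group
  cb := by
    have h := eq_of' A O HNHeisB.cb
    simp only [wd_append, w_aw A O, w_bw A O, w_bi A O, w_ai A O] at h
    have h1 : fa (wd xw) (wd yw) * (fb (wd xw) (wd yw))⁻¹ * (fa (wd xw) (wd yw))⁻¹ * fb (wd xw) (wd yw) =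
        fb (wd xw) (wd yw) * fa (wd xw) (wd yw) * (fb (wd xw) (wd yw))⁻¹ * (fa (wd xw) (wd yw))⁻¹ := by
      simpa only [mul_assoc] using h
    unfold fc
    calc fb (wd xw) (wd yw) * fa (wd xw) (wd yw) * (fb (wd xw) (wd yw))⁻¹ * (fa (wd xw) (wd yw))⁻¹ *
          fb (wd xw) (wd yw)
        = fb (wd xw) (wd yw) * (fa (wd xw) (wd yw) * (fb (wd xw) (wd yw))⁻¹ * (fa (wd xw) (wd yw))⁻¹ *
          fb (wd xw) (wd yw)) := by group
      _ = _ := by rw [h1]
  ct := by
    have h := eq_of' A O HNHeisC.ct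
    rw [wd_append, wd_append, w_cw A O] at h
    exact h.symm
  sc := by
    have h := eq_of' A O HNHeisC.sc
    rw [wd_append, wd_append, w_cw A O, w_sw A O] at h
    exact h
  st := by
    have h := eq_of' A O HNHeisB.st
    simp only [wd_append, w_cw A O, w_kw A O, w_ki A O] at h
    have h1 : fs (wd xw) (wd yw) (wd zw) (wd tw) * fs (wd xw) (wd yw) (wd zw) (wd tw) =
        (fk (wd xw) (wd yw) (wd zw))⁻¹ * (wd tw * (wd tw * fk (wd xw) (wd yw) (wd zw))) := by
      unfold fs; group
    rw [h1]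
    simpa only [mul_assoc] using h
  ta := by
    have h := eq_of' A O HNHeisC.at'
    rw [wd_append, wd_append, w_aw A O] at h
    exact h.symm
  tb := by
    have h := eq_of' A O HNHeisC.bt
    rw [wd_append, wd_append, w_bw A O] at h
    exact h.symm
  ne := by
    intro e
    have h1 : wd cw = 1 := by rw [w_cw A O, e]
    exact W_ne_one laneS HNHeisC.c_ne (W_eq_one h1)

end baby

/-! ### In the presented group -/

section hn

open Cfsg.Agent.MonsterX.WordSub Cfsg.Agent.MonsterX.WordRels Cfsg.Spor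

/-- A homomorphism of the presented group `HN`. -/
theorem exists_hom {G : Type} [Group G] (f : Cfsg.Spor.HN.Gen → G) (h : ∀ w ∈ hnWs, ev f w = 1) :
    ∃ φ : Spor.HN →* G, ∀ a, φ (PresentedGroup.of a) = f a := by
  have h' : ∀ r ∈ coxRelators Cfsg.Spor.HN.edges ∪ {r | r ∈ Cfsg.Spor.HN.extra}, FreeGroup.lift f r = 1 := by
    rintro r (hr | hr)
    · exact cox_lift _ f (fun x hx => absurd hx (by simp [coxNodes, Cfsg.Spor.HN.edges])) r hr
    · exact lift_extra hn_extra f h r hr
  exact ⟨PresentedGroup.toGroup h', fun a => PresentedGroup.toGroup.of h'⟩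

/-- A nontrivial homomorphism of the presented group `HN` is injective. -/
theorem injective_of {G : Type*} [Group G] (hs : IsSimpleGroup Spor.HN) (φ : Spor.HN →* G) {a : Spor.HN}
    (ha : φ a ≠ 1) : Function.Injective φ := by
  rw [← MonoidHom.ker_eq_bot_iff]
  rcases φ.normal_ker.eq_bot_or_eq_top with h1 | h1
  · exact h1
  · exact absurd (MonoidHom.mem_ker.1 (h1 ▸ Subgroup.mem_top a)) ha

/-- **`5^(1+4)` in the presented Harada-Norton group.** -/
theorem five_hn {K₀ : Type} [Group K₀] (A : BabyM.Model.BAll BabyM.Inst.M K₀) (O : BabyM.WordsInst.base.Ok)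
    (hs : IsSimpleGroup Spor.HN) :
    Five (PresentedGroup.of Cfsg.Spor.HN.Gen.x : Spor.HN) (PresentedGroup.of Cfsg.Spor.HN.Gen.y)
      (PresentedGroup.of Cfsg.Spor.HN.Gen.z) (PresentedGroup.of Cfsg.Spor.HN.Gen.t) := by
  obtain ⟨φ, hφ⟩ := exists_hom BabyM.HNB.gen (BabyM.HNB.rels A O)
  have h5 := five_baby A O
  have hx : φ (PresentedGroup.of Cfsg.Spor.HN.Gen.x) = BabyM.HNB.wd BabyM.HNBWords.xw := hφ _
  have hy : φ (PresentedGroup.of Cfsg.Spor.HN.Gen.y) = BabyM.HNB.wd BabyM.HNBWords.yw := hφ _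
  have hz : φ (PresentedGroup.of Cfsg.Spor.HN.Gen.z) = BabyM.HNB.wd BabyM.HNBWords.zw := hφ _
  have ht : φ (PresentedGroup.of Cfsg.Spor.HN.Gen.t) = BabyM.HNB.wd BabyM.HNBWords.tw := hφ _
  have hinj : Function.Injective φ := by
    refine injective_of hs φ (a := fc (PresentedGroup.of Cfsg.Spor.HN.Gen.x)
      (PresentedGroup.of Cfsg.Spor.HN.Gen.y)) ?_
    rw [Five.map_fc, hx, hy]
    exact h5.ne
  refine Five.of_map hinj ?_
  rw [hx, hy, hz, ht]
  exact h5

end hn

end Cfsg.Agent.Omega.TwoF.HNHeis
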