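import Cfsg.Agent.Omega.TwoF.SignLift
import Cfsg.Agent.Omega.TwoF.RkPSL

/-!
# The Heisenberg configuration of `SL_n(F)` and the lower bound for `PSL_n(F)`, odd characteristic
-/

set_option autoImplicit false
set_option linter.unusedSectionVars false
set_option linter.unusedSimpArgs false

universe u v w

namespace Cfsg.Agent.Omega.TwoF.SignLift

open Cfsg.Agent.Omega.Lie.Heis

/-! ### Functoriality -/

theorem CC.map {K K' : Type*} [Group K] [Group K'] (f : K →* K') {a b : K} (h : CC a b) :
    CC (f a) (f b) := by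
  induction h with
  | inv t hab ha hb =>
    exact CC.inv (f t) (by rw [← map_mul, hab, map_mul]) (by rw [← map_inv, ← map_mul, ← map_mul, ha, map_inv])
      (by rw [← map_mul, hb, map_mul])
  | swap t hab ha hb =>
    exact CC.swap (f t) (by rw [← map_mul, hab, map_mul]) (by rw [← map_inv, ← map_mul, ← map_mul, ha])
      (by rw [← map_inv, ← map_mul, ← map_mul, hb])
  | two k hab ha =>
    exact CC.two k (by rw [← map_mul, hab, map_mul]) (by rw [← map_pow, ha, map_one])
  | refl a => exact CC.refl _
  | symm _ ih => exact ih.symm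
  | mul _ _ ih ih' => rw [map_mul]; exact ih.mul ih'
  | inv' _ ih => rw [map_inv]; exact ih.inv'
  | conj g _ ih =>
    rw [map_mul, map_mul, map_mul, map_mul, map_inv]
    exact ih.conj (f g)

theorem heis_map {K K' : Type*} [Group K] [Group K'] (f : K →* K') {r n : ℕ} {z : K} {x y : Fin n → K}
    (h : Heis r n z x y) : Heis r n (f z) (fun i => f (x i)) (fun i => f (y i)) where
  prime := h.prime
  zr := by rw [← map_pow, h.zr, map_one]
  xr i := by rw [← map_pow, h.xr, map_one]
  zx i := by rw [← map_mul, h.zx, map_mul]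
  zy i := by rw [← map_mul, h.zy, map_mul]
  xx i j := by rw [← map_mul, h.xx, map_mul]
  yx i j hij := by rw [← map_mul, h.yx i j hij, map_mul]
  conj i := by rw [← map_inv, ← map_mul, ← map_mul, h.conj, map_mul]

theorem SignHeis.map {K K' : Type*} [Group K] [Group K'] (f : K →* K') {r n : ℕ} {z : K}
    {x y : Fin n → K} (h : SignHeis r n z x y) :
    SignHeis r n (f z) (fun i => f (x i)) (fun i => f (y i)) where
  heis := heis_map f h.heis
  inv i := by
    obtain ⟨t, ht⟩ := h.inv i
    exact ⟨f t, by rw [← map_inv, ← map_mul, ← map_mul, ht, map_inv]⟩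
  czx i := (h.czx i).map f
  czy i := (h.czy i).map f
  cxx i j hij := (h.cxx i j hij).map f
  cyx i j hij := (h.cyx i j hij).map f
  same i j := by
    obtain ⟨g, ⟨k, hk⟩, h1, h2, h3⟩ := h.same i j
    exact ⟨f g, ⟨k, by rw [← map_pow, hk, map_one]⟩, by rw [← map_mul, h1, map_mul],
      by rw [← map_inv, ← map_mul, ← map_mul, h2], by rw [← map_inv, ← map_mul, ← map_mul, h3]⟩

end Cfsg.Agent.Omega.TwoF.SignLift

namespace Cfsg.Agent.Omega.TwoF.LBPsl

open Matrix Cfsg.Agent.Omega.Lie.Heis Cfsg.Agent.Omega.TwoF.SignLift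
open Cfsg.Agent.ClassicalGeometry.AutPSL.Root

variable {ι F : Type*} [Fintype ι] [DecidableEq ι] [Field F]

/-- Elementary transvections. -/
def E {i j : ι} (hij : i ≠ j) (c : F) : Matrix.SpecialLinearGroup ι F :=
  tr (c • Pi.single i 1) (Pi.single j 1) (by
    rw [dotProduct_smul, single_dotProduct, Pi.single_eq_of_ne hij.symm]; simp)

theorem E_mulVec {i j : ι} (hij : i ≠ j) (c : F) (x : ι → F) :
    (E hij c : Matrix ι ι F) *ᵥ x = fun k => if k = i then x i + c * x j else x k := by
  rw [E, tr_mulVec]
  funext k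
  by_cases hk : k = i
  · subst hk
    simp [mul_comm]
  · simp [hk]

theorem E_mul {i j : ι} (hij : i ≠ j) (c d : F) : E hij c * E hij d = E hij (c + d) := by
  apply sl_ext
  intro x
  rw [sl_mul_mulVec, E_mulVec, E_mulVec, E_mulVec]
  funext k
  by_cases hk : k = i
  · simp [hk, hij.symm]; ring
  · simp [hk]

theorem E_zero {i j : ι} (hij : i ≠ j) : E hij (0 : F) = 1 := by
  apply sl_ext
  intro x
  rw [E_mulVec, Matrix.SpecialLinearGroup.coe_one, one_mulVec]
  funext k
  by_cases hk : k = i
  · simp [hk]
  · simp [hk]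

theorem E_inv {i j : ι} (hij : i ≠ j) (c : F) : (E hij c)⁻¹ = E hij (-c) := by
  rw [inv_eq_iff_mul_eq_one, E_mul, add_neg_cancel, E_zero]

theorem E_pow {i j : ι} (hij : i ≠ j) (c : F) (n : ℕ) : E hij c ^ n = E hij (n * c) := by
  induction n with
  | zero => rw [pow_zero, Nat.cast_zero, zero_mul, E_zero]
  | succ n ih =>
    rw [pow_succ, ih, E_mul]
    congr 1
    push_cast
    ring

/-- Weyl elements: `e_i ↦ e_j ↦ - e_i`. -/
def W {i j : ι} (hij : i ≠ j) : Matrix.SpecialLinearGroup ι F :=
  E hij.symm 1 * E hij (-1) * E hij.symm 1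

theorem W_mulVec {i j : ι} (hij : i ≠ j) (x : ι → F) :
    ((W hij : Matrix.SpecialLinearGroup ι F) : Matrix ι ι F) *ᵥ x
      = fun k => if k = i then - x j else if k = j then x i else x k := by
  rw [W, sl_mul_mulVec, sl_mul_mulVec, E_mulVec, E_mulVec, E_mulVec]
  funext k
  by_cases hk : k = i
  · subst hk
    simp [hij, hij.symm]
  · by_cases hk' : k = j
    · subst hk'
      simp [hij, hij.symm]
    · simp [hk, hk']

/-- Torus involutions. -/
def H {i j : ι} (hij : i ≠ j) : Matrix.SpecialLinearGroup ι F := W hij * W hij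

theorem H_mulVec {i j : ι} (hij : i ≠ j) (x : ι → F) :
    ((H hij : Matrix.SpecialLinearGroup ι F) : Matrix ι ι F) *ᵥ x
      = fun k => if k = i then - x i else if k = j then - x j else x k := by
  rw [H, sl_mul_mulVec, W_mulVec, W_mulVec]
  funext k
  by_cases hk : k = i
  · subst hk
    simp [hij.symm]
  · by_cases hk' : k = j
    · subst hk'
      simp [hij.symm]
    · simp [hk, hk']

theorem conj_of_mul {G : Type*} [Group G] {t a b : G} (h : t * a = b * t) : t * a * t⁻¹ = b := by
  rw [h, mul_inv_cancel_right]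

theorem W_pow {i j : ι} (hij : i ≠ j) : (W hij : Matrix.SpecialLinearGroup ι F) ^ (2 ^ 2) = 1 := by
  have h1 : (W hij : Matrix.SpecialLinearGroup ι F) ^ (2 ^ 2) = H hij * H hij := by
    rw [H]; simp [pow_succ, mul_assoc]
  rw [h1]
  apply sl_ext
  intro x
  rw [sl_mul_mulVec, H_mulVec, H_mulVec, Matrix.SpecialLinearGroup.coe_one, one_mulVec]
  funext k
  by_cases hk : k = i
  · subst hk
    simp
  · by_cases hk' : k = j
    · subst hk'
      simp [hij.symm]
    · simp [hk, hk']

variable {n : ℕ} {p l : ι} {e : Fin n → ι}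

/-- **The Heisenberg configuration of `SL`**. -/
theorem signHeis {r : ℕ} (hr : r.Prime) [CharP F r] (hpl : p ≠ l) (he : Function.Injective e)
    (hp : ∀ i, p ≠ e i) (hl : ∀ i, e i ≠ l) :
    SignHeis r n (E hpl (1 : F)) (fun i => E (hp i) (1 : F)) (fun i => E (hl i) (-1 : F)) := by
  have hr0 : (r : F) = 0 := CharP.cast_eq_zero F r
  have hpow : ∀ {i j : ι} (hij : i ≠ j) (c : F), E hij c ^ r = 1 := fun hij c => by
    rw [E_pow, hr0, zero_mul, E_zero]
  refine ⟨⟨hr, hpow _ _, fun i => hpow _ _, fun i => ?_, fun i => ?_, fun i j => ?_, fun i j hij => ?_,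
    fun i => ?_⟩, fun i => ⟨H (hl i), ?_⟩, fun i => ?_, fun i => ?_, fun i j hij => ?_,
    fun i j hij => ?_, fun i j => ?_⟩
  · -- z x
    apply sl_ext; intro v
    rw [sl_mul_mulVec, sl_mul_mulVec, E_mulVec, E_mulVec, E_mulVec, E_mulVec]
    funext k
    by_cases hk : k = p
    · simp [hk, hpl.symm, (hp i).symm]; ring
    · simp [hk]
  · -- z y
    apply sl_ext; intro v
    rw [sl_mul_mulVec, sl_mul_mulVec, E_mulVec, E_mulVec, E_mulVec, E_mulVec]
    funext k
    by_cases hk : k = p
    · simp [hk, hpl.symm, hp i, (hl i).symm]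
    · simp [hk, hpl.symm, hp i, (hp i).symm, (hl i).symm]
  · -- x x
    apply sl_ext; intro v
    rw [sl_mul_mulVec, sl_mul_mulVec, E_mulVec, E_mulVec, E_mulVec, E_mulVec]
    funext k
    by_cases hk : k = p
    · simp [hk, (hp i).symm, (hp j).symm]; ring
    · simp [hk]
  · -- y x
    have hne : e i ≠ e j := fun h => hij (he h)
    apply sl_ext; intro v
    rw [sl_mul_mulVec, sl_mul_mulVec, E_mulVec, E_mulVec, E_mulVec, E_mulVec]
    funext k
    by_cases hk : k = p
    · simp [hk, hp i, hpl.symm, hne.symm]
    · simp [hk, hp i, (hp i).symm, hpl.symm, hne.symm]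
  · -- conj
    apply conj_of_mul
    apply sl_ext; intro v
    rw [sl_mul_mulVec, sl_mul_mulVec, sl_mul_mulVec, E_mulVec, E_mulVec, E_mulVec, E_mulVec, E_mulVec]
    funext k
    by_cases hk : k = p
    · simp [hk, hp i, (hp i).symm, (hl i).symm, hpl.symm]; ring
    · simp [hk, hp i, (hp i).symm, (hl i).symm, hpl.symm]
  · -- inv
    apply conj_of_mul
    rw [E_inv]
    apply sl_ext; intro v
    rw [sl_mul_mulVec, sl_mul_mulVec, E_mulVec, E_mulVec, H_mulVec, H_mulVec]
    funext k
    by_cases hk : k = p
    · simp [hk, hp i, (hp i).symm, hpl]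
    · simp [hk, (hp i).symm, hpl.symm]
  · -- czx
    apply CC.inv (H (hp i))
    · apply sl_ext; intro v
      rw [sl_mul_mulVec, sl_mul_mulVec, E_mulVec, E_mulVec, E_mulVec, E_mulVec]
      funext k
      by_cases hk : k = p
      · simp [hk, hpl.symm, (hp i).symm]; ring
      · simp [hk]
    · apply conj_of_mul
      rw [E_inv]
      apply sl_ext; intro v
      rw [sl_mul_mulVec, sl_mul_mulVec, E_mulVec, E_mulVec, H_mulVec, H_mulVec]
      funext k
      by_cases hk : k = p
      · simp [hk, hpl.symm, (hl i).symm]; ring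
      · simp [hk, (hp i).symm]
    · apply sl_ext; intro v
      rw [sl_mul_mulVec, sl_mul_mulVec, E_mulVec, E_mulVec, H_mulVec, H_mulVec]
      funext k
      by_cases hk : k = p
      · simp [hk, (hp i).symm]; ring
      · simp [hk, (hp i).symm]
  · -- czy
    apply CC.inv (H (hl i))
    · apply sl_ext; intro v
      rw [sl_mul_mulVec, sl_mul_mulVec, E_mulVec, E_mulVec, E_mulVec, E_mulVec]
      funext k
      by_cases hk : k = p
      · simp [hk, hpl.symm, hp i, (hl i).symm]
      · simp [hk, hpl.symm, hp i, (hp i).symm, (hl i).symm]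
    · apply conj_of_mul
      rw [E_inv]
      apply sl_ext; intro v
      rw [sl_mul_mulVec, sl_mul_mulVec, E_mulVec, E_mulVec, H_mulVec, H_mulVec]
      funext k
      by_cases hk : k = p
      · simp [hk, hpl, hp i, (hl i).symm]
      · simp [hk, hpl.symm, (hp i).symm]
    · apply sl_ext; intro v
      rw [sl_mul_mulVec, sl_mul_mulVec, E_mulVec, E_mulVec, H_mulVec, H_mulVec]
      funext k
      by_cases hk : k = e i
      · simp [hk, (hl i).symm]; ring
      · simp [hk, (hl i).symm]
  · -- cxx
    have hne : e i ≠ e j := fun h => hij (he h)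
    apply CC.inv (H (hl i))
    · apply sl_ext; intro v
      rw [sl_mul_mulVec, sl_mul_mulVec, E_mulVec, E_mulVec, E_mulVec, E_mulVec]
      funext k
      by_cases hk : k = p
      · simp [hk, (hp i).symm, (hp j).symm]; ring
      · simp [hk]
    · apply conj_of_mul
      rw [E_inv]
      apply sl_ext; intro v
      rw [sl_mul_mulVec, sl_mul_mulVec, E_mulVec, E_mulVec, H_mulVec, H_mulVec]
      funext k
      by_cases hk : k = p
      · simp [hk, hp i, (hp i).symm, hpl]
      · simp [hk, (hp i).symm, hpl.symm]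
    · apply sl_ext; intro v
      rw [sl_mul_mulVec, sl_mul_mulVec, E_mulVec, E_mulVec, H_mulVec, H_mulVec]
      funext k
      by_cases hk : k = p
      · simp [hk, hp i, hpl, hne.symm, hl j]
      · simp [hk, (hp i).symm, hpl.symm]
  · -- cyx
    have hne : e i ≠ e j := fun h => hij (he h)
    have h1 : CC (E (hl i) (-1 : F)) (E (hp j) (1 : F))⁻¹ := by
      apply CC.swap (W (hp i) * W (hl j))
      · rw [E_inv]
        apply sl_ext; intro v
        rw [sl_mul_mulVec, sl_mul_mulVec, E_mulVec, E_mulVec, E_mulVec, E_mulVec]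
        funext k
        by_cases hk : k = p
        · simp [hk, hp i, hpl.symm, hne.symm]
        · simp [hk, hp i, (hp i).symm, hpl.symm, hne.symm]
      · apply conj_of_mul
        rw [E_inv]
        apply sl_ext; intro v
        simp only [sl_mul_mulVec, E_mulVec, W_mulVec]
        funext k
        by_cases hk : k = p
        · simp [hk, hp i, (hp i).symm, hp j, (hp j).symm, hne, hne.symm, hl i, hl j, (hl i).symm,
            (hl j).symm, hpl, hpl.symm]; ring
        · by_cases hk1 : k = e i
          · simp [hk1, hp i, (hp i).symm, hp j, (hp j).symm, hne, hne.symm, hl i, hl j, (hl i).symm,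
            (hl j).symm, hpl, hpl.symm]
          · by_cases hk2 : k = e j
            · simp [hk2, hp i, (hp i).symm, hp j, (hp j).symm, hne, hne.symm, hl i, hl j, (hl i).symm,
            (hl j).symm, hpl, hpl.symm]
            · by_cases hk3 : k = l
              · simp [hk3, hp i, (hp i).symm, hp j, (hp j).symm, hne, hne.symm, hl i, hl j, (hl i).symm,
            (hl j).symm, hpl, hpl.symm]
              · simp [hk, hk1, hk2, hk3]
      · apply conj_of_mul
        rw [E_inv]
        apply sl_ext; intro v
        simp only [sl_mul_mulVec, E_mulVec, W_mulVec]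
        funext k
        by_cases hk : k = e i
        · simp [hk, hp i, (hp i).symm, hp j, (hp j).symm, hne, hne.symm, hl i, hl j, (hl i).symm,
            (hl j).symm, hpl, hpl.symm]
        · by_cases hk1 : k = p
          · simp [hk1, hp i, (hp i).symm, hp j, (hp j).symm, hne, hne.symm, hl i, hl j, (hl i).symm,
            (hl j).symm, hpl, hpl.symm]
          · by_cases hk2 : k = e j
            · simp [hk2, hp i, (hp i).symm, hp j, (hp j).symm, hne, hne.symm, hl i, hl j, (hl i).symm,
            (hl j).symm, hpl, hpl.symm]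
            · by_cases hk3 : k = l
              · simp [hk3, hp i, (hp i).symm, hp j, (hp j).symm, hne, hne.symm, hl i, hl j, (hl i).symm,
            (hl j).symm, hpl, hpl.symm]
              · simp [hk, hk1, hk2, hk3]
    have h2 := h1.inv'
    rwa [inv_inv] at h2
  · -- same
    by_cases hij : i = j
    · subst hij
      exact ⟨1, ⟨0, by simp⟩, by simp, by simp, by simp⟩
    · have hne : e i ≠ e j := fun h => hij (he h)
      refine ⟨W hne, ⟨2, W_pow hne⟩, ?_, ?_, ?_⟩
      · apply sl_ext; intro v
        simp only [sl_mul_mulVec, E_mulVec, W_mulVec]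
        funext k
        by_cases hk : k = p
        · simp [hk, hp i, hp j, (hl i).symm, (hl j).symm]
        · simp [hk, (hp i).symm, (hp j).symm]
      · apply conj_of_mul
        apply sl_ext; intro v
        simp only [sl_mul_mulVec, E_mulVec, W_mulVec]
        funext k
        by_cases hk : k = p
        · simp [hk, hp i, hp j, hne.symm]
        · simp [hk, (hp i).symm, (hp j).symm]
      · apply conj_of_mul
        apply sl_ext; intro v
        simp only [sl_mul_mulVec, E_mulVec, W_mulVec]
        funext k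
        by_cases hk : k = e i
        · simp [hk, hne, hne.symm, (hl i).symm, (hl j).symm]
        · by_cases hk' : k = e j
          · simp [hk', hne, hne.symm, (hl i).symm, (hl j).symm]
          · simp [hk, hk']

end Cfsg.Agent.Omega.TwoF.LBPsl
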