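import Cfsg.Agent.Omega.TwoF.LBPsl
import Cfsg.Agent.LieClassical.HermSiegel
import Cfsg.Agent.ClassicalGeometry.PSUAutBasic
import Cfsg.Agent.ClassicalGeometry.UnitAutBasic
import Cfsg.Agent.S0283

/-!
# The Heisenberg configuration of `SU_n(q)` and the lower bound for `PSU_n(q)`, odd characteristic
-/

set_option autoImplicit false
set_option linter.unusedSectionVars false
set_option linter.unusedSimpArgs false

universe u v w

namespace Cfsg.Agent.Omega.TwoF.LBPsu

open Cfsg Matrix Cfsg.Agent.Omega.Lie.Heis Cfsg.Agent.Omega.TwoF.SignLift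
open Cfsg.Agent.LieClassical.HermBasic Cfsg.Agent.LieClassical.HermSiegel
open Cfsg.Agent.Omega.TwoF.LBPsl (W W_mulVec conj_of_mul)

variable {F : Type*} [Field F] [Fintype F] {q n : ℕ}

/-! ### Signed permutations -/

theorem herm_W (hF : Fintype.card F = q ^ 2) {i j : Fin n} (hij : i ≠ j) (x y : Fin n → F) :
    hermForm n F q (((W hij : Matrix.SpecialLinearGroup (Fin n) F) : Matrix (Fin n) (Fin n) F) *ᵥ x)
      (((W hij : Matrix.SpecialLinearGroup (Fin n) F) : Matrix (Fin n) (Fin n) F) *ᵥ y)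
      = hermForm n F q x y := by
  rw [herm_def, herm_def, W_mulVec, W_mulVec]
  rw [← Equiv.sum_comp (Equiv.swap i j) (fun k => x k * y k ^ q)]
  apply Finset.sum_congr rfl
  intro k _
  by_cases hk : k = i
  · subst hk
    simp only [if_true, Equiv.swap_apply_left]
    rw [neg_pow_q hF]
    ring
  · by_cases hk' : k = j
    · subst hk'
      simp [hk, Equiv.swap_apply_right]
    · simp [hk, hk', Equiv.swap_apply_of_ne_of_ne hk hk']

/-- `e_i ↦ e_j ↦ - e_i` as an element of `SU`. -/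
def WU (hF : Fintype.card F = q ^ 2) {i j : Fin n} (hij : i ≠ j) : SU n F q :=
  mkSU ((W hij : Matrix.SpecialLinearGroup (Fin n) F) : Matrix (Fin n) (Fin n) F)
    (W hij : Matrix.SpecialLinearGroup (Fin n) F).2 (herm_W hF hij)

theorem act_WU (hF : Fintype.card F = q ^ 2) {i j : Fin n} (hij : i ≠ j) (x : Fin n → F) :
    act (WU hF hij) x = fun k => if k = i then - x j else if k = j then x i else x k :=
  W_mulVec hij x

/-- The sign change at `i` and `j`. -/
def HU (hF : Fintype.card F = q ^ 2) {i j : Fin n} (hij : i ≠ j) : SU n F q := WU hF hij * WU hF hij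

theorem act_HU (hF : Fintype.card F = q ^ 2) {i j : Fin n} (hij : i ≠ j) (x : Fin n → F) :
    act (HU hF hij) x = fun k => if k = i then - x i else if k = j then - x j else x k := by
  rw [HU, act_mul, act_WU, act_WU]
  funext k
  by_cases hk : k = i
  · subst hk
    simp [hij.symm]
  · by_cases hk' : k = j
    · subst hk'
      simp [hij.symm]
    · simp [hk, hk']

theorem WU_pow (hF : Fintype.card F = q ^ 2) {i j : Fin n} (hij : i ≠ j) :
    (WU hF hij : SU n F q) ^ (2 ^ 2) = 1 := by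
  have h1 : (WU hF hij : SU n F q) ^ (2 ^ 2) = HU hF hij * HU hF hij := by
    rw [HU]; simp [pow_succ, mul_assoc]
  rw [h1]
  apply ext_act
  intro x
  rw [act_mul, act_HU, act_HU, act_one]
  funext k
  by_cases hk : k = i
  · subst hk
    simp
  · by_cases hk' : k = j
    · subst hk'
      simp [hij.symm]
    · simp [hk, hk']

/-! ### Root elements at an isotropic vector -/

/-- An isotropic vector `u` and orthonormal vectors `w i` orthogonal to `u`. -/
structure Frame (q : ℕ) {m : ℕ} (u : Fin n → F) (w : Fin m → Fin n → F) : Prop where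
  uu : hermForm n F q u u = 0
  wu : ∀ i, hermForm n F q (w i) u = 0
  ww : ∀ i, hermForm n F q (w i) (w i) = 1
  ne : ∀ i j, i ≠ j → hermForm n F q (w i) (w j) = 0

variable {m : ℕ} {u : Fin n → F} {w : Fin m → Fin n → F}

theorem two_pow (hF : Fintype.card F = q ^ 2) : (2 : F) ^ q = 2 := by
  have := map_ofNat (conj hF) 2
  simpa [conj_apply] using this

theorem half_pow (hF : Fintype.card F = q ^ 2) : ((2 : F)⁻¹) ^ q = 2⁻¹ := by
  rw [inv_pow, two_pow hF]

theorem half_add (h2 : (2 : F) ≠ 0) (a : F) : -((2 : F)⁻¹ * a) + -((2 : F)⁻¹ * a) + a = 0 := by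
  have : (2 : F)⁻¹ * a + (2 : F)⁻¹ * a = a := by
    rw [← two_mul, ← mul_assoc, mul_inv_cancel₀ h2, one_mul]
  linear_combination -this

theorem isSiegel_T (hF : Fintype.card F = q ^ 2) (h2 : (2 : F) ≠ 0) (H : Frame q u w) (c : F)
    (i : Fin m) : IsSiegel q u (c • w i) (-((2 : F)⁻¹ * (c * c ^ q))) := by
  refine ⟨H.uu, by rw [herm_smul_left, H.wu, mul_zero], ?_⟩
  have h1 : (-((2 : F)⁻¹ * (c * c ^ q))) ^ q = -((2 : F)⁻¹ * (c * c ^ q)) := by
    rw [neg_pow_q hF, mul_pow, half_pow hF, norm_pow_q hF]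
  rw [h1, herm_smul_left, herm_smul_right, H.ww, mul_one]
  exact half_add h2 _

/-- The root element `T c i`. -/
def T (hF : Fintype.card F = q ^ 2) (h2 : (2 : F) ≠ 0) (H : Frame q u w) (c : F) (i : Fin m) :
    SU n F q := siegel hF u (c • w i) (-((2 : F)⁻¹ * (c * c ^ q))) (isSiegel_T hF h2 H c i)

theorem isSiegel_Z (hF : Fintype.card F = q ^ 2) (H : Frame q u w) {δ : F}
    (hδ : δ + δ ^ q = 0) : IsSiegel q u 0 δ :=
  ⟨H.uu, herm_zero_left u, by rw [herm_zero_left, add_zero, hδ]⟩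

/-- The central element. -/
def Z (hF : Fintype.card F = q ^ 2) (H : Frame q u w) {δ : F} (hδ : δ + δ ^ q = 0) : SU n F q :=
  siegel hF u 0 δ (isSiegel_Z hF H hδ)

theorem Z_comm (hF : Fintype.card F = q ^ 2) (h2 : (2 : F) ≠ 0) (H : Frame q u w) {δ : F}
    (hδ : δ + δ ^ q = 0) (c : F) (i : Fin m) : Z hF H hδ * T hF h2 H c i = T hF h2 H c i * Z hF H hδ := by
  rw [Z, T, siegel_mul, siegel_mul]
  apply siegel_congr hF _ _ rfl
  · rw [zero_add, add_zero]
  · rw [herm_zero_right hF, herm_zero_left]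
    ring

theorem T_comm (hF : Fintype.card F = q ^ 2) (h2 : (2 : F) ≠ 0) (H : Frame q u w) (c d : F)
    {i j : Fin m} (hij : i ≠ j) : T hF h2 H c i * T hF h2 H d j = T hF h2 H d j * T hF h2 H c i := by
  rw [T, T, siegel_mul, siegel_mul]
  apply siegel_congr hF _ _ rfl
  · rw [add_comm]
  · rw [herm_smul_left, herm_smul_right, herm_smul_left, herm_smul_right, H.ne i j hij,
      H.ne j i hij.symm]
    ring

theorem T_conj (hF : Fintype.card F = q ^ 2) (h2 : (2 : F) ≠ 0) (H : Frame q u w) {τ : F}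
    (hτ : τ ^ q = -τ) (hδ : 2 * τ + (2 * τ) ^ q = 0) (i : Fin m) :
    T hF h2 H τ i * T hF h2 H 1 i = T hF h2 H 1 i * Z hF H hδ * T hF h2 H τ i := by
  rw [T, T, Z, siegel_mul, siegel_mul, siegel_mul]
  apply siegel_congr hF _ _ rfl
  · rw [add_zero, add_comm]
  · rw [herm_smul_left, herm_smul_right, herm_zero_left, herm_smul_left, add_zero, herm_smul_right,
      H.ww, hτ]
    simp only [one_pow, mul_one, one_mul]
    ring

theorem T_inv (hF : Fintype.card F = q ^ 2) (h2 : (2 : F) ≠ 0) (H : Frame q u w) (c : F) (i : Fin m) :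
    (T hF h2 H c i)⁻¹ = T hF h2 H (-c) i := by
  rw [T, T, siegel_inv]
  apply siegel_congr hF _ _ rfl
  · rw [neg_smul]
  · rw [neg_pow_q hF, mul_pow, half_pow hF, norm_pow_q hF, neg_pow_q hF]
    ring

theorem T_pow (hF : Fintype.card F = q ^ 2) (h2 : (2 : F) ≠ 0) (H : Frame q u w) (c : F) (i : Fin m)
    (k : ℕ) : T hF h2 H c i ^ k = T hF h2 H (k * c) i := by
  induction k with
  | zero =>
    rw [pow_zero, T, ← siegel_zero hF (IsSiegel.zero hF H.uu)]
    apply siegel_congr hF _ _ rfl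
    · simp
    · rw [Nat.cast_zero, zero_mul, zero_mul, mul_zero, neg_zero]
  | succ k ih =>
    rw [pow_succ, ih, T, T, T, siegel_mul]
    apply siegel_congr hF _ _ rfl
    · rw [← add_smul]
      congr 1
      push_cast
      ring
    · have hk : ((k : F)) ^ q = k := map_natCast (conj hF) k
      have hk1 : (((k + 1 : ℕ) : F)) ^ q = ((k + 1 : ℕ) : F) := by
        have := map_natCast (conj hF) (k + 1)
        simpa [conj_apply] using this
      rw [herm_smul_left, herm_smul_right, H.ww, mul_pow, mul_pow, hk, hk1]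
      push_cast
      have h3 : (2 : F)⁻¹ * 2 = 1 := inv_mul_cancel₀ h2
      linear_combination ((k : F) * c * c ^ q) * h3

theorem Z_pow (hF : Fintype.card F = q ^ 2) (H : Frame q u w) {δ : F} (hδ : δ + δ ^ q = 0) (k : ℕ)
    (h0 : (k : F) = 0) : Z hF H hδ ^ k = 1 := by
  have key : ∀ k : ℕ, ∃ h : IsSiegel q u 0 ((k : F) * δ), Z hF H hδ ^ k = siegel hF u 0 (k * δ) h := by
    intro k
    induction k with
    | zero =>
      have h : IsSiegel q u 0 (((0 : ℕ) : F) * δ) := by
        rw [Nat.cast_zero, zero_mul]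
        exact IsSiegel.zero hF H.uu
      refine ⟨h, ?_⟩
      rw [pow_zero, ← siegel_zero hF (IsSiegel.zero hF H.uu)]
      exact siegel_congr hF _ _ rfl rfl (by rw [Nat.cast_zero, zero_mul])
    | succ k ih =>
      obtain ⟨h, ih⟩ := ih
      have h3 := h.mul hF (isSiegel_Z hF H hδ)
      have e1 : (k : F) * δ + δ - hermForm n F q 0 0 = ((k + 1 : ℕ) : F) * δ := by
        rw [herm_zero_left]
        push_cast
        ring
      have e2 : (0 : Fin n → F) + 0 = 0 := add_zero 0
      refine ⟨by rw [← e1, ← e2]; simpa using h3, ?_⟩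
      rw [pow_succ, ih, Z, siegel_mul]
      exact siegel_congr hF _ _ rfl e2 e1
  obtain ⟨h, hk⟩ := key k
  rw [hk, ← siegel_zero hF (IsSiegel.zero hF H.uu)]
  exact siegel_congr hF _ _ rfl rfl (by rw [h0, zero_mul])

/-- Conjugation by an element fixing `u` and moving `w i` to `w j`. -/
theorem conj_T (hF : Fintype.card F = q ^ 2) (h2 : (2 : F) ≠ 0) (H : Frame q u w) {g : SU n F q}
    (hu : act g u = u) {i j : Fin m} (hw : act g (w i) = w j) (c : F) :
    g * T hF h2 H c i * g⁻¹ = T hF h2 H c j := by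
  rw [T, T, conj_siegel]
  exact siegel_congr hF _ _ hu (by rw [act_smul, hw]) rfl

theorem conj_T_neg (hF : Fintype.card F = q ^ 2) (h2 : (2 : F) ≠ 0) (H : Frame q u w) {g : SU n F q}
    (hu : act g u = u) {i : Fin m} (hw : act g (w i) = -w i) (c : F) :
    g * T hF h2 H c i * g⁻¹ = (T hF h2 H c i)⁻¹ := by
  rw [T_inv, T, T, conj_siegel]
  refine siegel_congr hF _ _ hu (by rw [act_smul, hw, smul_neg, neg_smul]) ?_
  rw [neg_pow_q hF]
  ring

theorem conj_Z (hF : Fintype.card F = q ^ 2) (H : Frame q u w) {δ : F} (hδ : δ + δ ^ q = 0)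
    {g : SU n F q} (hu : act g u = u) : g * Z hF H hδ * g⁻¹ = Z hF H hδ := by
  rw [Z, conj_siegel]
  exact siegel_congr hF _ _ hu (act_zero g) rfl

/-- Conjugation by an element with `u ↦ - u` fixing `w i`. -/
theorem conj_T_neg' (hF : Fintype.card F = q ^ 2) (h2 : (2 : F) ≠ 0) (H : Frame q u w) {g : SU n F q}
    (hu : act g u = (-1 : F) • u) {i : Fin m} (hw : act g (w i) = w i) (c : F) :
    g * T hF h2 H c i * g⁻¹ = (T hF h2 H c i)⁻¹ := by
  have h1 := isSiegel_T hF h2 H c i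
  rw [T_inv, T, T, conj_siegel, siegel_congr hF _ (h1.smul (c := -1)) hu
    (show act g (c • w i) = c • w i by rw [act_smul, hw]) rfl, siegel_smul hF h1]
  have e1 : (-1 : F) ^ q = -1 := by rw [neg_pow_q hF, one_pow]
  refine siegel_congr hF _ _ rfl ?_ ?_
  · rw [e1, neg_smul, one_smul, neg_smul]
  · rw [e1, neg_pow_q hF]
    ring

theorem conj_Z_neg (hF : Fintype.card F = q ^ 2) (H : Frame q u w) {δ : F} (hδ : δ + δ ^ q = 0)
    {g : SU n F q} (hu : act g u = (-1 : F) • u) : g * Z hF H hδ * g⁻¹ = Z hF H hδ := by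
  have h1 := isSiegel_Z hF H hδ
  rw [Z, conj_siegel, siegel_congr hF _ (h1.smul (c := -1)) hu (act_zero g) rfl, siegel_smul hF h1]
  have e1 : (-1 : F) ^ q = -1 := by rw [neg_pow_q hF, one_pow]
  refine siegel_congr hF _ _ rfl (smul_zero _) ?_
  rw [e1]
  ring

theorem comm_of_conj {G : Type*} [Group G] {g a : G} (h : g * a * g⁻¹ = a) : g * a = a * g := by
  calc g * a = (g * a * g⁻¹) * g := by group
    _ = a * g := by rw [h]

/-- The Heisenberg configuration. -/
theorem heis (hF : Fintype.card F = q ^ 2) (h2 : (2 : F) ≠ 0) (H : Frame q u w) {r : ℕ}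
    (hr : r.Prime) [CharP F r] {τ : F} (hτ : τ ^ q = -τ) (hδ : 2 * τ + (2 * τ) ^ q = 0) :
    Heis r m (Z hF H hδ) (fun i => T hF h2 H 1 i) (fun i => T hF h2 H τ i) where
  prime := hr
  zr := Z_pow hF H hδ r (CharP.cast_eq_zero F r)
  xr i := by
    show T hF h2 H 1 i ^ r = 1
    rw [T_pow, CharP.cast_eq_zero F r, zero_mul, T, ← siegel_zero hF (IsSiegel.zero hF H.uu)]
    apply siegel_congr hF _ _ rfl
    · rw [zero_smul]
    · rw [zero_mul, mul_zero, neg_zero]
  zx i := Z_comm hF h2 H hδ 1 i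
  zy i := Z_comm hF h2 H hδ τ i
  xx i j := by
    by_cases hij : i = j
    · rw [hij]
    · exact T_comm hF h2 H 1 1 hij
  yx i j hij := T_comm hF h2 H τ 1 hij
  conj i := conj_of_mul (T_conj hF h2 H hτ hδ i)

/-- One pair. -/
theorem signHeis_one (hF : Fintype.card F = q ^ 2) (h2 : (2 : F) ≠ 0) {w : Fin 1 → Fin n → F}
    (H : Frame q u w) {r : ℕ} (hr : r.Prime) [CharP F r] {τ : F} (hτ : τ ^ q = -τ)
    (hδ : 2 * τ + (2 * τ) ^ q = 0) {g : SU n F q} (hu : act g u = (-1 : F) • u)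
    (hw : act g (w 0) = w 0) :
    SignHeis r 1 (Z hF H hδ) (fun i => T hF h2 H 1 i) (fun i => T hF h2 H τ i) := by
  have hinv : ∀ (c : F) (i : Fin 1), g * T hF h2 H c i * g⁻¹ = (T hF h2 H c i)⁻¹ := by
    intro c i
    have : i = 0 := Subsingleton.elim _ _
    subst this
    exact conj_T_neg' hF h2 H hu hw c
  have hz := comm_of_conj (conj_Z_neg hF H hδ hu)
  refine ⟨heis hF h2 H hr hτ hδ, fun i => ⟨g, hinv 1 i⟩, fun i => ?_, fun i => ?_, fun i j hij => ?_,
    fun i j hij => ?_, fun i j => ?_⟩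
  · exact (CC.inv g (Z_comm hF h2 H hδ 1 i).symm (hinv 1 i) hz).symm
  · exact (CC.inv g (Z_comm hF h2 H hδ τ i).symm (hinv τ i) hz).symm
  · exact absurd (Subsingleton.elim i j) hij
  · exact absurd (Subsingleton.elim i j) hij
  · have : i = j := Subsingleton.elim _ _
    subst this
    exact ⟨1, ⟨0, by simp⟩, by simp, by simp, by simp⟩

/-- The general configuration. -/
theorem signHeis (hF : Fintype.card F = q ^ 2) (h2 : (2 : F) ≠ 0) (H : Frame q u w) {r : ℕ}
    (hr : r.Prime) [CharP F r] {τ : F} (hτ : τ ^ q = -τ) (hδ : 2 * τ + (2 * τ) ^ q = 0)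
    (hinv : ∀ i, ∃ g : SU n F q, act g u = u ∧ act g (w i) = -w i)
    (hsep : ∀ i j, i ≠ j → ∃ g : SU n F q, act g u = u ∧ act g (w i) = -w i ∧ act g (w j) = w j)
    (hswp : ∀ i j, ∃ g : SU n F q, (∃ k : ℕ, g ^ (2 ^ k) = 1) ∧ act g u = u ∧ act g (w i) = w j) :
    SignHeis r m (Z hF H hδ) (fun i => T hF h2 H 1 i) (fun i => T hF h2 H τ i) := by
  refine ⟨heis hF h2 H hr hτ hδ, fun i => ?_, fun i => ?_, fun i => ?_, fun i j hij => ?_,
    fun i j hij => ?_, fun i j => ?_⟩
  · obtain ⟨g, hu, hw⟩ := hinv i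
    exact ⟨g, conj_T_neg hF h2 H hu hw 1⟩
  · obtain ⟨g, hu, hw⟩ := hinv i
    exact (CC.inv g (Z_comm hF h2 H hδ 1 i).symm (conj_T_neg hF h2 H hu hw 1)
      (comm_of_conj (conj_Z hF H hδ hu))).symm
  · obtain ⟨g, hu, hw⟩ := hinv i
    exact (CC.inv g (Z_comm hF h2 H hδ τ i).symm (conj_T_neg hF h2 H hu hw τ)
      (comm_of_conj (conj_Z hF H hδ hu))).symm
  · obtain ⟨g, hu, hw, hw'⟩ := hsep i j hij
    exact CC.inv g (T_comm hF h2 H 1 1 hij) (conj_T_neg hF h2 H hu hw 1)
      (comm_of_conj (conj_T hF h2 H hu hw' 1))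
  · obtain ⟨g, hu, hw, hw'⟩ := hsep i j hij
    exact CC.inv g (T_comm hF h2 H τ 1 hij) (conj_T_neg hF h2 H hu hw τ)
      (comm_of_conj (conj_T hF h2 H hu hw' 1))
  · obtain ⟨g, hg, hu, hw⟩ := hswp i j
    exact ⟨g, hg, comm_of_conj (conj_Z hF H hδ hu), conj_T hF h2 H hu hw 1, conj_T hF h2 H hu hw τ⟩

/-- The central element is not trivial modulo the centre. -/
theorem Z_ne (hF : Fintype.card F = q ^ 2) (hn : 3 ≤ n) (hm : 0 < m) (H : Frame q u w) {δ : F}
    (hδ : δ + δ ^ q = 0) (h0 : δ ≠ 0) (hu : u ≠ 0) :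
    Cfsg.Agent.ClassicalGeometry.UnitAutBasic.pr n F q (Z hF H hδ) ≠ 1 := by
  intro h1
  have h2 : Z hF H hδ ∈ Subgroup.center (SU n F q) := (QuotientGroup.eq_one_iff _).1 h1
  obtain ⟨c, hc0, -, hc⟩ :=
    Cfsg.Agent.ClassicalGeometry.PSUAutBasic.exists_scalar_of_mem_center hF hn h2
  have h3 : act (Z hF H hδ) u = u := act_siegel_self hF _
  rw [hc] at h3
  have h4 : c = 1 := by
    have h5 : (c - 1) • u = 0 := by rw [sub_smul, one_smul, h3, sub_self]
    rcases smul_eq_zero.1 h5 with h | h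
    · exact sub_eq_zero.1 h
    · exact absurd h hu
  obtain ⟨v, hv⟩ := exists_herm_ne_zero hF hu
  have hv' : hermForm n F q v u ≠ 0 := fun h => hv (herm_eq_zero_swap hF h)
  have h6 := hc v
  rw [h4, one_smul, Z, act_siegel, smul_zero, add_zero, herm_zero_right hF, sub_zero] at h6
  have h7 : (δ * hermForm n F q v u) • u = 0 := by
    have := congrArg (fun x => x - v) h6
    simpa using this
  rcases smul_eq_zero.1 h7 with h | h
  · exact (mul_ne_zero h0 hv') h
  · exact hu h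

/-! ### The standard frame -/

theorem exists_alpha (hF : Fintype.card F = q ^ 2) : ∃ α : F, α * α ^ q = -1 :=
  exists_norm_eq hF (by rw [neg_pow_q hF, one_pow])

theorem exists_tau (hF : Fintype.card F = q ^ 2) : ∃ τ : F, τ ≠ 0 ∧ τ ^ q = -τ := by
  obtain ⟨τ, h0, h⟩ := exists_trace_zero_ne hF
  exact ⟨τ, h0, by linear_combination h⟩

/-- The standard isotropic vector. -/
def uu (n : ℕ) (α : F) : Fin (n + 2) → F := Pi.single 0 1 + α • Pi.single 1 1

/-- The standard orthonormal vectors. -/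
def ww (n : ℕ) (i : Fin n) : Fin (n + 2) → F := Pi.single i.succ.succ 1

theorem frame (hF : Fintype.card F = q ^ 2) {α : F} (hα : α * α ^ q = -1) {k : ℕ} (e : Fin m → Fin k)
    (he : Function.Injective e) : Frame q (uu k α) (fun i => ww k (e i)) where
  uu := by
    rw [uu, herm_add_left, herm_smul_left, herm_single_left, herm_single_left]
    simp only [Pi.add_apply, Pi.smul_apply, Pi.single_eq_same, smul_eq_mul, one_mul, mul_one]
    rw [Pi.single_eq_of_ne (by simp : (0 : Fin (k + 2)) ≠ 1), Pi.single_eq_of_ne (by simp : (1 : Fin (k + 2)) ≠ 0)]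
    simp [hα]
  wu i := by
    rw [ww, herm_single_left, uu]
    have h1 : (e i).succ.succ ≠ (0 : Fin (k + 2)) := Fin.succ_ne_zero _
    have h3 : (e i).succ.succ ≠ (1 : Fin (k + 2)) := by
      intro h
      have := congrArg Fin.val h
      simp at this
    simp only [Pi.add_apply, Pi.smul_apply, Pi.single_eq_of_ne h1, Pi.single_eq_of_ne h3, smul_eq_mul,
      mul_zero, add_zero]
    rw [zero_pow_q hF, mul_zero]
  ww i := by
    rw [ww, herm_single_left, Pi.single_eq_same, one_pow, one_mul]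
  ne i j hij := by
    rw [ww, ww, herm_single_left, Pi.single_eq_of_ne, zero_pow_q hF, mul_zero]
    intro h
    exact hij (he (Fin.succ_injective _ (Fin.succ_injective _ h)))

theorem uu_ne {k : ℕ} (α : F) : uu k α ≠ 0 := by
  intro h
  have := congrFun h 0
  simp [uu] at this

end Cfsg.Agent.Omega.TwoF.LBPsu
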