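import Cfsg.Agent.Omega.TwoF.Rk
import Cfsg.Agent.KFacts.M23.OutOne
import Cfsg.Agent.Schreier.MEleven
import Cfsg.Agent.OddHalf.Table.OutBasic
import Cfsg.Agent.SporadicA.DegreePrime

/-!
# 2-ranks of `Aut(M11)` and `Aut(M23)`

`rk_M11 : RK K 2`, `rk_M23 : RK K 5`: from `Out = 1` and an explicit element of order 8.
-/

set_option autoImplicit false
set_option Elab.async false

open scoped Pointwise

universe u

namespace Cfsg.Agent.Omega.TwoF

open Cfsg Cfsg.Agent.Omega.TwoF.Rk
open Cfsg.Agent.SporadicA.GolayBase Cfsg.Agent.SporadicA.GolayPerm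
open Cfsg.Agent.SporadicStructure.M24El

theorem fact_le {n e : ℕ} (hn : n ≠ 0) (h : ¬ 2 ^ (e + 1) ∣ n) : n.factorization 2 ≤ e := by
  by_contra hlt
  exact h ((Nat.Prime.pow_dvd_iff_le_factorization Nat.prime_two hn).2 (by omega))

/-- `Out K = 1`. -/
theorem card_mulAut_of_inner {K : Type*} [Group K] [Finite K] (hc : Subgroup.center K = ⊥)
    (h : ∀ φ : MulAut K, ∃ k : K, φ = MulAut.conj k) : Nat.card (MulAut K) = Nat.card K := by
  rw [card_mulAut hc (n := 1), one_mul]
  rw [Subgroup.index_eq_one, eq_top_iff]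
  intro φ _
  obtain ⟨k, hk⟩ := h φ
  exact ⟨k, hk.symm⟩

/-- `Out K` has order at most 2. -/
theorem card_mulAut_dvd_two {K : Type*} [Group K] [Finite K] (hc : Subgroup.center K = ⊥)
    (h : (MulAut.conj : K →* MulAut K).range.index = 1 ∨ (MulAut.conj : K →* MulAut K).range.index = 2) :
    Nat.card (MulAut K) ∣ 2 * Nat.card K := by
  apply card_mulAut_le hc
  rcases h with h | h <;> rw [h] <;> norm_num

/-- fourth and eighth power of a packed permutation -/
def p4 (P : ℕ) : ℕ := pcomp (pcomp P P) (pcomp P P)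

theorem el_p4 {P : ℕ} (hP : ok P = true) : el (p4 P) = el P ^ 4 := by
  have h2 := ok_pcomp hP hP
  rw [p4, el_pcomp h2 h2, el_pcomp hP hP]
  simp only [pow_succ, pow_zero, one_mul, mul_assoc]

theorem orderOf_el {P i : ℕ} (hP : ok P = true) (h8 : pcomp (p4 P) (p4 P) = idP)
    (h4 : papp (p4 P) (idx (pt i)) ≠ idx (pt i)) : orderOf (el P) = 2 ^ 3 := by
  have : Fact (Nat.Prime 2) := ⟨Nat.prime_two⟩
  have h2 := ok_pcomp hP hP
  have hok : ok (p4 P) = true := ok_pcomp h2 h2
  apply orderOf_eq_prime_pow (n := 2)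
  · intro h
    apply h4
    have h5 := idx_el_smul hok (pt i)
    rw [el_p4 hP] at h5
    rw [← h5]
    have h6 : el P ^ 4 = 1 := h
    rw [h6, one_smul]
  · have h5 := el_pcomp hok hok
    rw [h8, el_idP, el_p4 hP, ← pow_add] at h5
    exact h5.symm

/-- an element of order 8 of `M22 ≤ M23` -/
def P8 : ℕ := 961117578567094003856063585073794272

/-- an element of order 8 of `M11` -/
def R8 : ℕ := 596593819786465906808333570667497536

theorem ok_P8 : ok P8 = true := by decide +kernel
theorem ok_R8 : ok R8 = true := by decide +kernel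

theorem ord_P8 : orderOf (el P8) = 2 ^ 3 := orderOf_el (i := 1) ok_P8 (by decide +kernel) (by decide +kernel)
theorem ord_R8 : orderOf (el R8) = 2 ^ 3 := orderOf_el (i := 1) ok_R8 (by decide +kernel) (by decide +kernel)

theorem P8_mem : (el P8 : Equiv.Perm GolayPt) ∈ Spor.M23 := by
  rw [Cfsg.Agent.SporadicA.MathieuRecog.mem_M23_iff]
  refine ⟨(el P8).2, ?_⟩
  have h := el_smul_pt ok_P8 none
  have h1 : pt (papp P8 (idx none)) = none := by decide +kernel
  rw [h1] at h
  exact h

theorem squareDodecad_eq : Spor.squareDodecad = fin 340831 := by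
  ext x
  revert x
  decide +kernel

theorem R8_mem : (el R8 : Equiv.Perm GolayPt) ∈ Spor.M11 := by
  refine ⟨⟨(el R8).2, ?_⟩, ?_⟩
  · show (el R8 : Equiv.Perm GolayPt) • Spor.squareDodecad = Spor.squareDodecad
    rw [← coe_smul_finset, squareDodecad_eq, el_smul_fin ok_R8]
    exact congrArg fin (by decide +kernel)
  · show (el R8 : Equiv.Perm GolayPt) (some 0) = some 0
    have h := el_smul_pt ok_R8 (some 0)
    have h1 : pt (papp R8 (idx (some 0))) = some 0 := by decide +kernel
    rw [h1] at h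
    exact h

theorem isM11 : Cfsg.IsM11 Spor.M11 := by
  have h := Cfsg.Agent.Schreier.MEleven.isM11
  refine ⟨?_, ?_⟩
  · have := h.1
    exact (Cfsg.Agent.Schreier.MEleven.equiv).symm.isSimpleGroup
  · rw [← h.2]
    exact Nat.card_congr (Cfsg.Agent.Schreier.MEleven.equiv).symm.toEquiv

theorem rk_M11 {K : Type*} [Group K] (h : Spor.IsoM11 K) : RK.{u} K 2 := by
  obtain ⟨e⟩ := h
  have hs : IsSimpleGroup Spor.M11 := isM11.1
  have hfin : Finite Spor.M11 := Nat.finite_of_card_ne_zero (by rw [isM11.2]; norm_num)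
  have hc : Subgroup.center Spor.M11 = ⊥ :=
    Cfsg.Agent.OddHalf.Table.OutBasic.center_eq_bot (by rw [isM11.2]; norm_num)
  have hcard := card_mulAut_of_inner hc
    (fun φ => Cfsg.Agent.SectRankFour.AutM11.exists_conj isM11 φ)
  have hfin' : Finite (MulAut Spor.M11) :=
    Nat.finite_of_card_ne_zero (by rw [hcard, isM11.2]; norm_num)
  refine RK.of_equiv (rk_of_elt (e := 4) (k := 3) ?_ (⟨el R8, R8_mem⟩ : Spor.M11) ?_ (by norm_num)) e.symm
  · rw [hcard, isM11.2]
    exact fact_le (by norm_num) (by norm_num)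
  · rw [← ord_R8, ← Subgroup.orderOf_coe (el R8), ← Subgroup.orderOf_coe]

/-- The points different from `none`. -/
abbrev Pt23 : Type := {p : GolayPt // p ≠ none}

theorem M23_none (g : Spor.M23) : (g : Equiv.Perm GolayPt) none = none :=
  ((Cfsg.Agent.SporadicA.MathieuRecog.mem_M23_iff _).1 g.2).2

instance : MulAction Spor.M23 Pt23 where
  smul g p := ⟨(g : Equiv.Perm GolayPt) p, fun h => p.2 (by
    have h1 := (g : Equiv.Perm GolayPt).injective (h.trans (M23_none g).symm)
    exact h1)⟩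
  one_smul p := Subtype.ext rfl
  mul_smul g h p := Subtype.ext rfl

instance : FaithfulSMul Spor.M23 Pt23 where
  eq_of_smul_eq_smul {g h} H := by
    apply Subtype.ext
    ext1 p
    by_cases hp : p = none
    · rw [hp, M23_none, M23_none]
    · exact congrArg Subtype.val (H ⟨p, hp⟩)

theorem simple_M23 : IsSimpleGroup Spor.M23 := by
  refine Cfsg.Agent.SporadicA.DegreePrime.isSimpleGroup_of_card_degree23 (Ω := Pt23) ?_
    Cfsg.Agent.SporadicA.MathieuRecog.card_M23
  rw [Nat.card_eq_fintype_card]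
  decide +kernel

theorem rk_M23 {K : Type*} [Group K] (h : Spor.IsoM23 K) : RK.{u} K 5 := by
  obtain ⟨e⟩ := h
  have hM : Nat.card Spor.M23 = 10200960 := Cfsg.Agent.SporadicA.MathieuRecog.card_M23
  have hfin : Finite Spor.M23 := Nat.finite_of_card_ne_zero (by rw [hM]; norm_num)
  have hs : IsSimpleGroup Spor.M23 := simple_M23
  have hc : Subgroup.center Spor.M23 = ⊥ :=
    Cfsg.Agent.OddHalf.Table.OutBasic.center_eq_bot (by rw [hM]; norm_num)
  have hcard := card_mulAut_of_inner hc (fun φ => Cfsg.Agent.KFacts.M23.OutOne.exists_conj φ)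
  have hfin' : Finite (MulAut Spor.M23) :=
    Nat.finite_of_card_ne_zero (by rw [hcard, hM]; norm_num)
  refine RK.of_equiv (rk_of_elt (e := 7) (k := 3) ?_ (⟨el P8, P8_mem⟩ : Spor.M23) ?_ (by norm_num)) e.symm
  · rw [hcard, hM]
    exact fact_le (by norm_num) (by norm_num)
  · rw [← ord_P8, ← Subgroup.orderOf_coe (el P8), ← Subgroup.orderOf_coe]

end Cfsg.Agent.Omega.TwoF
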