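import Cfsg.Agent.Omega.TwoF.Orb

/-!
# The minimal index bound (ME)

`A ≤ L` finite abelian of order prime to `ℓ`, normalised by a finite perfect group `P ≤ L` without proper subgroups of
index `< m`, and `[A, P]` acts nontrivially on the finite abelian `ℓ`-group `V`: then `|V : C_V(A)| ≥ (ℓ ^ ord_r(ℓ)) ^ m` for
some prime `r ∣ |A|` (`minIndex`, `minIndex_card`).
-/

set_option autoImplicit false
set_option linter.unusedSectionVars false
set_option linter.style.haveILetI false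
set_option linter.unusedVariables false

namespace Cfsg.Agent.Omega.TwoF.Orb

open Subgroup
open scoped commutatorElement

section

variable {L : Type*} [Group L]

/-- an element normalising `E` and the hyperplane `H` acts on `E / H` as a power map -/
theorem Elem.exists_zpow {r : ℕ} [Fact r.Prime] {E H : Subgroup L} [Finite E] (h : Elem r E) (hle : H ≤ E)
    (hi : H.relIndex E = r) {x : L} (hE : cj x E = E) (hH : cj x H = H) :
    ∃ k : ℤ, ∀ b ∈ E, (b ^ k)⁻¹ * (x * b * x⁻¹) ∈ H := by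
  classical
  letI : CommGroup E := { (inferInstance : Group E) with mul_comm := fun a b => Subtype.ext (h.comm a a.2 b b.2) }
  let σ : E ≃* E := ((MulAut.conj x).subgroupMap E).trans (MulEquiv.subgroupCongr hE)
  have hσ : ∀ a : E, ((σ a : E) : L) = x * a * x⁻¹ := fun a => rfl
  have hmap : H.subgroupOf E ≤ (H.subgroupOf E).comap (σ : E →* E) := by
    intro c hc
    rw [mem_comap, mem_subgroupOf]
    change ((σ c : E) : L) ∈ H
    rw [hσ, ← hH]
    exact mem_cj hc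
  let τ : (E ⧸ H.subgroupOf E) →* (E ⧸ H.subgroupOf E) := QuotientGroup.map _ _ (σ : E →* E) hmap
  have hτ : ∀ a : E, τ (a : E ⧸ H.subgroupOf E) = ((σ a : E) : E ⧸ H.subgroupOf E) := fun a => rfl
  have hcard : Nat.card (E ⧸ H.subgroupOf E) = r := hi
  haveI hcyc : IsCyclic (E ⧸ H.subgroupOf E) := isCyclic_of_prime_card hcard
  obtain ⟨k, hk⟩ := MonoidHom.map_cyclic τ
  refine ⟨k, fun b hb => ?_⟩
  have h4 : (((⟨b, hb⟩ : E) ^ k : E) : E ⧸ H.subgroupOf E) = ((σ ⟨b, hb⟩ : E) : E ⧸ H.subgroupOf E) := by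
    rw [← hτ, hk]
    rfl
  have h6 := QuotientGroup.eq.1 h4
  exact h6

/-- a perfect group acts trivially on `E / H` -/
theorem Elem.comm_mem_of_perfect {r : ℕ} [Fact r.Prime] {E H : Subgroup L} [Finite E] (h : Elem r E) (hle : H ≤ E)
    (hi : H.relIndex E = r) {P : Subgroup L} (hE : P ≤ stab E) (hH : P ≤ stab H) (hP : ⁅P, P⁆ = P) {x : L}
    (hx : x ∈ P) {b : L} (hb : b ∈ E) : b⁻¹ * (x * b * x⁻¹) ∈ H := by
  have hEm : ∀ y ∈ P, ∀ c ∈ E, y * c * y⁻¹ ∈ E := fun y hy c hc => by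
    have := mem_cj (g := y) hc
    rwa [mem_stab.1 (hE hy)] at this
  have hHm : ∀ y ∈ P, ∀ c ∈ H, y * c * y⁻¹ ∈ H := fun y hy c hc => by
    have := mem_cj (g := y) hc
    rwa [mem_stab.1 (hH hy)] at this
  -- `N` = elements of `P` acting trivially on `E / H`
  let N : Subgroup L :=
    { carrier := {y | y ∈ P ∧ ∀ c ∈ E, c⁻¹ * (y * c * y⁻¹) ∈ H}
      one_mem' := ⟨one_mem P, fun c _ => by simp [one_mem]⟩
      mul_mem' := fun {y z} hy hz => ⟨mul_mem hy.1 hz.1, fun c hc => by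
        have e : c⁻¹ * (y * z * c * (y * z)⁻¹) =
            (c⁻¹ * (y * c * y⁻¹)) * (y * (c⁻¹ * (z * c * z⁻¹)) * y⁻¹) := by group
        rw [e]
        exact mul_mem (hy.2 c hc) (hHm y hy.1 _ (hz.2 c hc))⟩
      inv_mem' := fun {y} hy => ⟨inv_mem hy.1, fun c hc => by
        have e : c⁻¹ * (y⁻¹ * c * y⁻¹⁻¹) = y⁻¹ * (c⁻¹ * (y * c * y⁻¹))⁻¹ * y⁻¹⁻¹ *
            (y⁻¹ * (c⁻¹ * (y * c * y⁻¹)) * y⁻¹⁻¹ * (c⁻¹ * (y⁻¹ * c * y⁻¹⁻¹))) := by group
        have hyc : y⁻¹ * c * y⁻¹⁻¹ ∈ E := hEm _ (inv_mem hy.1) c hc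
        have h1 := hy.2 _ hyc
        have e2 : (y⁻¹ * c * y⁻¹⁻¹)⁻¹ * (y * (y⁻¹ * c * y⁻¹⁻¹) * y⁻¹) = (c⁻¹ * (y⁻¹ * c * y⁻¹⁻¹))⁻¹ *
            (c⁻¹ * c) := by
          have e3 : y * (y⁻¹ * c * y⁻¹⁻¹) * y⁻¹ = c := by group
          rw [e3]
          group
        rw [e2, inv_mul_cancel, mul_one] at h1
        exact inv_mem_iff.1 h1⟩ }
  have hcomm : ⁅P, P⁆ ≤ N := by
    rw [commutator_le]
    intro y hy z hz
    refine ⟨?_, fun c hc => ?_⟩
    · rw [commutatorElement_def]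
      exact mul_mem (mul_mem (mul_mem hy hz) (inv_mem hy)) (inv_mem hz)
    · obtain ⟨k, hk⟩ := h.exists_zpow hle hi (hE hy) (hH hy)
      obtain ⟨l, hl⟩ := h.exists_zpow hle hi (hE hz) (hH hz)
      -- `d = (z y)⁻¹ c (z y)`, so `c = z y d (z y)⁻¹` and `[y,z] c [y,z]⁻¹ = y z d (y z)⁻¹`
      set d := (z * y)⁻¹ * c * (z * y) with hd
      have hdE : d ∈ E := by
        have := hEm _ (inv_mem (mul_mem hz hy)) c hc
        rwa [inv_inv] at this
      have hzpow : ∀ a ∈ E, ∀ a' ∈ E, ∀ n : ℤ, (a * a') ^ n = a ^ n * a' ^ n := fun a ha a' ha' n =>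
        (show Commute a a' from h.comm a ha a' ha').mul_zpow n
      -- `y z d (y z)⁻¹ ≡ d ^ (k * l)`
      have key : ∀ (y z : L) (k l : ℤ), y ∈ P → z ∈ P → (∀ b ∈ E, (b ^ k)⁻¹ * (y * b * y⁻¹) ∈ H) →
          (∀ b ∈ E, (b ^ l)⁻¹ * (z * b * z⁻¹) ∈ H) → (d ^ (k * l))⁻¹ * (y * z * d * (y * z)⁻¹) ∈ H := by
        intro y z k l hy hz hk hl
        have h1 := hl d hdE
        have h2 := hHm y hy _ h1
        have h3 := hk (d ^ l) (zpow_mem hdE l)
        have h4 := mul_mem h3 h2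
        have e : ((d ^ l) ^ k)⁻¹ * (y * d ^ l * y⁻¹) * (y * ((d ^ l)⁻¹ * (z * d * z⁻¹)) * y⁻¹) =
            ((d ^ l) ^ k)⁻¹ * (y * z * d * (y * z)⁻¹) := by group
        rw [e, ← zpow_mul, mul_comm l k] at h4
        exact h4
      have h1 := key y z k l hy hz hk hl
      have h2 := key z y l k hz hy hl hk
      rw [mul_comm l k] at h2
      have h3 := mul_mem (inv_mem h2) h1
      have e1 : (z * y) * d * (z * y)⁻¹ = c := by rw [hd]; group
      have e2 : (y * z) * d * (y * z)⁻¹ = ⁅y, z⁆ * c * ⁅y, z⁆⁻¹ := by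
        rw [hd, commutatorElement_def]
        group
      rw [e1, e2] at h3
      have e3 : ((d ^ (k * l))⁻¹ * c)⁻¹ * ((d ^ (k * l))⁻¹ * (⁅y, z⁆ * c * ⁅y, z⁆⁻¹)) =
          c⁻¹ * (⁅y, z⁆ * c * ⁅y, z⁆⁻¹) := by group
      rwa [e3] at h3
  rw [hP] at hcomm
  exact (hcomm hx).2 b hb

variable {V : Type*} [CommGroup V] [Finite V] {φ : L →* MulAut V}

/-- **(ME), elementary abelian case** -/
theorem Elem.minIndex {r ℓ : ℕ} [Fact r.Prime] [Fact ℓ.Prime] (hrl : r ≠ ℓ) (hV : IsPGroup ℓ V)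
    {E : Subgroup L} [Finite E] (h : Elem r E) {P : Subgroup L} [Finite P] (hE : P ≤ stab E) (hP : ⁅P, P⁆ = P) {m : ℕ}
    (hmin : ∀ Q : Subgroup L, Q ≤ P → Q ≠ P → m ≤ Q.relIndex P)
    (hne : ∃ x ∈ P, ∃ b ∈ E, φ (x * b * x⁻¹) ≠ φ b) : (ℓ ^ orderOf (ℓ : ZMod r)) ^ m ≤ (fx φ E).index := by
  classical
  obtain ⟨x, hx, b, hb, hne⟩ := hne
  have hxb : x * b * x⁻¹ ∈ E := by
    have := mem_cj (g := x) hb
    rwa [mem_stab.1 (hE hx)] at this
  have hE0 : fx φ E ≠ ⊤ := by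
    intro h1
    apply hne
    have h2 : ∀ b ∈ E, φ b = 1 := by
      intro b hb
      ext v
      have : v ∈ fx φ E := h1 ▸ mem_top v
      exact this b hb
    rw [h2 _ hb, h2 _ hxb]
  obtain ⟨H, hle, hi, hfx, hst⟩ : ∃ H ≤ E, H.relIndex E = r ∧ fx φ H ≠ fx φ E ∧ ¬ P ≤ stab H := by
    by_contra hcon
    push Not at hcon
    apply hne
    have hc : b⁻¹ * (x * b * x⁻¹) ∈ E := mul_mem (inv_mem hb) hxb
    have hE1 : E ≠ ⊥ := by
      rintro rfl
      apply hE0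
      rw [eq_top_iff]
      rintro v - x hx
      rw [Subgroup.mem_bot.1 hx, map_one, MulAut.one_apply]
    have h1 : ∀ v : V, φ (b⁻¹ * (x * b * x⁻¹)) v = v := by
      intro v
      have h2 : v ∈ ⨆ H : {H : Subgroup L // H ≤ E ∧ H.relIndex E = r}, fx φ H.1 := by
        rw [h.iSup_fx (φ := φ) hrl hV hE1]
        exact mem_top v
      have h3 : ⨆ H : {H : Subgroup L // H ≤ E ∧ H.relIndex E = r}, fx φ H.1 ≤
          fx φ (zpowers (b⁻¹ * (x * b * x⁻¹))) := by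
        refine iSup_le fun H => ?_
        by_cases hH : fx φ H.1 = fx φ E
        · rw [hH]
          exact fx_anti (by rw [zpowers_le]; exact hc)
        · refine fx_anti ?_
          rw [zpowers_le]
          exact h.comm_mem_of_perfect H.2.1 H.2.2 hE (hcon H.1 H.2.1 H.2.2 hH) hP hx hb
      exact h3 h2 _ (mem_zpowers _)
    have h4 : φ (b⁻¹ * (x * b * x⁻¹)) = 1 := by
      ext v
      exact h1 v
    rw [map_mul, map_inv] at h4
    exact (inv_mul_eq_one.1 h4).symm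
  have h1 : m ≤ (stab H).relIndex P := by
    have := hmin (stab H ⊓ P) inf_le_right (fun h => hst (inf_eq_right.1 h))
    rwa [inf_relIndex_right] at this
  -- `m` coset representatives
  obtain ⟨f⟩ : Nonempty (Fin m ↪ P ⧸ (stab H).subgroupOf P) := by
    letI : Fintype (P ⧸ (stab H).subgroupOf P) := Fintype.ofFinite _
    apply Function.Embedding.nonempty_of_card_le
    rw [Fintype.card_fin, ← Nat.card_eq_fintype_card]
    exact h1
  have h2 := h.pow_le_index (φ := φ) hrl hV hle hi hfx (fun i : Fin m => (((f i).out : P) : L))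
    (fun i => hE (f i).out.2) (fun i j hij hcon => hij (f.injective (by
      rw [← Quotient.out_eq' (f i), ← Quotient.out_eq' (f j)]
      refine QuotientGroup.eq.2 ?_
      rw [mem_subgroupOf, mem_stab]
      change cj ((((f i).out : P) : L)⁻¹ * (((f j).out : P) : L)) H = H
      rw [cj_mul, ← hcon, ← cj_mul, inv_mul_cancel, cj_one])))
  rwa [Fintype.card_fin] at h2

/-- an element of prime order moved by a perfect group -/
theorem exists_prime_moved_perfect {A P : Subgroup L} [Finite A] (hA : ∀ a ∈ A, ∀ b ∈ A, a * b = b * a)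
    (hE : ∀ x ∈ P, ∀ a ∈ A, x * a * x⁻¹ ∈ A) (hP : ⁅P, P⁆ = P) (hne : ∃ x ∈ P, ∃ b ∈ A, x * b * x⁻¹ ≠ b) :
    ∃ r, r.Prime ∧ r ∣ Nat.card A ∧ ∃ x ∈ P, ∃ b ∈ A, b ^ r = 1 ∧ x * b * x⁻¹ ≠ b := by
  classical
  by_contra hcon
  push Not at hcon
  -- by induction on the order, every element of `A` is centralised by `P`
  obtain ⟨x, hx, b, hb, hne⟩ := hne
  apply hne
  have key : ∀ (n : ℕ), ∀ b ∈ A, orderOf b ≤ n → ∀ x ∈ P, x * b * x⁻¹ = b := by
    intro n
    induction n with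
    | zero =>
      intro b hb hn x hx
      have h1 : orderOf (⟨b, hb⟩ : A) ≠ 0 := (orderOf_pos _).ne'
      rw [Subgroup.orderOf_mk] at h1
      omega
    | succ n ih =>
      intro b hb hn x hx
      by_cases h1 : orderOf b = 1
      · rw [orderOf_eq_one_iff.1 h1]
        group
      obtain ⟨r, hr, k, hk⟩ := Nat.exists_prime_and_dvd h1
      have hpos : 0 < orderOf b := by
        have h1 := orderOf_pos (⟨b, hb⟩ : A)
        rwa [Subgroup.orderOf_mk] at h1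
      have hrA : r ∣ Nat.card A := by
        refine (Dvd.intro _ hk.symm).trans ?_
        have := orderOf_dvd_natCard (⟨b, hb⟩ : A)
        rwa [Subgroup.orderOf_mk] at this
      have hk0 : k ≠ 0 := fun h => hpos.ne' (by rw [hk, h, mul_zero])
      -- `b ^ r` has smaller order, so is centralised; the commutators `[x, b]` have order `r`
      have h2 : ∀ y ∈ P, y * b ^ r * y⁻¹ = b ^ r := by
        refine ih (b ^ r) (pow_mem hb r) ?_
        rw [orderOf_pow_of_dvd hr.ne_zero (Dvd.intro _ hk.symm), hk, Nat.mul_div_cancel_left _ hr.pos]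
        have := hr.two_le
        have hk' : k < r * k := by
          have := Nat.pos_of_ne_zero hk0
          nlinarith
        omega
      have h3 : ∀ y ∈ P, (b⁻¹ * (y * b * y⁻¹)) ^ r = 1 := by
        intro y hy
        have hc : Commute b⁻¹ (y * b * y⁻¹) := hA _ (inv_mem hb) _ (hE y hy b hb)
        rw [hc.mul_pow, conj_pow, h2 y hy, inv_pow, inv_mul_cancel]
      have h4 : ∀ y ∈ P, ∀ z ∈ P, z * (b⁻¹ * (y * b * y⁻¹)) * z⁻¹ = b⁻¹ * (y * b * y⁻¹) := fun y hy z hz =>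
        hcon r hr hrA z hz _ (mul_mem (inv_mem hb) (hE y hy b hb)) (h3 y hy)
      -- `y ↦ [b, y]` is a homomorphism on `P` with values in an abelian group, so trivial
      let N : Subgroup L :=
        { carrier := {y | y ∈ P ∧ b⁻¹ * (y * b * y⁻¹) = 1}
          one_mem' := ⟨one_mem P, by group⟩
          mul_mem' := fun {y z} hy hz => ⟨mul_mem hy.1 hz.1, by
            have e : b⁻¹ * (y * z * b * (y * z)⁻¹) =
                (b⁻¹ * (y * b * y⁻¹)) * (y * (b⁻¹ * (z * b * z⁻¹)) * y⁻¹) := by group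
            rw [e, hy.2, hz.2]
            group⟩
          inv_mem' := fun {y} hy => ⟨inv_mem hy.1, by
            have e1 : y * b * y⁻¹ = b := (inv_mul_eq_one.1 hy.2).symm
            have e : b⁻¹ * (y⁻¹ * b * y⁻¹⁻¹) = b⁻¹ * (y⁻¹ * (y * b * y⁻¹) * y⁻¹⁻¹) := by rw [e1]
            rw [e]
            group⟩ }
      have h5 : ⁅P, P⁆ ≤ N := by
        rw [commutator_le]
        intro y hy z hz
        refine ⟨?_, ?_⟩
        · rw [commutatorElement_def]
          exact mul_mem (mul_mem (mul_mem hy hz) (inv_mem hy)) (inv_mem hz)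
        · have hadd : ∀ y ∈ P, ∀ z ∈ P, b⁻¹ * (y * z * b * (y * z)⁻¹) =
              (b⁻¹ * (y * b * y⁻¹)) * (b⁻¹ * (z * b * z⁻¹)) := by
            intro y hy z hz
            have e : b⁻¹ * (y * z * b * (y * z)⁻¹) =
                (b⁻¹ * (y * b * y⁻¹)) * (y * (b⁻¹ * (z * b * z⁻¹)) * y⁻¹) := by group
            rw [e, h4 z hz y hy]
          have hcA : ∀ y ∈ P, b⁻¹ * (y * b * y⁻¹) ∈ A := fun y hy => mul_mem (inv_mem hb) (hE y hy b hb)
          have e1 := hadd y hy z hz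
          have e2 := hadd z hz y hy
          rw [hA _ (hcA z hz) _ (hcA y hy), ← e1] at e2
          -- `y z b (y z)⁻¹ = z y b (z y)⁻¹`
          have e3 : (z * y) * b * (z * y)⁻¹ = (y * z) * b * (y * z)⁻¹ := mul_left_cancel e2
          -- apply to the conjugate: `[y, z]` centralises `z y b (z y)⁻¹`; by `h4`-type argument it centralises `b`
          have e4 := hadd ((y * z) * (z * y)⁻¹) (mul_mem (mul_mem hy hz) (inv_mem (mul_mem hz hy))) (z * y)
            (mul_mem hz hy)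
          have e5 : (y * z) * (z * y)⁻¹ * (z * y) = y * z := by group
          rw [e5, e3] at e4
          have e6 : b⁻¹ * (y * z * (z * y)⁻¹ * b * (y * z * (z * y)⁻¹)⁻¹) = 1 := by
            have e7 : b⁻¹ * (y * z * b * (y * z)⁻¹) =
              (b⁻¹ * ((y * z * (z * y)⁻¹) * b * (y * z * (z * y)⁻¹)⁻¹)) * (b⁻¹ * (y * z * b * (y * z)⁻¹)) := e4
            exact (mul_eq_right.1 e7.symm)
          have e8 : ⁅y, z⁆ = y * z * (z * y)⁻¹ := by
            rw [commutatorElement_def]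
            group
          rw [e8]
          exact e6
      rw [hP] at h5
      exact (inv_mul_eq_one.1 (h5 hx).2).symm
  exact key _ b hb le_rfl x hx

/-- **(ME)** -/
theorem minIndex {ℓ : ℕ} [Fact ℓ.Prime] (hV : IsPGroup ℓ V) {A : Subgroup L} [Finite A]
    (hA : ∀ a ∈ A, ∀ b ∈ A, a * b = b * a) (hAl : ¬ ℓ ∣ Nat.card A) {P : Subgroup L} [Finite P]
    (hE : ∀ x ∈ P, ∀ a ∈ A, x * a * x⁻¹ ∈ A) (hP : ⁅P, P⁆ = P) {m : ℕ}
    (hmin : ∀ Q : Subgroup L, Q ≤ P → Q ≠ P → m ≤ Q.relIndex P)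
    (hne : ∃ x ∈ P, ∃ b ∈ A, φ (x * b * x⁻¹) ≠ φ b) :
    ∃ r, r.Prime ∧ r ∣ Nat.card A ∧ (ℓ ^ orderOf (ℓ : ZMod r)) ^ m ≤ (fx φ A).index := by
  have hc1 : Nat.card (A.map φ) ∣ Nat.card A := Subgroup.card_map_dvd _ _
  haveI : Finite (A.map φ) := Set.Finite.image _ (Set.toFinite (A : Set L))
  haveI : Finite (P.map φ) := Set.Finite.image _ (Set.toFinite (P : Set L))
  have hA' : ∀ a ∈ A.map φ, ∀ b ∈ A.map φ, a * b = b * a := by
    rintro _ ⟨a, ha, rfl⟩ _ ⟨b, hb, rfl⟩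
    rw [← map_mul, hA a ha b hb, map_mul]
  have hP' : ⁅P.map φ, P.map φ⁆ = P.map φ := by rw [← map_commutator, hP]
  have hE' : ∀ x ∈ P.map φ, ∀ b ∈ A.map φ, x * b * x⁻¹ ∈ A.map φ := by
    rintro _ ⟨x, hx, rfl⟩ _ ⟨b, hb, rfl⟩
    exact ⟨x * b * x⁻¹, hE x hx b hb, by rw [map_mul, map_mul, map_inv]⟩
  have hmin' : ∀ Q : Subgroup (MulAut V), Q ≤ P.map φ → Q ≠ P.map φ → m ≤ Q.relIndex (P.map φ) := by
    intro Q hQ hne
    have h1 := hmin (Q.comap φ ⊓ P) inf_le_right (fun h => hne (le_antisymm hQ (by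
      rintro _ ⟨x, hx, rfl⟩
      rw [← h] at hx
      exact hx.1)))
    rw [inf_relIndex_right, relIndex_comap] at h1
    exact h1
  obtain ⟨x, hx, b, hb, hne⟩ := hne
  obtain ⟨r, hr, hrA, y, hy, c, hc, hcr, hyc⟩ := exists_prime_moved_perfect hA' hE' hP'
    ⟨φ x, ⟨x, hx, rfl⟩, φ b, ⟨b, hb, rfl⟩, by rwa [map_mul, map_mul, map_inv] at hne⟩
  have hrA' := hrA.trans hc1
  haveI := Fact.mk hr
  have hrl : r ≠ ℓ := by
    rintro rfl
    exact hAl hrA'
  set E := om r (A.map φ) hA' with hEdef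
  have hEA : E ≤ A.map φ := fun _ h => h.1
  haveI : Finite E := Set.Finite.subset (Set.toFinite (A.map φ : Set (MulAut V))) hEA
  have hel : Elem r E := ⟨fun a ha b hb => hA' a ha.1 b hb.1, fun a ha => ha.2⟩
  refine ⟨r, hr, hrA', ?_⟩
  have h1 := hel.minIndex (φ := MonoidHom.id (MulAut V)) hrl hV (P := P.map φ)
    (fun x hx => mem_stab.2 (cj_eq_of_le (cj_le_iff fun a ha => ⟨hE' x hx a ha.1, by
      rw [conj_pow, ha.2, mul_one, mul_inv_cancel]⟩))) hP' hmin' ⟨y, hy, c, ⟨hc, hcr⟩, hyc⟩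
  refine h1.trans ?_
  rw [← fx_map_id (φ := φ) A]
  exact Nat.le_of_dvd (Nat.pos_of_ne_zero index_ne_zero_of_finite) (index_dvd_of_le (fx_anti hEA))

/-- **(ME)** with a uniform bound `d ≤ ord_r(ℓ)` -/
theorem minIndex_card {ℓ d : ℕ} [Fact ℓ.Prime] (hV : IsPGroup ℓ V) {A : Subgroup L} [Finite A]
    (hA : ∀ a ∈ A, ∀ b ∈ A, a * b = b * a) (hAl : ¬ ℓ ∣ Nat.card A)
    (hd : ∀ r, r.Prime → r ∣ Nat.card A → d ≤ orderOf (ℓ : ZMod r)) {P : Subgroup L} [Finite P]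
    (hE : ∀ x ∈ P, ∀ a ∈ A, x * a * x⁻¹ ∈ A) (hP : ⁅P, P⁆ = P) {m : ℕ}
    (hmin : ∀ Q : Subgroup L, Q ≤ P → Q ≠ P → m ≤ Q.relIndex P)
    (hne : ∃ x ∈ P, ∃ b ∈ A, φ (x * b * x⁻¹) ≠ φ b) : ℓ ^ (d * m) ≤ Nat.card V := by
  obtain ⟨r, hr, hrA, h⟩ := minIndex (φ := φ) hV hA hAl hE hP hmin hne
  have h1 : ℓ ^ (d * m) ≤ (ℓ ^ orderOf (ℓ : ZMod r)) ^ m := by
    rw [← pow_mul]
    exact Nat.pow_le_pow_right (Fact.out : ℓ.Prime).pos (Nat.mul_le_mul_right _ (hd r hr hrA))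
  refine (h1.trans h).trans ?_
  exact Nat.le_of_dvd Nat.card_pos (index_dvd_card _)

end

end Cfsg.Agent.Omega.TwoF.Orb
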