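import Cfsg.Agent.Omega.TwoF.MinIndex
import Cfsg.Agent.Omega.TwoF.WeightCover

/-!
# The minimal index bound in the form `LB K m`

`A ≤ K` abelian of odd order, normalised by a perfect group `P ≤ K` without proper subgroups of index `< m`, `[A, P] ≠ 1`,
`d ≤ ord_r(2)` for the primes `r ∣ |A|`: then `LB K (d * m)` (`LB.minIndex`).
-/

set_option autoImplicit false
set_option linter.unusedSectionVars false
set_option linter.style.haveILetI false

universe u v w

namespace Cfsg.Agent.Omega.TwoF.WeightCover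

open Cfsg.Agent.Omega.Lie.Heis
open scoped commutatorElement

section

variable {K : Type u} [Group K] {L : Type v} [Group L] {π : L →* K}

/-- the commutator subgroup of the preimage of a perfect group -/
theorem commutator_mul_central (hc : π.ker ≤ Subgroup.center L) {x y x' y' : L}
    (hx : π x = π x') (hy : π y = π y') : ⁅x, y⁆ = ⁅x', y'⁆ := by
  have h1 : x'⁻¹ * x ∈ Subgroup.center L := hc (by rw [MonoidHom.mem_ker, map_mul, map_inv, hx, inv_mul_cancel])
  have h2 : y'⁻¹ * y ∈ Subgroup.center L := hc (by rw [MonoidHom.mem_ker, map_mul, map_inv, hy, inv_mul_cancel])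
  obtain ⟨c, hc1, rfl⟩ : ∃ c ∈ Subgroup.center L, x = x' * c := ⟨_, h1, by group⟩
  obtain ⟨d, hd1, rfl⟩ : ∃ d ∈ Subgroup.center L, y = y' * d := ⟨_, h2, by group⟩
  have hcc : ∀ g, g * c = c * g := Subgroup.mem_center_iff.1 hc1
  have hdd : ∀ g, g * d = d * g := Subgroup.mem_center_iff.1 hd1
  rw [commutatorElement_def, commutatorElement_def, mul_inv_rev, mul_inv_rev]
  calc x' * c * (y' * d) * (c⁻¹ * x'⁻¹) * (d⁻¹ * y'⁻¹)
      = x' * (c * (y' * d) * c⁻¹) * x'⁻¹ * (d⁻¹ * y'⁻¹) := by group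
    _ = x' * (y' * d) * x'⁻¹ * (d⁻¹ * y'⁻¹) := by rw [← hcc (y' * d)]; group
    _ = x' * y' * (d * x'⁻¹ * d⁻¹) * y'⁻¹ := by group
    _ = x' * y' * x'⁻¹ * y'⁻¹ := by rw [← hdd x'⁻¹]; group

theorem exists_perfect_lift (hπ : Function.Surjective π) (hc : π.ker ≤ Subgroup.center L) {P : Subgroup K}
    (hP : ⁅P, P⁆ = P) : ∃ P' : Subgroup L, P'.map π = P ∧ ⁅P', P'⁆ = P' ∧
      ∀ Q : Subgroup L, Q ≤ P' → Q ≠ P' → Q.map π ≠ P := by
  have hmap : (⁅P.comap π, P.comap π⁆ : Subgroup L).map π = P := by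
    rw [Subgroup.map_commutator, Subgroup.map_comap_eq_self_of_surjective hπ, hP]
  -- every subgroup with image `P` contains the commutators of the preimage
  have key : ∀ Q : Subgroup L, Q.map π = P → (⁅P.comap π, P.comap π⁆ : Subgroup L) ≤ ⁅Q, Q⁆ := by
    intro Q hQ
    rw [Subgroup.commutator_le]
    intro x hx y hy
    have hx' : π x ∈ Q.map π := by rw [hQ]; exact hx
    have hy' : π y ∈ Q.map π := by rw [hQ]; exact hy
    obtain ⟨x', hx1, hx2⟩ := hx'
    obtain ⟨y', hy1, hy2⟩ := hy'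
    rw [commutator_mul_central hc hx2.symm hy2.symm]
    exact Subgroup.commutator_mem_commutator hx1 hy1
  have hle : ∀ Q : Subgroup L, (⁅Q, Q⁆ : Subgroup L) ≤ Q := by
    intro Q
    rw [Subgroup.commutator_le]
    intro x hx y hy
    rw [commutatorElement_def]
    exact mul_mem (mul_mem (mul_mem hx hy) (inv_mem hx)) (inv_mem hy)
  exact ⟨⁅P.comap π, P.comap π⁆, hmap, le_antisymm (hle _) (key _ hmap),
    fun Q hQ hne hQP => hne (le_antisymm hQ ((key Q hQP).trans (hle Q)))⟩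

end

/-- **(ME)** -/
theorem LB.minIndex {K : Type u} [Group K] [Finite K] [IsSimpleGroup K] {A P : Subgroup K}
    (hA : ∀ a ∈ A, ∀ b ∈ A, a * b = b * a) (hAo : Odd (Nat.card A)) {d m m' : ℕ}
    (hd : ∀ r, r.Prime → r ∣ Nat.card A → d ≤ orderOf (2 : ZMod r))
    (hE : ∀ x ∈ P, ∀ a ∈ A, x * a * x⁻¹ ∈ A) (hP : ⁅P, P⁆ = P)
    (hmin : ∀ Q : Subgroup K, Q ≤ P → Q ≠ P → m ≤ Q.relIndex P)
    (hne : ∃ x ∈ P, ∃ b ∈ A, x * b * x⁻¹ ≠ b) (hm : m' ≤ d * m)
    (hesc : ∀ r, r.Prime → r ∣ Nat.card A → Esc.{u, v, w} K r m') : LB.{u, v, w} K m' := by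
  refine LB.of_esc hesc ?_
  intro L _ _ π hπ hc hco V _ _ h2 hV φ hφ
  haveI : Fact (Nat.Prime 2) := ⟨Nat.prime_two⟩
  obtain ⟨A', h3, h4, h5, h6, h7, h8, h9⟩ := exists_liftSub hπ hc hco hA (fun a ha => by
    have := pow_card_eq_one' (x := (⟨a, ha⟩ : A))
    exact congrArg Subtype.val this)
  obtain ⟨P', hP1, hP2, hP3⟩ := exists_perfect_lift hπ hc hP
  obtain ⟨x, hx, b, hb, hne⟩ := hne
  obtain ⟨b', hb', rfl⟩ := h4 b hb
  rw [← hP1] at hx
  obtain ⟨x', hx', rfl⟩ := hx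
  have h10 := Orb.minIndex_card (ℓ := 2) (φ := φ) (d := d) (m := m) h2 (A := A') h6 (by
      rw [h8]
      exact fun h => (Nat.not_even_iff_odd.2 hAo) (even_iff_two_dvd.2 h)) (by
      rw [h8]
      exact hd) (P := P') (fun x hx a ha => h7 x (fun c hc' => hE (π x) (by rw [← hP1]; exact ⟨x, hx, rfl⟩) c hc') a ha)
    hP2 (fun Q hQ hne => by
      have e1 := hmin (Q.map π) (by rw [← hP1]; exact Subgroup.map_mono hQ) (hP3 Q hQ hne)
      have e2 : ((Q.map π).comap π).relIndex P' = (Q.map π).relIndex P := by rw [Subgroup.relIndex_comap, hP1]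
      rw [← e2] at e1
      refine e1.trans (Nat.le_of_dvd (Nat.pos_of_ne_zero ?_) (Subgroup.relIndex_dvd_of_le_left P' (Subgroup.le_comap_map π Q)))
      exact Subgroup.index_ne_zero_of_finite) ⟨x', hx', b', hb', fun h => hne (by
        have := hφ h
        rw [← map_mul, ← map_inv, ← map_mul, this])⟩
  exact (Nat.pow_le_pow_right (by norm_num) hm).trans h10

end Cfsg.Agent.Omega.TwoF.WeightCover
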