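import Cfsg.Agent.Omega.TwoF.Defs

/-!
# Lifting Heisenberg configurations to odd covers

`π : L → K` an odd cover, `F` a finite field of odd characteristic `r`; in `K`: `x, y : (ι → F) → K`, `z : F → K`
additive with `y p' * x p * (y p')⁻¹ = x p * z (p ⬝ᵥ p')`, `g` inverting `x p`, `y p` and commuting with `z`.

* `exists_lift`, `lift_unique`, `conj_lift`: canonical lifts (inverted by `γ`);
* `alt_zero`: an alternating biadditive map on `F` invariant under `(s, t) ↦ (u s, u t)` vanishes;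
* `Dat`: the data in `K`; `Dat.exists_cov`, `Cov`: the canonical lifts `X`, `Y` are additive, `X p`, `X q` commute,
  `bet X Y p q = [Y q, X p]` is biadditive, balanced, central in `⟨X, Y⟩`, trivial for `Pi.single i s`,
  `Pi.single j t` with `i ≠ j`; `zi X Y i : F → L` is the lift of `z` with index `i`;
* `zi_eq_of_link`, `zi_eq_of_link_three`, `zi_eq_of_scale`: criteria for `zi i = zi j`.
-/

set_option autoImplicit false
set_option linter.unusedSectionVars false
set_option linter.style.haveILetI false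

namespace Cfsg.Agent.Omega.TwoF.OLift

open Subgroup

variable {L K : Type*} [Group L] [Group K] {π : L →* K}

/-! ### Canonical lifts -/

theorem ker_comm (h : OddCover π) {c : L} (hc : c ∈ π.ker) (l : L) : l * c = c * l :=
  mem_center_iff.mp (h.cent hc) l

theorem eq_one_of_sq (h : OddCover π) {c : L} (hc : c ∈ π.ker) (h2 : c * c = 1) : c = 1 := by
  have h3 : orderOf (⟨c, hc⟩ : π.ker) ∣ 2 := by
    apply orderOf_dvd_of_pow_eq_one
    apply Subtype.ext
    show c ^ 2 = 1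
    rw [pow_two, h2]
  have h4 : orderOf (⟨c, hc⟩ : π.ker) ∣ Nat.card π.ker := orderOf_dvd_natCard _
  have h5 : Nat.Coprime 2 (Nat.card π.ker) := (Nat.coprime_two_left).2 h.odd
  have h6 := Nat.eq_one_of_dvd_coprimes h5 h3 h4
  rw [orderOf_eq_one_iff] at h6
  exact congrArg Subtype.val h6

theorem exists_sqrt (h : OddCover π) {c : L} (hc : c ∈ π.ker) : ∃ d ∈ π.ker, d * d = c := by
  obtain ⟨k, hk⟩ := h.odd
  refine ⟨c ^ (k + 1), pow_mem hc _, ?_⟩
  have h1 : (⟨c, hc⟩ : π.ker) ^ Nat.card π.ker = 1 := pow_card_eq_one'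
  have h2 : c ^ Nat.card π.ker = 1 := congrArg Subtype.val h1
  rw [← pow_add, show k + 1 + (k + 1) = Nat.card π.ker + 1 by omega, pow_succ, h2, one_mul]

/-- An element inverted by `π γ` has a lift inverted by `γ`. -/
theorem exists_lift (h : OddCover π) (γ : L) {k : K} (hk : π γ * k * (π γ)⁻¹ = k⁻¹) :
    ∃ l, π l = k ∧ γ * l * γ⁻¹ = l⁻¹ := by
  obtain ⟨a, rfl⟩ := h.surj k
  have h1 : a * (γ * a * γ⁻¹) ∈ π.ker := by
    rw [MonoidHom.mem_ker, map_mul, map_mul, map_mul, map_inv, hk, mul_inv_cancel]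
  obtain ⟨d, hd, hdd⟩ := exists_sqrt h h1
  have hd' : d⁻¹ ∈ π.ker := inv_mem hd
  refine ⟨a * d⁻¹, ?_, ?_⟩
  · rw [map_mul, MonoidHom.mem_ker.1 hd', mul_one]
  · have h2 : γ * a * γ⁻¹ = a⁻¹ * (d * d) := by rw [hdd]; group
    calc γ * (a * d⁻¹) * γ⁻¹ = γ * a * (d⁻¹ * γ⁻¹) := by group
      _ = γ * a * (γ⁻¹ * d⁻¹) := by rw [ker_comm h hd' γ⁻¹]
      _ = (γ * a * γ⁻¹) * d⁻¹ := by group
      _ = a⁻¹ * d := by rw [h2]; group
      _ = d * a⁻¹ := ker_comm h hd a⁻¹
      _ = (a * d⁻¹)⁻¹ := by group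

theorem lift_unique (h : OddCover π) (γ : L) {l l' : L} (hl : π l = π l') (h1 : γ * l * γ⁻¹ = l⁻¹)
    (h2 : γ * l' * γ⁻¹ = l'⁻¹) : l = l' := by
  have hc : l'⁻¹ * l ∈ π.ker := by rw [MonoidHom.mem_ker, map_mul, map_inv, hl, inv_mul_cancel]
  set c := l'⁻¹ * l with hcd
  have hl2 : l = l' * c := by rw [hcd]; group
  have h3 : c * c = 1 := by
    have h4 : γ * (l' * c) * γ⁻¹ = (l' * c)⁻¹ := by rw [← hl2]; exact h1
    have h5 : γ * (l' * c) * γ⁻¹ = l'⁻¹ * c := by
      calc γ * (l' * c) * γ⁻¹ = γ * l' * (c * γ⁻¹) := by group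
        _ = γ * l' * (γ⁻¹ * c) := by rw [ker_comm h hc γ⁻¹]
        _ = (γ * l' * γ⁻¹) * c := by group
        _ = l'⁻¹ * c := by rw [h2]
    rw [h5, mul_inv_rev, ← ker_comm h (inv_mem hc)] at h4
    have h6 := mul_left_cancel h4
    nth_rewrite 1 [h6]
    exact inv_mul_cancel c
  rw [hl2, eq_one_of_sq h hc h3, mul_one]

/-- Conjugation by elements commuting with `γ` modulo the kernel. -/
theorem conj_lift (h : OddCover π) (γ : L) {k l : L} (hk : π k * π γ = π γ * π k)
    (hl : γ * l * γ⁻¹ = l⁻¹) : γ * (k * l * k⁻¹) * γ⁻¹ = (k * l * k⁻¹)⁻¹ := by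
  have hc : γ⁻¹ * k⁻¹ * γ * k ∈ π.ker := by
    rw [MonoidHom.mem_ker, map_mul, map_mul, map_mul, map_inv, map_inv, mul_assoc, ← hk]
    group
  set c := γ⁻¹ * k⁻¹ * γ * k with hcd
  have h1 : γ * k = k * γ * c := by rw [hcd]; group
  have h2 : c * l = l * c := (ker_comm h hc l).symm
  calc γ * (k * l * k⁻¹) * γ⁻¹ = (γ * k) * l * (γ * k)⁻¹ := by group
    _ = k * γ * (c * l) * c⁻¹ * γ⁻¹ * k⁻¹ := by rw [h1]; group
    _ = k * (γ * l * γ⁻¹) * k⁻¹ := by rw [h2]; group
    _ = (k * l * k⁻¹)⁻¹ := by rw [hl]; group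

/-- Elements of coprime order commuting in `K` have commuting lifts. -/
theorem comm_of_coprime (h : OddCover π) {a t : L} {r N : ℕ} (hrN : Nat.Coprime r N) (ha : π a ^ r = 1)
    (ht : π t ^ N = 1) (hat : π t * π a = π a * π t) : t * a = a * t := by
  have hc : a⁻¹ * (t * a * t⁻¹) ∈ π.ker := by
    rw [MonoidHom.mem_ker, map_mul, map_mul, map_mul, map_inv, map_inv, hat]
    group
  set c := a⁻¹ * (t * a * t⁻¹) with hcd
  have h1 : t * a * t⁻¹ = a * c := by rw [hcd]; group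
  have h2 : Commute a c := ker_comm h hc a
  have h3 : c ^ r = 1 := by
    have h4 : a ^ r ∈ π.ker := by rw [MonoidHom.mem_ker, map_pow, ha]
    have h5 : (t * a * t⁻¹) ^ r = a ^ r := by
      rw [conj_pow, ker_comm h h4 t]; group
    rw [h1, h2.mul_pow] at h5
    exact (mul_eq_left.1 h5)
  have h4 : ∀ n : ℕ, t ^ n * a * (t ^ n)⁻¹ = a * c ^ n := by
    intro n
    induction n with
    | zero => simp
    | succ n ih =>
      have h5 : t * c ^ n = c ^ n * t := ker_comm h (pow_mem hc n) t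
      calc t ^ (n + 1) * a * (t ^ (n + 1))⁻¹ = t * (t ^ n * a * (t ^ n)⁻¹) * t⁻¹ := by
            rw [pow_succ']; group
        _ = t * (a * c ^ n) * t⁻¹ := by rw [ih]
        _ = t * a * (c ^ n * t⁻¹) := by group
        _ = t * a * (t⁻¹ * c ^ n) := by rw [ker_comm h (pow_mem hc n) t⁻¹]
        _ = (t * a * t⁻¹) * c ^ n := by group
        _ = a * c ^ (n + 1) := by rw [h1, pow_succ']; group
  have h5 : c ^ N = 1 := by
    have h6 : t ^ N ∈ π.ker := by rw [MonoidHom.mem_ker, map_pow, ht]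
    have h7 := h4 N
    rw [← ker_comm h h6 a, mul_assoc, mul_inv_cancel, mul_one] at h7
    exact (left_eq_mul.1 h7)
  have h6 : c = 1 := by
    have := Nat.eq_one_of_dvd_coprimes hrN (orderOf_dvd_of_pow_eq_one h3) (orderOf_dvd_of_pow_eq_one h5)
    exact orderOf_eq_one_iff.1 this
  rw [h6, mul_one] at h1
  exact mul_inv_eq_iff_eq_mul.1 h1

/-! ### Alternating maps on a field -/

theorem alt_zero {F A : Type*} [Field F] [AddCommGroup A] (c : F → F → A)
    (hl : ∀ s s' t, c (s + s') t = c s t + c s' t) (hr : ∀ s t t', c s (t + t') = c s t + c s t')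
    (ha : ∀ s, c s s = 0) (hu : ∀ u s t, u ≠ 0 → c (u * s) (u * t) = c s t)
    (h2 : ∀ s t, c s t + c s t = 0 → c s t = 0) (s t : F) : c s t = 0 := by
  have hl0 : ∀ t, c 0 t = 0 := fun t => by
    have := hl 0 0 t
    rw [add_zero] at this
    exact (left_eq_add.1 this)
  have hr0 : ∀ s, c s 0 = 0 := fun s => by
    have := hr s 0 0
    rw [add_zero] at this
    exact (left_eq_add.1 this)
  have hsw : ∀ s t, c s t = - c t s := by
    intro s t
    have h1 := ha (s + t)
    rw [hl, hr, hr, ha, ha, zero_add, add_zero] at h1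
    exact eq_neg_of_add_eq_zero_left h1
  have hneg : ∀ s t, c s (-t) = - c s t := by
    intro s t
    have h1 := hr s t (-t)
    rw [add_neg_cancel, hr0] at h1
    exact (neg_eq_of_add_eq_zero_right h1.symm).symm
  -- `d a = c 1 a`, `c s t = d (t / s)`
  have hd : ∀ s t, s ≠ 0 → c s t = c 1 (t / s) := by
    intro s t hs
    have := hu s 1 (t / s) hs
    rw [mul_one, mul_div_cancel₀ _ hs] at this
    exact this
  have hinv : ∀ a, c 1 a⁻¹ = - c 1 a := by
    intro a
    by_cases h : a = 0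
    · subst h; rw [inv_zero, hr0, neg_zero]
    · rw [hsw 1 a, hd a 1 h, one_div, neg_neg]
  have hsq : ∀ a, c 1 (a * a) = c 1 a := by
    intro a
    by_cases h0 : a = 0
    · subst h0; rw [mul_zero]
    by_cases h1 : a = 1
    · subst h1; rw [mul_one]
    have h1' : 1 - a ≠ 0 := fun e => h1 (sub_eq_zero.1 e).symm
    have e1 : c 1 (1 : F) = c 1 a⁻¹ + c 1 (1 - a)⁻¹ := by
      have h3 := hl a (1 - a) 1
      rw [add_sub_cancel, hd a 1 h0, hd (1 - a) 1 h1', one_div, one_div] at h3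
      exact h3
    have e2 : a⁻¹ + (1 - a)⁻¹ = (a * (1 - a))⁻¹ := by field_simp; ring
    rw [ha, ← hr, e2, hinv] at e1
    have e3 : c 1 (a * (1 - a)) = 0 := by
      have := neg_eq_zero.1 e1.symm
      exact this
    have e4 : a = a * (1 - a) + a * a := by ring
    conv_rhs => rw [e4]
    rw [hr, e3, zero_add]
  have hd0 : ∀ a, c 1 a = 0 := by
    intro a
    apply h2
    have h3 := hsq (-a)
    rw [neg_mul_neg, hsq, hneg] at h3
    nth_rewrite 2 [h3]
    exact add_neg_cancel _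
  by_cases hs : s = 0
  · subst hs; exact hl0 t
  · rw [hd s t hs, hd0]

/-! ### Commutators -/

/-- An element inverting `a` and centralising `b`: if `[a, b]` is in the kernel, then `a` and `b` commute. -/
theorem comm_of_sep (h : OddCover π) {a b k : L} (hc : a * b * a⁻¹ * b⁻¹ ∈ π.ker) (ha : k * a * k⁻¹ = a⁻¹)
    (hb : k * b * k⁻¹ = b) : a * b = b * a := by
  set c := a * b * a⁻¹ * b⁻¹ with hcd
  have h1 : k * c * k⁻¹ = c := by rw [ker_comm h hc k]; group
  have h2 : k * c * k⁻¹ = a⁻¹ * b * a * b⁻¹ := by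
    calc k * c * k⁻¹ = (k * a * k⁻¹) * (k * b * k⁻¹) * (k * a * k⁻¹)⁻¹ * (k * b * k⁻¹)⁻¹ := by rw [hcd]; group
      _ = a⁻¹ * b * a * b⁻¹ := by rw [ha, hb]; group
  have h3 : a⁻¹ * c * a = c := by rw [ker_comm h hc a⁻¹]; group
  have h4 : a⁻¹ * c * a = b * a⁻¹ * b⁻¹ * a := by rw [hcd]; group
  have h5 : c * c = 1 := by
    nth_rewrite 1 [← h1]
    nth_rewrite 2 [← h3]
    rw [h2, h4]; group
  have h6 := eq_one_of_sq h hc h5
  rw [hcd] at h6
  calc a * b = (a * b * a⁻¹ * b⁻¹) * (b * a) := by group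
    _ = b * a := by rw [h6, one_mul]

section Half

variable {I F : Type*} [Fintype I] [DecidableEq I] [Field F]

/-- The data of one half: `x : (I → F) → K`. -/
structure Half (x : (I → F) → K) (g : K) : Prop where
  add : ∀ p q, x (p + q) = x p * x q
  inv : ∀ p, g * x p * g⁻¹ = x (-p)
  tor : ∀ u : F, u ≠ 0 → ∃ t : K, t * g = g * t ∧ ∀ p, t * x p * t⁻¹ = x (u • p)
  sep : ∀ i j, i ≠ j → ∃ h : K, h * g = g * h ∧
    (∀ s, h * x (Pi.single i s) * h⁻¹ = x (Pi.single i (-s))) ∧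
    (∀ s, h * x (Pi.single j s) * h⁻¹ = x (Pi.single j s))

/-- `X` is the canonical lift of `x`. -/
structure IsLift (π : L →* K) (γ : L) (x : (I → F) → K) (X : (I → F) → L) : Prop where
  map : ∀ p, π (X p) = x p
  inv : ∀ p, γ * X p * γ⁻¹ = (X p)⁻¹

namespace Half

variable {x : (I → F) → K} {g : K}

theorem zero (hx : Half x g) : x 0 = 1 := by
  have h1 := hx.add 0 0
  rw [add_zero] at h1
  exact (left_eq_mul.1 h1)

theorem neg (hx : Half x g) (p : I → F) : x (-p) = (x p)⁻¹ := by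
  apply eq_inv_of_mul_eq_one_left
  rw [← hx.add, neg_add_cancel, hx.zero]

theorem exists_isLift (hx : Half x g) (h : OddCover π) {γ : L} (hγ : π γ = g) :
    ∃ X : (I → F) → L, IsLift π γ x X := by
  have h1 : ∀ p, ∃ l, π l = x p ∧ γ * l * γ⁻¹ = l⁻¹ := fun p =>
    exists_lift h γ (by rw [hγ, hx.inv, hx.neg])
  choose X hX hX' using h1
  exact ⟨X, hX, hX'⟩

end Half

namespace IsLift

variable {x : (I → F) → K} {g : K} {γ : L} {X : (I → F) → L}

theorem conj (hX : IsLift π γ x X) (h : OddCover π) {k : L} (hk : π k * π γ = π γ * π k) {p q : I → F}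
    (hpq : π k * x p * (π k)⁻¹ = x q) : k * X p * k⁻¹ = X q := by
  refine lift_unique h γ ?_ (conj_lift h γ hk (hX.inv p)) (hX.inv q)
  rw [map_mul, map_mul, map_inv, hX.map, hX.map, hpq]

theorem zero (hX : IsLift π γ x X) (h : OddCover π) (hx : Half x g) : X 0 = 1 := by
  refine lift_unique h γ ?_ (hX.inv 0) (by group)
  rw [hX.map, hx.zero, map_one]

theorem neg (hX : IsLift π γ x X) (h : OddCover π) (hx : Half x g) (p : I → F) : X (-p) = (X p)⁻¹ := by
  refine lift_unique h γ ?_ (hX.inv _) ?_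
  · rw [hX.map, hx.neg, map_inv, hX.map]
  · have := congrArg (·⁻¹) (hX.inv p)
    simp only [mul_inv_rev, inv_inv] at this
    rw [inv_inv]
    calc γ * (X p)⁻¹ * γ⁻¹ = γ * ((X p)⁻¹ * γ⁻¹) := by group
      _ = X p := this

theorem exists_add (hX : IsLift π γ x X) (hx : Half x g) (p q : I → F) :
    ∃ c ∈ π.ker, X (p + q) = X p * X q * c := by
  refine ⟨(X p * X q)⁻¹ * X (p + q), ?_, by group⟩
  rw [MonoidHom.mem_ker, map_mul, map_inv, map_mul, hX.map, hX.map, hX.map, hx.add, inv_mul_cancel]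

theorem comm_mem (hX : IsLift π γ x X) (hx : Half x g) (p q : I → F) :
    X p * X q * (X p)⁻¹ * (X q)⁻¹ ∈ π.ker := by
  rw [MonoidHom.mem_ker, map_mul, map_mul, map_mul, map_inv, map_inv, hX.map, hX.map, ← hx.add, add_comm,
    hx.add]
  group

/-- The elements commuting with `X q` modulo ... form a subgroup. -/
theorem comm_add (hX : IsLift π γ x X) (h : OddCover π) (hx : Half x g) {l : L} {p q : I → F}
    (hp : X p * l = l * X p) (hq : X q * l = l * X q) : X (p + q) * l = l * X (p + q) := by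
  obtain ⟨c, hc, e⟩ := hX.exists_add hx p q
  have h1 : Commute (X p) l := hp
  have h2 : Commute (X q) l := hq
  have h3 : Commute c l := (ker_comm h hc l).symm
  rw [e]
  exact (h1.mul_left h2).mul_left h3

theorem comm_sum (hX : IsLift π γ x X) (h : OddCover π) (hx : Half x g) {l : L}
    (hl : ∀ i s, X (Pi.single i s) * l = l * X (Pi.single i s)) (p : I → F) : X p * l = l * X p := by
  let S : AddSubmonoid (I → F) :=
    { carrier := {p | X p * l = l * X p}
      zero_mem' := by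
        show X 0 * l = l * X 0
        rw [hX.zero h hx, one_mul, mul_one]
      add_mem' := fun {p q} hp hq => hX.comm_add h hx hp hq }
  have h1 : ∑ i, Pi.single i (p i) ∈ S := S.sum_mem fun i _ => hl i (p i)
  rw [Finset.univ_sum_single] at h1
  exact h1

/-- Elements with the same index commute. -/
theorem comm_same (hX : IsLift π γ x X) (h : OddCover π) (hx : Half x g) (hγ : π γ = g) (i : I) (s t : F) :
    X (Pi.single i s) * X (Pi.single i t) = X (Pi.single i t) * X (Pi.single i s) := by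
  have hcc : ∀ p q, X p * X q * (X p)⁻¹ * (X q)⁻¹ ∈ center L := fun p q => h.cent (hX.comm_mem hx p q)
  letI : CommGroup (center L) :=
    { (inferInstance : Group (center L)) with
      mul_comm := fun a b => Subtype.ext (mem_center_iff.1 b.2 a) }
  let c : F → F → Additive (center L) := fun s t =>
    Additive.ofMul ⟨X (Pi.single i s) * X (Pi.single i t) * (X (Pi.single i s))⁻¹ * (X (Pi.single i t))⁻¹,
      hcc _ _⟩
  have key := alt_zero c ?_ ?_ ?_ ?_ ?_ s t
  · have h1 : X (Pi.single i s) * X (Pi.single i t) * (X (Pi.single i s))⁻¹ * (X (Pi.single i t))⁻¹ = 1 :=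
      congrArg (fun z : Additive (center L) => ((Additive.toMul z : center L) : L)) key
    calc X (Pi.single i s) * X (Pi.single i t)
        = (X (Pi.single i s) * X (Pi.single i t) * (X (Pi.single i s))⁻¹ * (X (Pi.single i t))⁻¹) *
            (X (Pi.single i t) * X (Pi.single i s)) := by group
      _ = _ := by rw [h1, one_mul]
  · -- left additive
    intro s s' t
    apply Additive.toMul.injective
    apply Subtype.ext
    show X (Pi.single i (s + s')) * X (Pi.single i t) * (X (Pi.single i (s + s')))⁻¹ * (X (Pi.single i t))⁻¹ =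
      (X (Pi.single i s) * X (Pi.single i t) * (X (Pi.single i s))⁻¹ * (X (Pi.single i t))⁻¹) *
      (X (Pi.single i s') * X (Pi.single i t) * (X (Pi.single i s'))⁻¹ * (X (Pi.single i t))⁻¹)
    rw [Pi.single_add]
    obtain ⟨k, hk, e⟩ := hX.exists_add hx (Pi.single i s) (Pi.single i s')
    rw [e]
    set a := X (Pi.single i s)
    set b := X (Pi.single i s')
    set d := X (Pi.single i t)
    have h1 : k * d = d * k := (ker_comm h hk d).symm
    have h2 := mem_center_iff.1 (hcc (Pi.single i s') (Pi.single i t)) a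
    change a * (b * d * b⁻¹ * d⁻¹) = (b * d * b⁻¹ * d⁻¹) * a at h2
    have h3 := mem_center_iff.1 (hcc (Pi.single i s) (Pi.single i t)) (b * d * b⁻¹ * d⁻¹)
    change (b * d * b⁻¹ * d⁻¹) * (a * d * a⁻¹ * d⁻¹) = (a * d * a⁻¹ * d⁻¹) * (b * d * b⁻¹ * d⁻¹) at h3
    show a * b * k * d * (a * b * k)⁻¹ * d⁻¹ = (a * d * a⁻¹ * d⁻¹) * (b * d * b⁻¹ * d⁻¹)
    calc a * b * k * d * (a * b * k)⁻¹ * d⁻¹ = a * b * (k * d) * k⁻¹ * b⁻¹ * a⁻¹ * d⁻¹ := by group
      _ = (a * (b * d * b⁻¹ * d⁻¹)) * d * a⁻¹ * d⁻¹ := by rw [h1]; group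
      _ = (b * d * b⁻¹ * d⁻¹) * (a * d * a⁻¹ * d⁻¹) := by rw [h2]; group
      _ = (a * d * a⁻¹ * d⁻¹) * (b * d * b⁻¹ * d⁻¹) := h3
  · intro s t t'
    apply Additive.toMul.injective
    apply Subtype.ext
    show X (Pi.single i s) * X (Pi.single i (t + t')) * (X (Pi.single i s))⁻¹ * (X (Pi.single i (t + t')))⁻¹ =
      (X (Pi.single i s) * X (Pi.single i t) * (X (Pi.single i s))⁻¹ * (X (Pi.single i t))⁻¹) *
      (X (Pi.single i s) * X (Pi.single i t') * (X (Pi.single i s))⁻¹ * (X (Pi.single i t'))⁻¹)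
    rw [Pi.single_add]
    obtain ⟨k, hk, e⟩ := hX.exists_add hx (Pi.single i t) (Pi.single i t')
    rw [e]
    set a := X (Pi.single i t)
    set b := X (Pi.single i t')
    set d := X (Pi.single i s)
    have h1 : k * d⁻¹ = d⁻¹ * k := (ker_comm h hk d⁻¹).symm
    have h2 := mem_center_iff.1 (hcc (Pi.single i s) (Pi.single i t')) a
    change a * (d * b * d⁻¹ * b⁻¹) = (d * b * d⁻¹ * b⁻¹) * a at h2
    show d * (a * b * k) * d⁻¹ * (a * b * k)⁻¹ = (d * a * d⁻¹ * a⁻¹) * (d * b * d⁻¹ * b⁻¹)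
    calc d * (a * b * k) * d⁻¹ * (a * b * k)⁻¹ = d * a * b * (k * d⁻¹) * k⁻¹ * b⁻¹ * a⁻¹ := by group
      _ = d * a * d⁻¹ * ((d * b * d⁻¹ * b⁻¹)) * a⁻¹ := by rw [h1]; group
      _ = d * a * d⁻¹ * a⁻¹ * (a * (d * b * d⁻¹ * b⁻¹)) * a⁻¹ := by group
      _ = (d * a * d⁻¹ * a⁻¹) * (d * b * d⁻¹ * b⁻¹) := by rw [h2]; group
  · intro s
    apply Additive.toMul.injective
    apply Subtype.ext
    show X (Pi.single i s) * X (Pi.single i s) * (X (Pi.single i s))⁻¹ * (X (Pi.single i s))⁻¹ = 1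
    group
  · intro u s t hu
    obtain ⟨τ, hτg, hτ⟩ := hx.tor u hu
    obtain ⟨T, rfl⟩ := h.surj τ
    have h1 : ∀ s, T * X (Pi.single i s) * T⁻¹ = X (Pi.single i (u * s)) := by
      intro s
      have h2 := hX.conj h (k := T) (by rw [hγ, hτg]) (hτ (Pi.single i s))
      rwa [← Pi.single_smul, smul_eq_mul] at h2
    apply Additive.toMul.injective
    apply Subtype.ext
    show X (Pi.single i (u * s)) * X (Pi.single i (u * t)) * (X (Pi.single i (u * s)))⁻¹ *
      (X (Pi.single i (u * t)))⁻¹ = X (Pi.single i s) * X (Pi.single i t) * (X (Pi.single i s))⁻¹ *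
      (X (Pi.single i t))⁻¹
    rw [← h1 s, ← h1 t]
    have h2 := mem_center_iff.1 (hcc (Pi.single i s) (Pi.single i t)) T
    calc _ = T * (X (Pi.single i s) * X (Pi.single i t) * (X (Pi.single i s))⁻¹ * (X (Pi.single i t))⁻¹) *
        T⁻¹ := by group
      _ = _ := by rw [h2]; group
  · intro s t hst
    have h1 := congrArg (fun z : Additive (center L) => ((Additive.toMul z : center L) : L)) hst
    apply Additive.toMul.injective
    apply Subtype.ext
    exact eq_one_of_sq h (hX.comm_mem hx _ _) h1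

/-- All elements commute. -/
theorem comm (hX : IsLift π γ x X) (h : OddCover π) (hx : Half x g) (hγ : π γ = g) (p q : I → F) :
    X p * X q = X q * X p := by
  refine hX.comm_sum h hx (fun i s => ?_) p
  refine (hX.comm_sum h hx (fun j t => ?_) q).symm
  by_cases hij : i = j
  · subst hij
    exact hX.comm_same h hx hγ i t s
  · obtain ⟨k, hkg, hk1, hk2⟩ := hx.sep i j hij
    obtain ⟨T, rfl⟩ := h.surj k
    refine (comm_of_sep h (k := T) (hX.comm_mem hx _ _) ?_ ?_).symm
    · rw [hX.conj h (by rw [hγ, hkg]) (hk1 s), Pi.single_neg, hX.neg h hx]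
    · exact hX.conj h (by rw [hγ, hkg]) (hk2 t)

/-- The canonical lift is additive. -/
theorem add (hX : IsLift π γ x X) (h : OddCover π) (hx : Half x g) (hγ : π γ = g) (p q : I → F) :
    X (p + q) = X p * X q := by
  refine lift_unique h γ ?_ (hX.inv _) ?_
  · rw [hX.map, hx.add, map_mul, hX.map, hX.map]
  · calc γ * (X p * X q) * γ⁻¹ = (γ * X p * γ⁻¹) * (γ * X q * γ⁻¹) := by group
      _ = (X q * X p)⁻¹ := by rw [hX.inv, hX.inv, mul_inv_rev]
      _ = (X p * X q)⁻¹ := by rw [hX.comm h hx hγ q p]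

end IsLift

end Half

/-! ### Both halves -/

section Both

variable {I F : Type*} [Fintype I] [DecidableEq I] [Field F]

open Matrix

/-- The data in `K`. -/
structure Dat (z : F → K) (x y : (I → F) → K) (g : K) : Prop where
  z_add : ∀ s t, z (s + t) = z s * z t
  x_add : ∀ p q, x (p + q) = x p * x q
  y_add : ∀ p q, y (p + q) = y p * y q
  zx : ∀ s p, z s * x p = x p * z s
  zy : ∀ s p, z s * y p = y p * z s
  rel : ∀ p q, y q * x p * (y q)⁻¹ = x p * z (p ⬝ᵥ q)
  gx : ∀ p, g * x p * g⁻¹ = x (-p)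
  gy : ∀ p, g * y p * g⁻¹ = y (-p)
  gz : ∀ s, g * z s = z s * g
  tor : ∃ r N : ℕ, Nat.Coprime r N ∧ (∀ s, z s ^ r = 1) ∧ ∀ u : F, u ≠ 0 → ∃ t : K, t ^ N = 1 ∧ t * g = g * t ∧
    (∀ s, t * z s = z s * t) ∧ (∀ p, t * x p * t⁻¹ = x (u • p)) ∧ (∀ p, t * y p * t⁻¹ = y (u⁻¹ • p))
  sep : ∀ i j, i ≠ j → ∃ h : K, h * g = g * h ∧
    (∀ s, h * x (Pi.single i s) * h⁻¹ = x (Pi.single i (-s))) ∧
    (∀ s, h * x (Pi.single j s) * h⁻¹ = x (Pi.single j s)) ∧
    (∀ s, h * y (Pi.single i s) * h⁻¹ = y (Pi.single i (-s))) ∧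
    (∀ s, h * y (Pi.single j s) * h⁻¹ = y (Pi.single j s))

variable {z : F → K} {x y : (I → F) → K} {g : K}

/-- The data is preserved by homomorphisms. -/
theorem Dat.map {K' : Type*} [Group K'] (d : Dat z x y g) (f : K →* K') :
    Dat (fun s => f (z s)) (fun p => f (x p)) (fun p => f (y p)) (f g) where
  z_add := fun s t => by rw [d.z_add, map_mul]
  x_add := fun p q => by rw [d.x_add, map_mul]
  y_add := fun p q => by rw [d.y_add, map_mul]
  zx := fun s p => by rw [← map_mul, ← map_mul, d.zx]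
  zy := fun s p => by rw [← map_mul, ← map_mul, d.zy]
  rel := fun p q => by rw [← map_inv, ← map_mul, ← map_mul, ← map_mul, d.rel]
  gx := fun p => by rw [← map_inv, ← map_mul, ← map_mul, d.gx]
  gy := fun p => by rw [← map_inv, ← map_mul, ← map_mul, d.gy]
  gz := fun s => by rw [← map_mul, ← map_mul, d.gz]
  tor := by
    obtain ⟨r, N, h1, h2, h3⟩ := d.tor
    refine ⟨r, N, h1, fun s => by rw [← map_pow, h2, map_one], fun u hu => ?_⟩
    obtain ⟨t, h4, h5, h6, h7, h8⟩ := h3 u hu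
    refine ⟨f t, by rw [← map_pow, h4, map_one], by rw [← map_mul, ← map_mul, h5],
      fun s => by rw [← map_mul, ← map_mul, h6], fun p => by rw [← map_inv, ← map_mul, ← map_mul, h7],
      fun p => by rw [← map_inv, ← map_mul, ← map_mul, h8]⟩
  sep := fun i j hij => by
    obtain ⟨h, h1, h2, h3, h4, h5⟩ := d.sep i j hij
    refine ⟨f h, by rw [← map_mul, ← map_mul, h1], fun s => by rw [← map_inv, ← map_mul, ← map_mul, h2],
      fun s => by rw [← map_inv, ← map_mul, ← map_mul, h3], fun s => by rw [← map_inv, ← map_mul, ← map_mul, h4],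
      fun s => by rw [← map_inv, ← map_mul, ← map_mul, h5]⟩

theorem Dat.halfX (d : Dat z x y g) : Half x g where
  add := d.x_add
  inv := d.gx
  tor := fun u hu => by
    obtain ⟨r, N, -, -, h⟩ := d.tor
    obtain ⟨t, -, h1, -, h2, -⟩ := h u hu
    exact ⟨t, h1, h2⟩
  sep := fun i j hij => by
    obtain ⟨h, h1, h2, h3, -, -⟩ := d.sep i j hij
    exact ⟨h, h1, h2, h3⟩

theorem Dat.halfY (d : Dat z x y g) : Half y g where
  add := d.y_add
  inv := d.gy
  tor := fun u hu => by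
    obtain ⟨r, N, -, -, h⟩ := d.tor
    obtain ⟨t, -, h1, -, -, h2⟩ := h u⁻¹ (inv_ne_zero hu)
    rw [inv_inv] at h2
    exact ⟨t, h1, h2⟩
  sep := fun i j hij => by
    obtain ⟨h, h1, -, -, h2, h3⟩ := d.sep i j hij
    exact ⟨h, h1, h2, h3⟩

/-- The lifted data. -/
structure Cov (π : L →* K) (z : F → K) (x y : (I → F) → K) (g : K) (γ : L) (X Y : (I → F) → L) : Prop where
  dat : Dat z x y g
  odd : OddCover π
  γg : π γ = g
  liftX : IsLift π γ x X
  liftY : IsLift π γ y Y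

theorem Dat.exists_cov (d : Dat z x y g) (h : OddCover π) : ∃ γ X Y, Cov π z x y g γ X Y := by
  obtain ⟨γ, hγ⟩ := h.surj g
  obtain ⟨X, hX⟩ := d.halfX.exists_isLift h hγ
  obtain ⟨Y, hY⟩ := d.halfY.exists_isLift h hγ
  exact ⟨γ, X, Y, d, h, hγ, hX, hY⟩

/-- `[Y q, X p]`. -/
def bet (X Y : (I → F) → L) (p q : I → F) : L := Y q * X p * (Y q)⁻¹ * (X p)⁻¹

namespace Cov

variable {γ : L} {X Y : (I → F) → L}

theorem X_add (c : Cov π z x y g γ X Y) (p q : I → F) : X (p + q) = X p * X q :=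
  c.liftX.add c.odd c.dat.halfX c.γg p q

theorem Y_add (c : Cov π z x y g γ X Y) (p q : I → F) : Y (p + q) = Y p * Y q :=
  c.liftY.add c.odd c.dat.halfY c.γg p q

theorem X_neg (c : Cov π z x y g γ X Y) (p : I → F) : X (-p) = (X p)⁻¹ :=
  c.liftX.neg c.odd c.dat.halfX p

theorem Y_neg (c : Cov π z x y g γ X Y) (p : I → F) : Y (-p) = (Y p)⁻¹ :=
  c.liftY.neg c.odd c.dat.halfY p

theorem X_comm (c : Cov π z x y g γ X Y) (p q : I → F) : X p * X q = X q * X p :=
  c.liftX.comm c.odd c.dat.halfX c.γg p q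

theorem Y_comm (c : Cov π z x y g γ X Y) (p q : I → F) : Y p * Y q = Y q * Y p :=
  c.liftY.comm c.odd c.dat.halfY c.γg p q

theorem conjX (c : Cov π z x y g γ X Y) {k : L} (hk : π k * g = g * π k) {p q : I → F}
    (hpq : π k * x p * (π k)⁻¹ = x q) : k * X p * k⁻¹ = X q :=
  c.liftX.conj c.odd (by rw [c.γg, hk]) hpq

theorem conjY (c : Cov π z x y g γ X Y) {k : L} (hk : π k * g = g * π k) {p q : I → F}
    (hpq : π k * y p * (π k)⁻¹ = y q) : k * Y p * k⁻¹ = Y q :=
  c.liftY.conj c.odd (by rw [c.γg, hk]) hpq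

theorem map_bet (c : Cov π z x y g γ X Y) (p q : I → F) : π (bet X Y p q) = z (p ⬝ᵥ q) := by
  unfold bet
  rw [map_mul, map_mul, map_mul, map_inv, map_inv, c.liftX.map, c.liftY.map, c.dat.rel, ← c.dat.zx]
  group

/-- Lifts of the `z s` commute with `X p`. -/
theorem comm_X (c : Cov π z x y g γ X Y) {k : L} {s : F} (hk : π k = z s) (p : I → F) : k * X p = X p * k := by
  have h1 := c.conjX (k := k) (p := p) (q := p) (by rw [hk, c.dat.gz]) (by rw [hk, c.dat.zx]; group)
  exact mul_inv_eq_iff_eq_mul.1 h1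

theorem comm_Y (c : Cov π z x y g γ X Y) {k : L} {s : F} (hk : π k = z s) (p : I → F) : k * Y p = Y p * k := by
  have h1 := c.conjY (k := k) (p := p) (q := p) (by rw [hk, c.dat.gz]) (by rw [hk, c.dat.zy]; group)
  exact mul_inv_eq_iff_eq_mul.1 h1

/-- Lifts of the `z s` commute with the `bet p q`. -/
theorem comm_bet (c : Cov π z x y g γ X Y) {k : L} {s : F} (hk : π k = z s) (p q : I → F) :
    k * bet X Y p q = bet X Y p q * k := by
  have h1 : Commute k (X p) := c.comm_X hk p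
  have h2 : Commute k (Y q) := c.comm_Y hk q
  exact ((h2.mul_right h1).mul_right h2.inv_right).mul_right h1.inv_right

theorem bet_conj (_ : Cov π z x y g γ X Y) (p q : I → F) : Y q * X p * (Y q)⁻¹ = bet X Y p q * X p := by
  unfold bet; group

theorem bet_conj' (c : Cov π z x y g γ X Y) (p q : I → F) : Y q * X p * (Y q)⁻¹ = X p * bet X Y p q := by
  rw [c.bet_conj, c.comm_X (c.map_bet p q)]

theorem bet_add_left (c : Cov π z x y g γ X Y) (p p' q : I → F) :
    bet X Y (p + p') q = bet X Y p q * bet X Y p' q := by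
  have h1 := c.comm_X (c.map_bet p' q) (X := X) (Y := Y) p
  calc bet X Y (p + p') q = (Y q * X p * (Y q)⁻¹) * (Y q * X p' * (Y q)⁻¹ * (X p')⁻¹) * (X p)⁻¹ := by
        unfold bet; rw [c.X_add]; group
    _ = bet X Y p q * (X p * bet X Y p' q) * (X p)⁻¹ := by rw [c.bet_conj]; unfold bet; group
    _ = bet X Y p q * bet X Y p' q := by rw [← h1]; group

theorem bet_add_right (c : Cov π z x y g γ X Y) (p q q' : I → F) :
    bet X Y p (q + q') = bet X Y p q * bet X Y p q' := by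
  have h1 := c.comm_Y (c.map_bet p q') (X := X) (Y := Y) q
  calc bet X Y p (q + q') = Y q * (Y q' * X p * (Y q')⁻¹ * (X p)⁻¹) * (X p * (Y q)⁻¹ * (X p)⁻¹) := by
        unfold bet; rw [c.Y_add]; group
    _ = Y q * bet X Y p q' * (X p * (Y q)⁻¹ * (X p)⁻¹) := rfl
    _ = bet X Y p q' * (Y q * X p * (Y q)⁻¹ * (X p)⁻¹) := by rw [← h1]; group
    _ = bet X Y p q' * bet X Y p q := rfl
    _ = _ := c.comm_bet (c.map_bet p q') p q

theorem bet_zero_left (c : Cov π z x y g γ X Y) (q : I → F) : bet X Y 0 q = 1 := by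
  have h1 := c.bet_add_left 0 0 q
  rw [add_zero] at h1
  exact (left_eq_mul.1 h1)

theorem bet_zero_right (c : Cov π z x y g γ X Y) (p : I → F) : bet X Y p 0 = 1 := by
  have h1 := c.bet_add_right p 0 0
  rw [add_zero] at h1
  exact (left_eq_mul.1 h1)

theorem bet_neg_left (c : Cov π z x y g γ X Y) (p q : I → F) : bet X Y (-p) q = (bet X Y p q)⁻¹ := by
  apply eq_inv_of_mul_eq_one_left
  rw [← c.bet_add_left, neg_add_cancel, c.bet_zero_left]

theorem bet_neg_right (c : Cov π z x y g γ X Y) (p q : I → F) : bet X Y p (-q) = (bet X Y p q)⁻¹ := by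
  apply eq_inv_of_mul_eq_one_left
  rw [← c.bet_add_right, neg_add_cancel, c.bet_zero_right]

/-- Separation: an element inverting `x p` and centralising `y q`. -/
theorem bet_of_sep (c : Cov π z x y g γ X Y) {p q : I → F} (hpq : p ⬝ᵥ q = 0)
    (hs : ∃ h : K, h * g = g * h ∧ h * x p * h⁻¹ = x (-p) ∧ h * y q * h⁻¹ = y q) : bet X Y p q = 1 := by
  obtain ⟨h, h1, h2, h3⟩ := hs
  obtain ⟨T, rfl⟩ := c.odd.surj h
  have h4 : X p * Y q * (X p)⁻¹ * (Y q)⁻¹ ∈ π.ker := by
    have h5 : z 0 = 1 := by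
      have := c.dat.z_add 0 0
      rw [add_zero] at this
      exact (left_eq_mul.1 this)
    have h6 : X p * Y q * (X p)⁻¹ * (Y q)⁻¹ = (bet X Y p q)⁻¹ := by unfold bet; group
    rw [h6]
    apply inv_mem
    rw [MonoidHom.mem_ker, c.map_bet, hpq, h5]
  have h5 := comm_of_sep c.odd (k := T) h4 (by rw [c.conjX h1 h2, c.X_neg]) (c.conjY h1 h3)
  unfold bet
  rw [← h5]; group

theorem dot_single (i j : I) (s t : F) :
    (Pi.single i s : I → F) ⬝ᵥ Pi.single j t = if i = j then s * t else 0 := by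
  rw [single_dotProduct, Pi.single_apply]
  split_ifs with h
  · rfl
  · rw [mul_zero]

theorem bet_off (c : Cov π z x y g γ X Y) {i j : I} (hij : i ≠ j) (s t : F) :
    bet X Y (Pi.single i s) (Pi.single j t) = 1 := by
  obtain ⟨h, h1, h2, -, -, h3⟩ := c.dat.sep i j hij
  exact c.bet_of_sep (by rw [dot_single, if_neg hij]) ⟨h, h1, by rw [h2, Pi.single_neg], h3 t⟩

/-- Balanced. -/
theorem bet_smul (c : Cov π z x y g γ X Y) {u : F} (hu : u ≠ 0) (p q : I → F) :
    bet X Y (u • p) (u⁻¹ • q) = bet X Y p q := by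
  obtain ⟨r, N, hrN, hz, ht⟩ := c.dat.tor
  obtain ⟨t, h1, h2, h3, h4, h5⟩ := ht u hu
  obtain ⟨T, rfl⟩ := c.odd.surj t
  have h6 : T * bet X Y p q = bet X Y p q * T :=
    comm_of_coprime c.odd hrN (by rw [c.map_bet, hz]) h1 (by rw [c.map_bet, h3])
  have h7 : T * bet X Y p q * T⁻¹ = bet X Y (u • p) (u⁻¹ • q) := by
    unfold bet
    rw [← c.conjX h2 (h4 p), ← c.conjY h2 (h5 q)]
    group
  rw [← h7, h6]; group

/-- The lift of `z` with index `i`. -/
def zi (X Y : (I → F) → L) (i : I) (s : F) : L := bet X Y (Pi.single i s) (Pi.single i 1)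

theorem bet_same (c : Cov π z x y g γ X Y) (i : I) (s t : F) :
    bet X Y (Pi.single i s) (Pi.single i t) = zi X Y i (s * t) := by
  by_cases ht : t = 0
  · subst ht
    rw [Pi.single_zero, c.bet_zero_right, mul_zero, zi, Pi.single_zero, c.bet_zero_left]
  · rw [zi, ← c.bet_smul ht (Pi.single i s) (Pi.single i t), ← Pi.single_smul, ← Pi.single_smul, smul_eq_mul,
      smul_eq_mul, inv_mul_cancel₀ ht, mul_comm]

theorem map_zi (c : Cov π z x y g γ X Y) (i : I) (s : F) : π (zi X Y i s) = z s := by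
  rw [zi, c.map_bet, dot_single, if_pos rfl, mul_one]

theorem zi_add (c : Cov π z x y g γ X Y) (i : I) (s t : F) : zi X Y i (s + t) = zi X Y i s * zi X Y i t := by
  rw [zi, Pi.single_add, c.bet_add_left]; rfl

theorem zi_neg (c : Cov π z x y g γ X Y) (i : I) (s : F) : zi X Y i (-s) = (zi X Y i s)⁻¹ := by
  rw [zi, Pi.single_neg, c.bet_neg_left]; rfl

theorem zi_comm (c : Cov π z x y g γ X Y) (i j : I) (s t : F) :
    zi X Y i s * zi X Y j t = zi X Y j t * zi X Y i s :=
  c.comm_bet (c.map_zi i s) _ _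

/-- Link: `x (s e_i + a s e_j)` against `y (e_i - a⁻¹ e_j)`. -/
theorem zi_eq_of_link (c : Cov π z x y g γ X Y) {i j : I} (hij : i ≠ j) {a : F} (ha : a ≠ 0)
    (hl : ∀ s : F, ∃ h : K, h * g = g * h ∧
      h * x (Pi.single i s + Pi.single j (a * s)) * h⁻¹ = x (-(Pi.single i s + Pi.single j (a * s))) ∧
      h * y (Pi.single i 1 + Pi.single j (-a⁻¹)) * h⁻¹ = y (Pi.single i 1 + Pi.single j (-a⁻¹))) (s : F) :
    zi X Y i s = zi X Y j s := by
  have h1 := c.bet_of_sep (p := Pi.single i s + Pi.single j (a * s)) (q := Pi.single i 1 + Pi.single j (-a⁻¹)) (by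
    rw [add_dotProduct, dotProduct_add, dotProduct_add, dot_single, dot_single, dot_single, dot_single,
      if_pos rfl, if_pos rfl, if_neg hij, if_neg hij.symm]
    field_simp
    ring) (hl s)
  rw [c.bet_add_left, c.bet_add_right, c.bet_add_right, c.bet_off hij, c.bet_off hij.symm, c.bet_same,
    c.bet_same, mul_one, mul_one, one_mul] at h1
  have h2 : a * s * -a⁻¹ = -s := by field_simp
  rw [h2, c.zi_neg] at h1
  exact mul_inv_eq_one.1 h1

/-- Link with three indices, for `|F| = 3`. -/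
theorem zi_eq_of_link_three (c : Cov π z x y g γ X Y) {i j k : I} (hij : i ≠ j) (hik : i ≠ k) (hjk : j ≠ k)
    (h3 : (3 : F) = 0) (hji : ∀ s, zi X Y j s = zi X Y i s)
    (hl : ∀ s : F, ∃ h : K, h * g = g * h ∧
      h * x (Pi.single i s + Pi.single j s + Pi.single k s) * h⁻¹ =
        x (-(Pi.single i s + Pi.single j s + Pi.single k s)) ∧
      h * y (Pi.single i 1 + Pi.single j 1 + Pi.single k 1) * h⁻¹ =
        y (Pi.single i 1 + Pi.single j 1 + Pi.single k 1)) (s : F) :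
    zi X Y k s = zi X Y i s := by
  have h1 := c.bet_of_sep (p := Pi.single i s + Pi.single j s + Pi.single k s)
    (q := Pi.single i 1 + Pi.single j 1 + Pi.single k 1) (by
    simp only [add_dotProduct, dotProduct_add, dot_single, if_true, if_neg hij, if_neg hij.symm, if_neg hik,
      if_neg hik.symm, if_neg hjk, if_neg hjk.symm]
    linear_combination s * h3) (hl s)
  simp only [c.bet_add_left, c.bet_add_right, c.bet_off hij, c.bet_off hij.symm, c.bet_off hik,
    c.bet_off hik.symm, c.bet_off hjk, c.bet_off hjk.symm, c.bet_same, mul_one, one_mul, hji] at h1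
  have h4 : s + s = -s := by linear_combination s * h3
  rw [← c.zi_add, h4, c.zi_neg] at h1
  exact (inv_mul_eq_one.1 h1).symm

/-- An element scaling `x` and centralising `y`. -/
theorem zi_eq_of_scale (c : Cov π z x y g γ X Y) {b : F} (hb : b ≠ 1)
    (hl : ∃ h : K, h * g = g * h ∧ (∀ p, h * x p * h⁻¹ = x (b • p)) ∧ (∀ p, h * y p * h⁻¹ = y p)) (i j : I) (s : F) :
    zi X Y i s = zi X Y j s := by
  obtain ⟨h, h1, h2, h3⟩ := hl
  obtain ⟨T, rfl⟩ := c.odd.surj h
  have h4 : ∀ i s, T * zi X Y i s * T⁻¹ = zi X Y i (b * s) := by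
    intro i s
    have e1 := c.conjX h1 (h2 (Pi.single i s))
    rw [← Pi.single_smul, smul_eq_mul] at e1
    have e2 := c.conjY h1 (h3 (Pi.single i 1))
    calc T * zi X Y i s * T⁻¹ = (T * Y (Pi.single i 1) * T⁻¹) * (T * X (Pi.single i s) * T⁻¹) *
          (T * Y (Pi.single i 1) * T⁻¹)⁻¹ * (T * X (Pi.single i s) * T⁻¹)⁻¹ := by unfold zi bet; group
      _ = zi X Y i (b * s) := by rw [e1, e2]; rfl
  have h5 : ∀ s, zi X Y i s * (zi X Y j s)⁻¹ ∈ π.ker := by
    intro s
    rw [MonoidHom.mem_ker, map_mul, map_inv, c.map_zi, c.map_zi, mul_inv_cancel]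
  -- `χ s = z_i s / z_j s` is additive and `χ (b s) = χ s`
  have h6 : ∀ s, zi X Y i (b * s) * (zi X Y j (b * s))⁻¹ = zi X Y i s * (zi X Y j s)⁻¹ := by
    intro s
    rw [← h4, ← h4]
    calc _ = T * (zi X Y i s * (zi X Y j s)⁻¹) * T⁻¹ := by group
      _ = _ := by rw [ker_comm c.odd (h5 s) T]; group
  have h7 : ∀ s t, zi X Y i (s + t) * (zi X Y j (s + t))⁻¹ =
      (zi X Y i s * (zi X Y j s)⁻¹) * (zi X Y i t * (zi X Y j t)⁻¹) := by
    intro s t
    rw [c.zi_add, c.zi_add]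
    have e1 : Commute (zi X Y i t) (zi X Y j s)⁻¹ := (show Commute _ _ from c.zi_comm i j t s).inv_right
    have e2 : Commute (zi X Y j s)⁻¹ (zi X Y j t)⁻¹ :=
      ((show Commute _ _ from c.zi_comm j j s t).inv_right).inv_left
    calc zi X Y i s * zi X Y i t * (zi X Y j s * zi X Y j t)⁻¹
        = zi X Y i s * zi X Y i t * ((zi X Y j t)⁻¹ * (zi X Y j s)⁻¹) := by group
      _ = zi X Y i s * (zi X Y i t * (zi X Y j s)⁻¹) * (zi X Y j t)⁻¹ := by rw [← e2.eq]; group
      _ = _ := by rw [e1.eq]; group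
  have h8 : ∀ s, zi X Y i ((b - 1) * s) * (zi X Y j ((b - 1) * s))⁻¹ = 1 := by
    intro s
    have e1 := h7 ((b - 1) * s) s
    rw [show (b - 1) * s + s = b * s by ring, h6] at e1
    exact (right_eq_mul.1 e1)
  have h9 := h8 ((b - 1)⁻¹ * s)
  rw [mul_inv_cancel_left₀ (sub_ne_zero.2 hb)] at h9
  exact mul_inv_eq_one.1 h9

end Cov

end Both

end Cfsg.Agent.Omega.TwoF.OLift
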