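import Cfsg.Agent.Omega.TwoF.OLift
import Cfsg.Agent.Omega.Lie.HeisLB

/-!
# The lower bound from the data `Dat`

`Tie x y g i j`: the lifts `zi i`, `zi j` of `z` agree in every odd cover. `lb_of_dat`: if all indices are tied, then
`LB K (ord_p(2) * |F| ^ |I|)`.
-/

set_option autoImplicit false
set_option linter.unusedSectionVars false

universe u v w

namespace Cfsg.Agent.Omega.TwoF.OLift

open Subgroup Cfsg.Agent.Omega.Lie.FHeis

variable {L K : Type*} [Group L] [Group K] {π : L →* K}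
variable {I F : Type*} [Fintype I] [DecidableEq I] [Field F]
variable {z : F → K} {x y : (I → F) → K} {g : K}

/-- The indices `i`, `j` are tied. -/
inductive Tie (x y : (I → F) → K) (g : K) : I → I → Prop
  | refl (i : I) : Tie x y g i i
  | symm {i j : I} : Tie x y g i j → Tie x y g j i
  | trans {i j k : I} : Tie x y g i j → Tie x y g j k → Tie x y g i k
  | link {i j : I} (hij : i ≠ j) {a : F} (ha : a ≠ 0)
      (hl : ∀ s : F, ∃ h : K, h * g = g * h ∧
        h * x (Pi.single i s + Pi.single j (a * s)) * h⁻¹ = x (-(Pi.single i s + Pi.single j (a * s))) ∧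
        h * y (Pi.single i 1 + Pi.single j (-a⁻¹)) * h⁻¹ = y (Pi.single i 1 + Pi.single j (-a⁻¹))) : Tie x y g i j
  | three {i j k : I} (hij : i ≠ j) (hik : i ≠ k) (hjk : j ≠ k) (h3 : (3 : F) = 0) (hji : Tie x y g j i)
      (hl : ∀ s : F, ∃ h : K, h * g = g * h ∧
        h * x (Pi.single i s + Pi.single j s + Pi.single k s) * h⁻¹ =
          x (-(Pi.single i s + Pi.single j s + Pi.single k s)) ∧
        h * y (Pi.single i 1 + Pi.single j 1 + Pi.single k 1) * h⁻¹ =
          y (Pi.single i 1 + Pi.single j 1 + Pi.single k 1)) : Tie x y g k i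
  | scale {b : F} (hb : b ≠ 1)
      (hl : ∃ h : K, h * g = g * h ∧ (∀ p, h * x p * h⁻¹ = x (b • p)) ∧ (∀ p, h * y p * h⁻¹ = y p)) (i j : I) :
      Tie x y g i j

theorem Tie.eq {γ : L} {X Y : (I → F) → L} (c : Cov π z x y g γ X Y) {i j : I} (t : Tie x y g i j) :
    ∀ s, Cov.zi X Y i s = Cov.zi X Y j s := by
  induction t with
  | refl i => exact fun s => rfl
  | symm _ ih => exact fun s => (ih s).symm
  | trans _ _ ih1 ih2 => exact fun s => (ih1 s).trans (ih2 s)
  | link hij ha hl => exact fun s => c.zi_eq_of_link hij ha hl s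
  | three hij hik hjk h3 _ hl ih => exact fun s => c.zi_eq_of_link_three hij hik hjk h3 ih hl s
  | scale hb hl i j => exact fun s => c.zi_eq_of_scale hb hl i j s

theorem Tie.map {K' : Type*} [Group K'] (f : K →* K') {i j : I} (t : Tie x y g i j) :
    Tie (fun p => f (x p)) (fun p => f (y p)) (f g) i j := by
  induction t with
  | refl i => exact .refl i
  | symm _ ih => exact ih.symm
  | trans _ _ ih1 ih2 => exact ih1.trans ih2
  | link hij ha hl =>
    refine .link hij ha fun s => ?_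
    obtain ⟨h, h1, h2, h3⟩ := hl s
    exact ⟨f h, by rw [← map_mul, ← map_mul, h1], by rw [← map_inv, ← map_mul, ← map_mul, h2],
      by rw [← map_inv, ← map_mul, ← map_mul, h3]⟩
  | three hij hik hjk h3 _ hl ih =>
    refine .three hij hik hjk h3 ih fun s => ?_
    obtain ⟨h, h1, h2, h3⟩ := hl s
    exact ⟨f h, by rw [← map_mul, ← map_mul, h1], by rw [← map_inv, ← map_mul, ← map_mul, h2],
      by rw [← map_inv, ← map_mul, ← map_mul, h3]⟩
  | scale hb hl i j =>
    obtain ⟨h, h1, h2, h3⟩ := hl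
    exact .scale hb ⟨f h, by rw [← map_mul, ← map_mul, h1], fun p => by rw [← map_inv, ← map_mul, ← map_mul, h2],
      fun p => by rw [← map_inv, ← map_mul, ← map_mul, h3]⟩ i j

/-- The Heisenberg configuration in the cover. -/
theorem Cov.fheis {γ : L} {X Y : (I → F) → L} (c : Cov π z x y g γ X Y) (i₀ : I)
    (hz : ∀ i s, Cov.zi X Y i s = Cov.zi X Y i₀ s) :
    FHeis (Cov.zi X Y i₀) (fun i s => X (Pi.single i s)) (fun i s => Y (Pi.single i s)) where
  z_add := c.zi_add i₀
  x_add := fun i s t => by rw [Pi.single_add, c.X_add]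
  y_add := fun i s t => by rw [Pi.single_add, c.Y_add]
  zx := fun i s t => c.comm_X (c.map_zi i₀ s) _
  zy := fun i s t => c.comm_Y (c.map_zi i₀ s) _
  xx := fun i j s t _ => c.X_comm _ _
  yx := fun i j s t hij => by
    have h1 := c.bet_off hij.symm s t
    unfold bet at h1
    exact mul_inv_eq_iff_eq_mul.1 (mul_inv_eq_one.1 h1)
  conj := fun i s t => by
    rw [c.bet_conj', c.bet_same, hz]

/-- **The lower bound.** -/
theorem lb_of_dat {K : Type u} [Group K] [IsSimpleGroup K] {I : Type*} {F : Type*} [Fintype I] [DecidableEq I]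
    [Field F] [Finite F] {p : ℕ} [Fact p.Prime] [CharP F p] (hp2 : p ≠ 2) {z : F → K} {x y : (I → F) → K} {g : K}
    (d : Dat z x y g) (hz : ∃ s, z s ≠ 1) (i₀ : I) (ht : ∀ i, Tie x y g i i₀) :
    Lie.Heis.LB.{u, v, w} K (orderOf (2 : ZMod p) * Nat.card F ^ Nat.card I) := by
  intro L _ _ π hπ hc ho hL V _ _ h2 φ hφ
  obtain ⟨γ, X, Y, c⟩ := d.exists_cov (π := π) ⟨hL, hπ, hc, ho⟩
  have h' := c.fheis i₀ fun i => (ht i).eq c
  refine Lie.HeisLift.two_pow_le hp2 h' φ h2 ?_
  obtain ⟨s, hs⟩ := hz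
  refine ⟨s, fun h1 => hs ?_⟩
  have h3 : Cov.zi X Y i₀ s ∈ π.ker := Lie.Heis.ker_le_ker hπ hc hL hφ (MonoidHom.mem_ker.2 h1)
  rw [← c.map_zi i₀ s, MonoidHom.mem_ker.1 h3]

end Cfsg.Agent.Omega.TwoF.OLift
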