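import Cfsg.Agent.ClassicalGeometry.Eichler
import Cfsg.Agent.ClassicalGeometry.SiegelGen
import Cfsg.Agent.ClassicalGeometry.SpinorSign
import Cfsg.Agent.ClassicalGeometry.GenReflections
import Cfsg.Agent.ClassicalGeometry.ReflClass
import Cfsg.Agent.Omega.TwoF.OLift

/-!
# The long root parabolic of an orthogonal group

`Q` a nondegenerate quadratic form on `ι → F`, `F` of odd characteristic.

* `E Q u w`: the Eichler transformation (total function);
* `tor Q e f a`: `e ↦ a e`, `f ↦ a⁻¹ f`, identity on `⟨e, f⟩^⊥`;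
* `Frame Q e f e' f' b`: two hyperbolic pairs and an orthogonal family of nonsingular vectors orthogonal to them.
-/

set_option autoImplicit false
set_option linter.unusedSectionVars false

namespace Cfsg.Agent.Omega.TwoF.OrthEl

open QuadraticMap Matrix
open Cfsg.Agent.ClassicalGeometry.Reflection Cfsg.Agent.ClassicalGeometry.Eichler
open Cfsg.Agent.ClassicalGeometry.SiegelGen Cfsg.Agent.ClassicalGeometry.SpinorSign
open Cfsg.Agent.ClassicalGeometry.GenReflections (act act_apply act_mul act_one act_isometry act_polar act_ext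
  act_reflIso act_inv_eq)
open Cfsg.Agent.ClassicalGeometry.ReflClass (exists_diag_binary)

variable {ι : Type} [Fintype ι] [DecidableEq ι] {F : Type*} [Field F]

/-! ### Eichler transformations -/

open Classical in
/-- The Eichler transformation as a total function. -/
noncomputable def E (Q : QuadraticForm F (ι → F)) (u w : ι → F) : Cfsg.isometryGroup F (⇑Q) :=
  if h : Q u = 0 ∧ polar (⇑Q) u w = 0 then eichlerIso Q u w h.1 h.2 else 1

variable {Q : QuadraticForm F (ι → F)}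

theorem E_eq {u w : ι → F} (hu : Q u = 0) (hw : polar (⇑Q) u w = 0) : E Q u w = eichlerIso Q u w hu hw := by
  rw [E, dif_pos ⟨hu, hw⟩]

theorem act_E {u w : ι → F} (hu : Q u = 0) (hw : polar (⇑Q) u w = 0) (x : ι → F) :
    act Q (E Q u w) x = x + (polar (⇑Q) u x • w - polar (⇑Q) w x • u - (Q w * polar (⇑Q) u x) • u) := by
  rw [E_eq hu hw, act_apply, coe_eichlerIso, eichlerMatrix_mulVec]

theorem E_add {u w w' : ι → F} (hu : Q u = 0) (hw : polar (⇑Q) u w = 0) (hw' : polar (⇑Q) u w' = 0) :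
    E Q u w * E Q u w' = E Q u (w + w') := by
  rw [E_eq hu hw, E_eq hu hw', eichlerIso_mul, E_eq hu]

theorem E_zero (u : ι → F) : E Q u 0 = 1 := by
  by_cases hu : Q u = 0
  · rw [E_eq hu (QuadraticMap.polar_zero_right _ _), eichlerIso_zero]
  · rw [E, dif_neg fun h => hu h.1]

theorem E_conj (g : Cfsg.isometryGroup F (⇑Q)) (u w : ι → F) :
    g * E Q u w * g⁻¹ = E Q (act Q g u) (act Q g w) := by
  by_cases h : Q u = 0 ∧ polar (⇑Q) u w = 0
  · have h1 : Q (act Q g u) = 0 := by rw [act_isometry, h.1]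
    have h2 : polar (⇑Q) (act Q g u) (act Q g w) = 0 := by rw [act_polar, h.2]
    rw [E_eq h.1 h.2, E_eq h1 h2]
    exact conj_eichlerIso Q u w h.1 h.2 g h1 h2
  · have h' : ¬ (Q (act Q g u) = 0 ∧ polar (⇑Q) (act Q g u) (act Q g w) = 0) := by
      rwa [act_isometry, act_polar]
    rw [E, dif_neg h, E, dif_neg h']
    group

theorem E_smul {u w : ι → F} {a : F} (hu : Q u = 0) (hw : polar (⇑Q) u w = 0) :
    E Q (a • u) w = E Q u (a • w) := by
  have h1 : Q (a • u) = 0 := by rw [QuadraticMap.map_smul, hu, smul_zero]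
  have h2 : polar (⇑Q) (a • u) w = 0 := by rw [QuadraticMap.polar_smul_left, hw, smul_zero]
  have h3 : polar (⇑Q) u (a • w) = 0 := by rw [QuadraticMap.polar_smul_right, hw, smul_zero]
  apply act_ext
  intro x
  rw [act_E h1 h2, act_E hu h3, QuadraticMap.map_smul, QuadraticMap.polar_smul_left, QuadraticMap.polar_smul_left]
  ext i
  simp only [Pi.add_apply, Pi.sub_apply, Pi.smul_apply, smul_eq_mul]
  ring

theorem E_comm {u v w t : ι → F} (hu : Q u = 0) (hv : Q v = 0) (huv : polar (⇑Q) u v = 0)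
    (huw : polar (⇑Q) u w = 0) (hut : polar (⇑Q) u t = 0) (hvw : polar (⇑Q) v w = 0)
    (hvt : polar (⇑Q) v t = 0) :
    E Q u w * E Q v t * (E Q u w)⁻¹ * (E Q v t)⁻¹ = E Q u (polar (⇑Q) w t • v) := by
  have h1 := commutator_eichlerIso Q u v w t hu hv huv huw hut hvw hvt
  rw [E_eq hu huw, E_eq hv hvt, E_eq hu (by rw [QuadraticMap.polar_smul_right, huv, smul_zero])]
  exact h1

theorem E_mem (h2 : (2 : F) ≠ 0) (hQ : (polarBilin Q).Nondegenerate) (u w : ι → F) :
    E Q u w ∈ Cfsg.Omega F (⇑Q) := by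
  by_cases h : Q u = 0 ∧ polar (⇑Q) u w = 0
  · have h3 : polar (⇑Q) u ((2 : F)⁻¹ • w) = 0 := by rw [QuadraticMap.polar_smul_right, h.2, smul_zero]
    have h4 : E Q u w = E Q u ((2 : F)⁻¹ • w) * E Q u ((2 : F)⁻¹ • w) := by
      rw [E_add h.1 h3 h3, ← add_smul, ← two_mul, mul_inv_cancel₀ h2, one_smul]
    rw [h4]
    exact mul_self_mem_commutator h2 Q hQ _
  · rw [E, dif_neg h]
    exact one_mem _

/-- `E Q u w = 1` only if `w ∈ F u` (`u ≠ 0`). -/
theorem eq_zero_of_E_eq_one {u w v : ι → F} (hu : Q u = 0) (hw : polar (⇑Q) u w = 0) (h : E Q u w = 1)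
    (hv : polar (⇑Q) u v = 1) (hwv : polar (⇑Q) w v = 0) : w = Q w • u := by
  have h1 := act_E hu hw v
  rw [h, act_one, hv, hwv] at h1
  have h2 : w - Q w • u = 0 := by
    have := (left_eq_add.1 h1)
    simpa using this
  exact sub_eq_zero.1 h2

/-! ### Reflections -/

theorem refl_fix {v x : ι → F} (hv : Q v ≠ 0) (h : polar (⇑Q) v x = 0) : act Q (reflIso Q v hv) x = x := by
  rw [act_reflIso, h, mul_zero, zero_smul, sub_zero]

theorem refl_neg {v : ι → F} (hv : Q v ≠ 0) : act Q (reflIso Q v hv) v = -v := by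
  rw [act_reflIso, polar_self']
  have : (Q v)⁻¹ * (2 * Q v) = 2 := by field_simp
  rw [this, two_smul]
  abel

theorem refl_comm {v w : ι → F} (hv : Q v ≠ 0) (hw : Q w ≠ 0) (h : polar (⇑Q) v w = 0) :
    reflIso Q v hv * reflIso Q w hw = reflIso Q w hw * reflIso Q v hv := by
  apply act_ext
  intro x
  rw [act_mul, act_mul, act_reflIso, act_reflIso, act_reflIso, act_reflIso]
  simp only [QuadraticMap.polar_sub_right, QuadraticMap.polar_smul_right, h, polar_comm (⇑Q) w v, smul_zero,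
    sub_zero]
  abel

theorem refl_mul_mem (h2 : (2 : F) ≠ 0) (hQ : (polarBilin Q).Nondegenerate) {v w : ι → F} (hv : Q v ≠ 0)
    (hw : Q w ≠ 0) (h : IsSquare (Q v * Q w)) : reflIso Q v hv * reflIso Q w hw ∈ Cfsg.Omega F (⇑Q) := by
  obtain ⟨u, hu, h3⟩ := exists_reflIso_mul_reflIso_eq_sq h2 Q hv hw h
  rw [h3, pow_two]
  exact mul_self_mem_commutator h2 Q hQ _

/-! ### The split torus -/

theorem Q_sub_smul {e f : ι → F} (he : Q e = 0) (hf : Q f = 0) (hef : polar (⇑Q) e f = 1) (a : F) :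
    Q (e - a • f) = -a := by
  rw [sub_eq_add_neg, ← neg_smul, map_add', QuadraticMap.map_smul, QuadraticMap.polar_smul_right, he, hf, hef]
  simp

/-- A hyperbolic pair. -/
structure Hyp (Q : QuadraticForm F (ι → F)) (e f : ι → F) : Prop where
  qe : Q e = 0
  qf : Q f = 0
  ef : polar (⇑Q) e f = 1

theorem Hyp.ne {e f : ι → F} (h : Hyp Q e f) (a : Fˣ) : Q (e - (a : F) • f) ≠ 0 := by
  rw [Q_sub_smul h.qe h.qf h.ef]
  exact neg_ne_zero.2 a.ne_zero

/-- `e ↦ a e`, `f ↦ a⁻¹ f`. -/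
noncomputable def tor {e f : ι → F} (h : Hyp Q e f) (a : Fˣ) : Cfsg.isometryGroup F (⇑Q) :=
  reflIso Q (e - ((1 : Fˣ) : F) • f) (h.ne 1) * reflIso Q (e - (a : F) • f) (h.ne a)

theorem act_tor {e f : ι → F} (h : Hyp Q e f) (a : Fˣ) (x : ι → F) :
    act Q (tor h a) x = x + (((a : F) - 1) * polar (⇑Q) f x) • e + (((a : F)⁻¹ - 1) * polar (⇑Q) e x) • f := by
  have ha : (a : F) ≠ 0 := a.ne_zero
  have ee : polar (⇑Q) e e = 0 := by rw [polar_self', h.qe, mul_zero]
  have ff : polar (⇑Q) f f = 0 := by rw [polar_self', h.qf, mul_zero]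
  have fe : polar (⇑Q) f e = 1 := by rw [polar_comm]; exact h.ef
  rw [tor, act_mul, act_reflIso, act_reflIso, Q_sub_smul h.qe h.qf h.ef, Q_sub_smul h.qe h.qf h.ef]
  simp only [QuadraticMap.polar_sub_left, QuadraticMap.polar_sub_right, QuadraticMap.polar_smul_left,
    QuadraticMap.polar_smul_right, ee, ff, fe, h.ef, smul_eq_mul, Units.val_one, mul_one,
    sub_zero, zero_sub, one_smul]
  ext i
  simp only [Pi.add_apply, Pi.sub_apply, Pi.smul_apply, smul_eq_mul]
  field_simp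
  ring

theorem act_tor_e {e f : ι → F} (h : Hyp Q e f) (a : Fˣ) : act Q (tor h a) e = (a : F) • e := by
  have ee : polar (⇑Q) e e = 0 := by rw [polar_self', h.qe, mul_zero]
  have fe : polar (⇑Q) f e = 1 := by rw [polar_comm]; exact h.ef
  rw [act_tor, ee, fe, mul_zero, zero_smul, add_zero, mul_one, sub_smul, one_smul]
  abel

theorem act_tor_f {e f : ι → F} (h : Hyp Q e f) (a : Fˣ) : act Q (tor h a) f = (a : F)⁻¹ • f := by
  have ff : polar (⇑Q) f f = 0 := by rw [polar_self', h.qf, mul_zero]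
  rw [act_tor, ff, h.ef, mul_zero, zero_smul, add_zero, mul_one, sub_smul, one_smul]
  abel

theorem act_tor_fix {e f x : ι → F} (h : Hyp Q e f) (a : Fˣ) (h1 : polar (⇑Q) e x = 0)
    (h2 : polar (⇑Q) f x = 0) : act Q (tor h a) x = x := by
  rw [act_tor, h1, h2, mul_zero, mul_zero, zero_smul, zero_smul, add_zero, add_zero]

theorem tor_mul {e f : ι → F} (h : Hyp Q e f) (a b : Fˣ) : tor h a * tor h b = tor h (a * b) := by
  have ee : polar (⇑Q) e e = 0 := by rw [polar_self', h.qe, mul_zero]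
  have ff : polar (⇑Q) f f = 0 := by rw [polar_self', h.qf, mul_zero]
  have fe : polar (⇑Q) f e = 1 := by rw [polar_comm]; exact h.ef
  have ha : (a : F) ≠ 0 := a.ne_zero
  have hb : (b : F) ≠ 0 := b.ne_zero
  apply act_ext
  intro x
  rw [act_mul, act_tor, act_tor, act_tor]
  simp only [QuadraticMap.polar_add_right, QuadraticMap.polar_smul_right, ee, ff, fe, h.ef, smul_eq_mul,
    Units.val_mul, mul_zero, mul_one, add_zero]
  ext i
  simp only [Pi.add_apply, Pi.smul_apply, smul_eq_mul]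
  field_simp
  ring

theorem tor_one {e f : ι → F} (h : Hyp Q e f) : tor h 1 = 1 := by
  have := tor_mul h 1 1
  rw [mul_one] at this
  exact (mul_eq_left.1 this)

theorem tor_pow {e f : ι → F} (h : Hyp Q e f) (a : Fˣ) (n : ℕ) : tor h a ^ n = tor h (a ^ n) := by
  induction n with
  | zero => rw [pow_zero, pow_zero, tor_one]
  | succ n ih => rw [pow_succ, ih, tor_mul, pow_succ]

theorem tor_comm {e f : ι → F} (h : Hyp Q e f) (a b : Fˣ) : tor h a * tor h b = tor h b * tor h a := by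
  rw [tor_mul, tor_mul, mul_comm]

/-- Tori of orthogonal hyperbolic pairs commute; more generally `tor` commutes with reflections in orthogonal
vectors. -/
theorem tor_refl_comm {e f v : ι → F} (h : Hyp Q e f) (a : Fˣ) (hv : Q v ≠ 0) (h1 : polar (⇑Q) e v = 0)
    (h2 : polar (⇑Q) f v = 0) : tor h a * reflIso Q v hv = reflIso Q v hv * tor h a := by
  have h3 : ∀ b : Fˣ, reflIso Q (e - (b : F) • f) (h.ne b) * reflIso Q v hv =
      reflIso Q v hv * reflIso Q (e - (b : F) • f) (h.ne b) := fun b =>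
    refl_comm _ _ (by rw [QuadraticMap.polar_sub_left, QuadraticMap.polar_smul_left, h1, h2, smul_zero, sub_zero])
  rw [tor, mul_assoc, h3 a, ← mul_assoc, h3 1, mul_assoc]

theorem tor_tor_comm {e f e' f' : ι → F} (h : Hyp Q e f) (h' : Hyp Q e' f') (o1 : polar (⇑Q) e e' = 0)
    (o2 : polar (⇑Q) e f' = 0) (o3 : polar (⇑Q) f e' = 0) (o4 : polar (⇑Q) f f' = 0) (a b : Fˣ) :
    tor h a * tor h' b = tor h' b * tor h a := by
  have h3 : ∀ c : Fˣ, tor h a * reflIso Q (e' - (c : F) • f') (h'.ne c) =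
      reflIso Q (e' - (c : F) • f') (h'.ne c) * tor h a := fun c =>
    tor_refl_comm h a _ (by rw [QuadraticMap.polar_sub_right, QuadraticMap.polar_smul_right, o1, o2, smul_zero,
      sub_zero]) (by rw [QuadraticMap.polar_sub_right, QuadraticMap.polar_smul_right, o3, o4, smul_zero, sub_zero])
  rw [tor.eq_1 h' b, ← mul_assoc, h3 1, mul_assoc, h3 b, mul_assoc]

/-! ### Frames -/

section Frame

variable {I : Type*} [Fintype I] [DecidableEq I]

/-- Two orthogonal hyperbolic pairs and an orthogonal family of nonsingular vectors orthogonal to them. -/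
structure Frame (Q : QuadraticForm F (ι → F)) (e f e' f' : ι → F) (b : I → ι → F) : Prop where
  hyp : Hyp Q e f
  hyp' : Hyp Q e' f'
  o1 : polar (⇑Q) e e' = 0
  o2 : polar (⇑Q) e f' = 0
  o3 : polar (⇑Q) f e' = 0
  o4 : polar (⇑Q) f f' = 0
  eb : ∀ i, polar (⇑Q) e (b i) = 0
  fb : ∀ i, polar (⇑Q) f (b i) = 0
  eb' : ∀ i, polar (⇑Q) e' (b i) = 0
  fb' : ∀ i, polar (⇑Q) f' (b i) = 0
  orth : ∀ i j, i ≠ j → polar (⇑Q) (b i) (b j) = 0
  nz : ∀ i, Q (b i) ≠ 0

/-- Linear combinations. -/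
def vec (b : I → ι → F) (p : I → F) : ι → F := ∑ i, p i • b i

theorem vec_add (b : I → ι → F) (p q : I → F) : vec b (p + q) = vec b p + vec b q := by
  simp only [vec, Pi.add_apply, add_smul, Finset.sum_add_distrib]

theorem vec_smul (b : I → ι → F) (a : F) (p : I → F) : vec b (a • p) = a • vec b p := by
  simp only [vec, Pi.smul_apply, smul_eq_mul, mul_smul, Finset.smul_sum]

theorem vec_neg (b : I → ι → F) (p : I → F) : vec b (-p) = -vec b p := by
  simp only [vec, Pi.neg_apply, neg_smul, Finset.sum_neg_distrib]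

theorem vec_single (b : I → ι → F) (i : I) (s : F) : vec b (Pi.single i s) = s • b i := by
  rw [vec, Finset.sum_eq_single i]
  · rw [Pi.single_eq_same]
  · intro j _ hj
    rw [Pi.single_eq_of_ne hj, zero_smul]
  · intro h; exact absurd (Finset.mem_univ i) h

theorem polar_vec_right (b : I → ι → F) (v : ι → F) (p : I → F) :
    polar (⇑Q) v (vec b p) = ∑ i, p i * polar (⇑Q) v (b i) := by
  have h : polarBilin Q v (vec b p) = ∑ i, p i • polarBilin Q v (b i) := by
    rw [vec, map_sum]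
    exact Finset.sum_congr rfl fun i _ => map_smul _ _ _
  simpa using h

/-- Dual coordinates. -/
noncomputable def dual (Q : QuadraticForm F (ι → F)) (b : I → ι → F) (p : I → F) : I → F :=
  fun i => p i * (2 * Q (b i))⁻¹

theorem dual_add (b : I → ι → F) (p q : I → F) : dual Q b (p + q) = dual Q b p + dual Q b q := by
  funext i; simp only [dual, Pi.add_apply, add_mul]

theorem dual_smul (b : I → ι → F) (a : F) (p : I → F) : dual Q b (a • p) = a • dual Q b p := by
  funext i; simp only [dual, Pi.smul_apply, smul_eq_mul, mul_assoc]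

theorem dual_neg (b : I → ι → F) (p : I → F) : dual Q b (-p) = -dual Q b p := by
  funext i; simp only [dual, Pi.neg_apply, neg_mul]

theorem dual_single (b : I → ι → F) (i : I) (s : F) :
    dual Q b (Pi.single i s) = Pi.single i (s * (2 * Q (b i))⁻¹) := by
  funext j
  by_cases h : j = i
  · subst h; simp [dual]
  · simp [dual, Pi.single_eq_of_ne h]

namespace Frame

variable {e f e' f' : ι → F} {b : I → ι → F}

theorem polar_zero (_ : Frame Q e f e' f' b) (v : ι → F) (h : ∀ i, polar (⇑Q) v (b i) = 0) (p : I → F) :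
    polar (⇑Q) v (vec b p) = 0 := by
  rw [polar_vec_right]
  exact Finset.sum_eq_zero fun i _ => by rw [h, mul_zero]

theorem polar_b (H : Frame Q e f e' f' b) (i : I) (p : I → F) :
    polar (⇑Q) (b i) (vec b p) = p i * (2 * Q (b i)) := by
  rw [polar_vec_right, Finset.sum_eq_single i]
  · rw [polar_self']
  · intro j _ hj
    rw [H.orth i j hj.symm, mul_zero]
  · intro h; exact absurd (Finset.mem_univ i) h

theorem polar_vec_dual (H : Frame Q e f e' f' b) (h2 : (2 : F) ≠ 0) (p q : I → F) :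
    polar (⇑Q) (vec b (dual Q b q)) (vec b p) = p ⬝ᵥ q := by
  rw [polar_vec_right, dotProduct]
  refine Finset.sum_congr rfl fun i _ => ?_
  rw [polar_comm, H.polar_b, dual]
  have := H.nz i
  field_simp

/-- `x p = E(e, ∑ p_i b_i)`. -/
noncomputable def x (_ : Frame Q e f e' f' b) (p : I → F) : Cfsg.isometryGroup F (⇑Q) := E Q e (vec b p)

/-- `y p = E(e', ∑ p_i (2 Q b_i)⁻¹ b_i)`. -/
noncomputable def y (_ : Frame Q e f e' f' b) (p : I → F) : Cfsg.isometryGroup F (⇑Q) :=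
  E Q e' (vec b (dual Q b p))

/-- `z s = E(e', s e)`. -/
noncomputable def z (_ : Frame Q e f e' f' b) (s : F) : Cfsg.isometryGroup F (⇑Q) := E Q e' (s • e)

/-- `t u`. -/
noncomputable def t (H : Frame Q e f e' f' b) (u : Fˣ) : Cfsg.isometryGroup F (⇑Q) :=
  tor H.hyp u * tor H.hyp' u⁻¹

theorem x_add (H : Frame Q e f e' f' b) (p q : I → F) : H.x (p + q) = H.x p * H.x q := by
  rw [x, x, x, vec_add, E_add H.hyp.qe (H.polar_zero e H.eb p) (H.polar_zero e H.eb q)]

theorem y_add (H : Frame Q e f e' f' b) (p q : I → F) : H.y (p + q) = H.y p * H.y q := by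
  rw [y, y, y, dual_add, vec_add, E_add H.hyp'.qe (H.polar_zero e' H.eb' _) (H.polar_zero e' H.eb' _)]

theorem o1' (H : Frame Q e f e' f' b) : polar (⇑Q) e' e = 0 := by rw [polar_comm]; exact H.o1

theorem e'_se (H : Frame Q e f e' f' b) (s : F) : polar (⇑Q) e' (s • e) = 0 := by
  rw [QuadraticMap.polar_smul_right, H.o1', smul_zero]

theorem z_add (H : Frame Q e f e' f' b) (s t : F) : H.z (s + t) = H.z s * H.z t := by
  rw [z, z, z, add_smul, E_add H.hyp'.qe (H.e'_se s) (H.e'_se t)]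

theorem zx (H : Frame Q e f e' f' b) (s : F) (p : I → F) : H.z s * H.x p = H.x p * H.z s := by
  have ee : polar (⇑Q) e e = 0 := by rw [polar_self', H.hyp.qe, mul_zero]
  have h1 := E_comm (Q := Q) (u := e') (v := e) (w := s • e) (t := vec b p) H.hyp'.qe H.hyp.qe H.o1' (H.e'_se s)
    (H.polar_zero e' H.eb' p) (by rw [QuadraticMap.polar_smul_right, ee, smul_zero]) (H.polar_zero e H.eb p)
  rw [QuadraticMap.polar_smul_left, H.polar_zero e H.eb p, smul_zero, zero_smul, E_zero] at h1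
  change H.z s * H.x p * (H.z s)⁻¹ * (H.x p)⁻¹ = 1 at h1
  calc H.z s * H.x p = (H.z s * H.x p * (H.z s)⁻¹ * (H.x p)⁻¹) * (H.x p * H.z s) := by group
    _ = _ := by rw [h1, one_mul]

theorem zy (H : Frame Q e f e' f' b) (s : F) (p : I → F) : H.z s * H.y p = H.y p * H.z s := by
  rw [z, y, E_add H.hyp'.qe (H.e'_se s) (H.polar_zero e' H.eb' _),
    E_add H.hyp'.qe (H.polar_zero e' H.eb' _) (H.e'_se s), add_comm]

theorem rel (H : Frame Q e f e' f' b) (h2 : (2 : F) ≠ 0) (p q : I → F) :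
    H.y q * H.x p * (H.y q)⁻¹ = H.x p * H.z (p ⬝ᵥ q) := by
  have h1 := E_comm (Q := Q) (u := e') (v := e) (w := vec b (dual Q b q)) (t := vec b p) H.hyp'.qe H.hyp.qe H.o1'
    (H.polar_zero e' H.eb' _) (H.polar_zero e' H.eb' p) (H.polar_zero e H.eb _) (H.polar_zero e H.eb p)
  rw [H.polar_vec_dual h2] at h1
  change H.y q * H.x p * (H.y q)⁻¹ * (H.x p)⁻¹ = H.z (p ⬝ᵥ q) at h1
  rw [← H.zx, ← h1]
  group

/-- Conjugation by an isometry acting on `e` and on the `vec`. -/
theorem x_conj (H : Frame Q e f e' f' b) (g : Cfsg.isometryGroup F (⇑Q)) {a : F} (he : act Q g e = a • e)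
    {p q : I → F} (hp : act Q g (vec b p) = vec b q) : g * H.x p * g⁻¹ = H.x (a • q) := by
  rw [x, E_conj, he, hp, E_smul H.hyp.qe (H.polar_zero e H.eb q), ← vec_smul]
  rfl

theorem y_conj (H : Frame Q e f e' f' b) (g : Cfsg.isometryGroup F (⇑Q)) {a : F} (he : act Q g e' = a • e')
    {p q : I → F} (hp : act Q g (vec b (dual Q b p)) = vec b (dual Q b q)) :
    g * H.y p * g⁻¹ = H.y (a • q) := by
  rw [y, E_conj, he, hp, E_smul H.hyp'.qe (H.polar_zero e' H.eb' _), ← vec_smul, ← dual_smul]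
  rfl

theorem z_conj (H : Frame Q e f e' f' b) (g : Cfsg.isometryGroup F (⇑Q)) {a a' : F} (he : act Q g e = a • e)
    (he' : act Q g e' = a' • e') (s : F) : g * H.z s * g⁻¹ = H.z (a * a' * s) := by
  rw [z, E_conj, he', map_smul, he, E_smul H.hyp'.qe (by
    rw [QuadraticMap.polar_smul_right, QuadraticMap.polar_smul_right, H.o1', smul_zero, smul_zero]), z, smul_smul,
    smul_smul]
  congr 2
  ring

theorem tor_vec (H : Frame Q e f e' f' b) (u : Fˣ) (p : I → F) : act Q (tor H.hyp u) (vec b p) = vec b p :=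
  act_tor_fix H.hyp u (H.polar_zero e H.eb p) (H.polar_zero f H.fb p)

theorem tor_vec' (H : Frame Q e f e' f' b) (u : Fˣ) (p : I → F) : act Q (tor H.hyp' u) (vec b p) = vec b p :=
  act_tor_fix H.hyp' u (H.polar_zero e' H.eb' p) (H.polar_zero f' H.fb' p)

theorem tor_e' (H : Frame Q e f e' f' b) (u : Fˣ) : act Q (tor H.hyp u) e' = e' :=
  act_tor_fix H.hyp u H.o1 H.o3

theorem tor_e (H : Frame Q e f e' f' b) (u : Fˣ) : act Q (tor H.hyp' u) e = e :=
  act_tor_fix H.hyp' u H.o1' (by rw [polar_comm]; exact H.o2)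

theorem t_e (H : Frame Q e f e' f' b) (u : Fˣ) : act Q (H.t u) e = (u : F) • e := by
  rw [t, act_mul, H.tor_e, act_tor_e]

theorem t_e' (H : Frame Q e f e' f' b) (u : Fˣ) : act Q (H.t u) e' = (u : F)⁻¹ • e' := by
  rw [t, act_mul, act_tor_e, map_smul, H.tor_e', Units.val_inv_eq_inv_val]

theorem t_vec (H : Frame Q e f e' f' b) (u : Fˣ) (p : I → F) : act Q (H.t u) (vec b p) = vec b p := by
  rw [t, act_mul, H.tor_vec', H.tor_vec]

theorem t_mul (H : Frame Q e f e' f' b) (u v : Fˣ) : H.t u * H.t v = H.t (u * v) := by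
  have h1 := tor_tor_comm H.hyp H.hyp' H.o1 H.o2 H.o3 H.o4 v u⁻¹
  rw [t, t, t, _root_.mul_inv_rev, mul_comm v⁻¹ u⁻¹, ← tor_mul, ← tor_mul]
  calc tor H.hyp u * tor H.hyp' u⁻¹ * (tor H.hyp v * tor H.hyp' v⁻¹)
      = tor H.hyp u * (tor H.hyp' u⁻¹ * tor H.hyp v) * tor H.hyp' v⁻¹ := by group
    _ = tor H.hyp u * (tor H.hyp v * tor H.hyp' u⁻¹) * tor H.hyp' v⁻¹ := by rw [h1]
    _ = _ := by group

theorem t_one (H : Frame Q e f e' f' b) : H.t 1 = 1 := by
  rw [t, inv_one, tor_one, tor_one, one_mul]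

theorem t_pow (H : Frame Q e f e' f' b) (u : Fˣ) (n : ℕ) : H.t u ^ n = H.t (u ^ n) := by
  induction n with
  | zero => rw [pow_zero, pow_zero, t_one]
  | succ n ih => rw [pow_succ, ih, t_mul, pow_succ]

theorem t_comm (H : Frame Q e f e' f' b) (u v : Fˣ) : H.t u * H.t v = H.t v * H.t u := by
  rw [t_mul, t_mul, mul_comm]

theorem t_mem (H : Frame Q e f e' f' b) (h2 : (2 : F) ≠ 0) (hQ : (polarBilin Q).Nondegenerate) (u : Fˣ) :
    H.t u ∈ Cfsg.Omega F (⇑Q) := by
  have h1 := refl_mul_mem h2 hQ (H.hyp.ne 1) (H.hyp'.ne 1) (by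
    rw [Q_sub_smul H.hyp.qe H.hyp.qf H.hyp.ef, Q_sub_smul H.hyp'.qe H.hyp'.qf H.hyp'.ef]
    exact ⟨1, by simp⟩)
  have h3 := refl_mul_mem h2 hQ (H.hyp.ne u) (H.hyp'.ne u⁻¹) (by
    rw [Q_sub_smul H.hyp.qe H.hyp.qf H.hyp.ef, Q_sub_smul H.hyp'.qe H.hyp'.qf H.hyp'.ef]
    exact ⟨1, by simp⟩)
  have h4 : reflIso Q (e - (u : F) • f) (H.hyp.ne u) * reflIso Q (e' - ((1 : Fˣ) : F) • f') (H.hyp'.ne 1) =
      reflIso Q (e' - ((1 : Fˣ) : F) • f') (H.hyp'.ne 1) * reflIso Q (e - (u : F) • f) (H.hyp.ne u) := by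
    apply refl_comm
    simp only [QuadraticMap.polar_sub_left, QuadraticMap.polar_sub_right, QuadraticMap.polar_smul_left,
      QuadraticMap.polar_smul_right, H.o1, H.o2, H.o3, H.o4, smul_zero, sub_zero]
  have h5 := mul_mem h1 h3
  have h6 : H.t u = reflIso Q (e - ((1 : Fˣ) : F) • f) (H.hyp.ne 1) *
      reflIso Q (e' - ((1 : Fˣ) : F) • f') (H.hyp'.ne 1) * (reflIso Q (e - (u : F) • f) (H.hyp.ne u) *
      reflIso Q (e' - ((u⁻¹ : Fˣ) : F) • f') (H.hyp'.ne u⁻¹)) := by
    rw [t, tor, tor]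
    calc _ = reflIso Q (e - ((1 : Fˣ) : F) • f) (H.hyp.ne 1) *
        (reflIso Q (e - (u : F) • f) (H.hyp.ne u) * reflIso Q (e' - ((1 : Fˣ) : F) • f') (H.hyp'.ne 1)) *
        reflIso Q (e' - ((u⁻¹ : Fˣ) : F) • f') (H.hyp'.ne u⁻¹) := by group
      _ = _ := by rw [h4]; group
  rw [h6]
  exact h5

/-- The central involution `-1` on `⟨e, f, e', f'⟩`. -/
noncomputable def g (H : Frame Q e f e' f' b) : Cfsg.isometryGroup F (⇑Q) := H.t (-1)

theorem gx (H : Frame Q e f e' f' b) (p : I → F) : H.g * H.x p * H.g⁻¹ = H.x (-p) := by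
  rw [H.x_conj H.g (H.t_e (-1)) (H.t_vec (-1) p), Units.val_neg, Units.val_one, neg_one_smul]

theorem gy (H : Frame Q e f e' f' b) (p : I → F) : H.g * H.y p * H.g⁻¹ = H.y (-p) := by
  rw [H.y_conj H.g (H.t_e' (-1)) (H.t_vec (-1) _), Units.val_neg, Units.val_one, inv_neg, inv_one, neg_one_smul]

theorem gz (H : Frame Q e f e' f' b) (s : F) : H.g * H.z s = H.z s * H.g := by
  have h1 := H.z_conj H.g (H.t_e (-1)) (H.t_e' (-1)) s
  rw [Units.val_neg, Units.val_one, inv_neg, inv_one, neg_mul_neg, mul_one, one_mul] at h1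
  exact mul_inv_eq_iff_eq_mul.1 h1

theorem tx (H : Frame Q e f e' f' b) (u : Fˣ) (p : I → F) : H.t u * H.x p * (H.t u)⁻¹ = H.x ((u : F) • p) :=
  H.x_conj _ (H.t_e u) (H.t_vec u p)

theorem ty (H : Frame Q e f e' f' b) (u : Fˣ) (p : I → F) : H.t u * H.y p * (H.t u)⁻¹ = H.y ((u : F)⁻¹ • p) :=
  H.y_conj _ (H.t_e' u) (H.t_vec u _)

theorem tz (H : Frame Q e f e' f' b) (u : Fˣ) (s : F) : H.t u * H.z s = H.z s * H.t u := by
  have h1 := H.z_conj (H.t u) (H.t_e u) (H.t_e' u) s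
  rw [mul_inv_cancel₀ u.ne_zero, one_mul] at h1
  exact mul_inv_eq_iff_eq_mul.1 h1

/-- `t u` commutes with reflections in vectors orthogonal to `e, f, e', f'`. -/
theorem t_refl_comm (H : Frame Q e f e' f' b) (u : Fˣ) {v : ι → F} (hv : Q v ≠ 0)
    (h1 : polar (⇑Q) e v = 0) (h2 : polar (⇑Q) f v = 0) (h3 : polar (⇑Q) e' v = 0) (h4 : polar (⇑Q) f' v = 0) :
    reflIso Q v hv * H.t u = H.t u * reflIso Q v hv := by
  have h5 := tor_refl_comm H.hyp u hv h1 h2
  have h6 := tor_refl_comm H.hyp' u⁻¹ hv h3 h4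
  rw [t, ← mul_assoc, ← h5, mul_assoc, ← h6, mul_assoc]

/-- Products of two reflections in vectors of the span of the `b i`. -/
theorem rr (H : Frame Q e f e' f' b) (h2 : (2 : F) ≠ 0) (hQ : (polarBilin Q).Nondegenerate) {p q : I → F}
    (hp : Q (vec b p) ≠ 0) (hq : Q (vec b q) ≠ 0) (hs : IsSquare (Q (vec b p) * Q (vec b q))) :
    ∃ h ∈ Cfsg.Omega F (⇑Q), h * H.g = H.g * h ∧ act Q h e = e ∧ act Q h e' = e' ∧
      (∀ v, act Q h v = act Q (reflIso Q _ hp) (act Q (reflIso Q _ hq) v)) := by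
  have z1 := fun p => H.polar_zero e H.eb p
  have z2 := fun p => H.polar_zero f H.fb p
  have z3 := fun p => H.polar_zero e' H.eb' p
  have z4 := fun p => H.polar_zero f' H.fb' p
  refine ⟨reflIso Q _ hp * reflIso Q _ hq, refl_mul_mem h2 hQ hp hq hs, ?_, ?_, ?_, fun v => act_mul _ _ _ _⟩
  · have h5 := H.t_refl_comm (-1) hp (z1 _) (z2 _) (z3 _) (z4 _)
    have h6 := H.t_refl_comm (-1) hq (z1 _) (z2 _) (z3 _) (z4 _)
    rw [g, mul_assoc, h6, ← mul_assoc, h5, mul_assoc]
  · rw [act_mul, refl_fix hq (by rw [polar_comm]; exact z1 q), refl_fix hp (by rw [polar_comm]; exact z1 p)]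
  · rw [act_mul, refl_fix hq (by rw [polar_comm]; exact z3 q), refl_fix hp (by rw [polar_comm]; exact z3 p)]

/-- Conjugation by isometries fixing `e`. -/
theorem x_conj_one (H : Frame Q e f e' f' b) (h : Cfsg.isometryGroup F (⇑Q)) (he : act Q h e = e)
    {p q : I → F} (hp : act Q h (vec b p) = vec b q) : h * H.x p * h⁻¹ = H.x q := by
  have := H.x_conj h (a := 1) (by rw [he, one_smul]) hp
  rwa [one_smul] at this

theorem y_conj_one (H : Frame Q e f e' f' b) (h : Cfsg.isometryGroup F (⇑Q)) (he : act Q h e' = e')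
    {p q : I → F} (hp : act Q h (vec b (dual Q b p)) = vec b (dual Q b q)) : h * H.y p * h⁻¹ = H.y q := by
  have := H.y_conj h (a := 1) (by rw [he, one_smul]) hp
  rwa [one_smul] at this

/-- The polar form on the span. -/
theorem polar_vec (H : Frame Q e f e' f' b) (p q : I → F) :
    polar (⇑Q) (vec b p) (vec b q) = ∑ i, p i * q i * (2 * Q (b i)) := by
  rw [polar_vec_right]
  refine Finset.sum_congr rfl fun i _ => ?_
  rw [polar_comm, H.polar_b]
  ring

/-- **Separation** from `p, q` to `v`: an element of `Ω` commuting with `g`, inverting `x p` and fixing `x q`, `y q`,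
if `vec p ⊥ vec q` etc. -/
theorem sep_gen (H : Frame Q e f e' f' b) (h2 : (2 : F) ≠ 0) (hQ : (polarBilin Q).Nondegenerate) {p r : I → F}
    (hp : Q (vec b p) ≠ 0) (hr : Q (vec b r) ≠ 0) (hs : IsSquare (Q (vec b p) * Q (vec b r)))
    (hpr : polar (⇑Q) (vec b p) (vec b r) = 0) :
    ∃ h ∈ Cfsg.Omega F (⇑Q), h * H.g = H.g * h ∧
      (∀ s : F, h * H.x (s • p) * h⁻¹ = H.x (-(s • p))) ∧
      (∀ q, polar (⇑Q) (vec b p) (vec b q) = 0 → polar (⇑Q) (vec b r) (vec b q) = 0 → h * H.x q * h⁻¹ = H.x q) ∧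
      (∀ q (s : F), dual Q b q = s • p → h * H.y q * h⁻¹ = H.y (-q)) ∧
      (∀ q, polar (⇑Q) (vec b p) (vec b (dual Q b q)) = 0 → polar (⇑Q) (vec b r) (vec b (dual Q b q)) = 0 →
        h * H.y q * h⁻¹ = H.y q) := by
  obtain ⟨h, h1, h3, h4, h5, h6⟩ := H.rr h2 hQ hp hr hs
  have hrp : polar (⇑Q) (vec b r) (vec b p) = 0 := by rw [polar_comm]; exact hpr
  have h7 : ∀ s : F, act Q h (s • vec b p) = -(s • vec b p) := by
    intro s
    rw [h6, map_smul, refl_fix hr hrp, map_smul, refl_neg hp, smul_neg]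
  have h8 : ∀ v, polar (⇑Q) (vec b p) v = 0 → polar (⇑Q) (vec b r) v = 0 → act Q h v = v := by
    intro v hv hv'
    rw [h6, refl_fix hr hv', refl_fix hp hv]
  refine ⟨h, h1, h3, fun s => ?_, fun q hq hq' => ?_, fun q s hq => ?_, fun q hq hq' => ?_⟩
  · apply H.x_conj_one h h4
    rw [vec_smul, h7, vec_neg, vec_smul]
  · exact H.x_conj_one h h4 (h8 _ hq hq')
  · apply H.y_conj_one h h5
    rw [dual_neg, vec_neg, hq, vec_smul, h7]
  · exact H.y_conj_one h h5 (h8 _ hq hq')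

/-! #### The data in `Ω` -/

/-- `x` in `Ω`. -/
noncomputable def xO (H : Frame Q e f e' f' b) (h2 : (2 : F) ≠ 0) (hQ : (polarBilin Q).Nondegenerate) (p : I → F) :
    Cfsg.Omega F (⇑Q) := ⟨H.x p, E_mem h2 hQ _ _⟩

/-- `y` in `Ω`. -/
noncomputable def yO (H : Frame Q e f e' f' b) (h2 : (2 : F) ≠ 0) (hQ : (polarBilin Q).Nondegenerate) (p : I → F) :
    Cfsg.Omega F (⇑Q) := ⟨H.y p, E_mem h2 hQ _ _⟩

/-- `z` in `Ω`. -/
noncomputable def zO (H : Frame Q e f e' f' b) (h2 : (2 : F) ≠ 0) (hQ : (polarBilin Q).Nondegenerate) (s : F) :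
    Cfsg.Omega F (⇑Q) := ⟨H.z s, E_mem h2 hQ _ _⟩

/-- `g` in `Ω`. -/
noncomputable def gO (H : Frame Q e f e' f' b) (h2 : (2 : F) ≠ 0) (hQ : (polarBilin Q).Nondegenerate) :
    Cfsg.Omega F (⇑Q) := ⟨H.g, H.t_mem h2 hQ _⟩

theorem vec_one (b : I → ι → F) (i : I) : vec b (Pi.single i (1 : F)) = b i := by rw [vec_single, one_smul]

/-- **Separation** of `i` and `j`. -/
theorem sep_ij (H : Frame Q e f e' f' b) (h2 : (2 : F) ≠ 0) (hQ : (polarBilin Q).Nondegenerate) {i j : I}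
    (hij : i ≠ j) {r : I → F} (hri : r i = 0) (hrj : r j = 0) (hr : Q (vec b r) ≠ 0)
    (hs : IsSquare (Q (b i) * Q (vec b r))) :
    ∃ h : Cfsg.Omega F (⇑Q), h * H.gO h2 hQ = H.gO h2 hQ * h ∧
      (∀ s, h * H.xO h2 hQ (Pi.single i s) * h⁻¹ = H.xO h2 hQ (Pi.single i (-s))) ∧
      (∀ s, h * H.xO h2 hQ (Pi.single j s) * h⁻¹ = H.xO h2 hQ (Pi.single j s)) ∧
      (∀ s, h * H.yO h2 hQ (Pi.single i s) * h⁻¹ = H.yO h2 hQ (Pi.single i (-s))) ∧
      (∀ s, h * H.yO h2 hQ (Pi.single j s) * h⁻¹ = H.yO h2 hQ (Pi.single j s)) := by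
  have e1 : ∀ s : F, s • (Pi.single i (1 : F) : I → F) = Pi.single i s := fun s => by
    rw [← Pi.single_smul, smul_eq_mul, mul_one]
  obtain ⟨h, h3, h4, h5, h6, h7, h8⟩ := H.sep_gen h2 hQ (p := Pi.single i 1) (r := r)
    (by rw [vec_one]; exact H.nz i) hr (by rw [vec_one]; exact hs)
    (by rw [vec_one, H.polar_b, hri, zero_mul])
  refine ⟨⟨h, h3⟩, Subtype.ext h4, fun s => Subtype.ext ?_, fun s => Subtype.ext ?_, fun s => Subtype.ext ?_,
    fun s => Subtype.ext ?_⟩
  · have := h5 s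
    rw [e1, ← Pi.single_neg] at this
    exact this
  · apply h6
    · rw [vec_one, H.polar_b, Pi.single_eq_of_ne hij, zero_mul]
    · rw [polar_comm, vec_single, QuadraticMap.polar_smul_left, H.polar_b, hrj, zero_mul, smul_zero]
  · have := h7 (Pi.single i s) (s * (2 * Q (b i))⁻¹) (by rw [dual_single, e1])
    rw [← Pi.single_neg] at this
    exact this
  · apply h8
    · rw [vec_one, H.polar_b, dual_single, Pi.single_eq_of_ne hij, zero_mul]
    · rw [polar_comm, dual_single, vec_single, QuadraticMap.polar_smul_left, H.polar_b, hrj, zero_mul, smul_zero]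

/-- The data in `Ω`. -/
theorem dat (H : Frame Q e f e' f' b) (h2 : (2 : F) ≠ 0) (hQ : (polarBilin Q).Nondegenerate) [Finite F] (p : ℕ)
    [Fact p.Prime] [CharP F p]
    (hsep : ∀ i j : I, i ≠ j → ∃ r : I → F, r i = 0 ∧ r j = 0 ∧ Q (vec b r) ≠ 0 ∧ IsSquare (Q (b i) * Q (vec b r))) :
    OLift.Dat (H.zO h2 hQ) (H.xO h2 hQ) (H.yO h2 hQ) (H.gO h2 hQ) where
  z_add := fun s t => Subtype.ext (H.z_add s t)
  x_add := fun s t => Subtype.ext (H.x_add s t)
  y_add := fun s t => Subtype.ext (H.y_add s t)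
  zx := fun s p => Subtype.ext (H.zx s p)
  zy := fun s p => Subtype.ext (H.zy s p)
  rel := fun p q => Subtype.ext (H.rel h2 p q)
  gx := fun p => Subtype.ext (H.gx p)
  gy := fun p => Subtype.ext (H.gy p)
  gz := fun s => Subtype.ext (H.gz s)
  tor := by
    have := Fintype.ofFinite F
    refine ⟨p, Fintype.card F - 1, ?_, fun s => Subtype.ext ?_, fun u hu => ?_⟩
    · obtain ⟨n, hn⟩ := FiniteField.card F p
      rw [hn.2, Nat.Prime.coprime_iff_not_dvd Fact.out]
      intro hd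
      have h3 : p ∣ p ^ (n : ℕ) := dvd_pow_self p n.ne_zero
      have h4 : 1 ≤ p ^ (n : ℕ) := Nat.one_le_pow _ _ (Nat.Prime.pos Fact.out)
      have h5 : p ∣ 1 := by
        have := Nat.dvd_sub h3 hd
        rwa [Nat.sub_sub_self h4] at this
      exact (Nat.Prime.one_lt (Fact.out : p.Prime)).ne' (Nat.dvd_one.1 h5)
    · show H.z s ^ p = 1
      have h3 : ∀ n : ℕ, H.z s ^ n = H.z (n * s) := by
        intro n
        induction n with
        | zero => rw [pow_zero, Nat.cast_zero, zero_mul, z, zero_smul, E_zero]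
        | succ n ih => rw [pow_succ, ih, ← H.z_add]; congr 1; push_cast; ring
      rw [h3, CharP.cast_eq_zero, zero_mul, z, zero_smul, E_zero]
    · refine ⟨⟨H.t (Units.mk0 u hu), H.t_mem h2 hQ _⟩, Subtype.ext ?_, Subtype.ext (H.t_comm _ _),
        fun s => Subtype.ext (H.tz _ s), fun p => Subtype.ext (H.tx _ p), fun p => Subtype.ext (H.ty _ p)⟩
      show H.t _ ^ _ = 1
      rw [t_pow]
      have h3 : (Units.mk0 u hu) ^ (Fintype.card F - 1) = 1 := by
        apply Units.ext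
        push_cast
        exact FiniteField.pow_card_sub_one_eq_one u hu
      rw [h3, t_one]
  sep := fun i j hij => by
    obtain ⟨r, h3, h4, h5, h6⟩ := hsep i j hij
    exact H.sep_ij h2 hQ hij h3 h4 h5 h6

end Frame

end Frame

end Cfsg.Agent.Omega.TwoF.OrthEl
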