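import Cfsg.Agent.Omega.TwoF.OrthTie
import Cfsg.Agent.LieClassical.OrthFinite
import Cfsg.Agent.LieClassical.OrthForms

/-!
# Existence of frames and the lower bound for the orthogonal groups of odd characteristic

* `exists_frame`: a nondegenerate form in dimension `n ≥ 7` over a finite field of odd order has a frame with
  `m ≥ n - 4` vectors, any two of which are separated;
* `lb_pomega`: `LB (PΩ(Q)) (ord_p(2) * q ^ (n - 4))` unless `n = 7` and `q = 3`.
-/

set_option autoImplicit false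
set_option linter.unusedSectionVars false

universe v w

namespace Cfsg.Agent.Omega.TwoF.OrthEl

open QuadraticMap Matrix Module
open Cfsg.Agent.ClassicalGeometry.Reflection Cfsg.Agent.ClassicalGeometry.Eichler
open Cfsg.Agent.ClassicalGeometry.SiegelGen Cfsg.Agent.ClassicalGeometry.SpinorSign
open Cfsg.Agent.ClassicalGeometry.GenReflections (act act_apply act_mul act_one act_isometry act_polar act_ext
  act_reflIso act_inv_eq)
open Cfsg.Agent.ClassicalGeometry.ReflClass (exists_diag_binary)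
open Cfsg.Agent.Omega.TwoF.OLift

variable {ι : Type} [Fintype ι] [DecidableEq ι] {F : Type*} [Field F] {Q : QuadraticForm F (ι → F)}

/-- The condition for separation. -/
def SepCond {I : Type*} [Fintype I] (Q : QuadraticForm F (ι → F)) (b : I → ι → F) : Prop :=
  ∀ i j : I, i ≠ j → ∃ r : I → F, r i = 0 ∧ r j = 0 ∧ Q (vec b r) ≠ 0 ∧ IsSquare (Q (b i) * Q (vec b r))

section reindex

variable {I J : Type*} [Fintype I] [DecidableEq I] [Fintype J] [DecidableEq J]
variable {e f e' f' : ι → F} {b : I → ι → F}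

theorem Frame.comp (H : Frame Q e f e' f' b) {σ : J → I} (hσ : Function.Injective σ) :
    Frame Q e f e' f' (b ∘ σ) :=
  { H with
    eb := fun _ => H.eb _
    fb := fun _ => H.fb _
    eb' := fun _ => H.eb' _
    fb' := fun _ => H.fb' _
    orth := fun _ _ hij => H.orth _ _ fun h => hij (hσ h)
    nz := fun _ => H.nz _ }

/-- Replace the family. -/
theorem Frame.replace (H : Frame Q e f e' f' b) {c : J → ι → F} (p : J → I → F) (hc : ∀ j, c j = vec b (p j))
    (ho : ∀ i j, i ≠ j → polar (⇑Q) (c i) (c j) = 0) (hn : ∀ i, Q (c i) ≠ 0) : Frame Q e f e' f' c :=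
  { H with
    eb := fun i => by rw [hc]; exact H.polar_zero e H.eb _
    fb := fun i => by rw [hc]; exact H.polar_zero f H.fb _
    eb' := fun i => by rw [hc]; exact H.polar_zero e' H.eb' _
    fb' := fun i => by rw [hc]; exact H.polar_zero f' H.fb' _
    orth := ho
    nz := hn }

end reindex

/-- A frame with `m ≥ n - 4` vectors. -/
theorem exists_frame_aux [Finite F] (h2 : (2 : F) ≠ 0) (Q : QuadraticForm F (ι → F))
    (hQ : (polarBilin Q).Nondegenerate) (hn : 5 ≤ Fintype.card ι) :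
    ∃ (m : ℕ) (e f e' f' : ι → F) (b : Fin m → ι → F), Frame Q e f e' f' b ∧ Fintype.card ι ≤ m + 4 := by
  obtain ⟨e, f, e', f', H⟩ := exists_hypPairs h2 Q hQ hn
  let L : (ι → F) →ₗ[F] (Fin 4 → F) := LinearMap.pi ![polarBilin Q e, polarBilin Q f, polarBilin Q e', polarBilin Q f']
  have hL : ∀ v, v ∈ LinearMap.ker L ↔ polar (⇑Q) e v = 0 ∧ polar (⇑Q) f v = 0 ∧ polar (⇑Q) e' v = 0 ∧
      polar (⇑Q) f' v = 0 := by
    intro v
    rw [LinearMap.mem_ker]
    constructor
    · intro h
      exact ⟨congrFun h 0, congrFun h 1, congrFun h 2, congrFun h 3⟩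
    · rintro ⟨h1, h2, h3, h4⟩
      funext i
      fin_cases i
      exacts [h1, h2, h3, h4]
  have hrank : Fintype.card ι ≤ finrank F (LinearMap.ker L) + 4 := by
    have h1 := LinearMap.finrank_range_add_finrank_ker L
    rw [Module.finrank_fintype_fun_eq_card] at h1
    have h3 : finrank F (LinearMap.range L) ≤ 4 := by
      have := Submodule.finrank_le (LinearMap.range L)
      rwa [Module.finrank_fintype_fun_eq_card, Fintype.card_fin] at this
    omega
  set W := LinearMap.ker L with hW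
  let Q' : QuadraticForm F W := Q.comp W.subtype
  have hpol : ∀ v w : W, polarBilin Q' v w = polar (⇑Q) (v : ι → F) (w : ι → F) := fun v w => rfl
  have : Invertible (2 : F) := invertibleOfNonzero h2
  have hsymm : LinearMap.IsSymm (polarBilin Q') :=
    ⟨fun x y => by
      simp only [RingHom.id_apply]
      rw [hpol, hpol]
      exact polar_comm (⇑Q) _ _⟩
  obtain ⟨v, hv⟩ := LinearMap.BilinForm.exists_orthogonal_basis hsymm
  -- the restricted form is nondegenerate
  have hsep : LinearMap.SeparatingLeft (polarBilin Q') := by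
    intro w hw
    apply Subtype.ext
    apply hQ.1
    intro u
    rw [polarBilin_apply_apply]
    have hwe := (hL w).1 w.2
    set u' := u - polar (⇑Q) u f • e - polar (⇑Q) u e • f - polar (⇑Q) u f' • e' - polar (⇑Q) u e' • f' with hu'
    have ee : polar (⇑Q) e e = 0 := by rw [polar_self', H.qe, mul_zero]
    have ff : polar (⇑Q) f f = 0 := by rw [polar_self', H.qf, mul_zero]
    have ee' : polar (⇑Q) e' e' = 0 := by rw [polar_self', H.qe', mul_zero]
    have ff' : polar (⇑Q) f' f' = 0 := by rw [polar_self', H.qf', mul_zero]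
    have fe : polar (⇑Q) f e = 1 := by rw [polar_comm]; exact H.ef
    have fe' : polar (⇑Q) f' e' = 1 := by rw [polar_comm]; exact H.ef'
    have o1 : polar (⇑Q) e' e = 0 := by rw [polar_comm]; exact H.o1
    have o2 : polar (⇑Q) f' e = 0 := by rw [polar_comm]; exact H.o2
    have o3 : polar (⇑Q) e' f = 0 := by rw [polar_comm]; exact H.o3
    have o4 : polar (⇑Q) f' f = 0 := by rw [polar_comm]; exact H.o4
    have hu'W : u' ∈ W := by
      rw [hL]
      simp only [hu', QuadraticMap.polar_sub_right, QuadraticMap.polar_smul_right, ee, ff, ee', ff', fe, fe',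
        H.ef, H.ef', H.o1, H.o2, H.o3, H.o4, o1, o2, o3, o4, polar_comm (⇑Q) u]
      simp
    have h3 := hw ⟨u', hu'W⟩
    rw [hpol] at h3
    have h4 : u = u' + polar (⇑Q) u f • e + polar (⇑Q) u e • f + polar (⇑Q) u f' • e' + polar (⇑Q) u e' • f' := by
      rw [hu']; abel
    rw [h4]
    simp only [QuadraticMap.polar_add_right, QuadraticMap.polar_smul_right]
    rw [polar_comm (⇑Q) (w : ι → F) e, polar_comm (⇑Q) (w : ι → F) f, polar_comm (⇑Q) (w : ι → F) e',
      polar_comm (⇑Q) (w : ι → F) f', hwe.1, hwe.2.1, hwe.2.2.1, hwe.2.2.2]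
    simp only [smul_zero, add_zero]
    exact h3
  refine ⟨finrank F W, e, f, e', f', fun i => (v i : ι → F), ?_, hrank⟩
  have hvW : ∀ i, polar (⇑Q) e (v i : ι → F) = 0 ∧ polar (⇑Q) f (v i : ι → F) = 0 ∧
      polar (⇑Q) e' (v i : ι → F) = 0 ∧ polar (⇑Q) f' (v i : ι → F) = 0 := fun i => (hL _).1 (v i).2
  refine ⟨⟨H.qe, H.qf, H.ef⟩, ⟨H.qe', H.qf', H.ef'⟩, H.o1, H.o2, H.o3, H.o4, fun i => (hvW i).1,
    fun i => (hvW i).2.1, fun i => (hvW i).2.2.1, fun i => (hvW i).2.2.2, fun i j hij => ?_, fun i hi => ?_⟩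
  · have := hv hij
    simpa [Function.onFun, hpol] using this
  · apply hv.not_isOrtho_basis_self_of_separatingLeft hsep i
    show polarBilin Q' (v i) (v i) = 0
    rw [hpol, polar_self', hi, mul_zero]

/-- Three vectors: equal square classes. -/
theorem exists_frame_three [Finite F] (h2 : (2 : F) ≠ 0) {e f e' f' : ι → F} {b : Fin 3 → ι → F}
    (H : Frame Q e f e' f' b) :
    ∃ c : Fin 3 → ι → F, Frame Q e f e' f' c ∧ ∀ i j, IsSquare (Q (c i) * Q (c j)) := by
  -- first: `b 0`, `b 1` in the same class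
  have key : ∀ b : Fin 3 → ι → F, Frame Q e f e' f' b → IsSquare (Q (b 0) * Q (b 1)) →
      ∃ c : Fin 3 → ι → F, Frame Q e f e' f' c ∧ ∀ i j, IsSquare (Q (c i) * Q (c j)) := by
    intro b H hb
    obtain ⟨x, y, hxy⟩ := exists_diag_binary h2 (Q (b 0)) (Q (b 1)) (Q (b 2)) (H.nz 0) (H.nz 1)
    set v₁ : ι → F := vec b (Pi.single 0 x + Pi.single 1 y) with hv₁
    set v₂ : ι → F := vec b (Pi.single 0 (-(Q (b 1) * y)) + Pi.single 1 (Q (b 0) * x)) with hv₂
    have n01 : (0 : Fin 3) ≠ 1 := by decide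
    have q1 : Q v₁ = Q (b 2) := by rw [hv₁, H.Q_two n01, ← hxy]; ring
    have q2 : Q v₂ = Q (b 0) * Q (b 1) * Q (b 2) := by rw [hv₂, H.Q_two n01, ← hxy]; ring
    have e1 : v₁ = x • b 0 + y • b 1 := by rw [hv₁, vec_add, vec_single, vec_single]
    have e2 : v₂ = (-(Q (b 1) * y)) • b 0 + (Q (b 0) * x) • b 1 := by
      rw [hv₂, vec_add, vec_single, vec_single]
    have p12 : polar (⇑Q) v₁ v₂ = 0 := by
      rw [e1, e2]
      simp only [QuadraticMap.polar_add_left, QuadraticMap.polar_add_right, QuadraticMap.polar_smul_left,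
        QuadraticMap.polar_smul_right, H.orth 0 1 n01, H.orth 1 0 n01.symm, polar_self', smul_eq_mul]
      ring
    have p13 : polar (⇑Q) v₁ (b 2) = 0 := by
      rw [e1, QuadraticMap.polar_add_left, QuadraticMap.polar_smul_left, QuadraticMap.polar_smul_left,
        H.orth 0 2 (by decide), H.orth 1 2 (by decide)]
      simp
    have p23 : polar (⇑Q) v₂ (b 2) = 0 := by
      rw [e2, QuadraticMap.polar_add_left, QuadraticMap.polar_smul_left, QuadraticMap.polar_smul_left,
        H.orth 0 2 (by decide), H.orth 1 2 (by decide)]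
      simp
    refine ⟨![v₁, v₂, b 2], H.replace ![Pi.single 0 x + Pi.single 1 y,
      Pi.single 0 (-(Q (b 1) * y)) + Pi.single 1 (Q (b 0) * x), Pi.single 2 1] ?_ ?_ ?_, ?_⟩
    · intro j
      fin_cases j
      · rfl
      · rfl
      · show b 2 = vec b (Pi.single 2 1)
        rw [vec_single, one_smul]
    · intro i j hij
      fin_cases i <;> fin_cases j
      · exact absurd rfl hij
      · exact p12
      · exact p13
      · exact (polar_comm _ _ _).trans p12
      · exact absurd rfl hij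
      · exact p23
      · exact (polar_comm _ _ _).trans p13
      · exact (polar_comm _ _ _).trans p23
      · exact absurd rfl hij
    · intro i
      fin_cases i
      · show Q v₁ ≠ 0
        rw [q1]; exact H.nz 2
      · show Q v₂ ≠ 0
        rw [q2]; exact mul_ne_zero (mul_ne_zero (H.nz 0) (H.nz 1)) (H.nz 2)
      · exact H.nz 2
    · have hs2 : IsSquare (Q (b 2) * Q (b 2)) := ⟨_, rfl⟩
      have hs3 : IsSquare (Q (b 2) * (Q (b 0) * Q (b 1) * Q (b 2))) := by
        obtain ⟨t, ht⟩ := hb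
        exact ⟨t * Q (b 2), by rw [ht]; ring⟩
      intro i j
      fin_cases i <;> fin_cases j
      · exact ⟨_, rfl⟩
      · show IsSquare (Q v₁ * Q v₂)
        rw [q1, q2]; exact hs3
      · show IsSquare (Q v₁ * Q (b 2))
        rw [q1]; exact hs2
      · show IsSquare (Q v₂ * Q v₁)
        rw [q1, q2, mul_comm]; exact hs3
      · exact ⟨_, rfl⟩
      · show IsSquare (Q v₂ * Q (b 2))
        rw [q2, mul_comm]; exact hs3
      · show IsSquare (Q (b 2) * Q v₁)
        rw [q1]; exact hs2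
      · show IsSquare (Q (b 2) * Q v₂)
        rw [q2]; exact hs3
      · exact ⟨_, rfl⟩
  by_cases h01 : IsSquare (Q (b 0) * Q (b 1))
  · exact key b H h01
  by_cases h02 : IsSquare (Q (b 0) * Q (b 2))
  · exact key (b ∘ ![0, 2, 1]) (H.comp (by decide)) h02
  · refine key (b ∘ ![1, 2, 0]) (H.comp (by decide)) ?_
    show IsSquare (Q (b 1) * Q (b 2))
    rw [Cfsg.Agent.ClassicalGeometry.Universal.isSquare_mul_iff h2 (H.nz _) (H.nz _)] at h01 h02 ⊢
    tauto

/-- **Frames.** -/
theorem exists_frame [Finite F] (h2 : (2 : F) ≠ 0) (Q : QuadraticForm F (ι → F))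
    (hQ : (polarBilin Q).Nondegenerate) (hn : 7 ≤ Fintype.card ι) :
    ∃ (m : ℕ) (e f e' f' : ι → F) (b : Fin m → ι → F), Frame Q e f e' f' b ∧ Fintype.card ι ≤ m + 4 ∧
      SepCond Q b := by
  obtain ⟨m, e, f, e', f', b, H, hm⟩ := exists_frame_aux h2 Q hQ (by omega)
  by_cases h4 : 4 ≤ m
  · refine ⟨m, e, f, e', f', b, H, hm, fun i j _ => ?_⟩
    obtain ⟨r, h3, h5, h6⟩ := H.exists_off h2 (by rwa [Fintype.card_fin]) i j (Q (b i))
    exact ⟨r, h3, h5, by rw [h6]; exact H.nz i, by rw [h6]; exact ⟨_, rfl⟩⟩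
  · have h3 : m = 3 := by omega
    subst h3
    obtain ⟨c, H', hc⟩ := exists_frame_three h2 H
    refine ⟨3, e, f, e', f', c, H', hm, fun i j hij => ?_⟩
    obtain ⟨k, hki, hkj⟩ : ∃ k : Fin 3, k ≠ i ∧ k ≠ j := by
      revert i j; decide
    refine ⟨Pi.single k 1, Pi.single_eq_of_ne hki.symm _, Pi.single_eq_of_ne hkj.symm _, ?_, ?_⟩
    · rw [vec_single, one_smul]; exact H'.nz k
    · rw [vec_single, one_smul]; exact hc i k

/-- `z s` is not central in `Ω`. -/
theorem Frame.z_not_central {I : Type*} [Fintype I] [DecidableEq I] {e f e' f' : ι → F} {b : I → ι → F}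
    (H : Frame Q e f e' f' b) (h2 : (2 : F) ≠ 0) (hQ : (polarBilin Q).Nondegenerate) (i : I) {s : F} (hs : s ≠ 0) :
    H.zO h2 hQ s ∉ Subgroup.center (Cfsg.Omega F (⇑Q)) := by
  intro hc
  have h1 := Subgroup.mem_center_iff.1 hc ⟨E Q f (b i), E_mem h2 hQ _ _⟩
  have h3 : E Q f (b i) * H.z s = H.z s * E Q f (b i) := congrArg Subtype.val h1
  have h4 := congrArg (fun g => act Q g e) h3
  simp only [act_mul] at h4
  have ee : polar (⇑Q) e e = 0 := by rw [polar_self', H.hyp.qe, mul_zero]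
  have ff : polar (⇑Q) f f = 0 := by rw [polar_self', H.hyp.qf, mul_zero]
  have fe : polar (⇑Q) f e = 1 := by rw [polar_comm]; exact H.hyp.ef
  have e'e : polar (⇑Q) e' e = 0 := H.o1'
  have e'f : polar (⇑Q) e' f = 0 := by rw [polar_comm]; exact H.o3
  have be : polar (⇑Q) (b i) e = 0 := by rw [polar_comm]; exact H.eb i
  have hz : ∀ v, act Q (H.z s) v = v + (polar (⇑Q) e' v • (s • e) - polar (⇑Q) (s • e) v • e') := by
    intro v
    rw [Frame.z, act_E H.hyp'.qe (H.e'_se s), QuadraticMap.map_smul, H.hyp.qe]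
    simp
  rw [hz e, e'e, QuadraticMap.polar_smul_left, ee, act_E H.hyp.qf (H.fb i)] at h4
  simp only [smul_zero, zero_smul, sub_zero, add_zero] at h4
  rw [hz, act_E H.hyp.qf (H.fb i), fe, be] at h4
  simp only [one_smul, zero_smul, sub_zero, mul_one, QuadraticMap.polar_add_right, QuadraticMap.polar_sub_right,
    QuadraticMap.polar_smul_right, QuadraticMap.polar_smul_left, e'e, e'f, H.eb' i, ee, H.eb i, H.hyp.ef,
    smul_eq_mul, mul_zero, zero_add, mul_one, zero_sub] at h4
  have h6 := sub_eq_zero.2 h4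
  have h7 : (Q (b i) = 0 ∨ s = 0) ∨ e' = 0 := by simpa using h6
  rcases h7 with (h7 | h7) | h7
  · exact H.nz i h7
  · exact hs h7
  · have h8 := H.hyp'.ef
    rw [h7, QuadraticMap.polar_zero_left] at h8
    exact zero_ne_one h8

/-- **The lower bound for `PΩ(Q)`**, `n ≥ 7`, `q` odd, not `Ω₇(3)`. -/
theorem lb_pomega [Finite F] {p : ℕ} [Fact p.Prime] [CharP F p] (hp2 : p ≠ 2) (Q : QuadraticForm F (ι → F))
    (hQ : (polarBilin Q).Nondegenerate) (hn : 7 ≤ Fintype.card ι) (h73 : Fintype.card ι ≠ 7 ∨ Nat.card F ≠ 3) :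
    Lie.Heis.LB.{_, v, w} (Cfsg.POmega F (⇑Q)) (orderOf (2 : ZMod p) * Nat.card F ^ (Fintype.card ι - 4)) := by
  have h2 : (2 : F) ≠ 0 := by
    intro h
    have h1 : ((2 : ℕ) : F) = 0 := by exact_mod_cast h
    rw [CharP.cast_eq_zero_iff F p] at h1
    exact hp2 ((Nat.prime_dvd_prime_iff_eq Fact.out Nat.prime_two).1 h1)
  have : IsSimpleGroup (Cfsg.POmega F (⇑Q)) :=
    Cfsg.Agent.LieClassical.OrthFinite.isSimpleGroup_POmega (fun x hx => hQ.1 x fun y => hx y) (by omega)
  obtain ⟨m, e, f, e', f', b, H, hm, hsep⟩ := exists_frame h2 Q hQ hn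
  have hm3 : 3 ≤ m := by omega
  have d := (H.dat h2 hQ p hsep).map (QuotientGroup.mk' (Subgroup.center (Cfsg.Omega F (⇑Q))))
  have hz : ∃ s : F, QuotientGroup.mk' (Subgroup.center (Cfsg.Omega F (⇑Q))) (H.zO h2 hQ s) ≠ 1 := by
    refine ⟨1, fun h => ?_⟩
    exact H.z_not_central h2 hQ ⟨0, by omega⟩ one_ne_zero ((QuotientGroup.eq_one_iff _).1 h)
  have ht := fun i => (H.tie_all h2 hQ (by
    rw [Fintype.card_fin]
    rcases h73 with h | h
    · left; omega
    · exact Or.inr h) i ⟨0, by omega⟩).map (QuotientGroup.mk' (Subgroup.center (Cfsg.Omega F (⇑Q))))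
  have h3 := lb_of_dat.{_, v, w} hp2 d hz ⟨0, by omega⟩ ht
  rw [Nat.card_eq_fintype_card (α := Fin m), Fintype.card_fin] at h3
  refine h3.mono (Nat.mul_le_mul_left _ (Nat.pow_le_pow_right Nat.card_pos (by omega)))

end Cfsg.Agent.Omega.TwoF.OrthEl
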