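import Cfsg.Agent.Omega.TwoF.OrthEl
import Cfsg.Agent.Omega.TwoF.OTie

/-!
# The indices of an orthogonal frame are tied

`Frame.tie_all`: all indices are tied if `|F| > 3` or if there are at least four indices;
`Frame.exists_off`: the separating vectors for at least four indices.
-/

set_option autoImplicit false
set_option linter.unusedSectionVars false

namespace Cfsg.Agent.Omega.TwoF.OrthEl

open QuadraticMap Matrix
open Cfsg.Agent.ClassicalGeometry.Reflection Cfsg.Agent.ClassicalGeometry.Eichler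
open Cfsg.Agent.ClassicalGeometry.SiegelGen Cfsg.Agent.ClassicalGeometry.SpinorSign
open Cfsg.Agent.ClassicalGeometry.GenReflections (act act_apply act_mul act_one act_isometry act_polar act_ext
  act_reflIso act_inv_eq)
open Cfsg.Agent.ClassicalGeometry.ReflClass (exists_diag_binary)
open Cfsg.Agent.Omega.TwoF.OLift

variable {ι : Type} [Fintype ι] [DecidableEq ι] {F : Type*} [Field F] {Q : QuadraticForm F (ι → F)}
variable {I : Type*} [Fintype I] [DecidableEq I]

theorem sq_eq_one_iff_of_ne (a : F) (h : a ^ 2 = 1) : a = 1 ∨ a = -1 := by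
  have h1 : (a - 1) * (a + 1) = 0 := by linear_combination h
  rcases mul_eq_zero.1 h1 with h2 | h2
  · exact Or.inl (sub_eq_zero.1 h2)
  · exact Or.inr (eq_neg_of_add_eq_zero_left h2)

namespace Frame

variable {e f e' f' : ι → F} {b : I → ι → F}

theorem Q_vec (H : Frame Q e f e' f' b) (h2 : (2 : F) ≠ 0) (p : I → F) : Q (vec b p) = ∑ i, p i ^ 2 * Q (b i) := by
  have h1 := H.polar_vec p p
  rw [polar_self'] at h1
  apply mul_left_cancel₀ h2
  rw [h1, Finset.mul_sum]
  exact Finset.sum_congr rfl fun i _ => by ring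

theorem sum_two {i j : I} (a c : F) (w : I → F) :
    ∑ k, (Pi.single i a + Pi.single j c : I → F) k * w k = a * w i + c * w j := by
  simp only [Pi.add_apply, add_mul, Finset.sum_add_distrib]
  congr 1
  · rw [Finset.sum_eq_single i]
    · rw [Pi.single_eq_same]
    · intro k _ hk; rw [Pi.single_eq_of_ne hk, zero_mul]
    · intro h; exact absurd (Finset.mem_univ i) h
  · rw [Finset.sum_eq_single j]
    · rw [Pi.single_eq_same]
    · intro k _ hk; rw [Pi.single_eq_of_ne hk, zero_mul]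
    · intro h; exact absurd (Finset.mem_univ j) h

theorem Q_two (H : Frame Q e f e' f' b) {i j : I} (hij : i ≠ j) (a c : F) :
    Q (vec b (Pi.single i a + Pi.single j c)) = a ^ 2 * Q (b i) + c ^ 2 * Q (b j) := by
  rw [vec_add, vec_single, vec_single, map_add', QuadraticMap.map_smul, QuadraticMap.map_smul,
    QuadraticMap.polar_smul_left, QuadraticMap.polar_smul_right, H.orth i j hij]
  simp only [smul_eq_mul, mul_zero, add_zero]
  ring

/-- At least four indices: vectors of any norm orthogonal to two of the `b i`. -/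
theorem exists_off (H : Frame Q e f e' f' b) (h2 : (2 : F) ≠ 0) [Finite F] (h4 : 4 ≤ Fintype.card I) (i j : I)
    (c : F) : ∃ r : I → F, r i = 0 ∧ r j = 0 ∧ Q (vec b r) = c := by
  obtain ⟨k, hk⟩ : ∃ k, k ∉ ({i, j} : Finset I) := by
    by_contra hcon
    push Not at hcon
    have h5 : Finset.univ ⊆ ({i, j} : Finset I) := fun k _ => hcon k
    have h6 := Finset.card_le_card h5
    rw [Finset.card_univ] at h6
    have h7 : ({i, j} : Finset I).card ≤ 2 := Finset.card_le_two
    omega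
  obtain ⟨l, hl⟩ : ∃ l, l ∉ ({i, j, k} : Finset I) := by
    by_contra hcon
    push Not at hcon
    have h5 : Finset.univ ⊆ ({i, j, k} : Finset I) := fun k _ => hcon k
    have h6 := Finset.card_le_card h5
    rw [Finset.card_univ] at h6
    have h7 : ({i, j, k} : Finset I).card ≤ 3 := Finset.card_le_three
    omega
  simp only [Finset.mem_insert, Finset.mem_singleton, not_or] at hk hl
  obtain ⟨x, y, hxy⟩ := exists_diag_binary h2 (Q (b k)) (Q (b l)) c (H.nz k) (H.nz l)
  refine ⟨Pi.single k x + Pi.single l y, ?_, ?_, ?_⟩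
  · rw [Pi.add_apply, Pi.single_eq_of_ne (Ne.symm hk.1), Pi.single_eq_of_ne (Ne.symm hl.1), add_zero]
  · rw [Pi.add_apply, Pi.single_eq_of_ne (Ne.symm hk.2), Pi.single_eq_of_ne (Ne.symm hl.2.1), add_zero]
  · rw [H.Q_two (Ne.symm hl.2.2), ← hxy]
    ring

/-- Separation of `x (s p)` and `y q`. -/
theorem sep_pq (H : Frame Q e f e' f' b) (h2 : (2 : F) ≠ 0) (hQ : (polarBilin Q).Nondegenerate) {p q r : I → F}
    (hp : Q (vec b p) ≠ 0) (hr : Q (vec b r) ≠ 0) (hs : IsSquare (Q (vec b p) * Q (vec b r)))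
    (hpr : polar (⇑Q) (vec b p) (vec b r) = 0) (hpq : p ⬝ᵥ q = 0) (hrq : r ⬝ᵥ q = 0) (s : F) :
    ∃ h : Cfsg.Omega F (⇑Q), h * H.gO h2 hQ = H.gO h2 hQ * h ∧
      h * H.xO h2 hQ (s • p) * h⁻¹ = H.xO h2 hQ (-(s • p)) ∧ h * H.yO h2 hQ q * h⁻¹ = H.yO h2 hQ q := by
  obtain ⟨h, h3, h4, h5, -, -, h8⟩ := H.sep_gen h2 hQ hp hr hs hpr
  refine ⟨⟨h, h3⟩, Subtype.ext h4, Subtype.ext (h5 s), Subtype.ext (h8 q ?_ ?_)⟩
  · rw [polar_comm, H.polar_vec_dual h2, hpq]
  · rw [polar_comm, H.polar_vec_dual h2, hrq]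

theorem dot_two {i j : I} (a c : F) (w : I → F) :
    (Pi.single i a + Pi.single j c : I → F) ⬝ᵥ w = a * w i + c * w j :=
  sum_two a c w

/-- The link. -/
theorem tie_link (H : Frame Q e f e' f' b) (h2 : (2 : F) ≠ 0) (hQ : (polarBilin Q).Nondegenerate) {i j : I}
    (hij : i ≠ j) {a : F} (ha : a ≠ 0) {r : I → F} (hri : r i = 0) (hrj : r j = 0) (hr : Q (vec b r) ≠ 0)
    (hn : Q (b i) + a ^ 2 * Q (b j) ≠ 0) (hs : IsSquare ((Q (b i) + a ^ 2 * Q (b j)) * Q (vec b r))) :
    Tie (H.xO h2 hQ) (H.yO h2 hQ) (H.gO h2 hQ) i j := by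
  refine .link hij ha fun s => ?_
  have e1 : Q (vec b (Pi.single i 1 + Pi.single j a)) = Q (b i) + a ^ 2 * Q (b j) := by
    rw [H.Q_two hij]; ring
  have e2 : s • (Pi.single i 1 + Pi.single j a : I → F) = Pi.single i s + Pi.single j (a * s) := by
    rw [smul_add, ← Pi.single_smul, ← Pi.single_smul, smul_eq_mul, smul_eq_mul, mul_one, mul_comm s a]
  have h3 := H.sep_pq h2 hQ (p := Pi.single i 1 + Pi.single j a) (q := Pi.single i 1 + Pi.single j (-a⁻¹)) (r := r)
    (by rw [e1]; exact hn) hr (by rw [e1]; exact hs) (by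
      rw [vec_add, vec_single, vec_single, QuadraticMap.polar_add_left, QuadraticMap.polar_smul_left,
        QuadraticMap.polar_smul_left, H.polar_b, H.polar_b, hri, hrj]
      simp) (by
      rw [dot_two, Pi.add_apply, Pi.add_apply, Pi.single_eq_same, Pi.single_eq_of_ne hij,
        Pi.single_eq_of_ne hij.symm, Pi.single_eq_same]
      field_simp
      ring) (by
      rw [dotProduct_comm, dot_two, hri, hrj, mul_zero, mul_zero, add_zero]) s
  rw [e2] at h3
  exact h3

/-- Three indices, characteristic three. -/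
theorem tie_three (H : Frame Q e f e' f' b) (h2 : (2 : F) ≠ 0) (hQ : (polarBilin Q).Nondegenerate) [Finite F]
    (h4 : 4 ≤ Fintype.card I) (h3 : (3 : F) = 0) {i j k : I} (hij : i ≠ j) (hik : i ≠ k) (hjk : j ≠ k)
    (hQij : Q (b j) = Q (b i)) (hQik : Q (b k) = - Q (b i))
    (hji : Tie (H.xO h2 hQ) (H.yO h2 hQ) (H.gO h2 hQ) j i) :
    Tie (H.xO h2 hQ) (H.yO h2 hQ) (H.gO h2 hQ) k i := by
  refine .three hij hik hjk h3 hji fun s => ?_
  obtain ⟨l, hl⟩ : ∃ l, l ∉ ({i, j, k} : Finset I) := by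
    by_contra hcon
    push Not at hcon
    have h5 : Finset.univ ⊆ ({i, j, k} : Finset I) := fun k _ => hcon k
    have h6 := Finset.card_le_card h5
    rw [Finset.card_univ] at h6
    have h7 : ({i, j, k} : Finset I).card ≤ 3 := Finset.card_le_three
    omega
  simp only [Finset.mem_insert, Finset.mem_singleton, not_or] at hl
  obtain ⟨hli, hlj, hlk⟩ := hl
  obtain ⟨α, β, hαβ⟩ := exists_diag_binary h2 (2 * Q (b i)) (Q (b l)) (Q (b i)) (mul_ne_zero h2 (H.nz i)) (H.nz l)
  set p : I → F := Pi.single i 1 + Pi.single j 1 + Pi.single k 1 with hp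
  set r : I → F := Pi.single i α + Pi.single j (-α) + Pi.single l β with hr
  have pi : p i = 1 := by
    rw [hp, Pi.add_apply, Pi.add_apply, Pi.single_eq_same, Pi.single_eq_of_ne hij, Pi.single_eq_of_ne hik]; ring
  have pj : p j = 1 := by
    rw [hp, Pi.add_apply, Pi.add_apply, Pi.single_eq_same, Pi.single_eq_of_ne hij.symm, Pi.single_eq_of_ne hjk]
    ring
  have pk : p k = 1 := by
    rw [hp, Pi.add_apply, Pi.add_apply, Pi.single_eq_same, Pi.single_eq_of_ne hik.symm,
      Pi.single_eq_of_ne hjk.symm]; ring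
  have pl : p l = 0 := by
    rw [hp, Pi.add_apply, Pi.add_apply, Pi.single_eq_of_ne hli, Pi.single_eq_of_ne hlj, Pi.single_eq_of_ne hlk]
    ring
  have dotr : ∀ w : I → F, r ⬝ᵥ w = α * w i - α * w j + β * w l := by
    intro w
    rw [hr, add_dotProduct, dot_two, single_dotProduct]
    ring
  have dotp : ∀ w : I → F, p ⬝ᵥ w = w i + w j + w k := by
    intro w
    rw [hp, add_dotProduct, dot_two, single_dotProduct]
    ring
  have hdot : ∀ (p w : I → F), ∑ m, p m * w m = p ⬝ᵥ w := fun _ _ => rfl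
  have e1 : Q (vec b p) = Q (b i) := by
    rw [H.Q_vec h2]
    have : ∑ m, p m ^ 2 * Q (b m) = p ⬝ᵥ (fun m => p m * Q (b m)) := by
      rw [dotProduct]; exact Finset.sum_congr rfl fun m _ => by ring
    rw [this, dotp, pi, pj, pk, hQij, hQik]
    ring
  have ri : r i = α := by
    rw [hr, Pi.add_apply, Pi.add_apply, Pi.single_eq_same, Pi.single_eq_of_ne hij, Pi.single_eq_of_ne (Ne.symm hli)]
    ring
  have rj : r j = -α := by
    rw [hr, Pi.add_apply, Pi.add_apply, Pi.single_eq_same, Pi.single_eq_of_ne hij.symm,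
      Pi.single_eq_of_ne (Ne.symm hlj)]
    ring
  have rl : r l = β := by
    rw [hr, Pi.add_apply, Pi.add_apply, Pi.single_eq_same, Pi.single_eq_of_ne hli, Pi.single_eq_of_ne hlj]
    ring
  have e2 : Q (vec b r) = Q (b i) := by
    rw [H.Q_vec h2]
    have : ∑ m, r m ^ 2 * Q (b m) = r ⬝ᵥ (fun m => r m * Q (b m)) := by
      rw [dotProduct]; exact Finset.sum_congr rfl fun m _ => by ring
    rw [this, dotr, ri, rj, rl, hQij]
    linear_combination hαβ
  have e3 : polar (⇑Q) (vec b p) (vec b r) = 0 := by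
    rw [H.polar_vec]
    have : ∑ m, p m * r m * (2 * Q (b m)) = r ⬝ᵥ (fun m => p m * (2 * Q (b m))) := by
      rw [dotProduct]; exact Finset.sum_congr rfl fun m _ => by ring
    rw [this, dotr, pi, pj, pl, hQij]
    ring
  have e4 : s • p = Pi.single i s + Pi.single j s + Pi.single k s := by
    rw [hp, smul_add, smul_add, ← Pi.single_smul, ← Pi.single_smul, ← Pi.single_smul, smul_eq_mul, mul_one]
  have h5 := H.sep_pq h2 hQ (p := p) (q := p) (r := r) (by rw [e1]; exact H.nz i) (by rw [e2]; exact H.nz i)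
    (by rw [e1, e2]; exact ⟨_, rfl⟩) e3 (by rw [dotp, pi, pj, pk]; linear_combination h3)
    (by rw [dotr, pi, pj, pl]; ring) s
  rw [e4] at h5
  exact h5

/-- The scaling element, `|F| > 3`. -/
theorem tie_scale (H : Frame Q e f e' f' b) (h2 : (2 : F) ≠ 0) (hQ : (polarBilin Q).Nondegenerate) {c : Fˣ}
    (hc : (c : F) ^ 2 ≠ 1) (i j : I) : Tie (H.xO h2 hQ) (H.yO h2 hQ) (H.gO h2 hQ) i j := by
  have hmem : tor H.hyp (c * c) ∈ Cfsg.Omega F (⇑Q) := by
    rw [← tor_mul]
    exact mul_self_mem_commutator h2 Q hQ _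
  refine .scale hc ⟨⟨tor H.hyp (c * c), hmem⟩, Subtype.ext ?_, fun p => Subtype.ext ?_, fun p => Subtype.ext ?_⟩ i j
  · show tor H.hyp (c * c) * H.t (-1) = H.t (-1) * tor H.hyp (c * c)
    have h1 := tor_tor_comm H.hyp H.hyp' H.o1 H.o2 H.o3 H.o4 (c * c) (-1)⁻¹
    rw [t, ← mul_assoc, tor_comm, mul_assoc, h1, mul_assoc]
  · have h1 := H.x_conj (tor H.hyp (c * c)) (act_tor_e H.hyp _) (H.tor_vec _ p)
    have h3 : ((c * c : Fˣ) : F) = (c : F) ^ 2 := by rw [Units.val_mul, pow_two]
    rw [h3] at h1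
    exact h1
  · exact H.y_conj_one _ (H.tor_e' _) (H.tor_vec _ _)

/-- All indices are tied. -/
theorem tie_all (H : Frame Q e f e' f' b) (h2 : (2 : F) ≠ 0) (hQ : (polarBilin Q).Nondegenerate) [Finite F]
    (h4 : 4 ≤ Fintype.card I ∨ Nat.card F ≠ 3) (i j : I) :
    Tie (H.xO h2 hQ) (H.yO h2 hQ) (H.gO h2 hQ) i j := by
  by_cases hc : ∃ c : Fˣ, (c : F) ^ 2 ≠ 1
  · obtain ⟨c, hc⟩ := hc
    exact H.tie_scale h2 hQ hc i j
  push Not at hc
  have hpm : ∀ a : F, a ≠ 0 → a = 1 ∨ a = -1 := fun a ha =>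
    sq_eq_one_iff_of_ne a (hc (Units.mk0 a ha))
  have h3 : (3 : F) = 0 := by
    rcases hpm 2 h2 with h | h
    · exfalso
      have : (1 : F) = 0 := by linear_combination h
      exact one_ne_zero this
    · linear_combination h
  have hcard : Nat.card F = 3 := by
    classical
    have := Fintype.ofFinite F
    rw [Nat.card_eq_fintype_card, ← Finset.card_univ]
    have h5 : (Finset.univ : Finset F) = {0, 1, -1} := by
      ext a
      simp only [Finset.mem_univ, Finset.mem_insert, Finset.mem_singleton, true_iff]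
      by_cases ha : a = 0
      · exact Or.inl ha
      · exact Or.inr (hpm a ha)
    rw [h5, Finset.card_eq_three]
    have h6 : (0 : F) ≠ -1 := fun h => one_ne_zero (α := F) (by linear_combination h)
    have h7 : (1 : F) ≠ -1 := fun h => h2 (by linear_combination h)
    exact ⟨0, 1, -1, zero_ne_one, h6, h7, rfl⟩
  have h4' : 4 ≤ Fintype.card I := by
    rcases h4 with h | h
    · exact h
    · exact absurd hcard h
  -- links between indices of the same norm
  have hlink : ∀ i j, i ≠ j → Q (b j) = Q (b i) → Tie (H.xO h2 hQ) (H.yO h2 hQ) (H.gO h2 hQ) i j := by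
    intro i j hij hQij
    obtain ⟨r, hri, hrj, hr⟩ := H.exists_off h2 h4' i j (Q (b i) + 1 ^ 2 * Q (b j))
    have hne : Q (b i) + 1 ^ 2 * Q (b j) ≠ 0 := by
      rw [hQij, one_pow, one_mul, ← two_mul]
      exact mul_ne_zero h2 (H.nz i)
    exact H.tie_link h2 hQ hij one_ne_zero hri hrj (by rw [hr]; exact hne) hne (by rw [hr]; exact ⟨_, rfl⟩)
  have hneg : ∀ i j, Q (b j) ≠ Q (b i) → Q (b j) = - Q (b i) := by
    intro i j hij
    rcases hpm _ (H.nz i) with h5 | h5 <;> rcases hpm _ (H.nz j) with h6 | h6 <;> rw [h5, h6] at hij ⊢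
    · exact absurd rfl hij
    · rw [neg_neg]
    · exact absurd rfl hij
  by_cases hij : i = j
  · subst hij; exact .refl i
  by_cases hQij : Q (b j) = Q (b i)
  · exact hlink i j hij hQij
  obtain ⟨k, hk⟩ : ∃ k, k ∉ ({i, j} : Finset I) := by
    by_contra hcon
    push Not at hcon
    have h5 : Finset.univ ⊆ ({i, j} : Finset I) := fun k _ => hcon k
    have h6 := Finset.card_le_card h5
    rw [Finset.card_univ] at h6
    have h7 : ({i, j} : Finset I).card ≤ 2 := Finset.card_le_two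
    omega
  simp only [Finset.mem_insert, Finset.mem_singleton, not_or] at hk
  by_cases hQik : Q (b k) = Q (b i)
  · exact (H.tie_three h2 hQ h4' h3 (Ne.symm hk.1) hij hk.2 hQik (hneg i j hQij)
      (hlink k i hk.1 hQik.symm)).symm
  · have hQjk : Q (b k) = Q (b j) := by rw [hneg i k hQik, hneg i j hQij]
    exact H.tie_three h2 hQ h4' h3 (Ne.symm hk.2) (Ne.symm hij) hk.1 hQjk (hneg j i (Ne.symm hQij))
      (hlink k j hk.2 hQjk.symm)

end Frame

end Cfsg.Agent.Omega.TwoF.OrthEl
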