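import Cfsg.Agent.Omega.TwoF.OutUse

/-!
# THEOREM OUT with the full torus divided out (TABLE 2F, outer part)

All root groups of the nodes are parametrised by one finite field `F`; the torus of `K` induces all families of
scalars. Then the outer part consists of field automorphisms (one step for each node) and of the permutations of the
nodes: `OutRk K (|ι| + g)`, and `OutRk K g` if `F` has no automorphisms.
-/

set_option autoImplicit false

namespace Cfsg.Agent.Omega.TwoF.Out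

open Cfsg.Agent.Schreier.Basic Cfsg.Agent.Schreier.Tools Cfsg.Agent.Schreier.BNSch
  Cfsg.Agent.Schreier.SylowCrit Cfsg.Agent.Schreier.BNUse

section semi

variable {Γ : Type*} [Group Γ] {F : Type*} [Field F] [Finite F]

/-- One step: the elements acting linearly. -/
theorem step_gal {D : Subgroup Γ} {f : D → F → F} (h : Semi D f) (E : Subgroup Γ) (hE : E ≤ D) :
    ∃ E' ≤ E, Cyc 1 E E' ∧ ∀ φ (hφ : φ ∈ D), φ ∈ E' → ∀ t, f ⟨φ, hφ⟩ t = t * f ⟨φ, hφ⟩ 1 := by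
  have hcyc : IsCyclic (RingAut F) := isCyclic_ringAut
  set g : E →* RingAut F := h.σHom.comp (Subgroup.inclusion hE) with hg
  refine ⟨g.ker.map E.subtype, Subgroup.map_subtype_le _,
    Cyc.of_hom (Subgroup.map_subtype_le _) g fun d hd hx => ⟨⟨d, hd⟩, hx, rfl⟩, ?_⟩
  rintro φ hφ ⟨x, hx, rfl⟩ t
  have h1 : h.σHom ⟨x, hφ⟩ = 1 := hx
  have h2 : h.σ ⟨x, hφ⟩ t = t := by
    rw [← h.σHom_apply, h1]
    rfl
  have h3 := h.σ_mul_one ⟨x, hφ⟩ t
  rw [h2] at h3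
  exact h3.symm

/-- All nodes. -/
theorem chain_gal {ι : Type*} (T : Finset ι) {D : Subgroup Γ} {f : ι → D → F → F} (h : ∀ i, Semi D (f i)) :
    ∃ E ≤ D, Cyc T.card D E ∧ ∀ φ (hφ : φ ∈ D), φ ∈ E → ∀ i ∈ T, ∀ t, f i ⟨φ, hφ⟩ t = t * f i ⟨φ, hφ⟩ 1 := by
  classical
  induction T using Finset.induction_on with
  | empty => exact ⟨D, le_rfl, Cyc.refl D, by simp⟩
  | insert i T hi ih =>
    obtain ⟨E, hE, h1, h2⟩ := ih
    obtain ⟨E', hE', h3, h4⟩ := step_gal (h i) E hE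
    refine ⟨E', hE'.trans hE, ?_, ?_⟩
    · rw [Finset.card_insert_of_notMem hi]
      exact h1.trans h3
    · intro φ hφ hφE j hj t
      rcases Finset.mem_insert.1 hj with rfl | hj
      · exact h4 φ hφ hφE t
      · exact h2 φ hφ (hE' hφE) j hj t

end semi

universe u

/-- **THEOREM OUT with the full torus.** -/
theorem outRk_of_torus {K : Type u} [Group K] [Finite K] (P : Cfsg.BNPair K) {p : ℕ} [hp : Fact p.Prime] (hp2 : p ≠ 2)
    (U H : Subgroup K) (hUp : IsPGroup p U) (hcore : P.B.normalCore = ⊥)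
    (hUB : U ≤ P.B) (hBU : ∀ b ∈ P.B, ∀ u ∈ U, b * u * b⁻¹ ∈ U)
    (hUN : ∀ b ∈ P.B, ∃ u ∈ U, u⁻¹ * b ∈ P.N) (hHB : H ≤ P.B)
    (m : ℕ) (hm : ¬ p ∣ m) (hH : ∀ h ∈ P.B, h ∈ P.N → h ^ m = 1)
    {ι : Type*} [Fintype ι] (n : ι → K) (hn : P.S = Set.range n) (hninj : Function.Injective n)
    (V : ι → Subgroup K) (hV : ∀ i, Node P U (n i) (V i))
    {F : Type*} [Field F] [Finite F] (x : ι → F → K)
    (hdec : ∀ i, ∀ u ∈ U, ∃ t, (x i t)⁻¹ * u ∈ V i)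
    (hsemi : ∀ i, ∀ D : Subgroup (MulAut K), Inv D U → Inv D P.B → Inv D (V i) →
      ∃ f : D → F → F, Semi D f ∧ (∀ (φ : D) t, (x i (f φ t))⁻¹ * (φ : MulAut K) (x i t) ∈ V i) ∧
        ∀ φ (hφ : φ ∈ D), (∀ t, f ⟨φ, hφ⟩ t = t) → ∀ u ∈ U, u⁻¹ * φ u ∈ V i)
    (htor : ∀ l : ι → F, (∀ i, l i ≠ 0) → ∃ h ∈ H, ∀ i, ∀ t, h * x i t * h⁻¹ = x i (l i * t))
    (g : ℕ) (hperm : ∀ D : Subgroup (MulAut K), IsPGroup 2 D → Inv D U → Inv D P.B →
      (famStab ((fun t => P.parabolic {t}) '' P.S)).relIndex D ≤ 2 ^ g) :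
    OutRk K (Fintype.card ι + g) ∧ ((∀ σ : RingAut F, σ = 1) → OutRk K (0 + g)) := by
  classical
  -- nodes indexed by the elements of `K`
  let V' : K → Subgroup K := fun s => if h : ∃ i, n i = s then V h.choose else ⊥
  have hV' : ∀ i, V' (n i) = V i := by
    intro i
    have h : ∃ j, n j = n i := ⟨i, rfl⟩
    show (if h : ∃ j, n j = n i then V h.choose else ⊥) = V i
    rw [dif_pos h, hninj h.choose_spec]
  have hVn : ∀ s ∈ P.S, Node P U s (V' s) := by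
    rw [hn]
    rintro _ ⟨i, rfl⟩
    rw [hV']
    exact hV i
  -- the final condition for linear automorphisms
  have hend : ∀ D : Subgroup (MulAut K), Inv D U → (∀ i, Inv D (V i)) → ∀ f : ι → D → F → F,
      (∀ i, Semi D (f i)) →
      (∀ i, ∀ (φ : D) t, (x i (f i φ t))⁻¹ * (φ : MulAut K) (x i t) ∈ V i) →
      ∀ φ (hφ : φ ∈ D), (∀ i t, f i ⟨φ, hφ⟩ t = t * f i ⟨φ, hφ⟩ 1) →
        ∃ b ∈ P.B, ∀ s ∈ P.S, ∀ u ∈ U, (b * u * b⁻¹)⁻¹ * φ u ∈ V' s := by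
    intro D hU hVD f hf hrel φ hφ hlin
    obtain ⟨h, hh, hx⟩ := htor (fun i => f i ⟨φ, hφ⟩ 1) fun i => (hf i).one_ne _
    refine ⟨h, hHB hh, ?_⟩
    rw [hn]
    rintro _ ⟨i, rfl⟩ u hu
    rw [hV']
    obtain ⟨t, ht⟩ := hdec i u hu
    -- `u = x t v`
    have h1 := (hVD i).apply_mem hφ ht
    have h2 := (hV i).conj_B h (hHB hh) _ ht
    have h3 := hrel i ⟨φ, hφ⟩ t
    rw [hlin, mul_comm t] at h3
    have h4 : (h * u * h⁻¹)⁻¹ * φ u =
        (h * ((x i t)⁻¹ * u) * h⁻¹)⁻¹ * ((x i (f i ⟨φ, hφ⟩ 1 * t))⁻¹ * φ (x i t)) * φ ((x i t)⁻¹ * u) := by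
      rw [← hx i t, map_mul, map_inv]
      group
    rw [h4]
    exact mul_mem (mul_mem (inv_mem h2) h3) h1
  constructor
  · refine outRk_of_chain P hp2 U hUp hcore hUB hBU hUN m hm hH V' hVn g _ hperm fun D _ hU hB hP => ?_
    have hVD : ∀ i, Inv D (V i) := fun i => (hV i).inv hUB hU hB (hP _ (by rw [hn]; exact ⟨i, rfl⟩))
    choose f hf hrel _ using fun i => hsemi i D hU hB (hVD i)
    obtain ⟨E, hE, hc, hlin⟩ := chain_gal (Finset.univ : Finset ι) hf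
    refine ⟨E, hc, fun φ hφ => ?_⟩
    exact hend D hU hVD f hf hrel φ (hE hφ) fun i t => hlin φ (hE hφ) hφ i (Finset.mem_univ i) t
  · intro hσ
    refine outRk_of_chain P hp2 U hUp hcore hUB hBU hUN m hm hH V' hVn g _ hperm fun D _ hU hB hP => ?_
    have hVD : ∀ i, Inv D (V i) := fun i => (hV i).inv hUB hU hB (hP _ (by rw [hn]; exact ⟨i, rfl⟩))
    choose f hf hrel _ using fun i => hsemi i D hU hB (hVD i)
    refine ⟨D, Cyc.refl D, fun φ hφ => hend D hU hVD f hf hrel φ hφ fun i t => ?_⟩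
    have h1 := hσ ((hf i).σHom ⟨φ, hφ⟩)
    have h2 : (hf i).σ ⟨φ, hφ⟩ t = t := by
      rw [← (hf i).σHom_apply, h1]
      rfl
    have h3 := (hf i).σ_mul_one ⟨φ, hφ⟩ t
    rw [h2] at h3
    exact h3.symm

end Cfsg.Agent.Omega.TwoF.Out
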