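import Cfsg.Agent.Schreier.ChevSch
import Cfsg.Agent.Omega.TwoF.OutUse

/-!
# The column RK of TABLE 2F for the Chevalley groups given by tables (odd characteristic)
-/

set_option autoImplicit false

namespace Cfsg.Agent.Omega.TwoF.RkChev

open Cfsg Cfsg.Lie Cfsg.Agent.ChevalleyStructure Cfsg.Agent.ChevalleyStructure.Elts
  Cfsg.Agent.ChevalleyStructure.NConj Cfsg.Agent.ChevalleyStructure.BNChev Cfsg.Agent.S1042
  Cfsg.Agent.Schreier.Basic Cfsg.Agent.Schreier.Tools Cfsg.Agent.Schreier.BNSch Cfsg.Agent.Schreier.BNUse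
  Cfsg.Agent.Schreier.ChevLocal Cfsg.Agent.Schreier.ChevSch Cfsg.Agent.Omega.TwoF.Out

universe u

variable {D : ChevalleyDatum} (hD : InList D) (F : Type u) [Field F]

/-- The (B, N)-pair data of a tabulated Chevalley group, in the form consumed by THEOREM OUT. -/
structure Data (P : BNPair ↥(D.group F)) (p : ℕ) : Prop where
  B_eq : P.B = BB D F
  S_eq : P.S = Set.range (nn hD F)
  prime : p.Prime
  char : CharP F p
  upg : IsPGroup p (UU D F)
  core : P.B.normalCore = ⊥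
  UB : UU D F ≤ P.B
  BU : ∀ b ∈ P.B, ∀ u ∈ UU D F, b * u * b⁻¹ ∈ UU D F
  UN : ∀ b ∈ P.B, ∃ u ∈ UU D F, u⁻¹ * b ∈ P.N
  dec : ∀ b ∈ P.B, ∃ u ∈ UU D F, ∃ h ∈ HH D F, b = u * h
  HB : HH D F ≤ P.B
  cop : ∀ q : ℕ, q = Nat.card F → ¬ p ∣ (q - 1) ^ D.rank
  tor : ∀ q : ℕ, q = Nat.card F → ∀ h ∈ P.B, h ∈ P.N → h ^ ((q - 1) ^ D.rank) = 1
  node : ∀ i, Node P (UU D F) (nn hD F i) (VV D F i)
  rk : ∀ i, NodeRk P (UU D F) (nn hD F i) (VV D F i) 2
  rk1 : (Nat.card F).Prime → ∀ i, NodeRk P (UU D F) (nn hD F i) (VV D F i) 1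

/-- The data exist. -/
theorem exists_data (hD : InList D) [Finite F] [IsSimpleGroup ↥(D.group F)] :
    ∃ (P : BNPair ↥(D.group F)) (p : ℕ), Data hD F P p := by
  classical
  have := Fintype.ofFinite F
  obtain ⟨P, hPB, hPN, hPS⟩ := S1042.result (F := F) D hD
  have hPS' : P.S = Set.range (nn hD F) := by
    rw [hPS]
    ext g
    constructor
    · rintro ⟨i, hi, hg⟩
      exact ⟨⟨i, hi⟩, Subtype.ext ((eq_nG_iff hD _ _ _).2 hg).symm⟩
    · rintro ⟨i, rfl⟩
      exact ⟨i, i.2, coe_nG hD _ _⟩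
  obtain ⟨p, hp⟩ := CharP.exists F
  have hpp : Fact p.Prime := ⟨CharP.char_is_prime F p⟩
  have hr : 0 < D.rank := (RootComb.good_of_mem hD).rank_pos
  have hcore := core_eq_bot P (by rw [hPS']; exact ⟨_, ⟨0, hr⟩, rfl⟩)
  have hHN : HH D F ≤ P.N := by
    rw [hPN]
    exact fun h hh => diagonal_le_monomial D F hh
  have hHB : HH D F ≤ P.B := by
    rw [hPB]
    exact fun h hh => Subgroup.mem_sup_right hh
  have hdec : ∀ b ∈ P.B, ∃ u ∈ UU D F, ∃ h ∈ HH D F, b = u * h := by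
    intro b hb
    rw [hPB] at hb
    exact exists_mul F hD hb
  have hBN : ∀ h ∈ P.B, h ∈ P.N → h ∈ HH D F := by
    intro h h1 h2
    rw [hPB] at h1
    rw [hPN] at h2
    have h3 : (h : GL D.Idx F) ∈ D.borelSubgroup F ⊓ D.monomialSubgroup F := ⟨h1, h2⟩
    rw [(S1040.result (F := F) D hD).2] at h3
    exact h3
  have hcop : ¬ p ∣ (Fintype.card F - 1) ^ D.rank := by
    intro h
    have h1 := hpp.out.dvd_of_dvd_pow h
    obtain ⟨n, -, hn⟩ := FiniteField.card F p
    have h2 : p ∣ Fintype.card F := by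
      rw [hn]
      exact dvd_pow_self p n.ne_zero
    have h3 : 1 < Fintype.card F := Fintype.one_lt_card
    have h4 : p ∣ Fintype.card F - (Fintype.card F - 1) := Nat.dvd_sub h2 h1
    rw [Nat.sub_sub_self h3.le] at h4
    exact hpp.out.one_lt.ne' (Nat.dvd_one.1 h4)
  have hloc : ∀ i, Node P (UU D F) (nn hD F i) (VV D F i) ∧ NodeRk P (UU D F) (nn hD F i) (VV D F i) 2 ∧
      ((Nat.card F).Prime → NodeRk P (UU D F) (nn hD F i) (VV D F i) 1) := by
    intro i
    have hsn := nn_mem_normalizer hD F i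
    refine nodeRk_of_field P (UU D F) (HH D F) (VV D F i) (nn hD F i) hdec hHB (xx hD i) ?_ (xx_add hD i)
      (VV_le F i) ?_ ?_ ?_ ?_ ?_ ?_ ?_ ?_
    · intro t
      exact xG_mem_posUnipotent hD (simple_pos hD i.2) t
    · intro u hu
      obtain ⟨v, hv, t, he⟩ := decomp hD i.2 (g := (u : GL D.Idx F)) hu
      exact ⟨⟨v, comp_le hD i hv⟩, hv, t, Subtype.ext he⟩
    · intro t v hv
      have h1 : xx hD i t ∈ Subgroup.normalizer ((VV D F i : Subgroup ↥(D.group F)) : Set ↥(D.group F)) :=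
        BB_le_normalizer F hD i.2 (UU_le F (xG_mem_posUnipotent hD (simple_pos hD i.2) t))
      exact (Subgroup.mem_normalizer_iff.1 h1 v).1 hv
    · intro h hh v hv
      have h1 : h ∈ Subgroup.normalizer ((VV D F i : Subgroup ↥(D.group F)) : Set ↥(D.group F)) :=
        BB_le_normalizer F hD i.2 (Subgroup.mem_sup_right hh)
      exact (Subgroup.mem_normalizer_iff.1 h1 v).1 hv
    · intro v hv
      have h1 := (Subgroup.mem_normalizer_iff.1 (inv_mem hsn) v).1 hv
      rwa [inv_inv] at h1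
    · rw [hPB]
      exact (VV_le F i).trans (UU_le F)
    · intro t ht
      rw [hPB] at ht
      exact eq_zero_of_xx_mem hD i (mem_VV_of_conj hD i (xG_mem_posUnipotent hD (simple_pos hD i.2) t) ht)
    · intro h hh
      obtain ⟨c, -, hc⟩ := diagonal_conj hD hh (simple_lt hD i.2)
      exact ⟨c, fun t => Subtype.ext (hc t)⟩
    · intro c hc
      refine ⟨⟨hG hD (D.simple i) c, hG_mem_group hD _ _⟩, hG_mem_diagonal hD (simple_lt hD i.2) hc, ?_⟩
      apply Subtype.ext
      show hG hD (D.simple i) c * xG hD (D.simple i) 1 * (hG hD (D.simple i) c)⁻¹ = xG hD (D.simple i) (c ^ 2)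
      rw [mul_inv_eq_iff_eq_mul]
      refine Units.ext ?_
      rw [Units.val_mul, Units.val_mul, coe_xG, coe_xG, coe_hG]
      have h1 := S1032.result D hD i (D.simple i) i.2 (simple_lt hD i.2) c hc 1
      rw [(RootComb.good_of_mem hD).cartan_simple i.2, mul_one] at h1
      exact_mod_cast h1
  refine ⟨P, p, hPB, hPS', hpp.out, hp, isPGroup_UU F hD, hcore, ?_, ?_, ?_, hdec, hHB, ?_, ?_,
    fun i => (hloc i).1, fun i => (hloc i).2.1, fun h i => (hloc i).2.2 h⟩
  · rw [hPB]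
    exact UU_le F
  · intro b hb u hu
    rw [hPB] at hb
    exact conj_mem_UU F hD hb hu
  · intro b hb
    obtain ⟨u, hu, h, hh, rfl⟩ := hdec b hb
    refine ⟨u, hu, ?_⟩
    rw [inv_mul_cancel_left]
    exact hHN hh
  · rintro q rfl
    rw [Nat.card_eq_fintype_card]
    exact hcop
  · rintro q rfl h h1 h2
    rw [Nat.card_eq_fintype_card]
    exact pow_eq_one F hD (hBN h h1 h2)

theorem card_S_le {hD : InList D} {P : BNPair ↥(D.group F)} (hS : P.S = Set.range (nn hD F)) :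
    Nat.card P.S ≤ D.rank := by
  rw [hS]
  refine (Nat.card_coe_set_eq _).trans_le ?_
  rw [← Set.image_univ]
  refine (Set.ncard_image_le Set.finite_univ).trans ?_
  rw [Set.ncard_univ, Nat.card_fin]

/-- **RK for the tabulated Chevalley groups over fields of odd characteristic.** -/
theorem rk (hD : InList D) [Finite F] [IsSimpleGroup ↥(D.group F)] (h2 : (2 : F) ≠ 0) :
    Omega.TwoF.RK ↥(D.group F)
      (RkLin.rk (Fintype.card D.Idx) + (2 * D.rank + padicValNat 2 D.rank.factorial)) := by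
  classical
  obtain ⟨P, p, h⟩ := exists_data F hD
  have : Fact p.Prime := ⟨h.prime⟩
  have := h.char
  have hp2 : p ≠ 2 := by
    rintro rfl
    exact h2 (CharP.cast_eq_zero F 2)
  have hne : Nonempty D.Idx := by
    have hr : 0 < D.rank := (RootComb.good_of_mem hD).rank_pos
    exact ⟨Sum.inl ⟨0, hr⟩⟩
  refine rk_of_bn P hp2 (UU D F) h.upg h.core h.UB h.BU h.UN _ (h.cop _ rfl) (h.tor _ rfl) 2 ?_ h2 rfl
    Fintype.card_pos (D.group F).subtype (D.group F).subtype_injective (card_S_le F h.S_eq)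
  intro s hs
  rw [h.S_eq] at hs
  obtain ⟨i, rfl⟩ := hs
  exact ⟨_, h.node i, h.rk i⟩

end Cfsg.Agent.Omega.TwoF.RkChev
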