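import Cfsg.Agent.Omega.TwoF.RkPSL
import Cfsg.Agent.Omega.TwoF.Defs
import Cfsg.Agent.Omega.TwoF.Bridge
import Cfsg.Agent.Omega.Lie.CenOrth

/-!
# Elementary abelian `2`-subgroups of the automorphism groups of the simple orthogonal groups, `q` odd

`RK` of `PΩ_{2m+1}(q)` (`m ≥ 3`), `PΩ⁺_{2m}(q)`, `PΩ⁻_{2m}(q)` (`m ≥ 4`), `q` odd: `dim V` (`dim V - 1` from the
similarities modulo scalars, plus one field automorphism).
-/

set_option autoImplicit false
set_option linter.unusedSectionVars false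

namespace Cfsg.Agent.Omega.TwoF.RkPOm

open QuadraticMap Cfsg.Agent.LieClassical.OrthCore Cfsg.Agent.LieClassical.OrthTrans
  Cfsg.Agent.Omega.TwoF.RkLin Cfsg.Agent.Omega.TwoF.RkPSL Cfsg.Agent.ClassicalGeometry.OrthSemi
  Cfsg.Agent.ClassicalGeometry.OrthSemiForms Cfsg.Agent.LieClassical.OrthForms

variable {I : Type} [Fintype I] [DecidableEq I] {F : Type*} [Field F] [Finite F]
  {Q : QuadraticForm F (I → F)}

omit [DecidableEq I] in
theorem finite_E (Q : QuadraticForm F (I → F)) : Finite (↥(E Q) ⧸ Subgroup.center ↥(E Q)) := by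
  have h1 : Finite ((I → F) ≃ₗ[F] (I → F)) :=
    Finite.of_injective (fun f : (I → F) ≃ₗ[F] (I → F) => (f : (I → F) → (I → F))) DFunLike.coe_injective
  have h2 : Finite ↥(E Q) := Subtype.finite
  exact Quotient.finite _

instance : Finite (MulAut (↥(E Q) ⧸ Subgroup.center ↥(E Q))) :=
  haveI := finite_E Q
  finite_mulAut _

/-- the linear map of a similarity -/
def lin {g : Equiv.Perm (I → F)} {c : F} (h : IsSS Q (RingEquiv.refl F) c g) : (I → F) ≃ₗ[F] (I → F) :=
  { g with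
    map_add' := h.add
    map_smul' := h.smul }

/-- the matrix of a similarity -/
noncomputable def mat {g : Equiv.Perm (I → F)} {c : F} (h : IsSS Q (RingEquiv.refl F) c g) :
    Matrix.GeneralLinearGroup I F where
  val := LinearMap.toMatrix' (lin h).toLinearMap
  inv := LinearMap.toMatrix' (lin h).symm.toLinearMap
  val_inv := by
    rw [← LinearMap.toMatrix'_comp, LinearEquiv.comp_coe, LinearEquiv.symm_trans_self]
    exact LinearMap.toMatrix'_id
  inv_val := by
    rw [← LinearMap.toMatrix'_comp, LinearEquiv.comp_coe, LinearEquiv.self_trans_symm]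
    exact LinearMap.toMatrix'_id

open Matrix in
theorem mat_mulVec {g : Equiv.Perm (I → F)} {c : F} (h : IsSS Q (RingEquiv.refl F) c g) (v : I → F) :
    (mat h : Matrix I I F) *ᵥ v = g v :=
  LinearMap.toMatrix'_mulVec _ v

theorem isSS_congr {g : Equiv.Perm (I → F)} {σ τ : F ≃+* F} {l k : F} (h : IsSS Q σ l g)
    (hσ : σ = τ) (hl : l = k) : IsSS Q τ k g := by
  subst hσ; subst hl; exact h

theorem exists_scal (hG : Good Q) {M : Gam Q} (h : Psi Q M = 1) : ∃ a : Fˣ, ∀ v, M.1 v = (a : F) • v := by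
  have h1 : M ∈ (Psi Q).ker := h
  rw [ker_Psi hG] at h1
  obtain ⟨a, rfl⟩ := h1
  exact ⟨a, fun v => scal_apply a v⟩

open Matrix in
/-- Similarities only. -/
theorem card_linear (hG : Good Q) (h2 : (2 : F) ≠ 0) (hI : 1 ≤ Fintype.card I)
    (A : Subgroup (MulAut (↥(E Q) ⧸ Subgroup.center ↥(E Q)))) (hA : ∀ x ∈ A, x * x = 1)
    (h : ∀ x ∈ A, ∃ (M : Gam Q) (c : F), IsSS Q (RingEquiv.refl F) c M.1 ∧ Psi Q M = x) :
    Nat.card A ≤ 2 ^ rk (Fintype.card I) := by
  choose g l hg hx using fun a : A => h a.1 a.2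
  refine card_le_matrix h2 (ι := I) rfl hI
    (fun a => mat (hg a)) ?_ (fun a => Subtype.ext (hA a.1 a.2)) ?_
  · intro a b
    have h1 : Psi Q ((g (a * b))⁻¹ * (g a * g b)) = 1 := by
      rw [map_mul, map_inv, map_mul, hx, hx, hx]
      exact inv_mul_cancel _
    obtain ⟨c, hc⟩ := exists_scal hG h1
    refine ⟨c, ?_⟩
    apply Matrix.mulVec_injective
    funext v
    rw [← Matrix.mulVec_mulVec, mat_mulVec, mat_mulVec, Matrix.smul_mulVec, mat_mulVec]
    have h3 : (g a).1 ((g b).1 v) = (g (a * b)).1 (((g (a * b))⁻¹ * (g a * g b)).1 v) := by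
      show _ = (g (a * b)).1 (((g (a * b)).1)⁻¹ ((g a).1 ((g b).1 v)))
      rw [Cfsg.Agent.ClassicalGeometry.OrthSemi.apply_inv]
    rw [h3, hc, (hg (a * b)).smul]
    rfl
  · rintro a ⟨c, hc⟩
    apply Subtype.ext
    rw [← hx a]
    have h3 : ∀ v : I → F, (g a).1 v = c • v := by
      intro v
      rw [← mat_mulVec (hg a), hc, Matrix.smul_mulVec, Matrix.one_mulVec]
    show Psi Q (g a) = 1
    obtain ⟨i⟩ : Nonempty I := Fintype.card_pos_iff.1 hI
    have hc0 : c ≠ 0 := by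
      rintro rfl
      have h4 : (g a).1 (Pi.single i 1) = (g a).1 0 := by rw [h3, h3, zero_smul, zero_smul]
      have h5 := congrFun ((g a).1.injective h4) i
      rw [Pi.single_eq_same] at h5
      exact one_ne_zero h5
    have h6 : g a ∈ (Psi Q).ker := by
      rw [ker_Psi hG]
      refine ⟨Units.mk0 c hc0, Subtype.ext ?_⟩
      ext1 v
      rw [scal_apply, h3]
      rfl
    exact h6

/-- the square of the field automorphism -/
theorem field_sq (hG : Good Q) (hI : 1 ≤ Fintype.card I) {M : Gam Q} {σ : F ≃+* F} {l : F}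
    (h : IsSS Q σ l M.1) (hg : Psi Q M * Psi Q M = 1) : σ * σ = 1 := by
  rw [← map_mul] at hg
  obtain ⟨a, ha⟩ := exists_scal hG hg
  have h1 := h.mul h
  obtain ⟨i⟩ : Nonempty I := Fintype.card_pos_iff.1 hI
  ext t
  have h3 := h1.smul t (Pi.single i 1)
  have h4 : ∀ v, (M.1 * M.1) v = (a : F) • v := ha
  rw [h4, h4] at h3
  have h5 := congrFun h3 i
  simp only [Pi.smul_apply, Pi.single_eq_same, smul_eq_mul, mul_one] at h5
  have h6 : (a : F) ≠ 0 := a.ne_zero
  have h7 : t = (σ.trans σ) t := mul_left_cancel₀ h6 (by rw [h5, mul_comm])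
  exact h7.symm

/-- **An elementary abelian 2-group of semisimilarities modulo scalars.** -/
theorem card_range (hG : Good Q) (h2 : (2 : F) ≠ 0) (hI : 1 ≤ Fintype.card I)
    (A : Subgroup (MulAut (↥(E Q) ⧸ Subgroup.center ↥(E Q)))) (hA : ∀ x ∈ A, x * x = 1)
    (hr : ∀ x ∈ A, x ∈ (Psi Q).range) : Nat.card A ≤ 2 ^ (rk (Fintype.card I) + 1) := by
  have hex : ∀ x ∈ A, ∃ (g : Gam Q) (σ : F ≃+* F) (l : F), IsSS Q σ l g.1 ∧ Psi Q g = x := by
    intro x hx
    obtain ⟨g, hg⟩ := hr x hx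
    obtain ⟨σ, l, h⟩ := g.2
    exact ⟨g, σ, l, h, hg⟩
  let P : Subgroup (MulAut (↥(E Q) ⧸ Subgroup.center ↥(E Q))) :=
    { carrier := {x | ∃ (g : Gam Q) (l : F), IsSS Q (RingEquiv.refl F) l g.1 ∧ Psi Q g = x}
      mul_mem' := by
        rintro _ _ ⟨g, l, h, rfl⟩ ⟨g', l', h', rfl⟩
        exact ⟨g * g', _, h.mul h', map_mul _ _ _⟩
      one_mem' := by
        refine ⟨1, 1, ⟨one_ne_zero, fun _ _ => rfl, fun _ _ => rfl, fun _ => ?_⟩, map_one _⟩
        rw [one_mul]; rfl
      inv_mem' := by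
        rintro _ ⟨g, l, h, rfl⟩
        exact ⟨g⁻¹, _, h.inv, map_inv _ _⟩ }
  have h1 : Nat.card A ≤ 2 * Nat.card (A ⊓ P : Subgroup _) := by
    apply card_le_two_mul
    intro x hx hxn y hy hyn
    obtain ⟨g, σ, l, h, rfl⟩ := hex x hx
    obtain ⟨g', σ', l', h', rfl⟩ := hex y hy
    have hσ : σ * σ = 1 := field_sq hG hI h (hA _ hx)
    have hσ' : σ' * σ' = 1 := field_sq hG hI h' (hA _ hy)
    have hσ1 : σ ≠ 1 := by
      rintro rfl
      exact hxn ⟨hx, g, l, h, rfl⟩
    have hσ1' : σ' ≠ 1 := by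
      rintro rfl
      exact hyn ⟨hy, g', l', h', rfl⟩
    have hσσ := field_inv_unique hσ hσ' hσ1 hσ1'
    refine ⟨mul_mem hx hy, g * g', _, isSS_congr (h.mul h') ?_ rfl, map_mul _ _ _⟩
    rw [← hσσ]
    exact hσ
  have h3 := card_linear hG h2 hI (A ⊓ P) (fun x hx => hA x hx.1) (by
    rintro x ⟨-, g, l, h, hx⟩
    exact ⟨g, l, h, hx⟩)
  rw [pow_succ]
  omega

/-- `RK` if all automorphisms come from semisimilarities. -/
theorem rk_of_surjective (hG : Good Q) (h2 : (2 : F) ≠ 0) (hI : 1 ≤ Fintype.card I)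
    (hs : Function.Surjective (Psi Q)) :
    RK (↥(E Q) ⧸ Subgroup.center ↥(E Q)) (rk (Fintype.card I) + 1) :=
  RK.of_mul_self fun A hA => card_range hG h2 hI A hA fun x _ => hs x

/-- `RK` if the semisimilarities have odd index. -/
theorem rk_of_odd (hG : Good Q) (h2 : (2 : F) ≠ 0) (hI : 1 ≤ Fintype.card I)
    (hs : ¬ 2 ∣ (Psi Q).range.index) :
    RK (↥(E Q) ⧸ Subgroup.center ↥(E Q)) (rk (Fintype.card I) + 1) := by
  have : Fact (Nat.Prime 2) := ⟨Nat.prime_two⟩
  refine RK.of_mul_self fun A hA => ?_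
  have hp : IsPGroup 2 A := fun a => ⟨1, Subtype.ext (by
    rw [pow_one, pow_two]
    exact hA a a.2)⟩
  obtain ⟨S, hS⟩ := hp.exists_le_sylow
  let T : Sylow 2 (Psi Q).range := default
  obtain ⟨R, hR⟩ := (T.isPGroup'.map (Psi Q).range.subtype).exists_le_sylow
  have hRle : (R : Subgroup (MulAut (↥(E Q) ⧸ Subgroup.center ↥(E Q)))) ≤ (Psi Q).range := by
    have h1 : Nat.card (T.1.map (Psi Q).range.subtype : Subgroup _) = Nat.card T :=
      Nat.card_congr (T.1.equivMapOfInjective (Psi Q).range.subtype (Subgroup.subtype_injective _)).toEquiv.symm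
    have h3 : Nat.card T = 2 ^ (Nat.card (Psi Q).range).factorization 2 := T.card_eq_multiplicity
    have h4 : Nat.card R = 2 ^ (Nat.card (MulAut (↥(E Q) ⧸ Subgroup.center ↥(E Q)))).factorization 2 :=
      R.card_eq_multiplicity
    have h5 : (Nat.card (MulAut (↥(E Q) ⧸ Subgroup.center ↥(E Q)))).factorization 2 =
        (Nat.card (Psi Q).range).factorization 2 := by
      rw [← Subgroup.card_mul_index (Psi Q).range, Nat.factorization_mul Nat.card_pos.ne'
        Subgroup.FiniteIndex.index_ne_zero, Finsupp.add_apply,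
        Nat.factorization_eq_zero_of_not_dvd hs, add_zero]
    have h6 : (T.1.map (Psi Q).range.subtype : Subgroup _) = R := by
      apply Subgroup.eq_of_le_of_card_ge hR
      rw [h1, h3, h4, h5]
    rw [← h6]
    exact Subgroup.map_subtype_le _
  obtain ⟨g, hg⟩ := MulAction.exists_smul_eq (MulAut (↥(E Q) ⧸ Subgroup.center ↥(E Q))) S R
  set A' := A.map (MulAut.conj g).toMonoidHom with hA'
  have h7 : A' ≤ (R : Subgroup _) := by
    rw [← hg]
    rintro _ ⟨a, ha, rfl⟩
    exact ⟨a, hS ha, rfl⟩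
  have h8 : Nat.card A' = Nat.card A :=
    Nat.card_congr (A.equivMapOfInjective (MulAut.conj g).toMonoidHom (MulAut.conj g).injective).toEquiv.symm
  rw [← h8]
  refine card_range hG h2 hI A' ?_ fun x hx => hRle (h7 hx)
  rintro _ ⟨a, ha, rfl⟩
  rw [← map_mul, hA a ha, map_one]

/-! ### The three families -/

section families

variable {F : Type*} [Field F] [Finite F]

omit [Field F] [Finite F] in
theorem rk_sub {n : ℕ} (hn : 5 ≤ n) : rk n + 1 = n := by
  rw [rk, if_neg (by omega)]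
  omega

/-- `PΩ_{2m+1}(q)`: `RK (2m + 1)`. -/
theorem odd {m : ℕ} (hm : 3 ≤ m) (h2 : (2 : F) ≠ 0) : RK (Cfsg.POmega F (Cfsg.quadFormOdd m F)) (2 * m + 1) := by
  have := Fintype.ofFinite F
  have hG := good_odd (F := F) (m := m) (by omega) h2
  have h1 := rk_of_surjective hG h2 (by simp) (Cfsg.Agent.AutOrth.Final.surjective_odd hm h2)
  have h3 := RK.equiv (pomegaEquiv hG) h1
  rw [coe_oddForm] at h3
  refine h3.mono ?_
  simp only [Fintype.card_sum, Fintype.card_fin, Fintype.card_unit]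
  rw [rk_sub (by omega)]
  omega

/-- `PΩ⁻_{2m}(q)`: `RK (2m)`. -/
theorem minus {m : ℕ} (hm : 4 ≤ m) (h2 : (2 : F) ≠ 0) (a b : F)
    (hab : ∀ z₁ z₂ : F, z₁ ^ 2 + a * z₁ * z₂ + b * z₂ ^ 2 = 0 → z₁ = 0 ∧ z₂ = 0) :
    RK (Cfsg.POmega F (Cfsg.quadFormMinus (m - 1) F a b)) (2 * m) := by
  have := Fintype.ofFinite F
  have hG := good_minus (F := F) (m := m - 1) (by omega) a b hab
  have h1 := rk_of_surjective hG h2 (by simp) (Cfsg.Agent.AutOrth.Final.surjective_minus (by omega) hab)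
  have h3 := RK.equiv (pomegaEquiv hG) h1
  rw [coe_minusForm] at h3
  refine h3.mono ?_
  simp only [Fintype.card_sum, Fintype.card_fin]
  rw [rk_sub (by omega)]
  omega

/-- `PΩ⁺_{2m}(q)`: `RK (2m)`. -/
theorem plus {m : ℕ} (hm : 4 ≤ m) (h2 : (2 : F) ≠ 0) : RK (Cfsg.POmega F (Cfsg.quadFormPlus m F)) (2 * m) := by
  have := Fintype.ofFinite F
  have hG := good_plus (F := F) (m := m) (by omega)
  have h1 : RK (↥(E (plusForm m F)) ⧸ Subgroup.center ↥(E (plusForm m F)))
      (rk (Fintype.card (Fin m ⊕ Fin m)) + 1) := by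
    have hI : 1 ≤ Fintype.card (Fin m ⊕ Fin m) := by
      rw [Fintype.card_sum, Fintype.card_fin]
      omega
    rcases Nat.eq_or_lt_of_le hm with h | h
    · subst h
      refine rk_of_odd hG h2 hI ?_
      rw [Cfsg.Agent.AutOrth.Final.index_plus_four]
      norm_num
    · exact rk_of_surjective hG h2 hI (Cfsg.Agent.AutOrth.Final.surjective_plus h)
  have h3 := RK.equiv (pomegaEquiv hG) h1
  rw [coe_plusForm] at h3
  refine h3.mono ?_
  simp only [Fintype.card_sum, Fintype.card_fin]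
  rw [rk_sub (by omega)]
  omega

end families

end Cfsg.Agent.Omega.TwoF.RkPOm
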