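import Cfsg.Agent.Omega.TwoF.RkPSL
import Cfsg.Agent.Omega.TwoF.Rk
import Cfsg.Agent.Schreier.PSU
import Cfsg.Agent.ClassicalGeometry.PSUAutMain

/-!
# Elementary abelian `2`-subgroups of `Aut (PSU_n(q))`, `q` odd
-/

set_option autoImplicit false
set_option linter.unusedSectionVars false

universe u

namespace Cfsg.Agent.Omega.TwoF.RkPSU

open Cfsg Matrix Cfsg.Agent.Omega.TwoF.RkLin Cfsg.Agent.Omega.TwoF.RkPSL
open Cfsg.Agent.LieClassical.HermBasic Cfsg.Agent.LieClassical.HermSiegel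
open Cfsg.Agent.ClassicalGeometry.PSUAutCount (gm toAut gm_mul gm_one gm_mul_inv gm_inv_mul eq_of_toAut_eq)
open Cfsg.Agent.ClassicalGeometry.UnitAutBasic (pr pr_surjective)
open Cfsg.Agent.Schreier.PSU (f₁ f₂ toAut_eq mapGU conj_field)

variable {F : Type*} [Field F] [Fintype F] {q n : ℕ}

theorem finite_PSU : Finite (PSU n F q) := Finite.of_surjective _ (pr_surjective (n := n) (F := F) (q := q))

theorem toAut_one_field (ρ : F ≃+* F) : (toAut 1 ρ : MulAut (PSU n F q)) = f₂ ρ := by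
  rw [toAut_eq, map_one, one_mul]

theorem toAut_one (A : GU n F q) : (toAut A 1 : MulAut (PSU n F q)) = f₁ A := by
  rw [toAut_eq, map_one, mul_one]

theorem toAut_mul (A B : GU n F q) (ρ σ : F ≃+* F) :
    (toAut A ρ * toAut B σ : MulAut (PSU n F q)) = toAut (A * mapGU ρ B) (ρ * σ) := by
  rw [toAut_eq, toAut_eq, toAut_eq, map_mul, map_mul, ← conj_field]
  group

/-- Linear automorphisms only. -/
theorem card_linear (hF : Fintype.card F = q ^ 2) (h2 : (2 : F) ≠ 0) (hn : 3 ≤ n)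
    (A : Subgroup (MulAut (PSU n F q))) (hA : ∀ x ∈ A, x * x = 1)
    (h : ∀ x ∈ A, ∃ C : GU n F q, x = toAut C 1) : Nat.card A ≤ 2 ^ rk n := by
  haveI := finite_PSU (F := F) (q := q) (n := n)
  haveI : Finite (MulAut (PSU n F q)) := finite_mulAut _
  choose φ hφ using fun a : A => h a.1 a.2
  refine card_le_matrix h2 (Fintype.card_fin n) (by omega) (fun a => (φ a : GL (Fin n) F)) ?_
    (fun a => Subtype.ext (hA a.1 a.2)) ?_
  · intro a b
    have h1 : (toAut (φ (a * b)) 1 : MulAut (PSU n F q)) = toAut (φ a * φ b) 1 := by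
      rw [← hφ, toAut_one, map_mul, ← toAut_one, ← toAut_one, ← hφ, ← hφ]
      rfl
    obtain ⟨-, c, -, hc⟩ := eq_of_toAut_eq hF hn h1
    exact ⟨c, hc⟩
  · rintro a ⟨c, hc⟩
    apply Subtype.ext
    rw [hφ a]
    have h3 : c * c ^ q = 1 := by
      have h4 := Cfsg.Agent.ClassicalGeometry.PSUAutCount.herm_gm (φ a) (Pi.single ⟨0, by omega⟩ 1)
        (Pi.single ⟨0, by omega⟩ 1)
      have h5 : gm (φ a) = c • (1 : Matrix (Fin n) (Fin n) F) := hc
      rw [h5, Matrix.smul_mulVec, Matrix.one_mulVec, herm_smul_left, herm_smul_right,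
        herm_single_left] at h4
      simpa using h4
    have h6 : (toAut (φ a) 1 : MulAut (PSU n F q)) = toAut 1 1 := by
      rw [toAut_one, toAut_one, map_one]
      ext x
      obtain ⟨g, rfl⟩ := pr_surjective x
      rw [MulAut.one_apply]
      show pr n F q (Cfsg.Agent.ClassicalGeometry.PSUAutCount.semiConj (φ a) 1 g) = pr n F q g
      congr 1
      apply ext_act
      intro v
      rw [Cfsg.Agent.Schreier.PSU.act_semiConj_one']
      have h5 : gm (φ a) = c • (1 : Matrix (Fin n) (Fin n) F) := hc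
      have h7 : gm (φ a)⁻¹ *ᵥ v = c⁻¹ • v := by
        have hc0 : c ≠ 0 := by
          rintro rfl
          rw [zero_mul] at h3
          exact zero_ne_one h3
        have h8 : gm (φ a) *ᵥ (c⁻¹ • v) = v := by
          rw [h5, Matrix.smul_mulVec, Matrix.one_mulVec, smul_smul, mul_inv_cancel₀ hc0, one_smul]
        have h9 : gm (φ a)⁻¹ *ᵥ (gm (φ a) *ᵥ (c⁻¹ • v)) = c⁻¹ • v := by
          rw [mulVec_mulVec, gm_inv_mul, one_mulVec]
        rw [h8] at h9
        exact h9
      have hc0 : c ≠ 0 := by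
        rintro rfl
        rw [zero_mul] at h3
        exact zero_ne_one h3
      rw [h7, h5, Matrix.smul_mulVec, Matrix.one_mulVec, act_smul, smul_smul, mul_inv_cancel₀ hc0,
        one_smul]
    rw [h6, toAut_one, map_one]
    rfl

/-- **`Aut (PSU_n(q))`, `q` odd, `n ≥ 3`.** -/
theorem rkAut (hF : Fintype.card F = q ^ 2) (h2 : (2 : F) ≠ 0) (hn : 3 ≤ n) :
    RkAut (PSU n F q) (rk n + 1) := by
  haveI := finite_PSU (F := F) (q := q) (n := n)
  haveI : Finite (MulAut (PSU n F q)) := finite_mulAut _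
  have h32 : ¬ (n = 3 ∧ q = 2) := by
    rintro ⟨-, rfl⟩
    obtain ⟨p, hp⟩ := CharP.exists F
    obtain ⟨k, hpp, hk⟩ := FiniteField.card F p
    have h1 : p ∣ 2 ^ 2 := by
      rw [← hF, hk]
      exact dvd_pow_self p k.pos.ne'
    have h3 : p = 2 := (Nat.prime_dvd_prime_iff_eq hpp Nat.prime_two).1 (hpp.dvd_of_dvd_pow h1)
    subst h3
    exact h2 (by exact_mod_cast CharP.cast_eq_zero F 2)
  intro A hA
  have hall := Cfsg.Agent.ClassicalGeometry.PSUAutMain.exists_toAut (F := F) (q := q) (n := n) hF hn h32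
  have h1 : Nat.card A ≤ 2 * Nat.card (A ⊓ (f₁ : GU n F q →* MulAut (PSU n F q)).range : Subgroup _) := by
    apply card_le_two_mul
    intro x hx hxn y hy hyn
    obtain ⟨C, σ, hC⟩ := hall x
    obtain ⟨D, τ, hD⟩ := hall y
    have hsq : ∀ (C : GU n F q) (σ : F ≃+* F), toAut C σ * toAut C σ = 1 → σ * σ = 1 := by
      intro C σ h
      rw [toAut_mul] at h
      have h3 : (toAut (C * mapGU σ C) (σ * σ) : MulAut (PSU n F q)) = toAut 1 1 := by
        rw [h, toAut_one, map_one]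
      exact (eq_of_toAut_eq hF hn h3).1.symm
    have hσ : σ * σ = 1 := hsq C σ (by rw [← hC]; exact hA x hx)
    have hτ : τ * τ = 1 := hsq D τ (by rw [← hD]; exact hA y hy)
    have hσ1 : σ ≠ 1 := by
      rintro rfl
      exact hxn ⟨hx, C, by rw [hC, toAut_one]⟩
    have hτ1 : τ ≠ 1 := by
      rintro rfl
      exact hyn ⟨hy, D, by rw [hD, toAut_one]⟩
    have hστ := field_inv_unique hσ hτ hσ1 hτ1
    refine ⟨mul_mem hx hy, C * mapGU σ D, ?_⟩
    rw [hC, hD, toAut_mul, ← hστ, hσ, toAut_one]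
  have h3 := card_linear hF h2 hn (A ⊓ (f₁ : GU n F q →* MulAut (PSU n F q)).range)
    (fun x hx => hA x hx.1) (by
    rintro x ⟨-, C, hC⟩
    exact ⟨C, by rw [← hC, toAut_one]⟩)
  rw [pow_succ]
  omega

end Cfsg.Agent.Omega.TwoF.RkPSU
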