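import Cfsg.Agent.Omega.TwoF.RkPSL
import Cfsg.Agent.Omega.TwoF.Rk
import Cfsg.Agent.ClassicalGeometry.SympGamma
import Cfsg.Agent.ClassicalGeometry.SympAutExists
import Cfsg.Agent.ClassicalGeometry.SympAutRecog

/-!
# Elementary abelian `2`-subgroups of `Aut (PSp_2m(q))`, `q` odd, `m ≥ 2`
-/

set_option autoImplicit false
set_option linter.unusedSectionVars false

namespace Cfsg.Agent.Omega.TwoF.RkPSp

open Cfsg Matrix Cfsg.Agent.Omega.TwoF.RkLin Cfsg.Agent.Omega.TwoF.RkPSL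
open Cfsg.Agent.ClassicalGeometry.SympBasic
open Cfsg.Agent.ClassicalGeometry.SympAutSemi
open Cfsg.Agent.ClassicalGeometry.SympAutExists
open Cfsg.Agent.ClassicalGeometry.SympGamma

universe u

variable {F : Type*} [Field F] [Fintype F] {m : ℕ}

local notation "V" => (Fin m ⊕ Fin m → F)

instance : Finite (PSp m F) := by
  have : Finite (Matrix.symplecticGroup (Fin m) F) := Subtype.finite
  exact Quotient.finite _

instance : Finite (MulAut (PSp m F)) := finite_mulAut _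

/-- the linear map of a similarity -/
def lin {g : Equiv.Perm V} {l : F} (h : IsSemi g (RingEquiv.refl F) l) : V ≃ₗ[F] V :=
  { g with
    map_add' := h.1
    map_smul' := h.2.1 }

/-- the matrix of a similarity -/
noncomputable def mat {g : Equiv.Perm V} {l : F} (h : IsSemi g (RingEquiv.refl F) l) :
    GL (Fin m ⊕ Fin m) F where
  val := LinearMap.toMatrix' (lin h).toLinearMap
  inv := LinearMap.toMatrix' (lin h).symm.toLinearMap
  val_inv := by
    rw [← LinearMap.toMatrix'_comp, LinearEquiv.comp_coe, LinearEquiv.symm_trans_self]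
    exact LinearMap.toMatrix'_id
  inv_val := by
    rw [← LinearMap.toMatrix'_comp, LinearEquiv.comp_coe, LinearEquiv.self_trans_symm]
    exact LinearMap.toMatrix'_id

theorem mat_mulVec {g : Equiv.Perm V} {l : F} (h : IsSemi g (RingEquiv.refl F) l) (v : V) :
    (mat h : Matrix (Fin m ⊕ Fin m) (Fin m ⊕ Fin m) F) *ᵥ v = g v :=
  LinearMap.toMatrix'_mulVec _ v

theorem isSemi_refl_mul {g : Equiv.Perm V} {φ ψ : F ≃+* F} {l k : F} (h : IsSemi g φ l)
    (hφ : φ = ψ) (hl : l = k) : IsSemi g ψ k := by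
  subst hφ; subst hl; exact h

/-- Similarities only. -/
theorem card_linear (h2 : (2 : F) ≠ 0) (hm : 1 ≤ m)
    (A : Subgroup (MulAut (PSp m F))) (hA : ∀ x ∈ A, x * x = 1)
    (h : ∀ x ∈ A, ∃ (g : semiSim m F) (l : F), IsSemi g.1 (RingEquiv.refl F) l ∧ Psi m F g = x) :
    Nat.card A ≤ 2 ^ rk (m + m) := by
  choose g l hg hx using fun a : A => h a.1 a.2
  refine card_le_matrix h2 (ι := Fin m ⊕ Fin m) (by rw [Fintype.card_sum, Fintype.card_fin]) (by omega)
    (fun a => mat (hg a)) ?_ (fun a => Subtype.ext (hA a.1 a.2)) ?_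
  · intro a b
    have h1 : Psi m F ((g (a * b))⁻¹ * (g a * g b)) = 1 := by
      rw [map_mul, map_inv, map_mul, hx, hx, hx]
      exact inv_mul_cancel _
    obtain ⟨c, hc⟩ := exists_scal_of_Psi_eq_one hm _ h1
    refine ⟨c, ?_⟩
    apply Matrix.mulVec_injective
    funext v
    rw [← Matrix.mulVec_mulVec, mat_mulVec, mat_mulVec, Matrix.smul_mulVec, mat_mulVec]
    have h3 : (g a).1 ((g b).1 v) = (g (a * b)).1 (((g (a * b))⁻¹ * (g a * g b)).1 v) := by
      show _ = (g (a * b)).1 (((g (a * b)).1)⁻¹ ((g a).1 ((g b).1 v)))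
      rw [perm_apply_inv_self]
    rw [h3, hc, scal_apply, (hg (a * b)).2.1]
    rfl
  · rintro a ⟨c, hc⟩
    apply Subtype.ext
    rw [← hx a]
    have h3 : ∀ v : V, (g a).1 v = c • v := by
      intro v
      rw [← mat_mulVec (hg a), hc, Matrix.smul_mulVec, Matrix.one_mulVec]
    show Psi m F (g a) = 1
    ext1 x
    obtain ⟨y, rfl⟩ := QuotientGroup.mk_surjective x
    rw [Psi_mk, MulAut.one_apply]
    congr 1
    apply rho_injective
    rw [rho_conjHom]
    ext1 v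
    rw [Equiv.Perm.mul_apply, Equiv.Perm.mul_apply, h3, rho_apply, ← Matrix.mulVec_smul, ← h3,
      perm_apply_inv_self, rho_apply]

/-- the square of the field automorphism -/
theorem field_sq (hm : 1 ≤ m) {g : semiSim m F} {σ : F ≃+* F} {l : F} (h : IsSemi g.1 σ l)
    (hg : Psi m F g * Psi m F g = 1) : σ * σ = 1 := by
  rw [← map_mul] at hg
  obtain ⟨c, hc⟩ := exists_scal_of_Psi_eq_one hm _ hg
  have h1 := (h.mul h)
  have h3 : (g * g).1 = scal m F c := hc
  have h4 : g.1 * g.1 = scal m F c := hc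
  rw [h4] at h1
  exact (IsSemi.unique hm h1 (isSemi_scal c)).1

/-- **`Aut (PSp_2m(q))`, `q` odd, `m ≥ 2`.** -/
theorem rkAut (h2 : (2 : F) ≠ 0) (hm : 2 ≤ m) : RkAut (PSp m F) (rk (m + m) + 1) := by
  intro A hA
  have hex : ∀ x : MulAut (PSp m F), ∃ (g : semiSim m F) (σ : F ≃+* F) (l : F), l ≠ 0 ∧ IsSemi g.1 σ l ∧
      Psi m F g = x := by
    intro x
    obtain ⟨g, hg⟩ := exists_semi hm x (Cfsg.Agent.ClassicalGeometry.SympAutRecog.recog_odd hm h2 x)
    obtain ⟨σ, l, hl, h⟩ := g.2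
    exact ⟨g, σ, l, hl, h, hg⟩
  let P : Subgroup (MulAut (PSp m F)) :=
    { carrier := {x | ∃ (g : semiSim m F) (l : F), l ≠ 0 ∧ IsSemi g.1 (RingEquiv.refl F) l ∧ Psi m F g = x}
      mul_mem' := by
        rintro _ _ ⟨g, l, hl, h, rfl⟩ ⟨g', l', hl', h', rfl⟩
        refine ⟨g * g', l * l', mul_ne_zero hl hl', ?_, map_mul _ _ _⟩
        exact h.mul h'
      one_mem' := ⟨1, 1, one_ne_zero, ⟨fun _ _ => rfl, fun _ _ => rfl, fun _ _ => by
        rw [one_mul]; rfl⟩, map_one _⟩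
      inv_mem' := by
        rintro _ ⟨g, l, hl, h, rfl⟩
        exact ⟨g⁻¹, _, inv_ne_zero hl, h.inv hl, map_inv _ _⟩ }
  have h1 : Nat.card A ≤ 2 * Nat.card (A ⊓ P : Subgroup _) := by
    apply card_le_two_mul
    intro x hx hxn y hy hyn
    obtain ⟨g, σ, l, hl, h, rfl⟩ := hex x
    obtain ⟨g', σ', l', hl', h', rfl⟩ := hex y
    have hσ : σ * σ = 1 := field_sq (by omega) h (hA _ hx)
    have hσ' : σ' * σ' = 1 := field_sq (by omega) h' (hA _ hy)
    have hσ1 : σ ≠ 1 := by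
      rintro rfl
      exact hxn ⟨hx, g, l, hl, h, rfl⟩
    have hσ1' : σ' ≠ 1 := by
      rintro rfl
      exact hyn ⟨hy, g', l', hl', h', rfl⟩
    have hσσ := field_inv_unique hσ hσ' hσ1 hσ1'
    refine ⟨mul_mem hx hy, g * g', l * σ l', mul_ne_zero hl (by simpa using hl'), ?_, map_mul _ _ _⟩
    refine isSemi_refl_mul (h.mul h') ?_ rfl
    rw [← hσσ]
    exact hσ
  have h3 := card_linear h2 (by omega) (A ⊓ P) (fun x hx => hA x hx.1) (by
    rintro x ⟨-, g, l, -, h, hx⟩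
    exact ⟨g, l, h, hx⟩)
  rw [pow_succ]
  omega

/-- **`Aut (PSp_2m(q))`, `q` odd and not a square, `m ≥ 2`.** -/
theorem rkAut_odd (h2 : (2 : F) ≠ 0) (hm : 2 ≤ m) (hF : ∀ σ : F ≃+* F, σ * σ = 1 → σ = 1) :
    RkAut (PSp m F) (rk (m + m)) := by
  intro A hA
  apply card_linear h2 (by omega) A hA
  intro x hx
  obtain ⟨g, hg⟩ := exists_semi hm x (Cfsg.Agent.ClassicalGeometry.SympAutRecog.recog_odd hm h2 x)
  obtain ⟨σ, l, hl, h⟩ := g.2
  have hσ : σ * σ = 1 := field_sq (by omega) h (by rw [hg]; exact hA x hx)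
  obtain rfl := hF σ hσ
  exact ⟨g, l, h, hg⟩

end Cfsg.Agent.Omega.TwoF.RkPSp
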