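import Cfsg.Agent.Omega.TwoF.RowFiLB

/-!
# TABLE 2F: `LB B 54` for the Baby Monster (helper416, with helper871's configuration)
-/

set_option autoImplicit false
set_option maxRecDepth 10000

universe v w

namespace Cfsg.Agent.Omega.TwoF.RowBLB

open Subgroup Cfsg.Spor Cfsg.Agent.Omega.Quasithin.Row.Cox
open Cfsg.Agent.Fischer.Derived (M8 lab ev spider ev_cons ev_nil)
open Cfsg.Agent.Omega.Lie.Heis (LB)

/-- **`LB B 54`.** -/
theorem lb [hs : IsSimpleGroup BabyMonster] (hcard : ¬ ∀ a b : BabyMonster, a * b = b * a) :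
    LB.{0, v, w} BabyMonster 54 := by
  refine RowFiLB.lb nodes_BabyMonster ![.t3, .t4, .t5, .t6, .t7, .t8, .t9, .t10] (by decide) ?_ .t2 (by decide)
    (by decide)
    (ne_of_walk nodes_BabyMonster hcard _ _
      [(.t3, .t2, .t1), (.t2, .t3, .t4), (.t2, .t4, .t5), (.t2, .t5, .t6), (.t2, .t5, .t9), (.t2, .t6, .t7), (.t2, .t9, .t10),
        (.t2, .t7, .t8), (.t2, .t10, .t11)]
      (fun x => by cases x <;> decide))
  have h : (BabyMonster.t5 * BabyMonster.t4 * BabyMonster.t3 * BabyMonster.t5 * BabyMonster.t6 * BabyMonster.t7 *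
      BabyMonster.t5 * BabyMonster.t9 * BabyMonster.t10) ^ 10 ∈
      coxRelators BabyMonster.edges ∪ {r | r ∈ BabyMonster.extra} := by
    right
    show _ ∈ BabyMonster.extra
    unfold BabyMonster.extra
    simp
  have h1 := PresentedGroup.one_of_mem h
  simp only [map_mul, map_pow] at h1
  rw [← h1]
  congr 1

end Cfsg.Agent.Omega.TwoF.RowBLB
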