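import Cfsg.Agent.Omega.TwoF.RowCo1LB
import Cfsg.Agent.Omega.TwoF.Co1Rat
import Cfsg.Agent.Omega.TwoF.RowTool
import Cfsg.Agent.Omega.KFacts
import Cfsg.Agent.ConwayFacts.AutCo1
import Cfsg.Agent.S0397

/-!
# TABLE 2F: the row Co1 (helper416; LB 24 by helper190)

`m_2(Aut Co1) = m_2(Co1) ≤ 11`, `|V| ≥ 2 ^ 24`: the row is tight.
-/

set_option autoImplicit false

namespace Cfsg.Agent.Omega.TwoF.RowCo1

open Subgroup Cfsg
open Cfsg.Spor (Co1 IsoCo1)

universe u v

theorem isCo1 : IsCo1 Co1 := Cfsg.Agent.S0399.result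

theorem card_eq : Nat.card Co1 = 4157776806543360000 := isCo1.2

theorem finite : Finite Co1 := Nat.finite_of_card_ne_zero (by rw [card_eq]; norm_num)

theorem finite_Co0 : Finite Co0 := Nat.finite_of_card_ne_zero (by rw [Cfsg.Agent.S0397.result]; norm_num)

theorem center_eq_of {K : Type*} [Group K] [Finite K] (hs : IsSimpleGroup K) (hp : ¬ (Nat.card K).Prime) : center K = ⊥ := by
  rcases (inferInstance : (center K).Normal).eq_bot_or_eq_top with h | h
  · exact h
  · exfalso
    have hcomm : ∀ a b : K, a * b = b * a := fun a b => by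
      have h1 : b ∈ center K := h ▸ mem_top b
      exact mem_center_iff.1 h1 a
    let _ : CommGroup K := { (inferInstance : Group K) with mul_comm := hcomm }
    exact hp IsSimpleGroup.prime_card

theorem center_eq : center Co1 = ⊥ := by
  have := finite
  exact center_eq_of isCo1.1 (by rw [card_eq]; norm_num)

theorem range_eq : (MulAut.conj : Co1 →* MulAut Co1).range = ⊤ := by
  rw [eq_top_iff]
  intro α _
  obtain ⟨s, hs⟩ := Cfsg.Agent.ConwayFacts.AutCo1.inner α
  exact ⟨s, MulEquiv.ext fun g => by rw [MulAut.conj_apply, hs]⟩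

/-- **RK**: `m_2(Aut Co1) ≤ 11`. -/
theorem rk : Rk.RK.{u} Co1 11 := by
  have := finite
  have := finite_Co0
  have : Fact (Nat.Prime 2) := ⟨Nat.prime_two⟩
  obtain ⟨S⟩ : Nonempty (Sylow 2 Co1) := inferInstance
  refine Rk.rk_of_subgroup (e := (Nat.card Co1).factorization 2) (m := 11) ?_ (S : Subgroup Co1)
    S.card_eq_multiplicity (fun B _ hBe => Co1Rat.card_le B hBe) (by omega)
  rw [Rk.card_mulAut (n := 1) center_eq (by rw [range_eq, index_top]), one_mul]

/-- **Row Co1 of TABLE 2F.** -/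
theorem row (K : Type u) [Group K] (h : IsoCo1 K) : KFacts.Tight K 24 11 where
  lb := Or.inr (RowTool.toLB (RowCo1LB.lb_of_iso h)).lbs
  rk := by
    obtain ⟨e⟩ := h
    have := finite
    have : Finite K := Finite.of_equiv Co1 e.symm.toEquiv
    have hs : IsSimpleGroup K := by
      have := isCo1.1
      exact e.isSimpleGroup
    refine RowTool.toRK (center_eq_of hs ?_) (rk.of_equiv e.symm)
    rw [Nat.card_congr e.toEquiv, card_eq]
    norm_num
  eq := rfl

end Cfsg.Agent.Omega.TwoF.RowCo1
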