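import Cfsg.Agent.Omega.TwoF.RowFiLB
import Cfsg.Agent.Omega.TwoF.RowTool
import Cfsg.Prelude.Def_Sporadic

/-!
# TABLE 2F: the rows `Fi22`, `Fi23`, `Fi24'` from orders, simplicity and a crude rank bound

`kill22`, `kill23`, `kill24`: the statements of the rows from `IsFi22 Fi22`, … and `RK K a` with `2 * a + 2 < 54`.
-/

set_option autoImplicit false

universe u

namespace Cfsg.Agent.Omega.TwoF.RowFiEnd

open Subgroup Cfsg.Spor Cfsg.Agent.Omega.Quasithin.Row.Cox
open Cfsg.Agent.Fischer.Derived (ev spider)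

theorem center_eq {K : Type*} [Group K] [hs : IsSimpleGroup K] (hc : ¬ ∀ a b : K, a * b = b * a) : center K = ⊥ := by
  rcases (inferInstance : (center K).Normal).eq_bot_or_eq_top with h | h
  · exact h
  · exact absurd (fun a b => mem_center_iff.1 (h ▸ mem_top b : b ∈ center K) a) hc

theorem kill {K : Type} [Group K] [Finite K] [hs : IsSimpleGroup K] (hc : ¬ ∀ a b : K, a * b = b * a)
    (h : Lie.Heis.LB.{0, u, u} K 54) {a : ℕ} (hr : Rk.RK.{0} K a) (ha : a ≤ 25) : Kill2.{u} K :=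
  (RowTool.dead (center_eq hc) h hr (by omega)).kill (center_eq hc) inferInstance

theorem kill22 (h : Cfsg.IsFi22 Fi22) {a : ℕ} (hr : Rk.RK.{0} Fi22 a) (ha : a ≤ 25) :
    ∀ (K : Type u) [Group K], IsoFi22 K → Kill2.{u} K := by
  rintro K _ ⟨e⟩
  have := h.1
  have hf : Finite Fi22 := Nat.finite_of_card_ne_zero (by rw [h.2]; norm_num)
  have hc := not_comm h.1 (by rw [h.2]; norm_num)
  exact (kill.{u} hc (RowFiLB.lb_fi22 hc) hr ha).equiv e

theorem kill23 (h : Cfsg.IsFi23 Fi23) {a : ℕ} (hr : Rk.RK.{0} Fi23 a) (ha : a ≤ 25) :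
    ∀ (K : Type u) [Group K], IsoFi23 K → Kill2.{u} K := by
  rintro K _ ⟨e⟩
  have := h.1
  have hf : Finite Fi23 := Nat.finite_of_card_ne_zero (by rw [h.2]; norm_num)
  have hc := not_comm h.1 (by rw [h.2]; norm_num)
  exact (kill.{u} hc (RowFiLB.lb_fi23 hc) hr ha).equiv e

theorem kill24 (h : Cfsg.IsFi24' Fi24') (hsp : ev (fun i => RowFiLB.gx (RowFiLB.nd i)) spider ^ 10 = 1) {a : ℕ}
    (hr : Rk.RK.{0} Fi24' a) (ha : a ≤ 25) : ∀ (K : Type u) [Group K], IsoFi24' K → Kill2.{u} K := by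
  rintro K _ ⟨e⟩
  have := h.1
  have hf : Finite Fi24' := Nat.finite_of_card_ne_zero (by rw [h.2]; norm_num)
  have hc := not_comm h.1 (by rw [h.2]; norm_num)
  exact (kill.{u} hc (RowFiLB.lb_fi24 hsp) hr ha).equiv e

end Cfsg.Agent.Omega.TwoF.RowFiEnd
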