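import Cfsg.Agent.HeldHe.Model
import Cfsg.Agent.Omega.TwoF.SmallSporLB

/-!
# The Held group: `LB He 21` (helper737)

A nonabelian group of order `7 ^ 3` in the presented Held group; all relations are checked on the base of the
representation on 2058 points.
-/

set_option autoImplicit false
set_option Elab.async false

universe u v w

namespace Cfsg.Agent.Omega.TwoF.RowHeLB

open Cfsg.Spor Cfsg.Spor.He Cfsg.Agent.SporadicB.HePerm Cfsg.Agent.HeldHe.Model Cfsg.Agent.Omega.Lie.Heis

/-- two words act equally on the base points -/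
def eqA (p q : List Gen) : Bool :=
  and (and (Nat.beq (act p 0) (act q 0)) (Nat.beq (act p 1) (act q 1)))
    (and (Nat.beq (act p 32) (act q 32)) (Nat.beq (act p 8) (act q 8)))

theorem wd_nil : wd [] = 1 := rfl

theorem wd_append (p q : List Gen) : wd (p ++ q) = wd p * wd q := by
  unfold wd
  rw [List.map_append, List.prod_append]

theorem wd_eq {p q : List Gen} (h : eqA p q = true) : wd p = wd q := by
  unfold eqA at h
  rw [Bool.and_eq_true, Bool.and_eq_true, Bool.and_eq_true] at h
  obtain ⟨⟨h0, h1⟩, h2, h3⟩ := h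
  have key : ∀ i : Fin 2058, Nat.beq (act p i) (act q i) = true → phi (wd p) i = phi (wd q) i := by
    intro i hi
    apply Fin.ext
    rw [phi_wd_apply, phi_wd_apply]
    exact Nat.eq_of_beq_eq_true hi
  have h : (wd q)⁻¹ * wd p = 1 := by
    apply phi_inj
    rw [map_one]
    refine base_trivial _ ⟨(wd q)⁻¹ * wd p, rfl⟩ ?_ ?_ ?_ ?_
    · rw [map_mul, map_inv, Equiv.Perm.mul_apply, key 0 h0, ← Equiv.Perm.mul_apply, inv_mul_cancel,
        Equiv.Perm.one_apply]
    · rw [map_mul, map_inv, Equiv.Perm.mul_apply, key 1 h1, ← Equiv.Perm.mul_apply, inv_mul_cancel,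
        Equiv.Perm.one_apply]
    · rw [map_mul, map_inv, Equiv.Perm.mul_apply, key 32 h2, ← Equiv.Perm.mul_apply, inv_mul_cancel,
        Equiv.Perm.one_apply]
    · rw [map_mul, map_inv, Equiv.Perm.mul_apply, key 8 h3, ← Equiv.Perm.mul_apply, inv_mul_cancel,
        Equiv.Perm.one_apply]
  exact (inv_mul_eq_one.mp h).symm

theorem wd_pow (p : List Gen) (n : ℕ) : wd (powWord p n) = wd p ^ n := powWord_prod _ p n

/-- `z`: the cube of an element of order 21. -/
def wz : List Gen := [.a, .b, .c, .d, .a, .b, .c, .d, .a, .b, .c, .d]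
/-- `x`, of order 7. -/
def wx : List Gen := [.a, .f, .d, .c, .d, .g, .d, .f, .d, .c, .d, .g, .b, .c, .d, .c, .d, .f, .g]
/-- `y`, of order 7. -/
def wy : List Gen := [.c, .b, .f, .d, .c, .b, .a, .d, .c, .e, .f, .d, .g, .c, .d, .b, .c, .d, .g, .e, .c, .a]

theorem z7 : wd wz ^ 7 = 1 := by
  rw [← wd_pow]
  exact wd_eq (q := []) (by decide +kernel)

theorem x7 : wd wx ^ 7 = 1 := by
  rw [← wd_pow]
  exact wd_eq (q := []) (by decide +kernel)

theorem zx : wd wz * wd wx = wd wx * wd wz := by
  rw [← wd_append, ← wd_append]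
  exact wd_eq (by decide +kernel)

theorem zy : wd wz * wd wy = wd wy * wd wz := by
  rw [← wd_append, ← wd_append]
  exact wd_eq (by decide +kernel)

theorem yx : wd wy * wd wx = wd wx * wd wz * wd wy := by
  rw [← wd_append, ← wd_append, ← wd_append]
  exact wd_eq (by decide +kernel)

theorem heis_He : Heis 7 1 (wd wz) (fun _ => wd wx) (fun _ => wd wy) where
  prime := by norm_num
  zr := z7
  xr := fun _ => x7
  zx := fun _ => zx
  zy := fun _ => zy
  xx := fun _ _ => rfl
  yx := fun i j h => absurd (Subsingleton.elim i j) h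
  conj := fun _ => by
    rw [yx, mul_inv_cancel_right]

theorem z_ne : wd wz ≠ 1 := by
  intro h
  have h1 := phi_wd_apply wz 0
  rw [h, map_one] at h1
  have h2 : Nat.beq 0 (act wz 0) = false := by decide +kernel
  have h3 : (0 : ℕ) = act wz 0 := h1
  rw [← h3] at h2
  simp at h2

theorem ord_7 : orderOf (2 : ZMod 7) = 3 := by
  refine orderOf_eq_prime_pow (p := 3) (n := 0) ?_ ?_ <;> decide

theorem ord_17 : orderOf (2 : ZMod 17) = 8 := by
  refine orderOf_eq_prime_pow (p := 2) (n := 2) ?_ ?_ <;> decide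

theorem isHe_He : Cfsg.IsHe Cfsg.Spor.He := by
  obtain ⟨hfin, hle⟩ := Cfsg.Agent.SporadicB.HeUpper.card_he_le
  exact isHe_of_card_le hle

theorem lb0 : Lie.Heis.LB.{0, v, w} Cfsg.Spor.He 21 := by
  have := isHe_He.1
  have : Finite Cfsg.Spor.He := finite_of_card isHe_He.2 (by norm_num)
  refine LB.heis (p := 17) heis_He (by norm_num) z_ne (by norm_num) (by norm_num) ?_ ?_ ?_
  · rw [isHe_He.2]; norm_num
  · rw [ord_7]; norm_num
  · rw [ord_7, ord_17]; decide

/-- `He`: every nontrivial action of an odd perfect cover on a finite abelian `2`-group has degree at least `21`. -/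
theorem lb_He {K : Type u} [Group K] (h : Spor.IsoHe K) : Lie.Heis.LB.{u, v, w} K 21 := by
  obtain ⟨e⟩ := h
  exact lb0.congr e.symm

end Cfsg.Agent.Omega.TwoF.RowHeLB
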