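import Cfsg.Agent.KFacts.MM.OutEnd
import Cfsg.Agent.Omega.TwoF.Defs

/-!
# TABLE 2F, row `M22`: the rank column

`rk_M22` : elementary abelian 2-groups of automorphisms of `M22` have order at most `2^5`.
-/

set_option autoImplicit false

namespace Cfsg.Agent.Omega.TwoF.RowM22

open Subgroup Cfsg Cfsg.Agent.OddHalf.MM

/-- A 2-subgroup `S` of `X` which is not contained in a larger one, and all of whose elementary abelian subgroups of
order at least `m` have order `m`: every elementary abelian 2-subgroup of `X` has order at most `m`. -/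
theorem card_le {X : Type*} [Group X] [Finite X] {S : Subgroup X} (h2 : IsPGroup 2 S)
    (hmax : ∀ Q : Subgroup X, IsPGroup 2 Q → S ≤ Q → Q = S) {m : ℕ}
    (hm : ∀ E : Subgroup X, E ≤ S → (∀ x ∈ E, x * x = 1) → m ≤ Nat.card E → Nat.card E = m)
    {A : Subgroup X} (hA : ∀ x ∈ A, x * x = 1) : Nat.card A ≤ m := by
  have : Fact (Nat.Prime 2) := ⟨Nat.prime_two⟩
  have hAp : IsPGroup 2 A := fun a => ⟨1, Subtype.ext (by rw [pow_one, pow_two]; exact hA a a.2)⟩
  obtain ⟨T, hT⟩ := hAp.exists_le_sylow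
  let S' : Sylow 2 X := ⟨S, h2, fun {Q} hQ hle => hmax Q hQ hle⟩
  obtain ⟨g, hg⟩ := MulAction.exists_smul_eq X T S'
  set A' : Subgroup X := A.map (MulAut.conj g).toMonoidHom with hA'
  have h1 : A' ≤ S := by
    have h3 : ((g • T : Sylow 2 X) : Subgroup X) = S := by rw [hg]
    rw [← h3]
    rintro _ ⟨a, ha, rfl⟩
    exact ⟨a, hT ha, rfl⟩
  have h3 : Nat.card A' = Nat.card A := Subgroup.card_map_of_injective (MulAut.conj g).injective
  by_contra hlt
  push Not at hlt
  have h4 := hm A' h1 (by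
    rintro _ ⟨a, ha, rfl⟩
    rw [← map_mul, hA a ha, map_one]) (by rw [h3]; exact hlt.le)
  omega

/-- **`m_2(Aut M22) ≤ 5`.** -/
theorem rk_M22 {K : Type*} [Group K] (hK : Spor.IsoM22 K) : RK K 5 := by
  obtain ⟨SA, V, W, P, z, h⟩ := KFacts.MM.OutEnd.sheet hK
  have hfin : Finite K := by
    obtain ⟨e⟩ := hK
    exact Finite.of_equiv _ e.symm.toEquiv
  have hfin' : Finite (MulAut K) := by
    exact Finite.of_injective (fun α : MulAut K => (α : K → K)) DFunLike.coe_injective
  intro A hA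
  refine card_le (m := 2 ^ 5) h.two h.max ?_ fun x hx => by rw [← pow_two]; exact hA x hx
  intro E hE hEl hc
  rw [h.el32 E hE hEl (by norm_num at hc; exact hc), h.cardP]
  norm_num

end Cfsg.Agent.Omega.TwoF.RowM22
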