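import Cfsg.Agent.Omega.TwoF.RowTool
import Cfsg.Agent.KFacts.MulSpor.ONWords
import Cfsg.Prelude.Def_Sporadic

/-!
# TABLE 2F: the row O'N (helper416)

`|V| ≥ 2 ^ 18` (the prime 19), `m_2(Aut O'N) ≤ 7` (`|Aut O'N|₂ ≤ 2 ^ 10`, an element of order 16).
-/

set_option autoImplicit false
set_option maxRecDepth 100000

namespace Cfsg.Agent.Omega.TwoF.RowON

open Subgroup
open Cfsg.Spor (ON IsoON)
open Cfsg.Spor.ON (Gen)
open Cfsg.Agent.Lib.PackMat Cfsg.Agent.SporadicB.ON45Data Cfsg.Agent.SporadicB.ON45Rels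
  Cfsg.Agent.SporadicB.ON45Word Cfsg.Agent.SporadicB.ONHom Cfsg.Agent.SporadicB.ON45Core
open Cfsg.Agent.KFacts.MulSpor.ON (w w_append w_one w_cons iw w_iw okw rel eqw)

universe u v

/-- an element of order 16 -/
def g16 : ON := w [.b, .d, .g, .c, .g]

theorem g16_pow (hs : IsSimpleGroup ON) : g16 ^ 8 = on .f := by
  have h1 := eqw hs [.b, .d, .g, .c, .g, .b, .d, .g, .c, .g, .b, .d, .g, .c, .g, .b, .d, .g, .c, .g,
    .b, .d, .g, .c, .g, .b, .d, .g, .c, .g, .b, .d, .g, .c, .g, .b, .d, .g, .c, .g] [.f] (by decide +kernel)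
  rw [w_one] at h1
  rw [← h1, g16]
  simp only [pow_succ, pow_zero, one_mul, ← w_append]
  rfl

theorem f_ne : on .f ≠ 1 :=
  (LW.gen .f).ne_one 0 3 (by decide) (by decide +kernel)

theorem orderOf_g16 (hs : IsSimpleGroup ON) : orderOf g16 = 2 ^ 4 := by
  apply orderOf_eq_prime_pow (n := 3)
  · rw [show 2 ^ 3 = 8 by norm_num, g16_pow hs]
    exact f_ne
  · rw [show 2 ^ (3 + 1) = 8 * 2 by norm_num, pow_mul, g16_pow hs, pow_two]
    have h := rel hs [.f, .f] (by decide +kernel)
    rw [w_cons, w_one] at h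
    exact h

theorem ord19 : orderOf (2 : ZMod 19) = 18 := by
  rw [orderOf_eq_iff (by norm_num)]
  refine ⟨by decide +kernel, ?_⟩
  intro m hm hm0
  interval_cases m <;> decide +kernel

section

variable (hON : Cfsg.IsON ON)

include hON

theorem card_eq : Nat.card ON = 460815505920 := hON.2

theorem finite : Finite ON := Nat.finite_of_card_ne_zero (by rw [hON.2]; norm_num)

theorem center_eq : center ON = ⊥ := not_comm_of_isON hON

theorem factorization_card : (Nat.card ON).factorization 2 ≤ 9 := by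
  rw [hON.2]
  by_contra hcon
  have h1 : 2 ^ 10 ∣ 460815505920 :=
    (Nat.prime_two.pow_dvd_iff_le_factorization (by norm_num)).2 (by omega)
  norm_num at h1

/-- **LB**: `|V| ≥ 2 ^ 18`. -/
theorem lb : Cfsg.Agent.Omega.Lie.Heis.LB.{0, u, v} ON 18 := by
  have := hON.1
  have := finite hON
  have : Fact (Nat.Prime 19) := ⟨by norm_num⟩
  refine Cfsg.Agent.Omega.Lie.Heis.LB.prime (p := 19) (by norm_num) (by norm_num) ?_ ?_
  · rw [hON.2]; norm_num
  · exact ord19.ge

variable (hout : ¬ 4 ∣ (MulAut.conj : ON →* MulAut ON).range.index)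

include hout

/-- **RK**: `m_2(Aut O'N) ≤ 7`. -/
theorem rk : Rk.RK.{u} ON 7 := by
  have := hON.1
  have := finite hON
  exact Rk.rk_of_elt (e := 10) (k := 4)
    (RowTool.factorization_mulAut (center_eq hON) hout (factorization_card hON)) g16 (orderOf_g16 hON.1) (by norm_num)

/-- **Row O'N of TABLE 2F.** -/
theorem dead2 : Dead2.{u} ON := by
  have := finite hON
  exact RowTool.dead (center_eq hON) (lb hON) (rk hON hout) (by norm_num)

end

end Cfsg.Agent.Omega.TwoF.RowON
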