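import Cfsg.Agent.Omega.TwoF.RkPOm
import Cfsg.Agent.Omega.KFacts

/-!
# TABLE 2F: the rows `PΩ_{2m+1}(q)`, `PΩ⁺_{2m}(q)`, `PΩ⁻_{2m}(q)`, `q` odd, from the lower bounds

`RK` is `RkPOm`; the lower bound (helper238: `ord_p(2) q^(n-4)`, `n` the dimension) is an input, consumed in the weak
form `2 · 3^(n-4)`.
-/

set_option autoImplicit false

namespace Cfsg.Agent.Omega.TwoF.RowPOm

open QuadraticMap Cfsg.Agent.LieClassical.OrthCore Cfsg.Agent.LieClassical.OrthTrans Cfsg.Agent.LieClassical.OrthSimple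
  Cfsg.Agent.ClassicalGeometry.OrthSemi Cfsg.Agent.LieClassical.OrthForms
  Cfsg.Agent.ClassicalGeometry.OrthSemiForms

universe u v

theorem center_eq_bot {I : Type} [Fintype I] [DecidableEq I] {F : Type*} [Field F]
    {Q : QuadraticForm F (I → F)} (hG : Good Q) :
    Subgroup.center (↥(E Q) ⧸ Subgroup.center ↥(E Q)) = ⊥ := by
  have hs : IsSimpleGroup (↥(E Q) ⧸ Subgroup.center ↥(E Q)) := good_isSimpleGroup hG
  rcases IsSimpleGroup.eq_bot_or_eq_top_of_normal (Subgroup.center (↥(E Q) ⧸ Subgroup.center ↥(E Q)))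
    inferInstance with h1 | h1
  · exact h1
  · exfalso
    have h2 : commutator (↥(E Q) ⧸ Subgroup.center ↥(E Q)) = ⊥ := by
      rw [eq_bot_iff, commutator_def, Subgroup.commutator_le]
      intro a _ b _
      rw [Subgroup.mem_bot, commutatorElement_eq_one_iff_mul_comm]
      have h3 : b ∈ Subgroup.center (↥(E Q) ⧸ Subgroup.center ↥(E Q)) := by
        rw [h1]
        exact Subgroup.mem_top _
      exact Subgroup.mem_center_iff.1 h3 a
    have h4 : commutator (↥(E Q) ⧸ Subgroup.center ↥(E Q)) = ⊤ := by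
      have h5 := Subgroup.map_commutator (⊤ : Subgroup ↥(E Q)) ⊤ (QuotientGroup.mk' (Subgroup.center ↥(E Q)))
      rw [← MonoidHom.range_eq_map, MonoidHom.range_eq_top.2 (QuotientGroup.mk'_surjective _)] at h5
      rw [commutator_def, ← h5]
      have h6 : ⁅(⊤ : Subgroup ↥(E Q)), ⊤⁆ = ⊤ := commutator_E hG
      rw [h6, ← MonoidHom.range_eq_map, MonoidHom.range_eq_top.2 (QuotientGroup.mk'_surjective _)]
    rw [h2] at h4
    exact bot_ne_top h4

/-- the criterion for `PΩ` -/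
theorem kill_of {I : Type} [Fintype I] [DecidableEq I] {F : Type v} [Field F]
    {Q : QuadraticForm F (I → F)} (hG : Good Q) {n a : ℕ} (hr : RK (Cfsg.POmega F ⇑Q) a)
    (hl : LB.{u, v} (Cfsg.POmega F ⇑Q) n) (h : 2 * a + 2 < n) : Kill2.{u, v} (Cfsg.POmega F ⇑Q) := by
  have hs : IsSimpleGroup (↥(E Q) ⧸ Subgroup.center ↥(E Q)) := good_isSimpleGroup hG
  refine (Dead2.of_lb hl hr h).kill ?_ ?_
  · have e := pomegaEquiv hG
    rw [eq_bot_iff]
    intro x hx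
    have h1 : e x ∈ Subgroup.center (↥(E Q) ⧸ Subgroup.center ↥(E Q)) := by
      rw [Subgroup.mem_center_iff] at hx ⊢
      intro g
      obtain ⟨g, rfl⟩ := e.surjective g
      rw [← map_mul, ← map_mul, hx g]
    rw [center_eq_bot hG, Subgroup.mem_bot] at h1
    exact Subgroup.mem_bot.2 (e.injective (h1.trans (map_one e).symm))
  · exact (pomegaEquiv hG).toEquiv.nontrivial

theorem pow_bound (k : ℕ) : 4 * k + 17 ≤ 2 * 3 ^ (k + 3) := by
  induction k with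
  | zero => norm_num
  | succ k ih =>
    rw [show k + 1 + 3 = (k + 3) + 1 from rfl, pow_succ]
    omega

section

variable {F : Type v} [Field F] [Fintype F]

theorem kill_odd {m : ℕ} (hm : 3 ≤ m) (h2 : (2 : F) ≠ 0)
    (hl : LB.{u, v} (Cfsg.POmega F (Cfsg.quadFormOdd m F)) (2 * 3 ^ (2 * m - 3))) :
    Kill2.{u, v} (Cfsg.POmega F (Cfsg.quadFormOdd m F)) := by
  have hG := good_odd (F := F) (m := m) (by omega) h2
  have hr := RkPOm.odd hm h2
  rw [← coe_oddForm] at hr hl ⊢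
  refine kill_of hG hr hl ?_
  have h3 := pow_bound (2 * m - 6)
  rw [show 2 * m - 6 + 3 = 2 * m - 3 by omega] at h3
  omega

theorem kill_plus {m : ℕ} (hm : 4 ≤ m) (h2 : (2 : F) ≠ 0)
    (hl : LB.{u, v} (Cfsg.POmega F (Cfsg.quadFormPlus m F)) (2 * 3 ^ (2 * m - 4))) :
    Kill2.{u, v} (Cfsg.POmega F (Cfsg.quadFormPlus m F)) := by
  have hG := good_plus (F := F) (m := m) (by omega)
  have hr := RkPOm.plus hm h2
  rw [← coe_plusForm] at hr hl ⊢
  refine kill_of hG hr hl ?_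
  have h3 := pow_bound (2 * m - 7)
  rw [show 2 * m - 7 + 3 = 2 * m - 4 by omega] at h3
  omega

theorem kill_minus {m : ℕ} (hm : 4 ≤ m) (h2 : (2 : F) ≠ 0) (a b : F)
    (hab : ∀ z₁ z₂ : F, z₁ ^ 2 + a * z₁ * z₂ + b * z₂ ^ 2 = 0 → z₁ = 0 ∧ z₂ = 0)
    (hl : LB.{u, v} (Cfsg.POmega F (Cfsg.quadFormMinus (m - 1) F a b)) (2 * 3 ^ (2 * m - 4))) :
    Kill2.{u, v} (Cfsg.POmega F (Cfsg.quadFormMinus (m - 1) F a b)) := by
  have hG := good_minus (F := F) (m := m - 1) (by omega) a b hab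
  have hr := RkPOm.minus hm h2 a b hab
  rw [← coe_minusForm] at hr hl ⊢
  refine kill_of hG hr hl ?_
  have h3 := pow_bound (2 * m - 7)
  rw [show 2 * m - 7 + 3 = 2 * m - 4 by omega] at h3
  omega

end

/-! ### The fields of `KFacts.Rows2`, from the lower bounds -/

/-- input: the lower bound for `PΩ_{2m+1}(q)` -/
def LBOdd : Prop := ∀ (F : Type) [Field F] [Fintype F] (m : ℕ), (2 : F) ≠ 0 → 3 ≤ m →
  LB.{u, 0} (Cfsg.POmega F (Cfsg.quadFormOdd m F)) (2 * 3 ^ (2 * m - 3))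

/-- input: the lower bound for `PΩ⁺_{2m}(q)` -/
def LBPlus : Prop := ∀ (F : Type) [Field F] [Fintype F] (m : ℕ), (2 : F) ≠ 0 → 4 ≤ m →
  LB.{u, 0} (Cfsg.POmega F (Cfsg.quadFormPlus m F)) (2 * 3 ^ (2 * m - 4))

/-- input: the lower bound for `PΩ⁻_{2m}(q)` -/
def LBMinus : Prop := ∀ (F : Type) [Field F] [Fintype F] (m : ℕ) (a b : F), (2 : F) ≠ 0 → 4 ≤ m →
  (∀ z₁ z₂ : F, z₁ ^ 2 + a * z₁ * z₂ + b * z₂ ^ 2 = 0 → z₁ = 0 ∧ z₂ = 0) →
  LB.{u, 0} (Cfsg.POmega F (Cfsg.quadFormMinus (m - 1) F a b)) (2 * 3 ^ (2 * m - 4))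

theorem two_ne_zero_of_char {F : Type*} [Field F] {p : ℕ} [CharP F p] (hp : p.Prime) (hp2 : p ≠ 2) :
    (2 : F) ≠ 0 := by
  intro h
  have h1 : ((2 : ℕ) : F) = 0 := by exact_mod_cast h
  rw [CharP.cast_eq_zero_iff F p] at h1
  exact hp2 ((Nat.prime_dvd_prime_iff_eq hp Nat.prime_two).1 h1)

theorem omOdd (h : LBOdd.{u}) (K : Type u) [Group K] (hK : KFacts.OddChar @Cfsg.IsPOmegaOddChar K) :
    Kill2.{u} K := by
  obtain ⟨p, hp, hp2, F, _, _, _, m, hm, -, ⟨e⟩⟩ := hK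
  have h2 : (2 : F) ≠ 0 := two_ne_zero_of_char hp hp2
  exact (kill_odd.{u, 0} hm h2 (h F m h2 hm)).equiv e

theorem omPlus (h : LBPlus.{u}) (K : Type u) [Group K] (hK : KFacts.OddChar @Cfsg.IsPOmegaPlusChar K) :
    Kill2.{u} K := by
  obtain ⟨p, hp, hp2, F, _, _, _, m, hm, ⟨e⟩⟩ := hK
  have h2 : (2 : F) ≠ 0 := two_ne_zero_of_char hp hp2
  exact (kill_plus.{u, 0} hm h2 (h F m h2 hm)).equiv e

theorem omMinus (h : LBMinus.{u}) (K : Type u) [Group K] (hK : KFacts.OddChar @Cfsg.IsPOmegaMinusChar K) :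
    Kill2.{u} K := by
  obtain ⟨p, hp, hp2, F, _, _, _, m, a, b, hm, hab, ⟨e⟩⟩ := hK
  have h2 : (2 : F) ≠ 0 := two_ne_zero_of_char hp hp2
  exact (kill_minus.{u, 0} hm h2 a b hab (h F m a b h2 hm hab)).equiv e

end Cfsg.Agent.Omega.TwoF.RowPOm
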