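import Cfsg.Agent.Omega.TwoF.LBPsu
import Cfsg.Agent.Omega.TwoF.RkPSU
import Cfsg.Agent.Omega.TwoF.RowPsl

/-!
# TABLE 2F: the rows `PSU_n(q)`, `q` odd: lower bounds
-/

set_option autoImplicit false
set_option linter.unusedSectionVars false

universe u v w

namespace Cfsg.Agent.Omega.TwoF.RowPsu

open Cfsg Matrix Cfsg.Agent.Omega.Lie.Heis Cfsg.Agent.Omega.TwoF.SignLift
open Cfsg.Agent.LieClassical.HermBasic Cfsg.Agent.LieClassical.HermSiegel
open Cfsg.Agent.Omega.TwoF.LBPsu
open Cfsg.Agent.ClassicalGeometry.UnitAutBasic (pr)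

variable {F : Type*} [Field F] [Fintype F] {q k : ℕ}

theorem two_tau (hF : Fintype.card F = q ^ 2) {τ : F} (hτ : τ ^ q = -τ) :
    2 * τ + (2 * τ) ^ q = 0 := by
  rw [mul_pow, two_pow hF, hτ]
  ring

theorem HU_uu (hF : Fintype.card F = q ^ 2) (α : F) {i j : Fin k} (hij : i.succ.succ ≠ j.succ.succ) :
    act (HU hF hij) (uu k α) = uu k α := by
  rw [act_HU]
  have h0 : ∀ i : Fin k, uu k α i.succ.succ = 0 := by
    intro i
    have h1 : i.succ.succ ≠ (0 : Fin (k + 2)) := Fin.succ_ne_zero _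
    have h3 : i.succ.succ ≠ (1 : Fin (k + 2)) := by
      intro h
      have := congrArg Fin.val h
      simp at this
    rw [uu]
    simp only [Pi.add_apply, Pi.smul_apply, Pi.single_eq_of_ne h1, Pi.single_eq_of_ne h3, smul_eq_mul,
      mul_zero, add_zero]
  funext l
  by_cases h1 : l = i.succ.succ
  · rw [if_pos h1, h1, h0, neg_zero]
  · by_cases h2 : l = j.succ.succ
    · rw [if_neg h1, if_pos h2, h2, h0, neg_zero]
    · rw [if_neg h1, if_neg h2]

theorem WU_uu (hF : Fintype.card F = q ^ 2) (α : F) {i j : Fin k} (hij : i.succ.succ ≠ j.succ.succ) :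
    act (WU hF hij) (uu k α) = uu k α := by
  rw [act_WU]
  have h0 : ∀ i : Fin k, uu k α i.succ.succ = 0 := by
    intro i
    have h1 : i.succ.succ ≠ (0 : Fin (k + 2)) := Fin.succ_ne_zero _
    have h3 : i.succ.succ ≠ (1 : Fin (k + 2)) := by
      intro h
      have := congrArg Fin.val h
      simp at this
    rw [uu]
    simp only [Pi.add_apply, Pi.smul_apply, Pi.single_eq_of_ne h1, Pi.single_eq_of_ne h3, smul_eq_mul,
      mul_zero, add_zero]
  funext l
  by_cases h1 : l = i.succ.succ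
  · rw [if_pos h1, h1, h0, h0, neg_zero]
  · by_cases h2 : l = j.succ.succ
    · rw [if_neg h1, if_pos h2, h2, h0, h0]
    · rw [if_neg h1, if_neg h2]

/-- The Heisenberg bound for `PSU_n(q)`, `n ≥ 5`. -/
theorem lb_five (hF : Fintype.card F = q ^ 2) (h2 : (2 : F) ≠ 0) {r : ℕ} (hr : r.Prime) [CharP F r]
    (hr2 : r ≠ 2) (hk : 3 ≤ k) {m : ℕ} (hm : m ≤ orderOf (2 : ZMod r) * r ^ k) :
    LB.{_, v, w} (PSU (k + 2) F q) m := by
  have hs : IsSimpleGroup (PSU (k + 2) F q) := Cfsg.Agent.S0283.result hF (k + 2) (by omega) (by omega)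
  obtain ⟨α, hα⟩ := exists_alpha hF
  obtain ⟨τ, hτ0, hτ⟩ := exists_tau hF
  have H := frame hF hα (fun i : Fin k => i) Function.injective_id
  have hss : ∀ {i j : Fin k}, i ≠ j → i.succ.succ ≠ j.succ.succ := fun hij h =>
    hij (Fin.succ_injective _ (Fin.succ_injective _ h))
  have hneg : ∀ {i j : Fin k} (hij : i ≠ j), act (HU hF (hss hij)) (ww k i) = -(ww k i : Fin (k + 2) → F) := by
    intro i j hij
    rw [act_HU, ww]
    funext l
    by_cases h1 : l = i.succ.succ
    · rw [if_pos h1, h1, Pi.neg_apply]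
    · by_cases h3 : l = j.succ.succ
      · rw [if_neg h1, if_pos h3, Pi.neg_apply, h3]
      · rw [if_neg h1, if_neg h3, Pi.neg_apply, Pi.single_eq_of_ne h1, neg_zero]
  have hfix : ∀ {i j l : Fin k} (hij : i ≠ j) (h1 : l ≠ i) (h3 : l ≠ j),
      act (HU hF (hss hij)) (ww k l) = (ww k l : Fin (k + 2) → F) := by
    intro i j l hij hl hl'
    rw [act_HU, ww]
    funext l'
    by_cases h1 : l' = i.succ.succ
    · rw [if_pos h1, h1, Pi.single_eq_of_ne (hss (Ne.symm hl)), neg_zero]
    · by_cases h3 : l' = j.succ.succ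
      · rw [if_neg h1, if_pos h3, h3, Pi.single_eq_of_ne (hss (Ne.symm hl')), neg_zero]
      · rw [if_neg h1, if_neg h3]
  have hS := signHeis hF h2 H hr hτ (two_tau hF hτ)
    (fun i => by
      obtain ⟨l, hl, -⟩ := Fin.exists_ne_and_ne_of_two_lt i i (by omega)
      exact ⟨HU hF (hss (Ne.symm hl)), HU_uu hF α _, hneg (Ne.symm hl)⟩)
    (fun i j hij => by
      obtain ⟨l, hl, hl'⟩ := Fin.exists_ne_and_ne_of_two_lt i j (by omega)
      exact ⟨HU hF (hss (Ne.symm hl)), HU_uu hF α _, hneg (Ne.symm hl),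
        hfix (Ne.symm hl) (Ne.symm hij) (Ne.symm hl')⟩)
    (fun i j => by
      by_cases hij : i = j
      · subst hij
        exact ⟨1, ⟨0, by simp⟩, act_one _, act_one _⟩
      · refine ⟨WU hF (hss hij), ⟨2, WU_pow hF _⟩, WU_uu hF α _, ?_⟩
        rw [act_WU]
        funext l
        by_cases h1 : l = i.succ.succ
        · rw [if_pos h1, h1, ww, ww, Pi.single_eq_of_ne (hss (Ne.symm hij)),
            Pi.single_eq_of_ne (hss hij), neg_zero]
        · by_cases h3 : l = j.succ.succ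
          · rw [if_neg h1, if_pos h3, h3, ww, ww, Pi.single_eq_same, Pi.single_eq_same]
          · rw [if_neg h1, if_neg h3, ww, ww, Pi.single_eq_of_ne h1, Pi.single_eq_of_ne h3])
  exact LB.sign (by omega) (hS.map (pr (k + 2) F q)) hr2
    (Z_ne hF (by omega) (by omega) H _ (mul_ne_zero h2 hτ0) (uu_ne α)) hm

/-- The bound from one pair, `n ≥ 3`. -/
theorem lb_one (hF : Fintype.card F = q ^ 2) (h2 : (2 : F) ≠ 0) {r : ℕ} (hr : r.Prime) [CharP F r]
    (hr2 : r ≠ 2) (hk : 1 ≤ k) {m : ℕ} (hm : m ≤ orderOf (2 : ZMod r) * r) :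
    LB.{_, v, w} (PSU (k + 2) F q) m := by
  have hq2 : q ≠ 2 := by
    rintro rfl
    apply h2
    have := two_pow hF
    have h4 : (2 : F) * 2 = 2 * 1 := by rw [mul_one, ← pow_two, this]
    have h5 := mul_left_cancel₀ h2 h4
    have h6 : (1 : F) = 0 := by
      have : (2 : F) = 1 + 1 := by norm_num
      rw [this] at h5
      simpa using h5
    exact absurd h6 one_ne_zero
  have hs : IsSimpleGroup (PSU (k + 2) F q) :=
    Cfsg.Agent.S0283.result hF (k + 2) (by omega) (fun h => hq2 h.2)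
  obtain ⟨α, hα⟩ := exists_alpha hF
  obtain ⟨τ, hτ0, hτ⟩ := exists_tau hF
  have H := frame hF hα (fun _ : Fin 1 => (⟨0, by omega⟩ : Fin k)) (fun _ _ _ => Subsingleton.elim _ _)
  have h01 : (0 : Fin (k + 2)) ≠ 1 := by simp
  have hS := signHeis_one hF h2 H hr hτ (two_tau hF hτ) (g := HU hF h01)
    (by
      rw [act_HU, uu]
      funext l
      by_cases h0 : l = 0
      · subst h0
        simp
      · by_cases h1 : l = 1
        · subst h1
          simp
        · simp [h0, h1])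
    (by
      rw [act_HU, ww]
      funext l
      have e0 : (0 : Fin (k + 2)) ≠ Fin.succ (Fin.succ ⟨0, by omega⟩) := (Fin.succ_ne_zero _).symm
      have e1 : (1 : Fin (k + 2)) ≠ Fin.succ (Fin.succ ⟨0, by omega⟩) := by
        intro h
        have := congrArg Fin.val h
        simp at this
      by_cases h0 : l = 0
      · subst h0
        rw [if_pos rfl, Pi.single_eq_of_ne e0, neg_zero]
      · by_cases h1 : l = 1
        · subst h1
          rw [if_neg h0, if_pos rfl, Pi.single_eq_of_ne e1, neg_zero]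
        · rw [if_neg h0, if_neg h1])
  exact LB.sign (by omega) (hS.map (pr (k + 2) F q)) hr2
    (Z_ne hF (by omega) (by omega) H _ (mul_ne_zero h2 hτ0) (uu_ne α)) (by rwa [pow_one])

end Cfsg.Agent.Omega.TwoF.RowPsu
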