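import Cfsg.Agent.Omega.TwoF.Defs
import Cfsg.Agent.Omega.TwoF.Orb

/-!
# TABLE 2F: the orbit bound in odd covers, with a scalar (helper415)

`K` simple, `E ≤ K` an elementary abelian `r`-group, `r > 3`, `t ∈ K` with `e^t = e²` on `E`; every hyperplane of `E` has
`m` different conjugates under elements `g ∈ N_K(E)` with `g⁻¹ t g ∈ t E`.  Then `(LB K (ord_r(2) m))`: `E` lifts to an
elementary abelian subgroup of every odd cover, normalised by the preimages of the elements `g`.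
-/

set_option autoImplicit false

namespace Cfsg.Agent.Omega.TwoF.Scalar

open Subgroup Cfsg.Agent.Omega.TwoF.Orb
open scoped commutatorElement

universe u v

section Lift

variable {L K : Type*} [Group L] [Group K]

theorem pow_comm_left {x y c : L} (hc : ∀ w : L, c * w = w * c) (h : x * y = c * (y * x)) (n : ℕ) :
    x ^ n * y = c ^ n * (y * x ^ n) := by
  induction n with
  | zero => simp
  | succ n ih =>
    calc x ^ (n + 1) * y = x ^ n * (x * y) := by rw [pow_succ, mul_assoc]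
      _ = x ^ n * (c * (y * x)) := by rw [h]
      _ = (x ^ n * c) * (y * x) := by group
      _ = (c * x ^ n) * (y * x) := by rw [hc]
      _ = c * ((x ^ n * y) * x) := by group
      _ = c * ((c ^ n * (y * x ^ n)) * x) := by rw [ih]
      _ = c ^ (n + 1) * (y * x ^ (n + 1)) := by rw [pow_succ' c, pow_succ x]; group

theorem pow_comm_right {x y c : L} (hc : ∀ w : L, c * w = w * c) (h : x * y = c * (y * x)) (n : ℕ) :
    x * y ^ n = c ^ n * (y ^ n * x) := by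
  induction n with
  | zero => simp
  | succ n ih =>
    calc x * y ^ (n + 1) = (x * y ^ n) * y := by rw [pow_succ]; group
      _ = (c ^ n * (y ^ n * x)) * y := by rw [ih]
      _ = c ^ n * (y ^ n * (x * y)) := by group
      _ = c ^ n * (y ^ n * (c * (y * x))) := by rw [h]
      _ = c ^ n * ((y ^ n * c) * (y * x)) := by group
      _ = c ^ n * ((c * y ^ n) * (y * x)) := by rw [hc]
      _ = c ^ (n + 1) * (y ^ (n + 1) * x) := by rw [pow_succ c, pow_succ y]; group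

variable {π : L →* K} {E : Subgroup K} {t : K} {s : L} {r : ℕ}

/-- the preimage of `E` is abelian -/
theorem comm_of_scalar [Fact r.Prime] (hr : 3 < r) (hcen : π.ker ≤ center L) (hE : Elem r E)
    (ht : ∀ e ∈ E, t * e * t⁻¹ = e ^ 2) (hs : π s = t) {x y : L} (hx : π x ∈ E) (hy : π y ∈ E) :
    x * y = y * x := by
  have hz : ∀ z ∈ π.ker, ∀ w : L, z * w = w * z := fun z h w => (mem_center_iff.1 (hcen h) w).symm
  set c := x * y * (y * x)⁻¹ with hc
  have hcK : c ∈ π.ker := by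
    rw [MonoidHom.mem_ker, hc, map_mul, map_inv, map_mul, map_mul, hE.comm _ hx _ hy, mul_inv_cancel]
  have hcc := hz c hcK
  have hxy : x * y = c * (y * x) := by rw [hc]; group
  have hsq : ∀ w : L, π w ∈ E → ∃ z ∈ π.ker, s * w * s⁻¹ = w ^ 2 * z := by
    intro w hw
    refine ⟨(w ^ 2)⁻¹ * (s * w * s⁻¹), ?_, by group⟩
    rw [MonoidHom.mem_ker, map_mul, map_mul, map_mul, map_inv, map_inv, map_pow, hs, ht _ hw, inv_mul_cancel]
  obtain ⟨z, hzK, hz1⟩ := hsq x hx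
  obtain ⟨z', hzK', hz2⟩ := hsq y hy
  have e1 : x ^ 2 * y ^ 2 = c ^ 4 * (y ^ 2 * x ^ 2) := by
    have h1 := pow_comm_right hcc hxy 2
    have h2 := pow_comm_left (x := x) (y := y ^ 2) (c := c ^ 2) (fun w => by
      rw [pow_two, mul_assoc, hcc w, ← mul_assoc, hcc w, mul_assoc]) h1 2
    rw [← pow_mul] at h2
    exact h2
  have e2 : s * (x * y) * s⁻¹ = c * (s * (y * x) * s⁻¹) := by
    rw [hxy]
    calc s * (c * (y * x)) * s⁻¹ = (s * c) * (y * x) * s⁻¹ := by group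
      _ = (c * s) * (y * x) * s⁻¹ := by rw [hcc]
      _ = _ := by group
  have e3 : s * (x * y) * s⁻¹ = (x ^ 2 * y ^ 2) * (z * z') := by
    calc s * (x * y) * s⁻¹ = (s * x * s⁻¹) * (s * y * s⁻¹) := by group
      _ = (x ^ 2 * z) * (y ^ 2 * z') := by rw [hz1, hz2]
      _ = x ^ 2 * (z * y ^ 2) * z' := by group
      _ = x ^ 2 * (y ^ 2 * z) * z' := by rw [hz z hzK]
      _ = _ := by group
  have e4 : s * (y * x) * s⁻¹ = (y ^ 2 * x ^ 2) * (z * z') := by
    calc s * (y * x) * s⁻¹ = (s * y * s⁻¹) * (s * x * s⁻¹) := by group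
      _ = (y ^ 2 * z') * (x ^ 2 * z) := by rw [hz1, hz2]
      _ = y ^ 2 * (z' * x ^ 2) * z := by group
      _ = y ^ 2 * (x ^ 2 * z') * z := by rw [hz z' hzK']
      _ = y ^ 2 * x ^ 2 * (z' * z) := by group
      _ = y ^ 2 * x ^ 2 * (z * z') := by rw [hz z' hzK']
  rw [e3, e4, e1] at e2
  have h3 : c ^ 3 = 1 := by
    have h4 : c ^ 4 * (y ^ 2 * x ^ 2 * (z * z')) = c * (y ^ 2 * x ^ 2 * (z * z')) := by
      rw [← e2]; group
    have h5 := mul_right_cancel h4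
    have h6 : c * c ^ 3 = c * 1 := by rw [mul_one, ← pow_succ']; exact h5
    exact mul_left_cancel h6
  have hrr : c ^ r = 1 := by
    have h4 := pow_comm_left hcc hxy r
    have h5 : x ^ r ∈ π.ker := by rw [MonoidHom.mem_ker, map_pow, hE.pow _ hx]
    rw [hz _ h5] at h4
    exact (right_eq_mul.1 h4)
  have h1 : c = 1 := by
    have hco : Nat.Coprime 3 r := (Nat.coprime_primes Nat.prime_three (Fact.out : r.Prime)).2 (by omega)
    have := Nat.eq_one_of_dvd_coprimes (k := orderOf c) hco (orderOf_dvd_of_pow_eq_one h3) (orderOf_dvd_of_pow_eq_one hrr)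
    exact orderOf_eq_one_iff.1 this
  rw [hxy, h1, one_mul]

/-- the lift of `E` -/
def lift (hcen : π.ker ≤ center L) (hr : 3 < r) [Fact r.Prime] (hE : Elem r E)
    (ht : ∀ e ∈ E, t * e * t⁻¹ = e ^ 2) (hs : π s = t) : Subgroup L where
  carrier := {x | π x ∈ E ∧ s * x * s⁻¹ = x ^ 2}
  one_mem' := ⟨by rw [map_one]; exact E.one_mem, by simp⟩
  mul_mem' := by
    rintro x y ⟨h1, h2⟩ ⟨h3, h4⟩
    refine ⟨by rw [map_mul]; exact E.mul_mem h1 h3, ?_⟩
    have hc := comm_of_scalar hr hcen hE ht hs h1 h3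
    calc s * (x * y) * s⁻¹ = (s * x * s⁻¹) * (s * y * s⁻¹) := by group
      _ = x ^ 2 * y ^ 2 := by rw [h2, h4]
      _ = x * (x * y) * y := by rw [pow_two, pow_two]; group
      _ = x * (y * x) * y := by rw [hc]
      _ = (x * y) ^ 2 := by rw [pow_two]; group
  inv_mem' := by
    rintro x ⟨h1, h2⟩
    refine ⟨by rw [map_inv]; exact E.inv_mem h1, ?_⟩
    calc s * x⁻¹ * s⁻¹ = (s * x * s⁻¹)⁻¹ := by group
      _ = (x ^ 2)⁻¹ := by rw [h2]
      _ = (x⁻¹) ^ 2 := by rw [inv_pow]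

variable (hcen : π.ker ≤ center L) (hr : 3 < r) [Fact r.Prime] (hE : Elem r E)
    (ht : ∀ e ∈ E, t * e * t⁻¹ = e ^ 2) (hs : π s = t)

theorem mem_lift {x : L} : x ∈ lift hcen hr hE ht hs ↔ π x ∈ E ∧ s * x * s⁻¹ = x ^ 2 := Iff.rfl

theorem eq_one_of_mem_lift {x : L} (hx : x ∈ lift hcen hr hE ht hs) (h : π x = 1) : x = 1 := by
  have h1 := mem_center_iff.1 (hcen (MonoidHom.mem_ker.2 h)) s
  have h2 := hx.2
  rw [h1, mul_inv_cancel_right, pow_two] at h2
  exact (right_eq_mul.1 h2)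

theorem elem_lift : Elem r (lift hcen hr hE ht hs) where
  comm := fun _ ha _ hb => comm_of_scalar hr hcen hE ht hs ha.1 hb.1
  pow := fun a ha => eq_one_of_mem_lift hcen hr hE ht hs (pow_mem ha r) (by rw [map_pow, hE.pow _ ha.1])

theorem exists_lift {e : K} (he : e ∈ E) (hsurj : Function.Surjective π) :
    ∃ x ∈ lift hcen hr hE ht hs, π x = e := by
  obtain ⟨y, rfl⟩ := hsurj e
  set z := (y ^ 2)⁻¹ * (s * y * s⁻¹) with hz
  have hzK : z ∈ π.ker := by
    rw [MonoidHom.mem_ker, hz, map_mul, map_mul, map_mul, map_inv, map_inv, map_pow, hs, ht _ he, inv_mul_cancel]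
  have hzc : ∀ w : L, z * w = w * z := fun w => (mem_center_iff.1 (hcen hzK) w).symm
  have hy : s * y * s⁻¹ = y ^ 2 * z := by rw [hz]; group
  refine ⟨y * z, ⟨by rw [map_mul, MonoidHom.mem_ker.1 hzK, mul_one]; exact he, ?_⟩, by
    rw [map_mul, MonoidHom.mem_ker.1 hzK, mul_one]⟩
  calc s * (y * z) * s⁻¹ = s * y * (z * s⁻¹) := by group
    _ = s * y * (s⁻¹ * z) := by rw [hzc]
    _ = (s * y * s⁻¹) * z := by group
    _ = (y ^ 2 * z) * z := by rw [hy]
    _ = y * (y * z) * z := by rw [pow_two]; group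
    _ = y * (z * y) * z := by rw [hzc y]
    _ = (y * z) ^ 2 := by rw [pow_two]; group

theorem map_lift (hsurj : Function.Surjective π) : (lift hcen hr hE ht hs).map π = E := by
  apply le_antisymm
  · rintro _ ⟨x, hx, rfl⟩
    exact hx.1
  · intro e he
    obtain ⟨x, hx, rfl⟩ := exists_lift hcen hr hE ht hs he hsurj
    exact ⟨x, hx, rfl⟩

theorem cj_lift_le {g : L} (hg : cj (π g) E = E) {e : K} (he : e ∈ E) (hgt : (π g)⁻¹ * t * π g = t * e) :
    cj g (lift hcen hr hE ht hs) ≤ lift hcen hr hE ht hs := by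
  rintro _ ⟨x, ⟨h1, h2⟩, rfl⟩
  have h3 : π (g * x * g⁻¹) ∈ E := by
    rw [← hg, map_mul, map_mul, map_inv]
    exact mem_cj h1
  refine ⟨h3, ?_⟩
  show s * (g * x * g⁻¹) * s⁻¹ = (g * x * g⁻¹) ^ 2
  -- `s' = g⁻¹ s g = s f`, `f` over `E`
  have h4 : π (s⁻¹ * (g⁻¹ * s * g)) ∈ E := by
    rw [map_mul, map_mul, map_mul, map_inv, map_inv, hs, hgt, inv_mul_cancel_left]
    exact he
  have h5 := comm_of_scalar hr hcen hE ht hs h4 h1
  have h6 : g⁻¹ * s * g * x * (g⁻¹ * s * g)⁻¹ = x ^ 2 := by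
    calc g⁻¹ * s * g * x * (g⁻¹ * s * g)⁻¹ = s * ((s⁻¹ * (g⁻¹ * s * g)) * x) * (g⁻¹ * s * g)⁻¹ := by group
      _ = s * (x * (s⁻¹ * (g⁻¹ * s * g))) * (g⁻¹ * s * g)⁻¹ := by rw [h5]
      _ = s * x * s⁻¹ := by group
      _ = x ^ 2 := h2
  calc s * (g * x * g⁻¹) * s⁻¹ = g * (g⁻¹ * s * g * x * (g⁻¹ * s * g)⁻¹) * g⁻¹ := by group
    _ = g * x ^ 2 * g⁻¹ := by rw [h6]
    _ = (g * x * g⁻¹) ^ 2 := by rw [pow_two, pow_two]; group

end Lift

/-- a nontrivial action of a perfect central cover of a simple group is nontrivial on every subgroup with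
nontrivial image -/
theorem not_le_ker {L : Type*} {K : Type*} [Group L] [Group K] [IsSimpleGroup K] {M : Type*} [Group M] {π : L →* K}
    (hsurj : Function.Surjective π) (hcen : π.ker ≤ center L) (hperf : commutator L = ⊤) {φ : L →* M} (hφ : φ ≠ 1)
    {x : L} (hx : π x ≠ 1) : φ x ≠ 1 := by
  intro h1
  apply hφ
  have hn : (φ.ker.map π).Normal := Subgroup.Normal.map inferInstance π hsurj
  have htop : φ.ker.map π = ⊤ := by
    rcases hn.eq_bot_or_eq_top with h | h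
    · exfalso
      apply hx
      rw [← mem_bot, ← h]
      exact ⟨x, h1, rfl⟩
    · exact h
  have hdec : ∀ y : L, ∃ k ∈ φ.ker, ∃ z ∈ π.ker, y = k * z := by
    intro y
    have : π y ∈ φ.ker.map π := by rw [htop]; exact mem_top _
    obtain ⟨k, hk, hky⟩ := this
    refine ⟨k, hk, k⁻¹ * y, ?_, by group⟩
    rw [MonoidHom.mem_ker, map_mul, map_inv, hky, inv_mul_cancel]
  have hle : commutator L ≤ φ.ker := by
    rw [commutator_def, commutator_le]
    intro a _ b _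
    obtain ⟨k, hk, z, hz, rfl⟩ := hdec a
    obtain ⟨k', hk', z', hz', rfl⟩ := hdec b
    have hc : ∀ z ∈ π.ker, ∀ w : L, w * z = z * w := fun z h w => (mem_center_iff.1 (hcen h) w)
    have e : ⁅k * z, k' * z'⁆ = ⁅k, k'⁆ := by
      rw [commutatorElement_def, commutatorElement_def]
      calc k * z * (k' * z') * (k * z)⁻¹ * (k' * z')⁻¹
          = k * (z * k') * (z' * z⁻¹) * k⁻¹ * z'⁻¹ * k'⁻¹ := by group
        _ = k * (k' * z) * (z⁻¹ * z') * k⁻¹ * z'⁻¹ * k'⁻¹ := by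
          rw [← hc z hz k', hc z' hz' z⁻¹]
        _ = k * k' * (z' * k⁻¹) * z'⁻¹ * k'⁻¹ := by group
        _ = k * k' * (k⁻¹ * z') * z'⁻¹ * k'⁻¹ := by rw [← hc z' hz' k⁻¹]
        _ = k * k' * k⁻¹ * k'⁻¹ := by group
    rw [e, MonoidHom.mem_ker, map_commutatorElement, MonoidHom.mem_ker.1 hk, MonoidHom.mem_ker.1 hk']
    simp
  rw [hperf] at hle
  ext y
  exact hle (mem_top y)

/-- **The orbit bound with a scalar.** -/
theorem lb_of_scalar {K : Type v} [Group K] [IsSimpleGroup K] {r m : ℕ} [Fact r.Prime] (hr : 3 < r)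
    {E : Subgroup K} [Finite E] (hE : Elem r E) (hE1 : E ≠ ⊥) {t : K} (ht : ∀ e ∈ E, t * e * t⁻¹ = e ^ 2)
    (hC : ∀ H ≤ E, H.relIndex E = r → ∃ g : Fin m → K,
      (∀ i, cj (g i) E = E ∧ ∃ e ∈ E, (g i)⁻¹ * t * g i = t * e) ∧ ∀ i j, i ≠ j → cj (g i) H ≠ cj (g j) H) :
    LB.{u} K (orderOf (2 : ZMod r) * m) := by
  intro L _ _ π hπ V _ _ φ h2 h1
  have : Fact (Nat.Prime 2) := ⟨Nat.prime_two⟩
  have hV : IsPGroup 2 V := fun x => ⟨1, by rw [pow_one]; exact h2 x⟩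
  obtain ⟨s, hs⟩ := hπ.surj t
  have hE' := elem_lift hπ.cent hr hE ht hs
  have hmap := map_lift hπ.cent hr hE ht hs hπ.surj
  set E' := lift hπ.cent hr hE ht hs with hE'def
  have hfx : fx φ E' ≠ ⊤ := by
    intro htop
    obtain ⟨e, he1⟩ := (Subgroup.ne_bot_iff_exists_ne_one).1 hE1
    obtain ⟨x, hx, hxe⟩ := exists_lift hπ.cent hr hE ht hs (e : E).2 hπ.surj
    refine not_le_ker hπ.surj hπ.cent hπ.perf h1 (x := x) (by rw [hxe]; simpa using he1) ?_
    ext v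
    have hv : v ∈ fx φ E' := by rw [htop]; exact mem_top _
    exact hv x hx
  obtain ⟨H', hH', hi', hne⟩ := hE'.exists_hyperplane (ℓ := 2) (by omega : r ≠ 2) hV hfx
  -- the image of `H'`
  let f : E' →* K := π.comp E'.subtype
  have hf : Function.Injective f := by
    rw [injective_iff_map_eq_one]
    intro x hx
    exact Subtype.ext (eq_one_of_mem_lift hπ.cent hr hE ht hs x.2 hx)
  have hH : H'.map π = (H'.subgroupOf E').map f := by
    ext k
    constructor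
    · rintro ⟨x, hx, rfl⟩
      exact ⟨⟨x, hH' hx⟩, hx, rfl⟩
    · rintro ⟨x, hx, rfl⟩
      exact ⟨x, hx, rfl⟩
  have hEE : E = (⊤ : Subgroup E').map f := by
    conv_lhs => rw [← hmap]
    ext k
    constructor
    · rintro ⟨x, hx, rfl⟩
      exact ⟨⟨x, hx⟩, mem_top _, rfl⟩
    · rintro ⟨x, -, rfl⟩
      exact ⟨x, x.2, rfl⟩
  have hHi : (H'.map π).relIndex E = r := by
    rw [hH, hEE, relIndex_map_map_of_injective _ _ hf, relIndex_top_right]
    exact hi'
  have hHE : H'.map π ≤ E := by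
    rw [← hmap]; exact map_mono hH'
  obtain ⟨g, hg, hgd⟩ := hC _ hHE hHi
  choose gl hgl using fun i => hπ.surj (g i)
  have hcj : ∀ (x : L) (H : Subgroup L), (cj x H).map π = cj (π x) (H.map π) := by
    intro x H
    ext k
    constructor
    · rintro ⟨_, ⟨y, hy, rfl⟩, rfl⟩
      refine ⟨π y, ⟨y, hy, rfl⟩, ?_⟩
      show π x * π y * (π x)⁻¹ = π (x * y * x⁻¹)
      rw [map_mul, map_mul, map_inv]
    · rintro ⟨_, ⟨y, hy, rfl⟩, rfl⟩
      refine ⟨x * y * x⁻¹, ⟨y, hy, rfl⟩, ?_⟩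
      show π (x * y * x⁻¹) = π x * π y * (π x)⁻¹
      rw [map_mul, map_mul, map_inv]
  have hgE : ∀ i, cj (gl i) E' = E' := by
    intro i
    obtain ⟨h1, e, he, h2⟩ := hg i
    exact cj_eq_of_le (cj_lift_le hπ.cent hr hE ht hs (by rw [hgl]; exact h1) he (by rw [hgl]; exact h2))
  have hgn : ∀ i j, i ≠ j → cj (gl i) H' ≠ cj (gl j) H' := by
    intro i j hij h
    apply hgd i j hij
    rw [← hgl, ← hgl, ← hcj, ← hcj, h]
  have h3 := hE'.pow_le_index (ℓ := 2) (by omega : r ≠ 2) hV hH' hi' hne gl hgE hgn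
  rw [Fintype.card_fin, ← pow_mul, Nat.cast_ofNat] at h3
  exact h3.trans (Nat.le_of_dvd Nat.card_pos (index_dvd_card _))

/-! ### `E = 5²`, six points -/

section Five

variable {K : Type*} [Group K]

/-- `g` normalises `E` and `g⁻¹ t g ∈ t E` -/
def Good (E : Subgroup K) (t g : K) : Prop := cj g E = E ∧ ∃ e ∈ E, g⁻¹ * t * g = t * e

theorem conj_mem_of_cj {E : Subgroup K} {g : K} (h : cj g E = E) {e : K} (he : e ∈ E) : g * e * g⁻¹ ∈ E := by
  rw [← h]; exact mem_cj he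

theorem cj_inv_eq {E : Subgroup K} {g : K} (h : cj g E = E) : cj g⁻¹ E = E := by
  conv_lhs => rw [← h]
  rw [← cj_mul, inv_mul_cancel, cj_one]

theorem Good.mul_inv {E : Subgroup K} {t g h : K} (hg : Good E t g) (hh : Good E t h) : Good E t (g * h⁻¹) := by
  obtain ⟨g1, e, he, g2⟩ := hg
  obtain ⟨h1, f, hf, h2⟩ := hh
  refine ⟨by rw [cj_mul, cj_inv_eq h1, g1], (h * f * h⁻¹)⁻¹ * (h * e * h⁻¹),
    E.mul_mem (E.inv_mem (conj_mem_of_cj h1 hf)) (conj_mem_of_cj h1 he), ?_⟩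
  have h3 : h * t * h⁻¹ = t * (h * f * h⁻¹)⁻¹ := by
    rw [eq_mul_inv_iff_mul_eq]
    calc h * t * h⁻¹ * (h * f * h⁻¹) = h * (t * f) * h⁻¹ := by group
      _ = h * (h⁻¹ * t * h) * h⁻¹ := by rw [h2]
      _ = t := by group
  calc (g * h⁻¹)⁻¹ * t * (g * h⁻¹) = h * (g⁻¹ * t * g) * h⁻¹ := by group
    _ = h * (t * e) * h⁻¹ := by rw [g2]
    _ = (h * t * h⁻¹) * (h * e * h⁻¹) := by group
    _ = t * ((h * f * h⁻¹)⁻¹ * (h * e * h⁻¹)) := by rw [h3]; group

/-- two commuting independent elements of order 5 -/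
structure Two (a b : K) : Prop where
  a5 : a ^ 5 = 1
  b5 : b ^ 5 = 1
  comm : a * b = b * a
  a1 : a ≠ 1
  b1 : b ∉ zpowers a

variable {a b : K}

theorem pow_mod_five {x : K} (h : x ^ 5 = 1) (n : ℕ) : x ^ (n % 5) = x ^ n := by
  conv_rhs => rw [← Nat.div_add_mod n 5, pow_add, pow_mul, h, one_pow, one_mul]

namespace Two

variable (h : Two a b)
include h

theorem cm (i j : ℕ) : b ^ j * a ^ i = a ^ i * b ^ j := ((Commute.pow_pow h.comm.symm j i : Commute (b ^ j) (a ^ i))).eq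

theorem mul (i j k l : ℕ) : a ^ i * b ^ j * (a ^ k * b ^ l) = a ^ (i + k) * b ^ (j + l) := by
  rw [pow_add, pow_add]
  calc a ^ i * b ^ j * (a ^ k * b ^ l) = a ^ i * (b ^ j * a ^ k) * b ^ l := by group
    _ = a ^ i * (a ^ k * b ^ j) * b ^ l := by rw [h.cm]
    _ = a ^ i * a ^ k * (b ^ j * b ^ l) := by group

theorem pow (i j n : ℕ) : (a ^ i * b ^ j) ^ n = a ^ (i * n) * b ^ (j * n) := by
  rw [(Commute.pow_pow (h.comm : Commute a b) i j).mul_pow, pow_mul, pow_mul]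

theorem mod (i j : ℕ) : a ^ (i % 5) * b ^ (j % 5) = a ^ i * b ^ j := by
  rw [pow_mod_five h.a5, pow_mod_five h.b5]

theorem one_iff (i j : ℕ) : a ^ i * b ^ j = 1 ↔ i % 5 = 0 ∧ j % 5 = 0 := by
  have : Fact (Nat.Prime 5) := ⟨by norm_num⟩
  constructor
  · intro h1
    have hj : j % 5 = 0 := by
      by_contra hj
      apply h.b1
      have h2 : b ^ j ∈ zpowers a := by
        rw [show b ^ j = (a ^ i)⁻¹ from (inv_eq_of_mul_eq_one_right h1).symm]
        exact inv_mem (pow_mem (mem_zpowers a) i)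
      have h3 : ∃ k, j * k % 5 = 1 := by
        have hlt : j % 5 < 5 := Nat.mod_lt _ (by norm_num)
        have : ∀ n < 5, n ≠ 0 → ∃ k, n * k % 5 = 1 := by
          intro n hn hn0
          interval_cases n
          · exact absurd rfl hn0
          · exact ⟨1, rfl⟩
          · exact ⟨3, rfl⟩
          · exact ⟨2, rfl⟩
          · exact ⟨4, rfl⟩
        obtain ⟨k, hk⟩ := this (j % 5) hlt hj
        exact ⟨k, by rw [← Nat.mod_mul_mod]; exact hk⟩
      obtain ⟨k, hk⟩ := h3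
      have h4 := pow_mem h2 k
      rw [← pow_mul, ← pow_mod_five h.b5, hk, pow_one] at h4
      exact h4
    have hb : b ^ j = 1 := by rw [← pow_mod_five h.b5, hj, pow_zero]
    rw [hb, mul_one] at h1
    have h5 : orderOf a = 5 := orderOf_eq_prime h.a5 h.a1
    have h6 := orderOf_dvd_of_pow_eq_one h1
    rw [h5] at h6
    exact ⟨Nat.mod_eq_zero_of_dvd h6, hj⟩
  · rintro ⟨hi, hj⟩
    rw [← h.mod, hi, hj, pow_zero, pow_zero, one_mul]

theorem eq_iff (i j k l : ℕ) : a ^ i * b ^ j = a ^ k * b ^ l ↔ i % 5 = k % 5 ∧ j % 5 = l % 5 := by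
  have h1 : a ^ i * b ^ j = a ^ k * b ^ l ↔ a ^ (i + 4 * k) * b ^ (j + 4 * l) = 1 := by
    rw [← h.mul]
    have h2 : a ^ k * b ^ l * (a ^ (4 * k) * b ^ (4 * l)) = 1 := by
      rw [h.mul, h.one_iff]
      constructor <;> omega
    constructor
    · intro h3
      rw [h3]; exact h2
    · intro h3
      exact mul_right_cancel (h3.trans h2.symm)
  rw [h1, h.one_iff]
  omega

end Two

/-- the group `⟨a, b⟩` -/
def grp (h : Two a b) : Subgroup K where
  carrier := {x | ∃ i j : ℕ, x = a ^ i * b ^ j}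
  one_mem' := ⟨0, 0, by simp⟩
  mul_mem' := by
    rintro _ _ ⟨i, j, rfl⟩ ⟨k, l, rfl⟩
    exact ⟨_, _, h.mul i j k l⟩
  inv_mem' := by
    rintro _ ⟨i, j, rfl⟩
    refine ⟨4 * i, 4 * j, ?_⟩
    rw [inv_eq_iff_mul_eq_one, h.mul, h.one_iff]
    constructor <;> omega

theorem mem_grp (h : Two a b) {x : K} : x ∈ grp h ↔ ∃ i j : ℕ, x = a ^ i * b ^ j := Iff.rfl

theorem mem_grp' (h : Two a b) {x : K} (hx : x ∈ grp h) : ∃ i < 5, ∃ j < 5, x = a ^ i * b ^ j := by
  obtain ⟨i, j, rfl⟩ := hx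
  exact ⟨i % 5, Nat.mod_lt _ (by norm_num), j % 5, Nat.mod_lt _ (by norm_num), (h.mod i j).symm⟩

theorem elem_grp (h : Two a b) : Elem 5 (grp h) where
  comm := by
    rintro _ ⟨i, j, rfl⟩ _ ⟨k, l, rfl⟩
    rw [h.mul, h.mul, add_comm i, add_comm j]
  pow := by
    rintro _ ⟨i, j, rfl⟩
    rw [h.pow, h.one_iff]
    constructor <;> omega

instance (h : Two a b) : Finite (grp h) :=
  Finite.of_surjective (fun p : Fin 5 × Fin 5 => (⟨a ^ (p.1 : ℕ) * b ^ (p.2 : ℕ), _, _, rfl⟩ : grp h)) (by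
    rintro ⟨x, hx⟩
    obtain ⟨i, hi, j, hj, rfl⟩ := mem_grp' h hx
    exact ⟨(⟨i, hi⟩, ⟨j, hj⟩), rfl⟩)

/-- the six points -/
def px : Fin 6 → ℕ := ![1, 0, 1, 1, 1, 1]
/-- the six points -/
def qx : Fin 6 → ℕ := ![0, 1, 1, 2, 3, 4]

theorem pts_cover : ∀ i < 5, ∀ j < 5, (i, j) ≠ (0, 0) → ∃ k : Fin 6, ∃ n < 5, n ≠ 0 ∧ px k * n % 5 = i ∧ qx k * n % 5 = j := by
  decide

theorem pts_ne : ∀ k l : Fin 6, k ≠ l → ∀ n < 5, ¬ (px k * n % 5 = px l % 5 ∧ qx k * n % 5 = qx l % 5) := by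
  decide

/-- `x ∈ ⟨u⟩`, `u⁵ = 1` -/
theorem exists_pow_lt {u x : K} (hu : u ^ 5 = 1) (hx : x ∈ zpowers u) : ∃ n < 5, x = u ^ n := by
  classical
  have hfin : IsOfFinOrder u := isOfFinOrder_iff_pow_eq_one.2 ⟨5, by norm_num, hu⟩
  obtain ⟨n, hn⟩ := Finset.mem_image.1 (hfin.mem_zpowers_iff_mem_range_orderOf.1 hx)
  exact ⟨n % 5, Nat.mod_lt _ (by norm_num), by rw [pow_mod_five hu]; exact hn.2.symm⟩

/-- six elements `x k` with `x k a (x k)⁻¹ = a^(px k) b^(qx k)` up to a power -/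
theorem points {h : Two a b} {t : K} {x : Fin 6 → K} {n : Fin 6 → ℕ} (hn : ∀ k, n k % 5 ≠ 0)
    (hg : ∀ k, Good (grp h) t (x k)) (ha : ∀ k, x k * a * (x k)⁻¹ = (a ^ px k * b ^ qx k) ^ n k)
    {H : Subgroup K} (hH : H ≤ grp h) (hi : H.relIndex (grp h) = 5) :
    ∃ g : Fin 6 → K, (∀ i, cj (g i) (grp h) = grp h ∧ ∃ e ∈ grp h, (g i)⁻¹ * t * g i = t * e) ∧
      ∀ i j, i ≠ j → cj (g i) H ≠ cj (g j) H := by
  have : Fact (Nat.Prime 5) := ⟨by norm_num⟩
  set u : Fin 6 → K := fun k => a ^ px k * b ^ qx k with hu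
  have hu5 : ∀ k, u k ^ 5 = 1 := fun k => (elem_grp h).pow _ ⟨_, _, rfl⟩
  -- the six subgroups
  have hcj : ∀ k, cj (x k) (zpowers a) = zpowers (u k) := by
    intro k
    have h1 : cj (x k) (zpowers a) = zpowers (u k ^ n k) := by
      rw [cj, MonoidHom.map_zpowers]
      congr 1
      exact ha k
    rw [h1]
    apply le_antisymm
    · rw [zpowers_le]; exact pow_mem (mem_zpowers _) _
    · rw [zpowers_le]
      have h3 : ∃ m, n k * m % 5 = 1 := by
        have hlt : n k % 5 < 5 := Nat.mod_lt _ (by norm_num)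
        have : ∀ n < 5, n ≠ 0 → ∃ k, n * k % 5 = 1 := by
          intro n hn hn0
          interval_cases n
          · exact absurd rfl hn0
          · exact ⟨1, rfl⟩
          · exact ⟨3, rfl⟩
          · exact ⟨2, rfl⟩
          · exact ⟨4, rfl⟩
        obtain ⟨m, hm⟩ := this (n k % 5) hlt (hn k)
        exact ⟨m, by rw [← Nat.mod_mul_mod]; exact hm⟩
      obtain ⟨m, hm⟩ := h3
      have h4 : (u k ^ n k) ^ m = u k := by
        rw [← pow_mul, ← pow_mod_five (hu5 k), hm, pow_one]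
      have h5 : (u k ^ n k) ^ m ∈ zpowers (u k ^ n k) := pow_mem (mem_zpowers _) _
      rwa [h4] at h5
  have hne : ∀ i j, i ≠ j → zpowers (u i) ≠ zpowers (u j) := by
    intro i j hij he
    have h1 : u j ∈ zpowers (u i) := by rw [he]; exact mem_zpowers _
    obtain ⟨m, hm, h2⟩ := exists_pow_lt (hu5 i) h1
    rw [hu] at h2
    simp only at h2
    rw [h.pow, h.eq_iff] at h2
    exact pts_ne i j hij m hm ⟨h2.1.symm, h2.2.symm⟩
  -- a generator of `H`
  have hH1 : H ≠ ⊥ := by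
    rintro rfl
    rw [relIndex_bot_left] at hi
    have h1 : Function.Surjective (fun p : Fin 5 × Fin 5 => (⟨a ^ (p.1 : ℕ) * b ^ (p.2 : ℕ), _, _, rfl⟩ : grp h)) := by
      rintro ⟨x, hx⟩
      obtain ⟨i, hi, j, hj, rfl⟩ := mem_grp' h hx
      exact ⟨(⟨i, hi⟩, ⟨j, hj⟩), rfl⟩
    have h2 : Function.Injective (fun p : Fin 5 × Fin 5 => (⟨a ^ (p.1 : ℕ) * b ^ (p.2 : ℕ), _, _, rfl⟩ : grp h)) := by
      rintro ⟨i, j⟩ ⟨k, l⟩ hE
      have h3 := (h.eq_iff _ _ _ _).1 (congrArg Subtype.val hE)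
      rw [Nat.mod_eq_of_lt i.2, Nat.mod_eq_of_lt j.2, Nat.mod_eq_of_lt k.2, Nat.mod_eq_of_lt l.2] at h3
      exact Prod.ext (Fin.ext h3.1) (Fin.ext h3.2)
    have h3 := Nat.card_congr (Equiv.ofBijective _ ⟨h2, h1⟩)
    rw [hi, Nat.card_prod, Nat.card_fin] at h3
    norm_num at h3
  obtain ⟨⟨w, hw⟩, hw1⟩ := (ne_bot_iff_exists_ne_one).1 hH1
  have hw1' : w ≠ 1 := fun e => hw1 (Subtype.ext e)
  obtain ⟨i, hi5, j, hj5, rfl⟩ := mem_grp' h (hH hw)
  have hij : (i, j) ≠ (0, 0) := by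
    intro e
    rw [Prod.mk.injEq] at e
    apply hw1'
    rw [e.1, e.2, pow_zero, pow_zero, one_mul]
  obtain ⟨k, m, hm5, hm0, hmi, hmj⟩ := pts_cover i hi5 j hj5 hij
  have hwk : a ^ i * b ^ j = u k ^ m := by
    rw [hu]
    simp only
    rw [h.pow, h.eq_iff, hmi, hmj]
    exact ⟨Nat.mod_eq_of_lt hi5, Nat.mod_eq_of_lt hj5⟩
  have hle : zpowers (u k) ≤ H := by
    rw [zpowers_le]
    have h3 : ∃ m', m * m' % 5 = 1 := by
      interval_cases m
      · exact absurd rfl hm0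
      · exact ⟨1, rfl⟩
      · exact ⟨3, rfl⟩
      · exact ⟨2, rfl⟩
      · exact ⟨4, rfl⟩
    obtain ⟨m', hm'⟩ := h3
    have h4 : (u k ^ m) ^ m' = u k := by
      rw [← pow_mul, ← pow_mod_five (hu5 k), hm', pow_one]
    have h5 : (u k ^ m) ^ m' ∈ H := by rw [← hwk]; exact pow_mem hw _
    rwa [h4] at h5
  have hHk : H = zpowers (u k) := by
    by_contra hcon
    -- an element outside
    have h1 : ∃ y ∈ H, y ∉ zpowers (u k) := by
      by_contra h2
      push Not at h2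
      exact hcon (le_antisymm h2 hle)
    obtain ⟨y, hy, hyk⟩ := h1
    -- then `H = grp`
    have h2 : grp h ≤ H := by
      have h3 : (zpowers (u k)).relIndex (grp h) = 5 := by
        have h4 : Nat.card (zpowers (u k)) = 5 := by
          rw [Nat.card_zpowers]
          refine orderOf_eq_prime (hu5 k) ?_
          intro e
          apply hw1'
          rw [hwk, e, one_pow]
        have h5 : Nat.card (grp h) = 25 := by
          have h1 : Function.Surjective (fun p : Fin 5 × Fin 5 => (⟨a ^ (p.1 : ℕ) * b ^ (p.2 : ℕ), _, _, rfl⟩ : grp h)) := by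
            rintro ⟨x, hx⟩
            obtain ⟨i, hi, j, hj, rfl⟩ := mem_grp' h hx
            exact ⟨(⟨i, hi⟩, ⟨j, hj⟩), rfl⟩
          have h2 : Function.Injective (fun p : Fin 5 × Fin 5 => (⟨a ^ (p.1 : ℕ) * b ^ (p.2 : ℕ), _, _, rfl⟩ : grp h)) := by
            rintro ⟨i, j⟩ ⟨k, l⟩ hE
            have h3 := (h.eq_iff _ _ _ _).1 (congrArg Subtype.val hE)
            rw [Nat.mod_eq_of_lt i.2, Nat.mod_eq_of_lt j.2, Nat.mod_eq_of_lt k.2, Nat.mod_eq_of_lt l.2] at h3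
            exact Prod.ext (Fin.ext h3.1) (Fin.ext h3.2)
          have h3 := Nat.card_congr (Equiv.ofBijective _ ⟨h2, h1⟩)
          rw [Nat.card_prod, Nat.card_fin] at h3
          omega
        have h6 := card_mul_index ((zpowers (u k)).subgroupOf (grp h))
        rw [Nat.card_congr (subgroupOfEquivOfLe (hle.trans hH)).toEquiv, h4, h5] at h6
        show ((zpowers (u k)).subgroupOf (grp h)).index = 5
        omega
      exact (le_sup_zpowers (hle.trans hH) h3 (hH hy) hyk).trans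
        (sup_le hle (by rw [zpowers_le]; exact hy))
    have h3 : H.relIndex (grp h) = 1 := relIndex_eq_one.2 h2
    omega
  refine ⟨fun i => x i * (x k)⁻¹, fun i => (hg i).mul_inv (hg k), ?_⟩
  have hcg : ∀ i, cj (x i * (x k)⁻¹) H = zpowers (u i) := by
    intro i
    rw [hHk, ← hcj k, cj_mul, ← cj_mul (x k)⁻¹, inv_mul_cancel, cj_one, hcj]
  intro i j hij
  rw [hcg, hcg]
  exact hne i j hij

theorem ord_two : orderOf (2 : ZMod 5) = 4 := by
  rw [orderOf_eq_iff (by norm_num)]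
  refine ⟨by decide, fun m hm h0 => ?_⟩
  interval_cases m <;> decide

/-- **`2^24` from `5² : 4A₄`** -/
theorem lb_five {K : Type v} [Group K] [IsSimpleGroup K] {a b t : K} (h : Two a b)
    (hta : t * a * t⁻¹ = a ^ 2) (htb : t * b * t⁻¹ = b ^ 2) {x : Fin 6 → K} {n : Fin 6 → ℕ}
    (hn : ∀ k, n k % 5 ≠ 0) (hg : ∀ k, Good (grp h) t (x k))
    (ha : ∀ k, x k * a * (x k)⁻¹ = (a ^ px k * b ^ qx k) ^ n k) : LB.{u} K 24 := by
  have : Fact (Nat.Prime 5) := ⟨by norm_num⟩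
  have h4 : orderOf (2 : ZMod 5) = 4 := ord_two
  have h1 := lb_of_scalar.{u} (r := 5) (m := 6) (by norm_num) (elem_grp h) (by
    rw [ne_bot_iff_exists_ne_one]
    exact ⟨⟨a, 1, 0, by simp⟩, fun e => h.a1 (congrArg Subtype.val e)⟩) (t := t) (by
    rintro _ ⟨i, j, rfl⟩
    calc t * (a ^ i * b ^ j) * t⁻¹ = (t * a * t⁻¹) ^ i * (t * b * t⁻¹) ^ j := by rw [conj_pow, conj_pow]; group
      _ = (a ^ i * b ^ j) ^ 2 := by
        rw [hta, htb, h.pow, ← pow_mul, ← pow_mul, mul_comm 2 i, mul_comm 2 j])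
    (fun H hH hi => points hn hg ha hH hi)
  rw [h4] at h1
  exact h1

end Five

end Cfsg.Agent.Omega.TwoF.Scalar
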