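import Mathlib

/-!
# Common eigenbases of commuting involutions (helper416)

`exists_basis`: a set of pairwise commuting involutive endomorphisms of a finite-dimensional space over a field of
characteristic not 2 has a common eigenbasis.
-/

set_option autoImplicit false

namespace Cfsg.Agent.Omega.TwoF.SignBasis

open Module

universe u

variable {K : Type*} [Field K]

/-- **A common eigenbasis.** -/
theorem exists_basis (h2 : (2 : K) ≠ 0) : ∀ (n : ℕ) (V : Type u) [AddCommGroup V] [Module K V] [FiniteDimensional K V]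
    (_ : finrank K V = n) (S : Set (V →ₗ[K] V)) (_ : ∀ f ∈ S, ∀ v, f (f v) = v)
    (_ : ∀ f ∈ S, ∀ g ∈ S, ∀ v, f (g v) = g (f v)),
    ∃ b : Basis (Fin n) K V, ∀ f ∈ S, ∀ i, f (b i) = b i ∨ f (b i) = - b i := by
  intro n
  induction n using Nat.strong_induction_on with
  | _ n ih =>
    intro V _ _ _ hn S hS hc
    by_cases hs : ∀ f ∈ S, (∀ v, f v = v) ∨ (∀ v, f v = -v)
    · refine ⟨finBasisOfFinrankEq K V hn, fun f hf i => ?_⟩
      rcases hs f hf with h | h
      · exact Or.inl (h _)
      · exact Or.inr (h _)
    · push Not at hs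
      obtain ⟨f, hf, ⟨v₁, hv₁⟩, ⟨v₂, hv₂⟩⟩ := hs
      let P : Submodule K V := LinearMap.ker (f - LinearMap.id)
      let M : Submodule K V := LinearMap.ker (f + LinearMap.id)
      have hP : ∀ v, v ∈ P ↔ f v = v := fun v => by
        rw [LinearMap.mem_ker, LinearMap.sub_apply, LinearMap.id_apply, sub_eq_zero]
      have hM : ∀ v, v ∈ M ↔ f v = -v := fun v => by
        rw [LinearMap.mem_ker, LinearMap.add_apply, LinearMap.id_apply, add_eq_zero_iff_eq_neg]
      have hPM : IsCompl P M := by
        constructor
        · rw [disjoint_iff, eq_bot_iff]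
          rintro v ⟨h1, h3⟩
          have h1 := (hP v).1 h1
          have h3 := (hM v).1 h3
          rw [h1] at h3
          have h4 : (2 : K) • v = 0 := by
            rw [two_smul]
            nth_rw 1 [h3]
            exact neg_add_cancel v
          exact (smul_eq_zero.1 h4).resolve_left h2
        · rw [codisjoint_iff, eq_top_iff]
          intro v _
          have h3 : v = (2 : K)⁻¹ • (v + f v) + (2 : K)⁻¹ • (v - f v) := by
            rw [← smul_add]
            have : v + f v + (v - f v) = (2 : K) • v := by rw [two_smul]; abel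
            rw [this, smul_smul, inv_mul_cancel₀ h2, one_smul]
          rw [h3]
          refine Submodule.add_mem_sup (P.smul_mem _ ?_) (M.smul_mem _ ?_)
          · rw [hP, map_add, hS f hf, add_comm]
          · rw [hM, map_sub, hS f hf, neg_sub]
      have hsum := Submodule.finrank_add_eq_of_isCompl hPM
      have hP0 : finrank K P ≠ 0 := by
        intro h0
        rw [Submodule.finrank_eq_zero] at h0
        apply hv₂
        have : v₂ + f v₂ ∈ P := by rw [hP, map_add, hS f hf, add_comm]
        rw [h0, Submodule.mem_bot] at this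
        rw [← add_eq_zero_iff_eq_neg, add_comm]
        exact this
      have hM0 : finrank K M ≠ 0 := by
        intro h0
        rw [Submodule.finrank_eq_zero] at h0
        apply hv₁
        have : v₁ - f v₁ ∈ M := by rw [hM, map_sub, hS f hf, neg_sub]
        rw [h0, Submodule.mem_bot, sub_eq_zero] at this
        exact this.symm
      have hinvP : ∀ g ∈ S, ∀ v ∈ P, g v ∈ P := fun g hg v hv => by
        rw [hP] at hv ⊢
        rw [hc f hf g hg, hv]
      have hinvM : ∀ g ∈ S, ∀ v ∈ M, g v ∈ M := fun g hg v hv => by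
        rw [hM] at hv ⊢
        rw [hc f hf g hg, hv, map_neg]
      obtain ⟨b₁, hb₁⟩ := ih (finrank K P) (by omega) P rfl
        {g | ∃ g₀ ∈ S, ∀ v : P, (g v : V) = g₀ v}
        (by
          rintro g ⟨g₀, hg₀, h⟩ v
          apply Subtype.ext
          rw [h, h, hS g₀ hg₀])
        (by
          rintro g ⟨g₀, hg₀, h⟩ k ⟨k₀, hk₀, h'⟩ v
          apply Subtype.ext
          rw [h, h', h', h, hc g₀ hg₀ k₀ hk₀])
      obtain ⟨b₂, hb₂⟩ := ih (finrank K M) (by omega) M rfl
        {g | ∃ g₀ ∈ S, ∀ v : M, (g v : V) = g₀ v}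
        (by
          rintro g ⟨g₀, hg₀, h⟩ v
          apply Subtype.ext
          rw [h, h, hS g₀ hg₀])
        (by
          rintro g ⟨g₀, hg₀, h⟩ k ⟨k₀, hk₀, h'⟩ v
          apply Subtype.ext
          rw [h, h', h', h, hc g₀ hg₀ k₀ hk₀])
      let b₀ : Basis (Fin (finrank K P) ⊕ Fin (finrank K M)) K V :=
        (b₁.prod b₂).map (Submodule.prodEquivOfIsCompl P M hPM)
      have hb₀ : ∀ g ∈ S, ∀ i, g (b₀ i) = b₀ i ∨ g (b₀ i) = - b₀ i := by
        intro g hg i
        rcases i with i | i
        · have e : b₀ (Sum.inl i) = (b₁ i : V) := by simp [b₀]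
          rw [e]
          rcases hb₁ (g.restrict (hinvP g hg)) ⟨g, hg, fun v => rfl⟩ i with h | h
          · exact Or.inl (congrArg Subtype.val h)
          · exact Or.inr (congrArg Subtype.val h)
        · have e : b₀ (Sum.inr i) = (b₂ i : V) := by simp [b₀]
          rw [e]
          rcases hb₂ (g.restrict (hinvM g hg)) ⟨g, hg, fun v => rfl⟩ i with h | h
          · exact Or.inl (congrArg Subtype.val h)
          · exact Or.inr (congrArg Subtype.val h)
      refine ⟨b₀.reindex (finSumFinEquiv.trans (finCongr (hsum.trans hn))), fun g hg i => ?_⟩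
      rw [Basis.reindex_apply]
      exact hb₀ g hg _

end Cfsg.Agent.Omega.TwoF.SignBasis
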