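import Mathlib

/-!
# Doubly even codes (helper416)

`card_sq_le`: a group with an injective additive map to the words over `F_2` of length `n`, all weights divisible by 4,
has order at most `2 ^ (n / 2)`.
-/

set_option autoImplicit false
set_option linter.unusedSectionVars false

namespace Cfsg.Agent.Omega.TwoF.SignCode

open Module

variable {ι : Type*} [Fintype ι] [DecidableEq ι]

/-- the weight of a word -/
def wt (x : ι → ZMod 2) : ℕ := (Finset.univ.filter fun i => x i ≠ 0).card

theorem wt_add (x y : ι → ZMod 2) :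
    wt (x + y) + 2 * (Finset.univ.filter fun i => x i * y i ≠ 0).card = wt x + wt y := by
  unfold wt
  simp only [Finset.card_filter]
  rw [Finset.mul_sum, ← Finset.sum_add_distrib, ← Finset.sum_add_distrib]
  refine Finset.sum_congr rfl fun i _ => ?_
  rw [Pi.add_apply]
  have h : ∀ a b : ZMod 2, (if a + b ≠ 0 then 1 else 0) + 2 * (if a * b ≠ 0 then 1 else 0) =
      (if a ≠ 0 then 1 else 0) + (if b ≠ 0 then 1 else 0) := by decide
  exact h _ _

theorem dot_eq (x y : ι → ZMod 2) :
    x ⬝ᵥ y = ((Finset.univ.filter fun i => x i * y i ≠ 0).card : ZMod 2) := by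
  rw [dotProduct, Finset.card_filter, Nat.cast_sum]
  refine Finset.sum_congr rfl fun i _ => ?_
  have h : ∀ a : ZMod 2, a = ((if a ≠ 0 then 1 else 0 : ℕ) : ZMod 2) := by decide
  exact h _

/-- the dot product as a map to the dual -/
def dot : (ι → ZMod 2) →ₗ[ZMod 2] Dual (ZMod 2) (ι → ZMod 2) :=
  LinearMap.mk₂ (ZMod 2) (fun x y => x ⬝ᵥ y) (fun x y z => add_dotProduct x y z) (fun a x y => smul_dotProduct a x y)
    (fun x y z => dotProduct_add x y z) (fun a x y => dotProduct_smul a x y)

theorem dot_apply (x y : ι → ZMod 2) : dot x y = x ⬝ᵥ y := rfl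

theorem dot_injective : Function.Injective (dot (ι := ι)) := by
  intro x y h
  ext i
  have h1 := LinearMap.congr_fun h (Pi.single i 1)
  rwa [dot_apply, dot_apply, dotProduct_single_one, dotProduct_single_one] at h1

/-- **Doubly even codes.** -/
theorem card_sq_le {X : Type*} [Group X] [Finite X] (c : X → ι → ZMod 2) (hc : ∀ x y, c (x * y) = c x + c y)
    (hi : Function.Injective c) (hw : ∀ x, 4 ∣ wt (c x)) : Nat.card X ^ 2 ≤ 2 ^ Fintype.card ι := by
  have h1 : c 1 = 0 := by
    have := hc 1 1
    rw [mul_one] at this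
    exact left_eq_add.1 this
  let C : Submodule (ZMod 2) (ι → ZMod 2) :=
    { carrier := Set.range c
      zero_mem' := ⟨1, h1⟩
      add_mem' := by
        rintro _ _ ⟨x, rfl⟩ ⟨y, rfl⟩
        exact ⟨x * y, hc x y⟩
      smul_mem' := by
        rintro a _ ⟨x, rfl⟩
        have ha : ∀ a : ZMod 2, a = 0 ∨ a = 1 := by decide
        rcases ha a with rfl | rfl
        · exact ⟨1, by rw [h1, zero_smul]⟩
        · exact ⟨x, (one_smul _ _).symm⟩ }
  have hcard : Nat.card X = 2 ^ finrank (ZMod 2) C := by
    have e : Nat.card X = Nat.card C := Nat.card_congr (Equiv.ofInjective c hi)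
    rw [e, Module.natCard_eq_pow_finrank (K := ZMod 2), Nat.card_zmod]
  have hC : ∀ x ∈ C, ∀ y ∈ C, x ⬝ᵥ y = 0 := by
    rintro _ ⟨x, rfl⟩ _ ⟨y, rfl⟩
    rw [dot_eq, ZMod.natCast_eq_zero_iff]
    have h2 := wt_add (c x) (c y)
    rw [← hc] at h2
    have h3 := hw x
    have h4 := hw y
    have h5 := hw (x * y)
    omega
  have hle : finrank (ZMod 2) C ≤ finrank (ZMod 2) C.dualAnnihilator := by
    rw [(Submodule.equivMapOfInjective (dot (ι := ι)) dot_injective C).finrank_eq]
    apply Submodule.finrank_mono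
    rintro _ ⟨x, hx, rfl⟩
    rw [Submodule.mem_dualAnnihilator]
    intro y hy
    rw [dot_apply]
    exact hC x hx y hy
  have hsum := Subspace.finrank_add_finrank_dualAnnihilator_eq C
  rw [Module.finrank_fintype_fun_eq_card] at hsum
  rw [hcard, ← pow_mul]
  exact Nat.pow_le_pow_right (by norm_num) (by omega)

end Cfsg.Agent.Omega.TwoF.SignCode
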