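import Cfsg.Agent.Omega.Lie.HeisCover

/-!
# Heisenberg configurations and odd covers: sign elements

`π : L → K` surjective with central kernel of odd order.  No information on the Schur multiplier of `K` is used:
commuting elements `a, b` of `K` have commuting lifts as soon as some element of `K` inverts `a` and centralises
`b`, or interchanges `a` and `b` (`CC a b`, closed under products, conjugation, ...).

* `CC.comm`: `CC a b` implies that all lifts of `a` and `b` commute;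
* `SignHeis`: a Heisenberg configuration with sign elements; `SignHeis.exists_lift`: it lifts to every odd cover;
* `LB.sign`: the lower bound.
-/

set_option autoImplicit false

universe u v w

namespace Cfsg.Agent.Omega.TwoF.SignLift

open Cfsg.Agent.Omega.Lie.Heis

/-- Commuting pairs whose lifts to every odd central cover commute (a sufficient condition). -/
inductive CC {K : Type*} [Group K] : K → K → Prop
  | inv {a b : K} (t : K) (hab : a * b = b * a) (ha : t * a * t⁻¹ = a⁻¹) (hb : t * b = b * t) : CC a b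
  | swap {a b : K} (t : K) (hab : a * b = b * a) (ha : t * a * t⁻¹ = b) (hb : t * b * t⁻¹ = a) : CC a b
  | two {a b : K} (k : ℕ) (hab : a * b = b * a) (ha : a ^ (2 ^ k) = 1) : CC a b
  | refl (a : K) : CC a a
  | symm {a b : K} (h : CC a b) : CC b a
  | mul {a b c : K} (h : CC a b) (h' : CC a c) : CC a (b * c)
  | inv' {a b : K} (h : CC a b) : CC a b⁻¹
  | conj {a b : K} (g : K) (h : CC a b) : CC (g * a * g⁻¹) (g * b * g⁻¹)

section lift

variable {L : Type*} {K : Type*} [Group L] [Group K] {π : L →* K}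

theorem eq_one_of_sq (ho : Odd (Nat.card π.ker)) {c : L} (hc : c ∈ π.ker) {k : ℕ}
    (h : c ^ (2 ^ k) = 1) : c = 1 := by
  have h1 : orderOf c ∣ 2 ^ k := orderOf_dvd_of_pow_eq_one h
  have h2 : orderOf c ∣ Nat.card π.ker := by
    have := orderOf_dvd_natCard (⟨c, hc⟩ : π.ker)
    rwa [Subgroup.orderOf_mk] at this
  have h3 : Nat.Coprime (2 ^ k) (Nat.card π.ker) :=
    Nat.Coprime.pow_left k (Nat.coprime_two_left.2 ho)
  exact orderOf_eq_one_iff.1 (Nat.eq_one_of_dvd_coprimes h3 h1 h2)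

theorem eq_one_of_inv (ho : Odd (Nat.card π.ker)) {c : L} (hc : c ∈ π.ker) (h : c = c⁻¹) : c = 1 := by
  apply eq_one_of_sq ho hc (k := 1)
  rw [pow_one, pow_two]
  nth_rw 1 [h]
  rw [inv_mul_cancel]

/-- Elements of the kernel have square roots. -/
theorem exists_sqrt (ho : Odd (Nat.card π.ker)) {c : L} (hc : c ∈ π.ker) :
    ∃ d ∈ π.ker, d * d = c := by
  obtain ⟨m, hm⟩ := ho
  refine ⟨c ^ (m + 1), π.ker.pow_mem hc _, ?_⟩
  have h1 : c ^ Nat.card π.ker = 1 := by
    have h2 := pow_card_eq_one' (x := (⟨c, hc⟩ : π.ker))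
    exact congrArg Subtype.val h2
  rw [← pow_add, show m + 1 + (m + 1) = Nat.card π.ker + 1 by omega, pow_succ, h1, one_mul]

variable (hπ : Function.Surjective π) (hc : π.ker ≤ Subgroup.center L) (ho : Odd (Nat.card π.ker))

include hc in
theorem central {c : L} (h : c ∈ π.ker) (g : L) : g * c = c * g := Subgroup.mem_center_iff.1 (hc h) g

/-- The element `c` with `a b = c b a`. -/
theorem mem_ker_of_comm {a b : L} (h : π a * π b = π b * π a) : a * b * a⁻¹ * b⁻¹ ∈ π.ker := by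
  rw [MonoidHom.mem_ker, map_mul, map_mul, map_mul, map_inv, map_inv, h]
  group

include hc ho in
/-- All elements lying over a 2-element of the centraliser commute. -/
theorem comm_of_two {a b : L} (h : π a * π b = π b * π a) {k : ℕ} (ha : π a ^ (2 ^ k) = 1) :
    a * b = b * a := by
  set c := a * b * a⁻¹ * b⁻¹ with hcd
  have h1 : c ∈ π.ker := mem_ker_of_comm h
  have h2 : a * b * a⁻¹ = c * b := by rw [hcd]; group
  have h3 : ∀ n : ℕ, a ^ n * b * (a ^ n)⁻¹ = c ^ n * b := by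
    intro n
    induction n with
    | zero => simp
    | succ n ih =>
      calc a ^ (n + 1) * b * (a ^ (n + 1))⁻¹ = a * (a ^ n * b * (a ^ n)⁻¹) * a⁻¹ := by
            rw [pow_succ']; group
        _ = a * c ^ n * b * a⁻¹ := by rw [ih]; group
        _ = c ^ n * (a * b * a⁻¹) := by rw [central hc (π.ker.pow_mem h1 n) a]; group
        _ = c ^ (n + 1) * b := by rw [h2, pow_succ]; group
  have h4 : a ^ (2 ^ k) ∈ π.ker := by rw [MonoidHom.mem_ker, map_pow, ha]
  have h5 := h3 (2 ^ k)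
  rw [← central hc h4 b, mul_inv_cancel_right] at h5
  have h6 : c ^ (2 ^ k) = 1 := by
    have := congrArg (· * b⁻¹) h5
    simpa using this.symm
  have h7 : c = 1 := eq_one_of_sq ho h1 h6
  rw [h7, one_mul] at h2
  calc a * b = (a * b * a⁻¹) * a := by group
    _ = b * a := by rw [h2]

include hπ hc ho in
/-- **Lifts commute.** -/
theorem _root_.Cfsg.Agent.Omega.TwoF.SignLift.CC.comm {s t : K} (h : CC s t) :
    ∀ a b : L, π a = s → π b = t → a * b = b * a := by
  induction h with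
  | @inv s t g hst hs ht =>
    rintro a b rfl rfl
    obtain ⟨g, rfl⟩ := hπ g
    set c := a * b * a⁻¹ * b⁻¹ with hcd
    have h1 : c ∈ π.ker := mem_ker_of_comm hst
    have h2 : g * a * g⁻¹ * a ∈ π.ker := by
      rw [MonoidHom.mem_ker, map_mul, map_mul, map_mul, map_inv, hs, inv_mul_cancel]
    have h3 : g * b * g⁻¹ * b⁻¹ ∈ π.ker := mem_ker_of_comm ht
    set d := g * a * g⁻¹ * a with hd
    set e := g * b * g⁻¹ * b⁻¹ with he
    have h4 : g * a * g⁻¹ = d * a⁻¹ := by rw [hd]; group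
    have h5 : g * b * g⁻¹ = e * b := by rw [he]; group
    have h6 : g * c * g⁻¹ = c := by rw [central hc h1 g]; group
    have h7 : g * c * g⁻¹ = (d * a⁻¹) * (e * b) * (d * a⁻¹)⁻¹ * (e * b)⁻¹ := by
      rw [← h4, ← h5, hcd]; group
    have h8 : (d * a⁻¹) * (e * b) * (d * a⁻¹)⁻¹ * (e * b)⁻¹ = a⁻¹ * b * a * b⁻¹ := by
      have e1 : d * a⁻¹ = a⁻¹ * d := (central hc h2 a⁻¹).symm
      have e2 : e * b = b * e := (central hc h3 b).symm
      have e3 : d * (b * e) = b * e * d := (central hc h2 (b * e)).symm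
      have e4 : e * a = a * e := (central hc h3 a).symm
      calc (d * a⁻¹) * (e * b) * (d * a⁻¹)⁻¹ * (e * b)⁻¹
          = a⁻¹ * (d * (b * e)) * d⁻¹ * a * (b * e)⁻¹ := by rw [e1, e2]; group
        _ = a⁻¹ * b * (e * a) * e⁻¹ * b⁻¹ := by rw [e3]; group
        _ = a⁻¹ * b * a * b⁻¹ := by rw [e4]; group
    have h9 : a⁻¹ * b * a * b⁻¹ = c⁻¹ := by
      have : a⁻¹ * c * a = c := by rw [central hc h1 a⁻¹]; group
      calc a⁻¹ * b * a * b⁻¹ = (a⁻¹ * c * a)⁻¹ := by rw [hcd]; group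
        _ = c⁻¹ := by rw [this]
    have h10 : c = c⁻¹ := by
      rw [h6, h8, h9] at h7
      exact h7
    have h11 := eq_one_of_inv ho h1 h10
    rw [hcd] at h11
    calc a * b = (a * b * a⁻¹ * b⁻¹) * (b * a) := by group
      _ = b * a := by rw [h11, one_mul]
  | @swap s t g hst hs ht =>
    rintro a b rfl rfl
    obtain ⟨g, rfl⟩ := hπ g
    set c := a * b * a⁻¹ * b⁻¹ with hcd
    have h1 : c ∈ π.ker := mem_ker_of_comm hst
    have h2 : g * a * g⁻¹ * b⁻¹ ∈ π.ker := by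
      rw [MonoidHom.mem_ker, map_mul, map_mul, map_mul, map_inv, map_inv, hs, mul_inv_cancel]
    have h3 : g * b * g⁻¹ * a⁻¹ ∈ π.ker := by
      rw [MonoidHom.mem_ker, map_mul, map_mul, map_mul, map_inv, map_inv, ht, mul_inv_cancel]
    set d := g * a * g⁻¹ * b⁻¹ with hd
    set e := g * b * g⁻¹ * a⁻¹ with he
    have h4 : g * a * g⁻¹ = d * b := by rw [hd]; group
    have h5 : g * b * g⁻¹ = e * a := by rw [he]; group
    have h6 : g * c * g⁻¹ = c := by rw [central hc h1 g]; group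
    have h7 : g * c * g⁻¹ = (d * b) * (e * a) * (d * b)⁻¹ * (e * a)⁻¹ := by
      rw [← h4, ← h5, hcd]; group
    have h8 : (d * b) * (e * a) * (d * b)⁻¹ * (e * a)⁻¹ = b * a * b⁻¹ * a⁻¹ := by
      have e1 : d * b = b * d := (central hc h2 b).symm
      have e2 : e * a = a * e := (central hc h3 a).symm
      have e3 : d * (a * e) = a * e * d := (central hc h2 (a * e)).symm
      have e4 : e * b⁻¹ = b⁻¹ * e := (central hc h3 b⁻¹).symm
      calc (d * b) * (e * a) * (d * b)⁻¹ * (e * a)⁻¹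
          = b * (d * (a * e)) * d⁻¹ * b⁻¹ * (a * e)⁻¹ := by rw [e1, e2]; group
        _ = b * a * (e * b⁻¹) * e⁻¹ * a⁻¹ := by rw [e3]; group
        _ = b * a * b⁻¹ * a⁻¹ := by rw [e4]; group
    have h9 : b * a * b⁻¹ * a⁻¹ = c⁻¹ := by rw [hcd]; group
    have h10 : c = c⁻¹ := by
      rw [h6, h8, h9] at h7
      exact h7
    have h11 := eq_one_of_inv ho h1 h10
    rw [hcd] at h11
    calc a * b = (a * b * a⁻¹ * b⁻¹) * (b * a) := by group
      _ = b * a := by rw [h11, one_mul]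
  | @two s t k hst hs =>
    rintro a b rfl rfl
    exact comm_of_two hc ho hst hs
  | refl s =>
    rintro a b rfl h
    have h1 : b * a⁻¹ ∈ π.ker := by rw [MonoidHom.mem_ker, map_mul, map_inv, h, mul_inv_cancel]
    have h2 : b = (b * a⁻¹) * a := by group
    rw [h2, ← mul_assoc, central hc h1 a]
  | symm _ ih =>
    intro a b ha hb
    exact (ih b a hb ha).symm
  | @mul s t t' _ _ ih ih' =>
    intro a b ha hb
    obtain ⟨b₁, hb₁⟩ := hπ t
    have h1 := ih a b₁ ha hb₁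
    have h2 := ih' a (b₁⁻¹ * b) ha (by rw [map_mul, map_inv, hb₁, hb, inv_mul_cancel_left])
    calc a * b = (a * b₁) * (b₁⁻¹ * b) := by group
      _ = b₁ * (a * (b₁⁻¹ * b)) := by rw [h1, mul_assoc]
      _ = b * a := by rw [h2]; group
  | @inv' s t _ ih =>
    intro a b ha hb
    have h1 := ih a b⁻¹ ha (by rw [map_inv, hb, inv_inv])
    calc a * b = b * (b⁻¹ * a) * b := by group
      _ = b * a := by rw [← h1]; group
  | @conj s t g _ ih =>
    intro a b ha hb
    obtain ⟨g, rfl⟩ := hπ g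
    have h1 := ih (g⁻¹ * a * g) (g⁻¹ * b * g) (by rw [map_mul, map_mul, map_inv, ha]; group)
      (by rw [map_mul, map_mul, map_inv, hb]; group)
    calc a * b = g * ((g⁻¹ * a * g) * (g⁻¹ * b * g)) * g⁻¹ := by group
      _ = b * a := by rw [h1]; group

include hπ hc ho in
/-- A lift inverted by a given lift of the inverting element. -/
theorem exists_inv_lift {s : K} {g : L} (h : π g * s * (π g)⁻¹ = s⁻¹) :
    ∃ a : L, π a = s ∧ g * a * g⁻¹ = a⁻¹ := by
  obtain ⟨b, rfl⟩ := hπ s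
  have h1 : g * b * g⁻¹ * b ∈ π.ker := by
    rw [MonoidHom.mem_ker, map_mul, map_mul, map_mul, map_inv, h, inv_mul_cancel]
  obtain ⟨d, hd, hdd⟩ := exists_sqrt ho (π.ker.inv_mem h1)
  refine ⟨b * d, by rw [map_mul, MonoidHom.mem_ker.1 hd, mul_one], ?_⟩
  have e1 : b * d = d * b := central hc hd b
  have e2 : g * d * g⁻¹ = d := by rw [central hc hd g]; group
  have e3 : g * b * g⁻¹ = (d * d)⁻¹ * b⁻¹ := by rw [hdd]; group
  have e4 : d⁻¹ * b⁻¹ = b⁻¹ * d⁻¹ := (central hc (π.ker.inv_mem hd) b⁻¹).symm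
  calc g * (b * d) * g⁻¹ = (g * b * g⁻¹) * (g * d * g⁻¹) := by group
    _ = (d * d)⁻¹ * b⁻¹ * d := by rw [e3, e2]
    _ = d⁻¹ * (d⁻¹ * b⁻¹) * d := by group
    _ = d⁻¹ * (b⁻¹ * d⁻¹) * d := by rw [e4]
    _ = d⁻¹ * b⁻¹ := by group
    _ = (b * d)⁻¹ := by rw [_root_.mul_inv_rev]

include hc ho in
theorem pow_of_inv {a g : L} {r : ℕ} (h : g * a * g⁻¹ = a⁻¹) (hr : π a ^ r = 1) : a ^ r = 1 := by
  have h1 : a ^ r ∈ π.ker := by rw [MonoidHom.mem_ker, map_pow, hr]
  have h2 : g * a ^ r * g⁻¹ = (a ^ r)⁻¹ := by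
    calc g * a ^ r * g⁻¹ = (g * a * g⁻¹) ^ r := by rw [conj_pow]
      _ = (a ^ r)⁻¹ := by rw [h, inv_pow]
  apply eq_one_of_inv ho h1
  rw [← h2, central hc h1 g]
  group

end lift

/-- A Heisenberg configuration with sign elements. -/
structure SignHeis {K : Type*} [Group K] (r n : ℕ) (z : K) (x y : Fin n → K) : Prop where
  heis : Heis r n z x y
  inv : ∀ i, ∃ t : K, t * x i * t⁻¹ = (x i)⁻¹
  czx : ∀ i, CC z (x i)
  czy : ∀ i, CC z (y i)
  cxx : ∀ i j, i ≠ j → CC (x i) (x j)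
  cyx : ∀ i j, i ≠ j → CC (y i) (x j)
  same : ∀ i j, ∃ g : K, (∃ k : ℕ, g ^ (2 ^ k) = 1) ∧ g * z = z * g ∧ g * x i * g⁻¹ = x j ∧
    g * y i * g⁻¹ = y j

/-- **A Heisenberg configuration with sign elements lifts to every odd cover.** -/
theorem SignHeis.exists_lift {K : Type*} [Group K] {r n : ℕ} (hn : 0 < n) {z : K} {x y : Fin n → K}
    (h : SignHeis r n z x y) {L : Type*} [Group L] {π : L →* K} (hπ : Function.Surjective π)
    (hc : π.ker ≤ Subgroup.center L) (ho : Odd (Nat.card π.ker)) :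
    ∃ (z' : L) (x' y' : Fin n → L), π z' = z ∧ (∀ i, π (x' i) = x i) ∧ (∀ i, π (y' i) = y i) ∧
      Heis r n z' x' y' := by
  have h1 : ∀ i, ∃ a : L, π a = x i ∧ a ^ r = 1 := by
    intro i
    obtain ⟨t, ht⟩ := h.inv i
    obtain ⟨g, rfl⟩ := hπ t
    obtain ⟨a, ha, ha'⟩ := exists_inv_lift hπ hc ho ht
    exact ⟨a, ha, pow_of_inv hc ho ha' (by rw [ha, h.heis.xr])⟩
  choose x' hx' hxr using h1
  choose y' hy' using fun i => hπ (y i)
  let zz : Fin n → L := fun i => (x' i)⁻¹ * (y' i * x' i * (y' i)⁻¹)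
  have hzz : ∀ i, π (zz i) = z := by
    intro i
    rw [map_mul, map_mul, map_mul, map_inv, map_inv, hx', hy', h.heis.conj]
    group
  have hzx : ∀ i j, zz i * x' j = x' j * zz i := fun i j =>
    (h.czx j).comm hπ hc ho _ _ (hzz i) (hx' j)
  have hzy : ∀ i j, zz i * y' j = y' j * zz i := fun i j =>
    (h.czy j).comm hπ hc ho _ _ (hzz i) (hy' j)
  have hconj : ∀ i, y' i * x' i * (y' i)⁻¹ = x' i * zz i := fun i => by
    show _ = x' i * ((x' i)⁻¹ * (y' i * x' i * (y' i)⁻¹))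
    group
  have hzr : ∀ i, zz i ^ r = 1 := by
    intro i
    have h2 : (y' i * x' i * (y' i)⁻¹) ^ r = 1 := by rw [conj_pow, hxr]; group
    rw [hconj i] at h2
    have h3 : Commute (x' i) (zz i) := (hzx i i).symm
    rwa [h3.mul_pow, hxr, one_mul] at h2
  have hsame : ∀ i j, zz i = zz j := by
    intro i j
    obtain ⟨g, ⟨k, hk⟩, hgz, hgx, hgy⟩ := h.same i j
    obtain ⟨g, rfl⟩ := hπ g
    have h2 : g * zz i = zz i * g := comm_of_two hc ho (by rw [hzz, hgz]) hk
    have hdx : g * x' i * g⁻¹ * (x' j)⁻¹ ∈ π.ker := by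
      rw [MonoidHom.mem_ker, map_mul, map_mul, map_mul, map_inv, map_inv, hx', hx', hgx, mul_inv_cancel]
    have hdy : g * y' i * g⁻¹ * (y' j)⁻¹ ∈ π.ker := by
      rw [MonoidHom.mem_ker, map_mul, map_mul, map_mul, map_inv, map_inv, hy', hy', hgy, mul_inv_cancel]
    set d := g * x' i * g⁻¹ * (x' j)⁻¹ with hd
    set e := g * y' i * g⁻¹ * (y' j)⁻¹ with he
    have e1 : g * x' i * g⁻¹ = d * x' j := by rw [hd]; group
    have e2 : g * y' i * g⁻¹ = e * y' j := by rw [he]; group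
    have e3 : y' j * (d * x' j) = d * (y' j * x' j) := by
      rw [← mul_assoc, central hc hdx, mul_assoc]
    have e4 : e * (d * (y' j * x' j) * (y' j)⁻¹) = (d * (y' j * x' j) * (y' j)⁻¹) * e :=
      (central hc hdy _).symm
    calc zz i = g * zz i * g⁻¹ := by rw [h2]; group
      _ = (g * x' i * g⁻¹)⁻¹ * ((g * y' i * g⁻¹) * (g * x' i * g⁻¹) * (g * y' i * g⁻¹)⁻¹) := by
          show g * ((x' i)⁻¹ * (y' i * x' i * (y' i)⁻¹)) * g⁻¹ = _
          group
      _ = (d * x' j)⁻¹ * ((e * y' j) * (d * x' j) * (e * y' j)⁻¹) := by rw [e1, e2]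
      _ = (x' j)⁻¹ * d⁻¹ * (e * (y' j * (d * x' j)) * (y' j)⁻¹ * e⁻¹) := by group
      _ = (x' j)⁻¹ * d⁻¹ * (e * (d * (y' j * x' j) * (y' j)⁻¹) * e⁻¹) := by rw [e3]; group
      _ = (x' j)⁻¹ * (y' j * x' j * (y' j)⁻¹) := by rw [e4]; group
  refine ⟨zz ⟨0, hn⟩, x', y', hzz _, hx', hy', ⟨h.heis.prime, hzr _, hxr, fun i => hzx _ i, fun i => hzy _ i,
    fun i j => ?_, fun i j hij => ?_, fun i => ?_⟩⟩
  · by_cases hij : i = j
    · rw [hij]
    · exact (h.cxx i j hij).comm hπ hc ho _ _ (hx' i) (hx' j)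
  · exact (h.cyx i j hij).comm hπ hc ho _ _ (hy' i) (hx' j)
  · rw [hconj i, hsame i ⟨0, hn⟩]

/-- **The lower bound**, for all odd covers. -/
theorem LB.sign {K : Type u} [Group K] [IsSimpleGroup K] {r n : ℕ} (hn : 0 < n) {z : K} {x y : Fin n → K}
    (h : SignHeis r n z x y) (hr2 : r ≠ 2) (hz : z ≠ 1) {m : ℕ}
    (hm : m ≤ orderOf (2 : ZMod r) * r ^ n) : LB.{u, v, w} K m := by
  apply LB.of_irr
  intro L _ _ π hπ hc ho hL V _ _ h2 φ hφ hirr
  obtain ⟨z', x', y', hz', hx', hy', hH⟩ := h.exists_lift hn hπ hc ho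
  have h3 : φ z' ≠ 1 := by
    intro h4
    apply hz
    rw [← hz', hφ (h4.trans (map_one φ).symm), map_one]
  exact (Nat.pow_le_pow_right (by norm_num) hm).trans (hH.two_pow_le_mulAut φ h2 hr2 h3)

end Cfsg.Agent.Omega.TwoF.SignLift
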