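import Cfsg.Agent.Omega.TwoF.SignBasis
import Cfsg.Agent.Omega.TwoF.SignCode
import Cfsg.Agent.Omega.TwoF.RkLin

/-!
# A bound for 2-groups of sign type on a 24-dimensional rational space (helper416)

`X` acts faithfully on a rational space of dimension 24, `ε = -1`, all squares are `1` or `ε`, and the `-1`-eigenspaces
of involutions have dimension `0, 8, 12, 16` or `24`. Then `|X| < 2 ^ 13` (`Rep.card_lt`).

If `X` is elementary abelian: a doubly even code of length 24. Otherwise: let `Z` be the group of involutions of the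
centre. Its weight spaces `V_i` are `X`-invariant of dimension `m_i ≥ 2` (an element of square `-1` has no eigenvector),
the cosets of the centre are linearly independent on `V_i` (traces), so `|X : Z(X)| ≤ m_i ^ 2`; and `|Z| ≤ 2 ^ w`,
`|Z| ≤ 2 ^ 9` for the number `w` of weights, because an involution with fewer than 8 negative coordinates is trivial.
-/

set_option autoImplicit false
set_option linter.unusedSectionVars false

namespace Cfsg.Agent.Omega.TwoF.SignRep

open Module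

universe u v

variable {X : Type v} [Group X] [Finite X] {V : Type u} [AddCommGroup V] [Module ℚ V] [FiniteDimensional ℚ V]

/-- the situation -/
structure Rep (ρ : X →* (V →ₗ[ℚ] V)) (ε : X) : Prop where
  dim : finrank ℚ V = 24
  inj : Function.Injective ρ
  eps : ∀ v, ρ ε v = -v
  sq : ∀ x, x * x = 1 ∨ x * x = ε
  tr : ∀ x, x * x = 1 → ∃ w : ℕ, (w = 0 ∨ w = 8 ∨ w = 12 ∨ w = 16 ∨ w = 24) ∧
    LinearMap.trace ℚ V (ρ x) = 24 - 2 * w

namespace Rep

variable {ρ : X →* (V →ₗ[ℚ] V)} {ε : X}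

theorem mul_apply (x y : X) (v : V) : ρ (x * y) v = ρ x (ρ y v) := by rw [map_mul]; rfl

theorem one_apply (v : V) : ρ 1 v = v := by rw [map_one]; rfl

theorem ext (h : Rep ρ ε) {x y : X} (hxy : ∀ v, ρ x v = ρ y v) : x = y := h.inj (LinearMap.ext hxy)

theorem eps_comm (h : Rep ρ ε) (x : X) : x * ε = ε * x := by
  apply h.ext
  intro v
  rw [mul_apply, mul_apply, h.eps, h.eps, map_neg]

theorem eps_sq (h : Rep ρ ε) : ε * ε = 1 := by
  apply h.ext
  intro v
  rw [mul_apply, h.eps, h.eps, neg_neg, one_apply]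

theorem inv_eq (h : Rep ρ ε) (x : X) : x⁻¹ = x ∨ x⁻¹ = x * ε := by
  rcases h.sq x with h1 | h1
  · exact Or.inl (inv_eq_of_mul_eq_one_left h1)
  · right
    apply inv_eq_of_mul_eq_one_left
    rw [mul_assoc, ← h.eps_comm, ← mul_assoc, h1, h.eps_sq]

theorem comm (h : Rep ρ ε) (x y : X) : x * y = y * x ∨ x * y = ε * (y * x) := by
  have h1 : x * y = (x * y * (x * y)) * (y⁻¹ * x⁻¹) := by group
  have h2 : y⁻¹ * x⁻¹ = y * x ∨ y⁻¹ * x⁻¹ = ε * (y * x) := by
    rcases h.inv_eq x with hx | hx <;> rcases h.inv_eq y with hy | hy <;> rw [hx, hy]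
    · exact Or.inl rfl
    · right
      rw [h.eps_comm, mul_assoc]
    · right
      rw [← mul_assoc, h.eps_comm]
    · left
      rw [h.eps_comm y, mul_assoc, ← mul_assoc y x ε, h.eps_comm (y * x), ← mul_assoc, h.eps_sq, one_mul]
  rcases h.sq (x * y) with h3 | h3 <;> rcases h2 with h4 | h4 <;> rw [h3, h4] at h1
  · exact Or.inl (by rw [h1, one_mul])
  · exact Or.inr (by rw [h1, one_mul])
  · exact Or.inr h1
  · exact Or.inl (by rw [h1, ← mul_assoc, h.eps_sq, one_mul])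

/-- the eigenbasis of an elementary abelian subgroup -/
theorem exists_basis (h : Rep ρ ε) (Z : Subgroup X) (hZ : ∀ z ∈ Z, z * z = 1) :
    ∃ b : Basis (Fin 24) ℚ V, ∀ z ∈ Z, ∀ i, ρ z (b i) = b i ∨ ρ z (b i) = -b i := by
  obtain ⟨b, hb⟩ := SignBasis.exists_basis (K := ℚ) two_ne_zero 24 V h.dim {f | ∃ z ∈ Z, f = ρ z}
    (by
      rintro _ ⟨z, hz, rfl⟩ v
      rw [← mul_apply, hZ z hz, one_apply])
    (by
      rintro _ ⟨z, hz, rfl⟩ _ ⟨z', hz', rfl⟩ v
      rw [← mul_apply, ← mul_apply]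
      congr 2
      have h1 : (z * z')⁻¹ = z * z' := inv_eq_of_mul_eq_one_left (hZ _ (mul_mem hz hz'))
      have h2 : z⁻¹ = z := inv_eq_of_mul_eq_one_left (hZ _ hz)
      have h3 : z'⁻¹ = z' := inv_eq_of_mul_eq_one_left (hZ _ hz')
      rw [mul_inv_rev, h2, h3] at h1
      exact h1.symm)
  exact ⟨b, fun z hz i => hb _ ⟨z, hz, rfl⟩ i⟩

open Classical in
/-- the code word of an element -/
noncomputable def cw (ρ : X →* (V →ₗ[ℚ] V)) (b : Basis (Fin 24) ℚ V) (x : X) (i : Fin 24) : ZMod 2 :=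
  if ρ x (b i) = b i then 0 else 1

theorem cw_eq_zero {b : Basis (Fin 24) ℚ V} {x : X} {i : Fin 24} : cw ρ b x i = 0 ↔ ρ x (b i) = b i := by
  unfold cw
  split_ifs with h <;> simp [h]

theorem ne_neg {b : Basis (Fin 24) ℚ V} {i : Fin 24} : b i ≠ -b i := by
  intro h
  have h1 : (2 : ℚ) • b i = 0 := by
    rw [two_smul]
    nth_rw 1 [h]
    exact neg_add_cancel _
  exact b.ne_zero i ((smul_eq_zero.1 h1).resolve_left two_ne_zero)

theorem cw_eq_one {b : Basis (Fin 24) ℚ V} {x : X} {i : Fin 24} (hx : ρ x (b i) = b i ∨ ρ x (b i) = -b i) :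
    cw ρ b x i = 1 ↔ ρ x (b i) = -b i := by
  unfold cw
  split_ifs with h
  · constructor
    · intro h1; exact absurd h1 (by decide)
    · intro h1; exact absurd (h.symm.trans h1) ne_neg
  · exact ⟨fun _ => hx.resolve_left h, fun _ => rfl⟩

theorem cw_mul {b : Basis (Fin 24) ℚ V} {x y : X} {i : Fin 24} (hx : ρ x (b i) = b i ∨ ρ x (b i) = -b i)
    (hy : ρ y (b i) = b i ∨ ρ y (b i) = -b i) : cw ρ b (x * y) i = cw ρ b x i + cw ρ b y i := by
  have hxy : ρ (x * y) (b i) = b i ∨ ρ (x * y) (b i) = -b i := by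
    rw [mul_apply]
    rcases hy with h | h <;> rw [h]
    · exact hx
    · rw [map_neg]
      rcases hx with h' | h' <;> rw [h']
      · exact Or.inr rfl
      · exact Or.inl (neg_neg _)
  rcases hx with h1 | h1 <;> rcases hy with h2 | h2
  · rw [cw_eq_zero.2 h1, cw_eq_zero.2 h2, add_zero, cw_eq_zero, mul_apply, h2, h1]
  · rw [cw_eq_zero.2 h1, (cw_eq_one (Or.inr h2)).2 h2, zero_add, cw_eq_one hxy, mul_apply, h2, map_neg, h1]
  · rw [cw_eq_zero.2 h2, (cw_eq_one (Or.inr h1)).2 h1, add_zero, cw_eq_one hxy, mul_apply, h2, h1]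
  · rw [(cw_eq_one (Or.inr h2)).2 h2, (cw_eq_one (Or.inr h1)).2 h1, show (1 : ZMod 2) + 1 = 0 by decide,
      cw_eq_zero, mul_apply, h2, map_neg, h1, neg_neg]

theorem eq_of_cw (h : Rep ρ ε) {b : Basis (Fin 24) ℚ V} {x y : X} (hx : ∀ i, ρ x (b i) = b i ∨ ρ x (b i) = -b i)
    (hy : ∀ i, ρ y (b i) = b i ∨ ρ y (b i) = -b i) (hc : ∀ i, cw ρ b x i = cw ρ b y i) : x = y := by
  apply h.inj
  apply b.ext
  intro i
  rcases hx i with h1 | h1
  · have h2 := hc i
    rw [cw_eq_zero.2 h1] at h2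
    rw [h1, cw_eq_zero.1 h2.symm]
  · have h2 := hc i
    rw [(cw_eq_one (Or.inr h1)).2 h1] at h2
    rw [h1, (cw_eq_one (hy i)).1 h2.symm]

/-- the weight is the dimension of the negative eigenspace -/
theorem wt_eq (h : Rep ρ ε) {b : Basis (Fin 24) ℚ V} {x : X} (hx2 : x * x = 1)
    (hx : ∀ i, ρ x (b i) = b i ∨ ρ x (b i) = -b i) :
    SignCode.wt (cw ρ b x) = 0 ∨ SignCode.wt (cw ρ b x) = 8 ∨ SignCode.wt (cw ρ b x) = 12 ∨
      SignCode.wt (cw ρ b x) = 16 ∨ SignCode.wt (cw ρ b x) = 24 := by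
  obtain ⟨w, hw, htr⟩ := h.tr x hx2
  have h1 : LinearMap.trace ℚ V (ρ x) = 24 - 2 * (SignCode.wt (cw ρ b x) : ℚ) := by
    rw [LinearMap.trace_eq_matrix_trace ℚ b, Matrix.trace, SignCode.wt, Finset.card_filter, Nat.cast_sum,
      Finset.mul_sum]
    have h2 : (24 : ℚ) = ∑ _i : Fin 24, (1 : ℚ) := by simp
    rw [h2, ← Finset.sum_sub_distrib]
    refine Finset.sum_congr rfl fun i _ => ?_
    rw [Matrix.diag_apply, LinearMap.toMatrix_apply]
    rcases hx i with h3 | h3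
    · rw [h3, cw_eq_zero.2 h3]
      simp
    · rw [h3, (cw_eq_one (Or.inr h3)).2 h3]
      norm_num
  rw [htr] at h1
  have h2 : (w : ℚ) = (SignCode.wt (cw ρ b x) : ℚ) := by linarith
  have h3 : w = SignCode.wt (cw ρ b x) := by exact_mod_cast h2
  rw [← h3]
  exact hw

theorem eq_one_of_wt (h : Rep ρ ε) {b : Basis (Fin 24) ℚ V} {x : X} (hx2 : x * x = 1)
    (hx : ∀ i, ρ x (b i) = b i ∨ ρ x (b i) = -b i) (hw : SignCode.wt (cw ρ b x) < 8) : x = 1 := by
  have h0 : SignCode.wt (cw ρ b x) = 0 := by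
    have := h.wt_eq hx2 hx
    omega
  rw [SignCode.wt, Finset.card_eq_zero, Finset.filter_eq_empty_iff] at h0
  refine h.eq_of_cw hx (fun i => Or.inl (one_apply _)) fun i => ?_
  have h1 := h0 (Finset.mem_univ i)
  rw [not_not] at h1
  rw [h1, cw_eq_zero.2 (one_apply _)]

/-- **The elementary abelian case.** -/
theorem card_le_of_elem (h : Rep ρ ε) (hX : ∀ x : X, x * x = 1) : Nat.card X ≤ 2 ^ 12 := by
  obtain ⟨b, hb⟩ := h.exists_basis ⊤ (fun x _ => hX x)
  have hb' : ∀ x i, ρ x (b i) = b i ∨ ρ x (b i) = -b i := fun x i => hb x (Subgroup.mem_top x) i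
  have h1 := SignCode.card_sq_le (cw ρ b) (fun x y => by
    ext i
    exact cw_mul (hb' x i) (hb' y i))
    (fun x y hxy => h.eq_of_cw (hb' x) (hb' y) fun i => congrFun hxy i)
    (fun x => by
      rcases h.wt_eq (hX x) (hb' x) with h2 | h2 | h2 | h2 | h2 <;> rw [h2] <;> decide)
  rw [Fintype.card_fin] at h1
  have h2 : Nat.card X ^ 2 ≤ (2 ^ 12) ^ 2 := by
    rw [← pow_mul]
    exact h1
  exact (Nat.pow_le_pow_iff_left (by norm_num)).1 h2

end Rep

end Cfsg.Agent.Omega.TwoF.SignRep
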