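import Cfsg.Agent.Omega.TwoF.SignRep

/-!
# A bound for 2-groups of sign type: the remaining case (helper416)

See `SignRep.lean`. `Rep.card_lt` : `|X| < 2 ^ 13`.
-/

set_option autoImplicit false
set_option linter.unusedSectionVars false

namespace Cfsg.Agent.Omega.TwoF.SignRep

open Module Subgroup

universe u v

variable {X : Type v} [Group X] [Finite X] {V : Type u} [AddCommGroup V] [Module ℚ V] [FiniteDimensional ℚ V]

/-- the central involutions -/
def Zel (X : Type*) [Group X] : Subgroup X where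
  carrier := {z | z ∈ center X ∧ z * z = 1}
  one_mem' := ⟨one_mem _, mul_one 1⟩
  mul_mem' := by
    rintro a b ⟨ha, ha'⟩ ⟨hb, hb'⟩
    refine ⟨mul_mem ha hb, ?_⟩
    have h1 := mem_center_iff.1 hb a
    calc a * b * (a * b) = a * (b * a) * b := by group
      _ = a * (a * b) * b := by rw [h1]
      _ = (a * a) * (b * b) := by group
      _ = 1 := by rw [ha', hb', one_mul]
  inv_mem' := by
    rintro a ⟨ha, ha'⟩
    have : a⁻¹ = a := inv_eq_of_mul_eq_one_left ha'
    rw [this]
    exact ⟨ha, ha'⟩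

theorem mem_Zel {z : X} : z ∈ Zel X ↔ z ∈ center X ∧ z * z = 1 := Iff.rfl

namespace Rep

variable {ρ : X →* (V →ₗ[ℚ] V)} {ε : X}

theorem card_center_le (h : Rep ρ ε) : Nat.card (center X) ≤ 2 * Nat.card (Zel X) := by
  apply RkLin.card_le_two_mul
  intro x hx hxn y hy hyn
  have hx' : x * x = ε := (h.sq x).resolve_left fun e => hxn ⟨hx, e⟩
  have hy' : y * y = ε := (h.sq y).resolve_left fun e => hyn ⟨hy, e⟩
  refine ⟨mul_mem hx hy, ?_⟩
  have h1 := mem_center_iff.1 hy x
  calc x * y * (x * y) = x * (y * x) * y := by group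
    _ = x * (x * y) * y := by rw [h1]
    _ = (x * x) * (y * y) := by group
    _ = 1 := by rw [hx', hy', h.eps_sq]

/-- the coordinates with the same character as `i` -/
noncomputable def fib (ρ : X →* (V →ₗ[ℚ] V)) (b : Basis (Fin 24) ℚ V) (i : Fin 24) : Finset (Fin 24) := by
  classical
  exact Finset.univ.filter fun j => ∀ z ∈ Zel X, cw ρ b z j = cw ρ b z i

theorem mem_fib {b : Basis (Fin 24) ℚ V} {i j : Fin 24} :
    j ∈ fib ρ b i ↔ ∀ z ∈ Zel X, cw ρ b z j = cw ρ b z i := by
  classical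
  unfold fib
  simp

/-- the weight space -/
def wsp (ρ : X →* (V →ₗ[ℚ] V)) (b : Basis (Fin 24) ℚ V) (i : Fin 24) : Submodule ℚ V where
  carrier := {v | ∀ z ∈ Zel X, (ρ z (b i) = b i → ρ z v = v) ∧ (ρ z (b i) = -b i → ρ z v = -v)}
  zero_mem' := fun z _ => ⟨fun _ => map_zero _, fun _ => by rw [map_zero, neg_zero]⟩
  add_mem' := fun {v w} hv hw z hz => ⟨fun e => by rw [map_add, (hv z hz).1 e, (hw z hz).1 e], fun e => by
    rw [map_add, (hv z hz).2 e, (hw z hz).2 e, neg_add]⟩
  smul_mem' := fun c v hv z hz => ⟨fun e => by rw [map_smul, (hv z hz).1 e], fun e => by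
    rw [map_smul, (hv z hz).2 e, smul_neg]⟩

theorem wsp_inv {b : Basis (Fin 24) ℚ V} {i : Fin 24} (x : X) {v : V} (hv : v ∈ wsp ρ b i) : ρ x v ∈ wsp ρ b i := by
  intro z hz
  have h1 : ρ z (ρ x v) = ρ x (ρ z v) := by
    rw [← mul_apply, ← mul_apply, mem_center_iff.1 hz.1 x]
  rw [h1]
  exact ⟨fun e => by rw [(hv z hz).1 e], fun e => by rw [(hv z hz).2 e, map_neg]⟩

theorem base_mem {b : Basis (Fin 24) ℚ V} (i : Fin 24) : b i ∈ wsp ρ b i :=
  fun _ _ => ⟨fun e => e, fun e => e⟩

theorem coord_apply {b : Basis (Fin 24) ℚ V} {z : X} (hz : ∀ k, ρ z (b k) = b k ∨ ρ z (b k) = -b k) (j : Fin 24)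
    (v : V) : (ρ z (b j) = b j → b.repr (ρ z v) j = b.repr v j) ∧
      (ρ z (b j) = -b j → b.repr (ρ z v) j = -b.repr v j) := by
  constructor
  · intro hj
    have h1 : (b.coord j) ∘ₗ (ρ z) = b.coord j := by
      apply b.ext
      intro k
      rw [LinearMap.comp_apply, Basis.coord_apply, Basis.coord_apply]
      by_cases hk : k = j
      · subst hk
        rw [hj]
      · rcases hz k with e | e <;> rw [e]
        rw [map_neg, Finsupp.neg_apply, b.repr_self, Finsupp.single_eq_of_ne (Ne.symm hk), neg_zero]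
    exact LinearMap.congr_fun h1 v
  · intro hj
    have h1 : (b.coord j) ∘ₗ (ρ z) = -b.coord j := by
      apply b.ext
      intro k
      rw [LinearMap.comp_apply, LinearMap.neg_apply, Basis.coord_apply, Basis.coord_apply]
      by_cases hk : k = j
      · subst hk
        rw [hj, map_neg, Finsupp.neg_apply]
      · rcases hz k with e | e <;> rw [e]
        · rw [b.repr_self, Finsupp.single_eq_of_ne (Ne.symm hk), neg_zero]
        · rw [map_neg, Finsupp.neg_apply]
    exact LinearMap.congr_fun h1 v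

theorem finrank_wsp_le {b : Basis (Fin 24) ℚ V} (hb : ∀ z ∈ Zel X, ∀ k, ρ z (b k) = b k ∨ ρ z (b k) = -b k)
    (i : Fin 24) : finrank ℚ (wsp ρ b i) ≤ (fib ρ b i).card := by
  have h1 : wsp ρ b i ≤ Submodule.span ℚ (Set.range fun j : fib ρ b i => b j) := by
    intro v hv
    rw [← b.sum_repr v]
    refine Submodule.sum_mem _ fun j _ => ?_
    by_cases hj : j ∈ fib ρ b i
    · exact Submodule.smul_mem _ _ (Submodule.subset_span ⟨⟨j, hj⟩, rfl⟩)
    · have h2 : b.repr v j = 0 := by
        rw [mem_fib] at hj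
        push Not at hj
        obtain ⟨z, hz, hne⟩ := hj
        have h3 := coord_apply (hb z hz) j v
        rcases hb z hz i with hi | hi <;> rcases hb z hz j with hj' | hj'
        · exact absurd (by rw [cw_eq_zero.2 hi, cw_eq_zero.2 hj']) hne
        · have h4 := h3.2 hj'
          rw [(hv z hz).1 hi] at h4
          linarith
        · have h4 := h3.1 hj'
          rw [(hv z hz).2 hi, map_neg, Finsupp.neg_apply] at h4
          linarith
        · exact absurd (by rw [(cw_eq_one (Or.inr hi)).2 hi, (cw_eq_one (Or.inr hj')).2 hj']) hne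
      rw [h2, zero_smul]
      exact Submodule.zero_mem _
  refine (Submodule.finrank_mono h1).trans ?_
  have h2 := finrank_range_le_card (R := ℚ) (fun j : fib ρ b i => b j)
  rw [Fintype.card_coe] at h2
  exact h2

/-- the restriction to a weight space -/
def res (ρ : X →* (V →ₗ[ℚ] V)) (b : Basis (Fin 24) ℚ V) (i : Fin 24) : X →* Module.End ℚ (wsp ρ b i) where
  toFun x := (ρ x).restrict fun _ hv => wsp_inv x hv
  map_one' := by
    ext v
    exact one_apply _
  map_mul' x y := by
    ext v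
    exact mul_apply _ _ _

theorem res_apply {b : Basis (Fin 24) ℚ V} {i : Fin 24} (x : X) (v : wsp ρ b i) :
    ((res ρ b i x v : wsp ρ b i) : V) = ρ x v := rfl

theorem res_eps (h : Rep ρ ε) {b : Basis (Fin 24) ℚ V} {i : Fin 24} (x : X) :
    res ρ b i (ε * x) = -res ρ b i x := by
  ext v
  rw [res_apply, mul_apply, h.eps]
  rfl

theorem trace_res (h : Rep ρ ε) {b : Basis (Fin 24) ℚ V} {i : Fin 24} {g : X} (hg : g ∉ center X) :
    LinearMap.trace ℚ _ (res ρ b i g) = 0 := by
  rw [mem_center_iff] at hg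
  push Not at hg
  obtain ⟨y, hy⟩ := hg
  have h1 : y * g = ε * (g * y) := (h.comm y g).resolve_left hy
  have h2 : y * g * y⁻¹ = ε * g := by rw [h1]; group
  have h3 : LinearMap.trace ℚ _ (res ρ b i (y * g * y⁻¹)) = LinearMap.trace ℚ _ (res ρ b i g) := by
    rw [map_mul, LinearMap.trace_mul_comm, ← map_mul]
    congr 2
    group
  rw [h2, h.res_eps, map_neg] at h3
  linarith

/-- the cosets of the centre are linearly independent on a weight space -/
theorem index_le (h : Rep ρ ε) {b : Basis (Fin 24) ℚ V} (i : Fin 24) :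
    (center X).index ≤ finrank ℚ (wsp ρ b i) * finrank ℚ (wsp ρ b i) := by
  classical
  have hne : finrank ℚ (wsp ρ b i) ≠ 0 := by
    rw [Ne, Submodule.finrank_eq_zero]
    intro h0
    have h1 := base_mem (ρ := ρ) (b := b) i
    rw [h0, Submodule.mem_bot] at h1
    exact b.ne_zero i h1
  have hfin : Finite (X ⧸ center X) := inferInstance
  let _ := Fintype.ofFinite (X ⧸ center X)
  have hli : LinearIndependent ℚ fun q : X ⧸ center X => res ρ b i q.out := by
    rw [Fintype.linearIndependent_iff]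
    intro c hc q₀
    have h1 : ∑ q : X ⧸ center X, c q * LinearMap.trace ℚ _ (res ρ b i (q₀.out⁻¹ * q.out)) = 0 := by
      have h2 := congrArg (fun f : Module.End ℚ (wsp ρ b i) => LinearMap.trace ℚ _ (res ρ b i q₀.out⁻¹ * f)) hc
      simp only [mul_zero, map_zero, Finset.mul_sum, map_sum, mul_smul_comm, map_smul, smul_eq_mul] at h2
      rw [← h2]
      refine Finset.sum_congr rfl fun q _ => ?_
      rw [map_mul]
    rw [Finset.sum_eq_single q₀] at h1
    · rw [inv_mul_cancel, map_one, LinearMap.trace_one] at h1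
      rcases mul_eq_zero.1 h1 with h2 | h2
      · exact h2
      · exact absurd (by exact_mod_cast h2) hne
    · intro q _ hq
      rw [h.trace_res, mul_zero]
      intro hg
      apply hq
      rw [← QuotientGroup.out_eq' q, ← QuotientGroup.out_eq' q₀, eq_comm, QuotientGroup.eq]
      exact hg
    · intro hq
      exact absurd (Finset.mem_univ _) hq
  have h2 := hli.fintype_card_le_finrank
  rw [Module.finrank_linearMap] at h2
  rw [Subgroup.index, Nat.card_eq_fintype_card]
  exact h2

/-- no weight space has dimension 1 -/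
theorem two_le (h : Rep ρ ε) {b : Basis (Fin 24) ℚ V} (i : Fin 24) {x : X} (hx : x * x = ε) :
    2 ≤ finrank ℚ (wsp ρ b i) := by
  have hne : finrank ℚ (wsp ρ b i) ≠ 0 := by
    rw [Ne, Submodule.finrank_eq_zero]
    intro h0
    have h1 := base_mem (ρ := ρ) (b := b) i
    rw [h0, Submodule.mem_bot] at h1
    exact b.ne_zero i h1
  by_contra hcon
  have h1 : finrank ℚ (wsp ρ b i) = 1 := by omega
  obtain ⟨v, hv, hspan⟩ := finrank_eq_one_iff'.1 h1
  obtain ⟨c, hc⟩ := hspan (res ρ b i x v)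
  have h2 : res ρ b i x (res ρ b i x v) = (c * c) • v := by
    rw [← hc, map_smul, ← hc, smul_smul]
  have h3 : res ρ b i x (res ρ b i x v) = -v := by
    apply Subtype.ext
    rw [res_apply, res_apply, ← mul_apply, hx, h.eps]
    rfl
  rw [h3] at h2
  have h4 : (c * c + 1) • v = 0 := by
    rw [add_smul, ← h2, one_smul, neg_add_cancel]
  rcases smul_eq_zero.1 h4 with h5 | h5
  · nlinarith [mul_self_nonneg c]
  · exact hv h5

/-- restriction to a set of coordinates whose fibres miss fewer than 8 coordinates -/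
theorem card_Zel_le (h : Rep ρ ε) {b : Basis (Fin 24) ℚ V}
    (hb : ∀ z ∈ Zel X, ∀ k, ρ z (b k) = b k ∨ ρ z (b k) = -b k) (T : Finset (Fin 24))
    (hT : 17 ≤ (T.biUnion (fib ρ b)).card) : Nat.card (Zel X) ≤ 2 ^ T.card := by
  classical
  let f : Zel X → (T → ZMod 2) := fun z t => cw ρ b z t
  have hf : Function.Injective f := by
    intro z z' hzz
    apply Subtype.ext
    have hu : (z : X) * z' = 1 := by
      have hm : (z : X) * z' ∈ Zel X := mul_mem z.2 z'.2
      refine h.eq_one_of_wt hm.2 (hb _ hm) ?_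
      have h0 : ∀ j ∈ T.biUnion (fib ρ b), cw ρ b ((z : X) * z') j = 0 := by
        intro j hj
        obtain ⟨t, ht, hjt⟩ := Finset.mem_biUnion.1 hj
        rw [mem_fib] at hjt
        rw [cw_mul (hb _ z.2 j) (hb _ z'.2 j), hjt _ z.2, hjt _ z'.2]
        have h1 : cw ρ b (z : X) t = cw ρ b (z' : X) t := congrFun hzz ⟨t, ht⟩
        rw [h1]
        have h2 : ∀ a : ZMod 2, a + a = 0 := by decide
        exact h2 _
      have h1 : (Finset.univ.filter fun i => cw ρ b ((z : X) * z') i ≠ 0) ⊆ (T.biUnion (fib ρ b))ᶜ := by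
        intro j hj
        rw [Finset.mem_compl]
        intro hj'
        exact (Finset.mem_filter.1 hj).2 (h0 j hj')
      have h2 := Finset.card_le_card h1
      rw [Finset.card_compl, Fintype.card_fin] at h2
      unfold SignCode.wt
      omega
    have hz' : (z' : X)⁻¹ = z' := inv_eq_of_mul_eq_one_left z'.2.2
    rw [← hz']
    exact eq_inv_of_mul_eq_one_left hu
  have h1 := Nat.card_le_card_of_injective f hf
  rw [Nat.card_fun, Nat.card_zmod, Nat.card_eq_fintype_card (α := T), Fintype.card_coe] at h1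
  exact h1

theorem mem_fib_self {b : Basis (Fin 24) ℚ V} (i : Fin 24) : i ∈ fib ρ b i := mem_fib.2 fun _ _ => rfl

theorem fib_eq {b : Basis (Fin 24) ℚ V} {i j : Fin 24} (h : j ∈ fib ρ b i) : fib ρ b j = fib ρ b i := by
  rw [mem_fib] at h
  ext k
  rw [mem_fib, mem_fib]
  exact ⟨fun hk z hz => (hk z hz).trans (h z hz), fun hk z hz => (hk z hz).trans (h z hz).symm⟩

/-- a set of representatives -/
theorem exists_reps (b : Basis (Fin 24) ℚ V) : ∃ R : Finset (Fin 24),
    (∀ r ∈ R, ∀ s ∈ R, r ≠ s → Disjoint (fib ρ b r) (fib ρ b s)) ∧ R.biUnion (fib ρ b) = Finset.univ := by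
  classical
  have hne : ∀ i, (fib ρ b i).Nonempty := fun i => ⟨i, mem_fib_self i⟩
  refine ⟨Finset.univ.image fun i => (fib ρ b i).min' (hne i), ?_, ?_⟩
  · intro r hr s hs hrs
    obtain ⟨i, -, rfl⟩ := Finset.mem_image.1 hr
    obtain ⟨j, -, rfl⟩ := Finset.mem_image.1 hs
    rw [Finset.disjoint_left]
    intro k hk hk'
    apply hrs
    have h1 := fib_eq (Finset.min'_mem _ (hne i))
    have h2 := fib_eq (Finset.min'_mem _ (hne j))
    rw [h1] at hk
    rw [h2] at hk'
    have h3 : fib ρ b i = fib ρ b j := by rw [← fib_eq hk, fib_eq hk']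
    congr 1
  · rw [Finset.eq_univ_iff_forall]
    intro i
    rw [Finset.mem_biUnion]
    refine ⟨_, Finset.mem_image.2 ⟨i, Finset.mem_univ _, rfl⟩, ?_⟩
    rw [fib_eq (Finset.min'_mem _ (hne i))]
    exact mem_fib_self i

/-- **The second case.** -/
theorem card_lt_of_not (h : Rep ρ ε) {x : X} (hx : x * x = ε) : Nat.card X < 2 ^ 13 := by
  classical
  obtain ⟨b, hb⟩ := h.exists_basis (Zel X) fun z hz => hz.2
  obtain ⟨R, hR, hU⟩ := exists_reps (ρ := ρ) b
  have hm2 : ∀ i, 2 ≤ (fib ρ b i).card := fun i => (h.two_le i hx).trans (finrank_wsp_le hb i)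
  have hsum : ∀ T ⊆ R, (T.biUnion (fib ρ b)).card = ∑ t ∈ T, (fib ρ b t).card := fun T hT =>
    Finset.card_biUnion fun r hr s hs hrs => hR r (hT hr) s (hT hs) hrs
  have h24 : ∑ t ∈ R, (fib ρ b t).card = 24 := by
    rw [← hsum R subset_rfl, hU, Finset.card_univ, Fintype.card_fin]
  have hRne : R.Nonempty := by
    rw [Finset.nonempty_iff_ne_empty]
    rintro rfl
    simp at h24
  obtain ⟨i, hi, hmin⟩ := Finset.exists_min_image R (fun t => (fib ρ b t).card) hRne
  have hwm : R.card * (fib ρ b i).card ≤ 24 := by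
    have h1 : R.card • (fib ρ b i).card ≤ ∑ t ∈ R, (fib ρ b t).card := Finset.card_nsmul_le_sum R _ _ hmin
    rwa [smul_eq_mul, h24] at h1
  have hZ1 : Nat.card (Zel X) ≤ 2 ^ R.card := h.card_Zel_le hb R (by rw [hU, Finset.card_univ, Fintype.card_fin]; norm_num)
  have hZ2 : Nat.card (Zel X) ≤ 2 ^ 9 := by
    rcases Nat.lt_or_ge R.card 9 with h9 | h9
    · exact hZ1.trans (Nat.pow_le_pow_right (by norm_num) h9.le)
    · obtain ⟨T, hTR, hT⟩ := Finset.exists_subset_card_eq h9
      rw [← hT]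
      apply h.card_Zel_le hb T
      rw [hsum T hTR]
      have h1 : T.card • 2 ≤ ∑ t ∈ T, (fib ρ b t).card := Finset.card_nsmul_le_sum T _ _ fun t _ => hm2 t
      rw [hT, smul_eq_mul] at h1
      omega
  have hN : (center X).index ≤ (fib ρ b i).card * (fib ρ b i).card :=
    (h.index_le i).trans (Nat.mul_le_mul (finrank_wsp_le hb i) (finrank_wsp_le hb i))
  have hX := (center X).card_mul_index
  have hc := h.card_center_le
  have h2i := hm2 i
  have hw1 : 1 ≤ R.card := hRne.card_pos
  have hm : (fib ρ b i).card ≤ 24 / R.card := (Nat.le_div_iff_mul_le hw1).2 (by rwa [mul_comm])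
  have hw12 : R.card ≤ 12 := by
    by_contra hcon
    have : 13 * 2 ≤ R.card * (fib ρ b i).card := Nat.mul_le_mul (by omega) h2i
    omega
  have hZ : Nat.card (Zel X) ≤ 2 ^ min R.card 9 := by
    rcases Nat.le_total R.card 9 with h1 | h1
    · rwa [min_eq_left h1]
    · rwa [min_eq_right h1]
  have hfin : ∀ w ∈ Finset.Icc 1 12, 2 * 2 ^ min w 9 * ((24 / w) * (24 / w)) < 2 ^ 13 := by decide
  refine lt_of_le_of_lt ?_ (hfin R.card (Finset.mem_Icc.2 ⟨hw1, hw12⟩))
  rw [← hX]
  exact Nat.mul_le_mul (hc.trans (Nat.mul_le_mul_left 2 hZ)) (hN.trans (Nat.mul_le_mul hm hm))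

/-- **The bound.** -/
theorem card_lt (h : Rep ρ ε) : Nat.card X < 2 ^ 13 := by
  by_cases hX : ∀ x : X, x * x = 1
  · exact lt_of_le_of_lt (h.card_le_of_elem hX) (by norm_num)
  · push Not at hX
    obtain ⟨x, hx⟩ := hX
    exact h.card_lt_of_not ((h.sq x).resolve_left hx)

end Rep

end Cfsg.Agent.Omega.TwoF.SignRep
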