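import Cfsg.Agent.Omega.Lie.HeisCover
import Cfsg.Agent.Omega.TwoF.Rk

/-!
# Small tools for the rows

* `prod_eq`: equations between words in permutations of `Fin n` given by functions `ℕ → ℕ`;
* `heis_one`: Heisenberg configurations with one pair;
* `LB.of_equiv`, `LB.mono`.
-/

set_option autoImplicit false

namespace Cfsg.Agent.Omega.TwoF.Tab

open Cfsg.Agent.Omega.Lie.Heis Cfsg.Agent.Omega.TwoF.Rk

universe u v w

/-- value of a word -/
theorem prod_val {α : Type*} {n : ℕ} {g : α → Equiv.Perm (Fin n)} {f : α → ℕ → ℕ}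
    (h : ∀ a i, ((g a i : Fin n) : ℕ) = f a i) (w : List α) (i : Fin n) :
    (((w.map g).prod i : Fin n) : ℕ) = w.foldr f i := by
  induction w with
  | nil => rfl
  | cons a w ih =>
    rw [List.map_cons, List.prod_cons, Equiv.Perm.mul_apply, h, ih]
    rfl

/-- the check of an equation between two words -/
def chkEq {α : Type*} (n : ℕ) (f : α → ℕ → ℕ) (w w' : List α) : Bool :=
  Nat.rec true (fun i ih => Bool.rec false ih (Nat.beq (w.foldr f i) (w'.foldr f i))) n

theorem chkEq_spec {α : Type*} {n : ℕ} {f : α → ℕ → ℕ} {w w' : List α} (h : chkEq n f w w' = true) :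
    ∀ i < n, w.foldr f i = w'.foldr f i := by
  induction n with
  | zero => intro i hi; omega
  | succ n ih =>
    intro i hi
    have h1 : chkEq (n + 1) f w w' =
      Bool.rec false (chkEq n f w w') (Nat.beq (w.foldr f n) (w'.foldr f n)) := rfl
    rw [h1] at h
    cases hb : Nat.beq (w.foldr f n) (w'.foldr f n) with
    | false => rw [hb] at h; exact absurd h (by simp)
    | true =>
      rw [hb] at h
      rcases Nat.lt_succ_iff_lt_or_eq.1 hi with h2 | h2
      · exact ih h i h2
      · rw [h2]; exact Nat.eq_of_beq_eq_true hb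

theorem prod_eq {α : Type*} {n : ℕ} {g : α → Equiv.Perm (Fin n)} {f : α → ℕ → ℕ}
    (h : ∀ a i, ((g a i : Fin n) : ℕ) = f a i) {w w' : List α} (hc : chkEq n f w w' = true) :
    (w.map g).prod = (w'.map g).prod := by
  ext i
  rw [prod_val h, prod_val h]
  exact chkEq_spec hc i i.2

/-- **Heisenberg configuration with one pair** -/
theorem heis_one {K : Type u} [Group K] {r : ℕ} (hr : r.Prime) {x y z : K} (hz : z ^ r = 1) (hx : x ^ r = 1)
    (zx : z * x = x * z) (zy : z * y = y * z) (h : y * x = x * z * y) :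
    Heis r 1 z (fun _ => x) (fun _ => y) where
  prime := hr
  zr := hz
  xr _ := hx
  zx _ := zx
  zy _ := zy
  xx _ _ := rfl
  yx i j hij := absurd (Subsingleton.elim i j) hij
  conj _ := by rw [h, mul_inv_cancel_right]

/-- transport of `LB` -/
theorem LB.of_equiv {K K' : Type u} [Group K] [Group K'] {m : ℕ} (h : LB.{u, v, w} K m) (e : K' ≃* K) :
    LB.{u, v, w} K' m := by
  intro L _ _ π hπ hc ho hL V _ _ h2 φ hφ
  have hk : (e.toMonoidHom.comp π).ker = π.ker := by
    ext x
    rw [MonoidHom.mem_ker, MonoidHom.mem_ker]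
    exact map_eq_one_iff e e.injective
  exact h L (e.toMonoidHom.comp π) (e.surjective.comp hπ) (by rw [hk]; exact hc) (by rw [hk]; exact ho) hL V h2 φ hφ

theorem LB.mono {K : Type u} [Group K] {m m' : ℕ} (h : LB.{u, v, w} K m) (hm : m' ≤ m) : LB.{u, v, w} K m' :=
  fun L _ _ π hπ hc ho hL V _ _ h2 φ hφ => (Nat.pow_le_pow_right (by norm_num) hm).trans (h L π hπ hc ho hL V h2 φ hφ)

/-- the order of 2 modulo an odd prime from the prime factors of `p - 1` -/
theorem orderOf_two_eq {p n : ℕ} (hn : 0 < n) (h1 : (2 : ZMod p) ^ n = 1)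
    (h2 : ∀ q : ℕ, q.Prime → q ∣ n → (2 : ZMod p) ^ (n / q) ≠ 1) : orderOf (2 : ZMod p) = n :=
  orderOf_eq_of_pow_and_pow_div_prime hn h1 h2

end Cfsg.Agent.Omega.TwoF.Tab
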