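import Mathlib

/-!
# Weights of a coprime abelian subgroup over the algebraic closure

`ρ : G →* Matrix ι ι (ZMod ℓ)`, `A ≤ G` finite of order prime to `ℓ`, `K ⊇ 𝔽_ℓ` algebraically closed.
The set of weights `χ : A →* Kˣ` (`Wt`) has at most `|ι|` elements (`card_le`), is closed under `N_G(A)` (`Wt.conj`), under the
Frobenius (`Wt.frob`) and, if there is an invariant nondegenerate form, under inversion (`Wt.dual`); if `A` is abelian and
acts nontrivially there is a nontrivial weight (`exists_wt`).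
-/

set_option autoImplicit false
set_option linter.unusedSectionVars false
set_option linter.style.haveILetI false

namespace Cfsg.Agent.Omega.TwoF.Weight

open Matrix

section Mat

variable {ℓ : ℕ} {K : Type*} [Field K] [Algebra (ZMod ℓ) K] {G : Type*} [Group G] {ι : Type*} [Fintype ι]
  [DecidableEq ι] (ρ : G →* Matrix ι ι (ZMod ℓ))

variable (K) in
/-- the action over `K` -/
noncomputable def act (g : G) : Matrix ι ι K := (ρ g).map (algebraMap (ZMod ℓ) K)

theorem act_one : act K ρ 1 = 1 := by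
  rw [act, map_one]
  exact Matrix.map_one _ (map_zero _) (map_one _)

theorem act_mul (g h : G) : act K ρ (g * h) = act K ρ g * act K ρ h := by
  rw [act, map_mul, Matrix.map_mul]
  rfl

/-- `χ` is a weight of `A` -/
def Wt (A : Subgroup G) (χ : A →* Kˣ) : Prop :=
  ∃ w : ι → K, w ≠ 0 ∧ ∀ a : A, act K ρ a *ᵥ w = (χ a : K) • w

variable {ρ}

/-- the projection to the weight space of `ψ`, times `|A|` -/
noncomputable def proj (ρ : G →* Matrix ι ι (ZMod ℓ)) {A : Subgroup G} [Fintype A] (ψ : A →* Kˣ) (w : ι → K) : ι → K :=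
  ∑ a : A, ((ψ a)⁻¹ : Kˣ) • (act K ρ a *ᵥ w)

theorem proj_of_ne {A : Subgroup G} [Fintype A] {ψ χ : A →* Kˣ} (h : χ ≠ ψ) {w : ι → K}
    (hw : ∀ a : A, act K ρ a *ᵥ w = (χ a : K) • w) : proj ρ ψ w = 0 := by
  have h1 : ∑ a : A, ((Units.coeHom K).comp (ψ⁻¹ * χ)) a = 0 := by
    refine sum_hom_units_eq_zero _ fun h2 => h ?_
    have h3 : ψ⁻¹ * χ = 1 := by
      ext a
      have := DFunLike.congr_fun h2 a
      simpa using this
    exact (inv_mul_eq_one.1 h3).symm
  have h2 : proj ρ ψ w = (∑ a : A, ((Units.coeHom K).comp (ψ⁻¹ * χ)) a) • w := by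
    rw [Finset.sum_smul]
    refine Finset.sum_congr rfl fun a _ => ?_
    rw [hw, Units.smul_def, smul_smul]
    simp
  rw [h2, h1, zero_smul]

theorem proj_of_eq {A : Subgroup G} [Fintype A] {χ : A →* Kˣ} {w : ι → K}
    (hw : ∀ a : A, act K ρ a *ᵥ w = (χ a : K) • w) : proj ρ χ w = (Nat.card A : K) • w := by
  rw [proj]
  have : ∀ a : A, ((χ a)⁻¹ : Kˣ) • (act K ρ a *ᵥ w) = w := by
    intro a
    rw [hw, Units.smul_def, smul_smul]
    simp
  simp only [this, Finset.sum_const, Finset.card_univ, Nat.card_eq_fintype_card, Nat.cast_smul_eq_nsmul]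

theorem proj_mem {A : Subgroup G} [Fintype A] (ψ : A →* Kˣ) (w : ι → K) (b : A) :
    act K ρ b *ᵥ proj ρ ψ w = (ψ b : K) • proj ρ ψ w := by
  rw [proj, Matrix.mulVec_sum, Finset.smul_sum]
  refine Fintype.sum_equiv (Equiv.mulLeft b) _ _ fun a => ?_
  rw [Equiv.coe_mulLeft, Units.smul_def, Units.smul_def, Matrix.mulVec_smul, Matrix.mulVec_mulVec, ← act_mul, smul_smul]
  congr 1
  rw [← Units.val_mul, map_mul, _root_.mul_inv_rev, mul_left_comm, mul_inv_cancel, mul_one]

theorem linearIndependent {A : Subgroup G} [Finite A] (hc : (Nat.card A : K) ≠ 0) (w : {χ : A →* Kˣ // Wt ρ A χ} → ι → K)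
    (hw0 : ∀ χ, w χ ≠ 0) (hw : ∀ χ, ∀ a : A, act K ρ a *ᵥ w χ = (χ.1 a : K) • w χ) : LinearIndependent K w := by
  classical
  letI : Fintype A := Fintype.ofFinite A
  rw [linearIndependent_iff']
  intro s g hs ψ hψ
  have h1 : proj ρ ψ.1 (∑ i ∈ s, g i • w i) = g ψ • ((Nat.card A : K) • w ψ) := by
    have h2 : proj ρ ψ.1 (∑ i ∈ s, g i • w i) = ∑ i ∈ s, g i • proj ρ ψ.1 (w i) := by
      simp only [proj, Matrix.mulVec_sum, Finset.smul_sum]
      rw [Finset.sum_comm]
      refine Finset.sum_congr rfl fun i _ => Finset.sum_congr rfl fun a _ => ?_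
      rw [Matrix.mulVec_smul, smul_comm]
    rw [h2, Finset.sum_eq_single ψ]
    · rw [proj_of_eq (hw ψ)]
    · intro i _ hi
      rw [proj_of_ne (fun h => hi (Subtype.ext h)) (hw i), smul_zero]
    · intro h
      exact absurd hψ h
  rw [hs] at h1
  have h3 : proj ρ ψ.1 (0 : ι → K) = 0 := by simp [proj]
  rw [h3, smul_smul] at h1
  rcases smul_eq_zero.1 h1.symm with h | h
  · rcases mul_eq_zero.1 h with h | h
    · exact h
    · exact absurd h hc
  · exact absurd h (hw0 ψ)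

/-- **at most `dim V` weights** -/
theorem card_le {A : Subgroup G} [Finite A] (hc : (Nat.card A : K) ≠ 0) {S : Set (A →* Kˣ)} (hS : ∀ χ ∈ S, Wt ρ A χ) :
    S.Finite ∧ S.ncard ≤ Fintype.card ι := by
  classical
  choose w hw0 hw using fun χ : {χ : A →* Kˣ // Wt ρ A χ} => χ.2
  have h := linearIndependent hc w hw0 hw
  have hf : Finite {χ : A →* Kˣ // Wt ρ A χ} := h.finite
  have hfin : {χ : A →* Kˣ | Wt ρ A χ}.Finite := Set.toFinite _
  refine ⟨hfin.subset hS, (Set.ncard_le_ncard hS hfin).trans ?_⟩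
  letI := Fintype.ofFinite {χ : A →* Kˣ // Wt ρ A χ}
  have h1 := h.fintype_card_le_finrank
  rw [Module.finrank_fintype_fun_eq_card, ← Nat.card_eq_fintype_card] at h1
  exact h1

/-- conjugation -/
theorem Wt.conj {A : Subgroup G} {χ χ' : A →* Kˣ} (h : Wt ρ A χ) (g : G)
    (hg : ∀ a' : A, ∃ a : A, (a' : G) * g = g * a ∧ χ' a' = χ a) : Wt ρ A χ' := by
  obtain ⟨w, hw0, hw⟩ := h
  refine ⟨act K ρ g *ᵥ w, fun h0 => hw0 ?_, fun a' => ?_⟩
  · have h1 : act K ρ g⁻¹ *ᵥ (act K ρ g *ᵥ w) = w := by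
      rw [Matrix.mulVec_mulVec, ← act_mul, inv_mul_cancel, act_one, Matrix.one_mulVec]
    rw [← h1, h0, Matrix.mulVec_zero]
  · obtain ⟨a, ha, hχ⟩ := hg a'
    rw [Matrix.mulVec_mulVec, ← act_mul, ha, act_mul, ← Matrix.mulVec_mulVec, hw, Matrix.mulVec_smul, hχ]

/-- Frobenius -/
theorem Wt.frob [Fact ℓ.Prime] {A : Subgroup G} {χ : A →* Kˣ} (h : Wt ρ A χ) : Wt ρ A (χ ^ ℓ) := by
  obtain ⟨w, hw0, hw⟩ := h
  haveI : CharP K ℓ := charP_of_injective_algebraMap (algebraMap (ZMod ℓ) K).injective ℓ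
  refine ⟨fun i => w i ^ ℓ, fun h0 => hw0 ?_, fun a => ?_⟩
  · funext i
    have := congrFun h0 i
    exact pow_eq_zero_iff (Fact.out : ℓ.Prime).ne_zero |>.1 this
  · funext i
    have h1 := congrFun (hw a) i
    have h2 : (act K ρ a *ᵥ fun i => w i ^ ℓ) i = ((act K ρ a *ᵥ w) i) ^ ℓ := by
      simp only [Matrix.mulVec, dotProduct]
      rw [sum_pow_char]
      refine Finset.sum_congr rfl fun j _ => ?_
      rw [mul_pow]
      congr 1
      rw [act, Matrix.map_apply, ← map_pow, ZMod.pow_card]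
    rw [h2, h1]
    simp [mul_pow]

/-- duality -/
theorem Wt.dual {A : Subgroup G} [Finite A] (hc : (Nat.card A : K) ≠ 0) {χ : A →* Kˣ} (h : Wt ρ A χ)
    {B : Matrix ι ι (ZMod ℓ)} (hB : ∀ a ∈ A, (ρ a)ᵀ * B * ρ a = B) (hdet : IsUnit B.det) : Wt ρ A χ⁻¹ := by
  classical
  letI : Fintype A := Fintype.ofFinite A
  obtain ⟨w, hw0, hw⟩ := h
  let BK : Matrix ι ι K := B.map (algebraMap (ZMod ℓ) K)
  have hBK : ∀ a ∈ A, (act K ρ a)ᵀ * BK * act K ρ a = BK := by
    intro a ha
    change ((ρ a).map _)ᵀ * B.map _ * (ρ a).map _ = B.map _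
    rw [← Matrix.transpose_map, ← Matrix.map_mul, ← Matrix.map_mul, hB a ha]
  have hdK : IsUnit BK.det := by
    have : BK.det = algebraMap (ZMod ℓ) K B.det := (RingHom.map_det _ _).symm
    rw [this]
    exact hdet.map _
  -- the functional `u ↦ wᵀ B u`
  have hf0 : w ᵥ* BK ≠ 0 := by
    intro h0
    apply hw0
    have h1 : (w ᵥ* BK) ᵥ* BK⁻¹ = w := by
      rw [Matrix.vecMul_vecMul, Matrix.mul_nonsing_inv _ hdK, Matrix.vecMul_one]
    rw [← h1, h0, Matrix.zero_vecMul]
  have hfa : ∀ (a : A) (u : ι → K), (w ᵥ* BK) ⬝ᵥ (act K ρ a *ᵥ u) = ((χ a)⁻¹ : Kˣ) • ((w ᵥ* BK) ⬝ᵥ u) := by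
    intro a u
    have h1 : w = ((χ a)⁻¹ : Kˣ) • (act K ρ a *ᵥ w) := by
      rw [hw, Units.smul_def, smul_smul]
      simp
    have h2 : (act K ρ a *ᵥ w) ᵥ* BK ⬝ᵥ (act K ρ a *ᵥ u) = (w ᵥ* BK) ⬝ᵥ u := by
      conv_rhs => rw [← hBK a a.2]
      rw [← Matrix.vecMul_vecMul, ← Matrix.vecMul_vecMul, Matrix.vecMul_transpose, Matrix.dotProduct_mulVec]
    conv_lhs => rw [h1]
    rw [Matrix.smul_vecMul, smul_dotProduct, h2]
  obtain ⟨u, hu⟩ : ∃ u : ι → K, (w ᵥ* BK) ⬝ᵥ u ≠ 0 := by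
    by_contra hcon
    push Not at hcon
    exact hf0 (dotProduct_eq_zero _ hcon)
  refine ⟨proj ρ χ⁻¹ u, fun h0 => ?_, fun a => proj_mem _ _ a⟩
  have h1 : (w ᵥ* BK) ⬝ᵥ proj ρ χ⁻¹ u = (Nat.card A : K) * ((w ᵥ* BK) ⬝ᵥ u) := by
    rw [proj, dotProduct_sum]
    have : ∀ a : A, (w ᵥ* BK) ⬝ᵥ (((χ⁻¹ a)⁻¹ : Kˣ) • (act K ρ a *ᵥ u)) = (w ᵥ* BK) ⬝ᵥ u := by
      intro a
      rw [dotProduct_smul, hfa, smul_smul]
      simp
    simp only [this, Finset.sum_const, Finset.card_univ, Nat.card_eq_fintype_card, nsmul_eq_mul]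
  rw [h0, dotProduct_zero] at h1
  rcases mul_eq_zero.1 h1.symm with h | h
  · exact hc h
  · exact hu h

section Exists

variable [IsAlgClosed K]

/-- a common eigenvector in an invariant subspace -/
theorem exists_common {A : Subgroup G} (hA : ∀ a ∈ A, ∀ b ∈ A, a * b = b * a) (n : ℕ) :
    ∀ U : Submodule K (ι → K), Module.finrank K U ≤ n → U ≠ ⊥ → (∀ a ∈ A, ∀ w ∈ U, act K ρ a *ᵥ w ∈ U) →
      ∃ w ∈ U, w ≠ 0 ∧ ∀ a ∈ A, ∃ μ : K, act K ρ a *ᵥ w = μ • w := by
  induction n with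
  | zero =>
    intro U hn hU
    exact absurd (Submodule.finrank_eq_zero.1 (Nat.le_zero.1 hn)) hU
  | succ n ih =>
    intro U hn hU hinv
    by_cases hall : ∀ a ∈ A, ∃ μ : K, ∀ w ∈ U, act K ρ a *ᵥ w = μ • w
    · obtain ⟨w, hw, hw0⟩ := Submodule.exists_mem_ne_zero_of_ne_bot hU
      exact ⟨w, hw, hw0, fun a ha => (hall a ha).imp fun μ h => h w hw⟩
    · push Not at hall
      obtain ⟨a, ha, hne⟩ := hall
      haveI : Nontrivial U := Submodule.nontrivial_iff_ne_bot.2 hU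
      let f : Module.End K U := (Matrix.mulVecLin (act K ρ a)).restrict (fun w hw => hinv a ha w hw)
      obtain ⟨μ, hμ⟩ := Module.End.exists_eigenvalue f
      obtain ⟨u, hu⟩ := hμ.exists_hasEigenvector
      have hu1 : act K ρ a *ᵥ (u : ι → K) = μ • (u : ι → K) := congrArg Subtype.val hu.apply_eq_smul
      let U' : Submodule K (ι → K) :=
        { carrier := {w | w ∈ U ∧ act K ρ a *ᵥ w = μ • w}
          zero_mem' := ⟨zero_mem _, by rw [Matrix.mulVec_zero, smul_zero]⟩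
          add_mem' := fun {x y} hx hy => ⟨add_mem hx.1 hy.1, by rw [Matrix.mulVec_add, hx.2, hy.2, smul_add]⟩
          smul_mem' := fun c x hx => ⟨U.smul_mem c hx.1, by rw [Matrix.mulVec_smul, hx.2, smul_comm]⟩ }
      have hle : U' ≤ U := fun _ h => h.1
      have hne' : U' ≠ U := by
        intro h
        obtain ⟨w, hw, hwne⟩ := hne μ
        rw [← h] at hw
        exact hwne hw.2
      have hlt : Module.finrank K U' < Module.finrank K U := Submodule.finrank_lt_finrank_of_lt (lt_of_le_of_ne hle hne')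
      obtain ⟨w, hw, h1, h2⟩ := ih U' (by omega) (by
          intro h
          apply hu.2
          have : (u : ι → K) ∈ U' := ⟨u.2, hu1⟩
          rw [h, Submodule.mem_bot] at this
          exact Subtype.ext this)
        (fun b hb w hw => ⟨hinv b hb w hw.1, by
          rw [Matrix.mulVec_mulVec, ← act_mul, hA a ha b hb, act_mul, ← Matrix.mulVec_mulVec, hw.2,
            Matrix.mulVec_smul]⟩)
      exact ⟨w, hw.1, h1, h2⟩

/-- the character of a common eigenvector -/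
theorem exists_char {A : Subgroup G} {w : ι → K} (hw0 : w ≠ 0) (hw : ∀ a ∈ A, ∃ μ : K, act K ρ a *ᵥ w = μ • w) :
    ∃ χ : A →* Kˣ, ∀ a : A, act K ρ a *ᵥ w = (χ a : K) • w := by
  choose μ hμ using fun a : A => hw a a.2
  have hinj : ∀ x y : K, x • w = y • w → x = y := fun x y h => smul_left_injective K hw0 h
  let f : A →* K :=
    { toFun := μ
      map_one' := hinj _ _ (by rw [← hμ, OneMemClass.coe_one, act_one, Matrix.one_mulVec, one_smul])
      map_mul' := fun a b => hinj _ _ (by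
        rw [← hμ, Subgroup.coe_mul, act_mul, ← Matrix.mulVec_mulVec, hμ, Matrix.mulVec_smul, hμ, smul_smul, mul_comm]) }
  exact ⟨f.toHomUnits, fun a => hμ a⟩

/-- **nontrivial weights** -/
theorem exists_wt [Fact ℓ.Prime] {A : Subgroup G} [Finite A] (hA : ∀ a ∈ A, ∀ b ∈ A, a * b = b * a) (hc : (Nat.card A : K) ≠ 0)
    {a : A} (ha : ρ a ≠ 1) : ∃ χ : A →* Kˣ, Wt ρ A χ ∧ χ a ≠ 1 := by
  let U : Submodule K (ι → K) := LinearMap.range (Matrix.mulVecLin (act K ρ a - 1))
  have hU : U ≠ ⊥ := by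
    intro h
    rw [LinearMap.range_eq_bot] at h
    apply ha
    have h1 : act K ρ a - 1 = 0 := by
      have h0 : Matrix.toLin' (act K ρ a - 1) = 0 := h
      exact (LinearEquiv.map_eq_zero_iff _).1 h0
    rw [sub_eq_zero] at h1
    have h2 : (ρ a).map (algebraMap (ZMod ℓ) K) = (1 : Matrix ι ι (ZMod ℓ)).map (algebraMap (ZMod ℓ) K) := by
      rw [Matrix.map_one _ (map_zero _) (map_one _)]
      exact h1
    exact Matrix.map_injective (algebraMap (ZMod ℓ) K).injective h2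
  obtain ⟨w, ⟨u, hu⟩, hw0, hw⟩ := exists_common (K := K) (ρ := ρ) hA _ U le_rfl hU (by
    rintro b hb _ ⟨u, rfl⟩
    refine ⟨act K ρ b *ᵥ u, ?_⟩
    simp only [Matrix.mulVecLin_apply, Matrix.mulVec_mulVec]
    rw [sub_mul, mul_sub, one_mul, mul_one, ← act_mul, ← act_mul, hA a a.2 b hb])
  obtain ⟨χ, hχ⟩ := exists_char hw0 hw
  refine ⟨χ, ⟨w, hw0, hχ⟩, fun h1 => hw0 ?_⟩
  have hw1 : act K ρ a *ᵥ w = w := by rw [hχ, h1, Units.val_one, one_smul]
  have key : ∀ n : ℕ, (n : K) • w = act K ρ ((a : G) ^ n) *ᵥ u - u := by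
    intro n
    induction n with
    | zero => simp [act_one]
    | succ n ih =>
      have h2 : act K ρ ((a : G) ^ n) *ᵥ w = w := by
        clear ih
        induction n with
        | zero => simp [act_one]
        | succ n ih => rw [pow_succ, act_mul, ← Matrix.mulVec_mulVec, hw1, ih]
      have h3 : act K ρ (a : G) *ᵥ u = w + u := by
        rw [← hu, Matrix.mulVecLin_apply, Matrix.sub_mulVec, Matrix.one_mulVec, sub_add_cancel]
      rw [Nat.cast_succ, add_smul, one_smul, ih, pow_succ, act_mul, ← Matrix.mulVec_mulVec, h3, Matrix.mulVec_add, h2]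
      abel
  have h4 := key (Nat.card A)
  have h5 : (a : G) ^ Nat.card A = 1 := by
    have := pow_card_eq_one' (x := a)
    exact_mod_cast congrArg Subtype.val this
  rw [h5, act_one, Matrix.one_mulVec, sub_self] at h4
  rcases smul_eq_zero.1 h4 with h | h
  · exact absurd h hc
  · exact h

end Exists

end Mat

/-! ### Actions on a finite elementary abelian `ℓ`-group -/

section Group

variable {ℓ : ℕ} [Fact ℓ.Prime] {V : Type*} [CommGroup V] [Finite V]

/-- the matrix representation on an elementary abelian `ℓ`-group -/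
theorem exists_rep (hV : ∀ v : V, v ^ ℓ = 1) :
    ∃ (n : ℕ) (ρ : MulAut V →* Matrix (Fin n) (Fin n) (ZMod ℓ)), Function.Injective ρ ∧ Nat.card V = ℓ ^ n ∧
      ∀ b : V → V → ZMod ℓ, (∀ u v w, b (u * v) w = b u w + b v w) → (∀ u v w, b u (v * w) = b u v + b u w) →
        (∀ u, (∀ v, b u v = 0) → u = 1) → ∃ B : Matrix (Fin n) (Fin n) (ZMod ℓ), IsUnit B.det ∧
          ∀ g : MulAut V, (∀ u v, b (g u) (g v) = b u v) → (ρ g)ᵀ * B * ρ g = B := by
  classical
  letI : Module (ZMod ℓ) (Additive V) := AddCommGroup.zmodModule (n := ℓ) (fun v => hV v)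
  let lin : (Additive V →+ Additive V) → (Additive V →ₗ[ZMod ℓ] Additive V) := fun f => f.toZModLinearMap ℓ
  let B0 := Module.finBasis (ZMod ℓ) (Additive V)
  let ρ : MulAut V →* Matrix (Fin (Module.finrank (ZMod ℓ) (Additive V))) (Fin (Module.finrank (ZMod ℓ) (Additive V)))
      (ZMod ℓ) :=
    { toFun := fun g => LinearMap.toMatrix B0 B0 (lin (MonoidHom.toAdditive g.toMonoidHom))
      map_one' := LinearMap.toMatrix_one B0
      map_mul' := fun g h => LinearMap.toMatrix_mul B0 (lin (MonoidHom.toAdditive g.toMonoidHom))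
        (lin (MonoidHom.toAdditive h.toMonoidHom)) }
  refine ⟨_, ρ, ?_, ?_, ?_⟩
  · intro g h hgh
    have h1 := (LinearMap.toMatrix B0 B0).injective hgh
    ext v
    exact DFunLike.congr_fun h1 (Additive.ofMul v)
  · have := Module.natCard_eq_pow_finrank (K := ZMod ℓ) (V := Additive V)
    rw [Nat.card_zmod] at this
    exact this
  · intro b hb1 hb2 hnd
    let bl : Additive V →+ Additive V →+ ZMod ℓ :=
      AddMonoidHom.mk' (fun u => AddMonoidHom.mk' (fun v => b u.toMul v.toMul) (fun v w => hb2 _ _ _))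
        (fun u v => by ext w; exact hb1 _ _ _)
    let β : Additive V →ₗ[ZMod ℓ] Additive V →ₗ[ZMod ℓ] ZMod ℓ :=
      AddMonoidHom.toZModLinearMap ℓ
        { toFun := fun u => (bl u).toZModLinearMap ℓ
          map_zero' := by ext v; exact DFunLike.congr_fun (map_zero bl) v
          map_add' := fun u v => by ext w; exact DFunLike.congr_fun (map_add bl u v) w }
    have hβ : ∀ u v, β u v = b u.toMul v.toMul := fun _ _ => rfl
    have hsep : β.SeparatingLeft := by
      intro u hu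
      exact hnd u.toMul fun v => hu (Additive.ofMul v)
    refine ⟨LinearMap.toMatrix₂ B0 B0 β, ?_, fun g hg => ?_⟩
    · rw [isUnit_iff_ne_zero]
      exact (LinearMap.separatingLeft_iff_det_ne_zero B0).1 hsep
    · have h1 := LinearMap.toMatrix₂_compl₁₂ B0 B0 B0 B0 β (lin (MonoidHom.toAdditive g.toMonoidHom))
        (lin (MonoidHom.toAdditive g.toMonoidHom))
      change (LinearMap.toMatrix B0 B0 _)ᵀ * _ * (LinearMap.toMatrix B0 B0 _) = _
      rw [← h1]
      congr 1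
      ext u v
      exact hg _ _

end Group

end Cfsg.Agent.Omega.TwoF.Weight
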